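import Groth.Agent.S9497
import Groth.Agent.H8.QCohPush

set_option autoImplicit false
universe u

open CategoryTheory CategoryTheory.Limits AlgebraicGeometry TopologicalSpace Opposite

namespace Groth.Agent.H95.QCohColim

/-- On any scheme, a small colimit (in `X.Modules`) of quasi-coherent modules is quasi-coherent. -/
theorem isQuasicoherent_colimit {X : Scheme.{u}} {J : Type u} [SmallCategory J]
    (D : J ⥤ X.Modules) (hD : ∀ j, (D.obj j).IsQuasicoherent) :
    (colimit D).IsQuasicoherent := by
  refine Groth.Agent.H8.isQuasicoherent_of_forall_affine (colimit D) (fun U hU => ?_)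
  have hj : ∀ j, ((D ⋙ Scheme.Modules.restrictFunctor hU.fromSpec).obj j).IsQuasicoherent := by
    intro j
    haveI := hD j
    exact Scheme.Modules.isQuasicoherent_restrictFunctor hU.fromSpec (D.obj j)
  have h1 : (colimit (D ⋙ Scheme.Modules.restrictFunctor hU.fromSpec)).IsQuasicoherent :=
    Groth.Agent.S9497.aux _ hj
  have e : (Scheme.Modules.restrictFunctor hU.fromSpec).obj (colimit D) ≅
      colimit (D ⋙ Scheme.Modules.restrictFunctor hU.fromSpec) :=
    preservesColimitIso (Scheme.Modules.restrictFunctor hU.fromSpec) D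
  exact (SheafOfModules.isQuasicoherent (Spec Γ(X, U)).ringCatSheaf).prop_of_iso e.symm h1

/-- cocone version -/
theorem isQuasicoherent_of_isColimit {X : Scheme.{u}} {J : Type u} [SmallCategory J]
    {D : J ⥤ X.Modules} (c : Cocone D) (hc : IsColimit c) (hD : ∀ j, (D.obj j).IsQuasicoherent) :
    c.pt.IsQuasicoherent :=
  (SheafOfModules.isQuasicoherent X.ringCatSheaf).prop_of_iso
    ((colimit.isColimit D).coconePointUniqueUpToIso hc) (isQuasicoherent_colimit D hD)

end Groth.Agent.H95.QCohColim
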