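import Groth.Agent.H8.QCohAffine
import Groth.Agent.H8.Coh
import Groth.Agent.H18.TensorGen
import Groth.Agent.H18.AmpleTwistGG
import Groth.Prelude.Def_PicF2
import Groth.Prelude.Def_SecTwist
import Groth.Prelude.Def_MeroDiv

/-!
# The zero scheme `PicF2.zeroScheme L s` of a section of a coherent module

* `map_zeroIdealOn`: the ideals `zeroIdealOn L s U = (O(U) s : L(U))` are compatible with passing to
  basic opens, for `L` quasi-coherent with finitely generated sections (e.g. `L` invertible);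
* `ideal_zeroScheme`, `ideal_zeroScheme_of_isInvertible`:
  `(PicF2.zeroScheme L s).ideal U = PicF2.zeroIdealOn L s U` for every affine open `U`;
* `zeroIdealOn_eq_span`: where `τ` freely generates `L` and `s = f τ`, the ideal is `(f)`;
* `regUnit`: the unit of `K_{X,y}` of a regular function, with `regUnit_mul`, `regUnit_res`.
-/

set_option autoImplicit false
set_option linter.style.haveILetI false

universe u

open CategoryTheory AlgebraicGeometry TopologicalSpace Opposite

namespace Groth.Agent.H95.ZeroSch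

open Groth.Agent.H8
open Groth.Agent.H18.TensorGen (IsGen)

variable {X : Scheme.{u}} (L : X.Modules) (s : Coh.structureModule X ⟶ L)

/-- The value of the section `s` over `U`, typed as an element of `Γ(L, U)`. -/
noncomputable def sv (U : X.Opens) : Γ(L, U) := PicF2.secVal L s U

lemma res_secVal {U V : X.Opens} (h : V ≤ U) :
    L.presheaf.map (homOfLE h).op (sv L s U) = sv L s V :=
  SecTwist.map_val s (homOfLE h)

lemma mem_zeroIdealOn {U : X.Opens} (a : Γ(X, U)) :
    a ∈ PicF2.zeroIdealOn L s U ↔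
      ∀ m : Γ(L, U), ∃ b : Γ(X, U), a • m = b • sv L s U := Iff.rfl

lemma res_mem_zeroIdealOn [L.IsQuasicoherent] {U : X.Opens} (hU : IsAffineOpen U) (h : Γ(X, U))
    {a : Γ(X, U)} (ha : a ∈ PicF2.zeroIdealOn L s U) :
    X.presheaf.map (homOfLE (X.basicOpen_le h)).op a ∈
      PicF2.zeroIdealOn L s (X.basicOpen h) := by
  rw [mem_zeroIdealOn]
  intro m'
  obtain ⟨n, m, hm⟩ := exists_smul_eq_res hU L h m'
  obtain ⟨b, hb⟩ := (mem_zeroIdealOn L s a).mp ha m
  have hu : IsUnit (X.presheaf.map (homOfLE (X.basicOpen_le h)).op h) :=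
    RingedSpace.isUnit_res_basicOpen X.toRingedSpace h
  obtain ⟨v, hv⟩ := hu.pow n
  refine ⟨(↑v⁻¹ : Γ(X, X.basicOpen h)) * X.presheaf.map (homOfLE (X.basicOpen_le h)).op b, ?_⟩
  have h1 : (X.presheaf.map (homOfLE (X.basicOpen_le h)).op a) •
      ((v : Γ(X, X.basicOpen h)) • m') =
      (X.presheaf.map (homOfLE (X.basicOpen_le h)).op b) •
        sv L s (X.basicOpen h) := by
    rw [hv, hm, ← L.map_smul, hb, L.map_smul, res_secVal]
  calc (X.presheaf.map (homOfLE (X.basicOpen_le h)).op a) • m'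
      = ((↑v⁻¹ : Γ(X, X.basicOpen h)) * (v : Γ(X, X.basicOpen h))) •
          ((X.presheaf.map (homOfLE (X.basicOpen_le h)).op a) • m') := by
        rw [Units.inv_mul, one_smul]
    _ = (↑v⁻¹ : Γ(X, X.basicOpen h)) • ((X.presheaf.map (homOfLE (X.basicOpen_le h)).op a) •
          ((v : Γ(X, X.basicOpen h)) • m')) := by
        rw [mul_smul, smul_comm (v : Γ(X, X.basicOpen h))]
    _ = _ := by rw [h1, mul_smul]

/-- Compatibility of the colon ideals `(O s : L)` with basic opens. -/
theorem map_zeroIdealOn [L.IsQuasicoherent] {U : X.Opens} (hU : IsAffineOpen U)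
    [Module.Finite Γ(X, U) Γ(L, U)] (h : Γ(X, U)) :
    (PicF2.zeroIdealOn L s U).map (X.presheaf.map (homOfLE (X.basicOpen_le h)).op).hom =
      PicF2.zeroIdealOn L s (X.basicOpen h) := by
  classical
  apply le_antisymm
  · rw [Ideal.map_le_iff_le_comap]
    intro a ha
    exact res_mem_zeroIdealOn L s hU h ha
  · intro a' ha'
    haveI := hU.isLocalization_basicOpen h
    obtain ⟨ρ, hρ⟩ : ∃ ρ : Γ(X, U) →+* Γ(X, X.basicOpen h),
        ρ = (X.presheaf.map (homOfLE (X.basicOpen_le h)).op).hom := ⟨_, rfl⟩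
    have hρalg : ∀ r : Γ(X, U), algebraMap Γ(X, U) Γ(X, X.basicOpen h) r = ρ r := by
      intro r
      rw [hρ]
      rfl
    have hsmul : ∀ (r : Γ(X, U)) (m : Γ(L, U)),
        L.presheaf.map (homOfLE (X.basicOpen_le h)).op (r • m) =
          ρ r • L.presheaf.map (homOfLE (X.basicOpen_le h)).op m := by
      intro r m
      rw [hρ]
      exact L.map_smul _ r m
    have hker : ∀ r : Γ(X, U), ρ r = 0 → ∃ j : ℕ, h ^ j * r = 0 := by
      intro r hr
      rw [← hρalg] at hr
      obtain ⟨⟨_, j, rfl⟩, hj⟩ := (IsLocalization.map_eq_zero_iff (Submonoid.powers h)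
        Γ(X, X.basicOpen h) r).mp hr
      exact ⟨j, hj⟩
    have hsurj : ∀ c : Γ(X, X.basicOpen h), ∃ (n : ℕ) (c₀ : Γ(X, U)), ρ c₀ = ρ h ^ n * c := by
      intro c
      obtain ⟨⟨c₀, ⟨_, n, rfl⟩⟩, hc⟩ := IsLocalization.surj (Submonoid.powers h) c
      refine ⟨n, c₀, ?_⟩
      have hc' : c * algebraMap Γ(X, U) Γ(X, X.basicOpen h) (h ^ n) =
          algebraMap Γ(X, U) Γ(X, X.basicOpen h) c₀ := hc
      rw [hρalg, hρalg, map_pow] at hc'
      rw [← hc', mul_comm]
    have hσ : L.presheaf.map (homOfLE (X.basicOpen_le h)).op (sv L s U) =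
        sv L s (X.basicOpen h) := res_secVal L s _
    -- one section at a time
    have hstar : ∀ m : Γ(L, U), ∃ (k : ℕ) (a₁ b : Γ(X, U)),
        ρ a₁ = ρ h ^ k * a' ∧ a₁ • m = b • sv L s U := by
      intro m
      obtain ⟨b', hb'⟩ := (mem_zeroIdealOn L s a').mp ha'
        (L.presheaf.map (homOfLE (X.basicOpen_le h)).op m)
      obtain ⟨n, a₀, ha₀⟩ := hsurj a'
      obtain ⟨n', b₀, hb₀⟩ := hsurj b'
      have hx : L.presheaf.map (homOfLE (X.basicOpen_le h)).op
          ((h ^ n' * a₀) • m - (h ^ n * b₀) • sv L s U) = 0 := by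
        rw [map_sub, hsmul, hsmul, hσ, map_mul, map_mul, map_pow, map_pow, ha₀, hb₀]
        have e1 : (ρ h ^ n' * (ρ h ^ n * a')) •
            L.presheaf.map (homOfLE (X.basicOpen_le h)).op m =
            (ρ h ^ n' * ρ h ^ n) • (a' • L.presheaf.map (homOfLE (X.basicOpen_le h)).op m) := by
          rw [← mul_smul, mul_assoc]
        have e2 : (ρ h ^ n * (ρ h ^ n' * b')) • sv L s (X.basicOpen h) =
            (ρ h ^ n' * ρ h ^ n) • (b' • sv L s (X.basicOpen h)) := by
          rw [← mul_smul]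
          congr 1
          ring
        rw [e1, e2, hb', sub_self]
      obtain ⟨j, hj⟩ := exists_smul_eq_zero hU L h _ hx
      refine ⟨j + n' + n, h ^ j * (h ^ n' * a₀), h ^ j * (h ^ n * b₀), ?_, ?_⟩
      · rw [map_mul, map_mul, map_pow, map_pow, ha₀, pow_add, pow_add]
        ring
      · rw [smul_sub, ← mul_smul, ← mul_smul, sub_eq_zero] at hj
        exact hj
    -- finitely many sections at a time
    have hfin : ∀ S : Finset Γ(L, U), ∃ (k : ℕ) (a₁ : Γ(X, U)), ρ a₁ = ρ h ^ k * a' ∧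
        ∀ m ∈ S, ∃ b : Γ(X, U), a₁ • m = b • sv L s U := by
      intro S
      induction S using Finset.induction_on with
      | empty =>
        obtain ⟨n, a₀, ha₀⟩ := hsurj a'
        exact ⟨n, a₀, ha₀, fun m hm => absurd hm (Finset.notMem_empty m)⟩
      | insert m₀ S _ ih =>
        obtain ⟨k, a₁, hka, hS⟩ := ih
        obtain ⟨k', a₁', b₀, hk'a, hm₀⟩ := hstar m₀
        have hz : ρ (h ^ k' * a₁ - h ^ k * a₁') = 0 := by
          rw [map_sub, map_mul, map_mul, map_pow, map_pow, hka, hk'a]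
          ring
        obtain ⟨j, hj⟩ := hker _ hz
        have hj' : h ^ j * (h ^ k' * a₁) = h ^ j * (h ^ k * a₁') := by
          rw [mul_sub, sub_eq_zero] at hj
          exact hj
        refine ⟨j + k' + k, h ^ j * (h ^ k' * a₁), ?_, ?_⟩
        · rw [map_mul, map_mul, map_pow, map_pow, hka, pow_add, pow_add]
          ring
        · intro m hm
          rcases Finset.mem_insert.mp hm with rfl | hmS
          · refine ⟨h ^ j * (h ^ k * b₀), ?_⟩
            rw [hj']
            simp only [mul_smul, hm₀]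
          · obtain ⟨b, hb⟩ := hS m hmS
            refine ⟨h ^ j * (h ^ k' * b), ?_⟩
            simp only [mul_smul, hb]
    obtain ⟨S, hS⟩ := (Module.Finite.fg_top : (⊤ : Submodule Γ(X, U) Γ(L, U)).FG)
    obtain ⟨k, a₁, hka, ha₁S⟩ := hfin S
    have ha₁ : a₁ ∈ PicF2.zeroIdealOn L s U := by
      rw [mem_zeroIdealOn]
      intro m
      have hm : m ∈ Submodule.span Γ(X, U) (S : Set Γ(L, U)) := by
        rw [hS]
        exact Submodule.mem_top
      induction hm using Submodule.span_induction with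
      | mem x hx => exact ha₁S x hx
      | zero => exact ⟨0, by rw [smul_zero, zero_smul]⟩
      | add x y _ _ hx hy =>
        obtain ⟨b, hb⟩ := hx
        obtain ⟨b', hb'⟩ := hy
        exact ⟨b + b', by rw [smul_add, hb, hb', add_smul]⟩
      | smul c x _ hx =>
        obtain ⟨b, hb⟩ := hx
        exact ⟨c * b, by rw [smul_comm, hb, mul_smul]⟩
    have hu : IsUnit (ρ h) := by
      rw [hρ]
      exact RingedSpace.isUnit_res_basicOpen X.toRingedSpace h
    obtain ⟨v, hv⟩ := hu.pow k
    have ha'eq : a' = (↑v⁻¹ : Γ(X, X.basicOpen h)) * ρ a₁ := by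
      rw [hka, ← hv, ← mul_assoc, Units.inv_mul, one_mul]
    rw [ha'eq]
    refine Ideal.mul_mem_left _ _ ?_
    rw [hρ]
    exact Ideal.mem_map_of_mem _ ha₁

/-- The zero scheme of a section of a quasi-coherent module with finitely generated sections is
given on every affine open by the colon ideal. -/
theorem ideal_zeroScheme [L.IsQuasicoherent]
    (hfin : ∀ U : X.affineOpens, Module.Finite Γ(X, U.1) Γ(L, U.1)) (U : X.affineOpens) :
    (PicF2.zeroScheme L s).ideal U = PicF2.zeroIdealOn L s U.1 := by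
  let I : X.IdealSheafData :=
    ⟨fun U => (show Ideal Γ(X, U) from PicF2.zeroIdealOn L s U.1), ?_, _, rfl⟩
  · exact congr($(Scheme.IdealSheafData.ofIdeals_ideal I).ideal U)
  intro U h
  haveI := hfin U
  exact map_zeroIdealOn L s U.2 h

theorem ideal_zeroScheme_of_isInvertible (hL : PicF.IsInvertible L) (U : X.affineOpens) :
    (PicF2.zeroScheme L s).ideal U = PicF2.zeroIdealOn L s U.1 := by
  have hcoh := Groth.Agent.H18.AmpleTwistGG.isCoh_of_isInvertible hL
  haveI : L.IsQuasicoherent := hcoh.1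
  exact ideal_zeroScheme L s (fun U => finite_sections_of_isCoh L hcoh U.2) U

variable {L s}

/-- Where `τ` freely generates `L` and `s = f τ`, the colon ideal is `(f)`. -/
theorem zeroIdealOn_eq_span {U : X.Opens} {τ : Γ(L, U)} (hτ : IsGen L U τ) {f : Γ(X, U)}
    (hf : sv L s U = f • τ) :
    (show Ideal Γ(X, U) from PicF2.zeroIdealOn L s U) = Ideal.span {f} := by
  have hb := hτ.self
  refine Ideal.ext (fun (a : Γ(X, U)) => ?_)
  constructor
  · intro ha
    obtain ⟨b, hb'⟩ := (mem_zeroIdealOn L s a).mp ha τ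
    refine Ideal.mem_span_singleton'.mpr ⟨b, ?_⟩
    apply hb.1
    show (b * f) • τ = a • τ
    rw [mul_smul, ← hf, hb']
  · intro ha
    obtain ⟨c, rfl⟩ := Ideal.mem_span_singleton'.mp ha
    refine (mem_zeroIdealOn L s _).mpr (fun m => ?_)
    obtain ⟨r, hr⟩ := hb.2 m
    have hr' : r • τ = m := hr
    refine ⟨c * r, ?_⟩
    rw [← hr', hf, ← mul_smul, ← mul_smul]
    congr 1
    ring

theorem ideal_zeroScheme_eq_span (hL : PicF.IsInvertible L) (U : X.affineOpens) {τ : Γ(L, U.1)}
    (hτ : IsGen L U.1 τ) {f : Γ(X, U.1)} (hf : sv L s U.1 = f • τ) :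
    (PicF2.zeroScheme L s).ideal U = Ideal.span {f} :=
  (ideal_zeroScheme_of_isInvertible L s hL U).trans (zeroIdealOn_eq_span hτ hf)

section RegUnit

/-- The unit of `K_{X,y}` given by a regular function. -/
noncomputable def regUnit {U : X.Opens} (y : U) (f : Γ(X, U)) (hf : f ∈ Mero.regSub X U) :
    (Mero.KStalk X y.1)ˣ :=
  (IsLocalization.map_units (Mero.KStalk X y.1) (Mero.regGerm y ⟨f, hf⟩)).unit

lemma regUnit_val {U : X.Opens} (y : U) (f : Γ(X, U)) (hf : f ∈ Mero.regSub X U) :
    (regUnit y f hf : Mero.KStalk X y.1) =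
      algebraMap (X.presheaf.stalk y.1) (Mero.KStalk X y.1) (X.presheaf.germ U y.1 y.2 f) := rfl

lemma regUnit_mul {U : X.Opens} (y : U) (f g : Γ(X, U)) (hf : f ∈ Mero.regSub X U)
    (hg : g ∈ Mero.regSub X U) :
    regUnit y (f * g) (Submonoid.mul_mem _ hf hg) = regUnit y f hf * regUnit y g hg := by
  apply Units.ext
  rw [Units.val_mul, regUnit_val, regUnit_val, regUnit_val, map_mul, map_mul]

lemma regUnit_res {U V : X.Opens} (hVU : V ≤ U) (y : V) (f : Γ(X, U)) (hf : f ∈ Mero.regSub X U) :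
    regUnit y (X.presheaf.map (homOfLE hVU).op f) (Mero.regSub_res (homOfLE hVU) hf) =
      regUnit (⟨y.1, hVU y.2⟩ : U) f hf := by
  apply Units.ext
  rw [regUnit_val, regUnit_val, TopCat.Presheaf.germ_res_apply]

end RegUnit

end Groth.Agent.H95.ZeroSch
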