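import Groth.Agent.H95.AssGen
import Groth.Prelude.Def_C1

/-!
# Orders of rational sections of invertible modules (`Cyc.secOrdAt`)

* `ordFrac_mul_unit`, `ordFrac_algebraMap_unit`, `ordFrac_mul`: behaviour of `CycAlg.ordFrac`.
* `ordAt_mul_specMap_unit`, `ordAt_specMap_unit`, `ordAt_mul`: the same for `Cyc.ordAt`.
* `stalkSpecializes_smul`: the specialization map of stalks of a module is semilinear.
* `mem_maximalIdeal_of_smul_mk_eq_zero`: the class of a free generator in the fibre is free.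
* `secOrdAt_eq_of_isGen`: `Cyc.secOrdAt` computed with respect to any free generator.
-/

set_option autoImplicit false

universe u v

open CategoryTheory AlgebraicGeometry TopologicalSpace Opposite

namespace Groth.Agent.H95.SecOrd

open Groth.Agent.H18.TensorGen (IsGen exists_isGen)
open Groth.Agent.H95.AssGen (GenAt genAt_of_isGen)
open Groth.Agent.H95.MeroData (germ_smul_eq_zero)

section Algebra

theorem ordFrac_mul_unit (R : Type u) [CommRing R] (K : Type v) [Field K] [Algebra R K] (f : K)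
    {u : R} (hu : IsUnit u) :
    CycAlg.ordFrac R K (f * algebraMap R K u) = CycAlg.ordFrac R K f := by
  unfold CycAlg.ordFrac
  split_ifs with h
  · haveI := h.1; haveI := h.2.1; haveI := h.2.2.1; haveI := h.2.2.2
    haveI : IsDomain R := (IsFractionRing.injective R K).isDomain
    have e : Ring.ordFrac R (f * algebraMap R K u) = Ring.ordFrac R f := by
      rw [map_mul, Ring.ordFrac_of_isUnit hu, mul_one]
    rw [e]
  · rfl

theorem ordFrac_algebraMap_unit (R : Type u) [CommRing R] (K : Type v) [Field K] [Algebra R K]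
    {u : R} (hu : IsUnit u) : CycAlg.ordFrac R K (algebraMap R K u) = 0 := by
  unfold CycAlg.ordFrac
  split_ifs with h
  · haveI := h.1; haveI := h.2.1; haveI := h.2.2.1; haveI := h.2.2.2
    haveI : IsDomain R := (IsFractionRing.injective R K).isDomain
    have e : Ring.ordFrac R (algebraMap R K u) = 1 := Ring.ordFrac_of_isUnit hu
    rw [e]
    rfl
  · rfl

theorem ordFrac_mul (R : Type u) [CommRing R] (K : Type v) [Field K] [Algebra R K] {f g : K}
    (hf : f ≠ 0) (hg : g ≠ 0) :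
    CycAlg.ordFrac R K (f * g) = CycAlg.ordFrac R K f + CycAlg.ordFrac R K g := by
  unfold CycAlg.ordFrac
  split_ifs with h
  · haveI := h.1; haveI := h.2.1; haveI := h.2.2.1; haveI := h.2.2.2
    have hf' : Ring.ordFrac R f ≠ 0 := (map_ne_zero (Ring.ordFrac R (K := K))).mpr hf
    have hg' : Ring.ordFrac R g ≠ 0 := (map_ne_zero (Ring.ordFrac R (K := K))).mpr hg
    obtain ⟨m, hm⟩ := WithZero.ne_zero_iff_exists.mp hf'
    obtain ⟨n, hn⟩ := WithZero.ne_zero_iff_exists.mp hg'
    have e : Ring.ordFrac R (f * g) = ((m * n : Multiplicative ℤ) : WithZero (Multiplicative ℤ)) := by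
      rw [map_mul, ← hm, ← hn, WithZero.coe_mul]
    rw [e, ← hm, ← hn]
    rfl
  · rfl

end Algebra

variable {X : Scheme.{u}}

section OrdAt

theorem specMap_eq_algebraMap {x ξ : X} (h : ξ ⤳ x) (u : X.presheaf.stalk x) :
    Cyc.specMap x ξ h u =
      algebraMap (Cyc.LocQuot x ξ h) (X.residueField ξ)
        (Ideal.Quotient.mk (RingHom.ker (Cyc.specMap x ξ h)) u) := rfl

theorem ordAt_mul_specMap_unit {x ξ : X} (h : ξ ⤳ x) (f : X.residueField ξ)
    {u : X.presheaf.stalk x} (hu : IsUnit u) :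
    Cyc.ordAt x ξ h (f * Cyc.specMap x ξ h u) = Cyc.ordAt x ξ h f := by
  unfold Cyc.ordAt
  rw [specMap_eq_algebraMap]
  exact ordFrac_mul_unit _ _ f (hu.map (Ideal.Quotient.mk (RingHom.ker (Cyc.specMap x ξ h))))

theorem ordAt_specMap_unit {x ξ : X} (h : ξ ⤳ x) {u : X.presheaf.stalk x} (hu : IsUnit u) :
    Cyc.ordAt x ξ h (Cyc.specMap x ξ h u) = 0 := by
  unfold Cyc.ordAt
  rw [specMap_eq_algebraMap]
  exact ordFrac_algebraMap_unit _ _ (hu.map (Ideal.Quotient.mk (RingHom.ker (Cyc.specMap x ξ h))))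

theorem ordAt_mul {x ξ : X} (h : ξ ⤳ x) {f g : X.residueField ξ} (hf : f ≠ 0) (hg : g ≠ 0) :
    Cyc.ordAt x ξ h (f * g) = Cyc.ordAt x ξ h f + Cyc.ordAt x ξ h g := by
  unfold Cyc.ordAt
  exact ordFrac_mul _ _ hf hg

theorem specMap_germ {x ξ : X} (h : ξ ⤳ x) {U : X.Opens} (hxU : x ∈ U) (hξU : ξ ∈ U)
    (a : Γ(X, U)) :
    Cyc.specMap x ξ h (X.presheaf.germ U x hxU a) = X.residue ξ (X.presheaf.germ U ξ hξU a) := by
  show X.residue ξ (X.presheaf.stalkSpecializes h (X.presheaf.germ U x hxU a)) = _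
  rw [TopCat.Presheaf.germ_stalkSpecializes_apply]

theorem specMap_apply {x ξ : X} (h : ξ ⤳ x) (u : X.presheaf.stalk x) :
    Cyc.specMap x ξ h u = X.residue ξ (X.presheaf.stalkSpecializes h u) := rfl

theorem residue_eq_zero_iff {ξ : X} (c : X.presheaf.stalk ξ) :
    X.residue ξ c = 0 ↔ c ∈ IsLocalRing.maximalIdeal (X.presheaf.stalk ξ) :=
  IsLocalRing.residue_eq_zero_iff c

theorem residue_ne_zero_of_isUnit {ξ : X} {c : X.presheaf.stalk ξ} (hc : IsUnit c) :
    X.residue ξ c ≠ 0 := by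
  intro h0
  exact (IsLocalRing.mem_maximalIdeal c).mp ((residue_eq_zero_iff c).mp h0) hc

end OrdAt

section Semilinear

/-- The specialization map on stalks of a module is semilinear over the one on stalks of the
structure sheaf. -/
theorem stalkSpecializes_smul (L : X.Modules) {ξ x : X} (h : ξ ⤳ x) (r : X.presheaf.stalk x)
    (m : L.presheaf.stalk x) :
    L.presheaf.stalkSpecializes h (r • m) =
      X.presheaf.stalkSpecializes h r • L.presheaf.stalkSpecializes h m := by
  obtain ⟨W₁, hW₁, ρ, rfl⟩ := TopCat.Presheaf.exists_germ_eq X.presheaf r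
  obtain ⟨W₂, hW₂, μ, rfl⟩ := TopCat.Presheaf.exists_germ_eq L.presheaf m
  have hxW : x ∈ W₁ ⊓ W₂ := Opens.mem_inf.mpr ⟨hW₁, hW₂⟩
  rw [← TopCat.Presheaf.germ_res_apply X.presheaf (homOfLE (inf_le_left : W₁ ⊓ W₂ ≤ W₁)) x hxW ρ,
    ← TopCat.Presheaf.germ_res_apply L.presheaf (homOfLE (inf_le_right : W₁ ⊓ W₂ ≤ W₂)) x hxW μ,
    ← Mero.germ_smul, TopCat.Presheaf.germ_stalkSpecializes_apply,
    TopCat.Presheaf.germ_stalkSpecializes_apply, TopCat.Presheaf.germ_stalkSpecializes_apply,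
    Mero.germ_smul]

end Semilinear

section Fibre

/-- The class of a free generator in the fibre `L(z)` is a free generator over the residue field:
`c • [τ] = 0` forces `c ∈ 𝔪_z`. -/
theorem mem_maximalIdeal_of_smul_mk_eq_zero {L : X.Modules} {V : X.Opens} {τ : Γ(L, V)}
    (hτ : IsGen L V τ) (z : X) (hz : z ∈ V) (c : X.presheaf.stalk z)
    (h : c • (Submodule.Quotient.mk (L.presheaf.germ V z hz τ) : Cyc.secFibre L z) = 0) :
    c ∈ IsLocalRing.maximalIdeal (X.presheaf.stalk z) := by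
  rw [← Submodule.Quotient.mk_smul, Submodule.Quotient.mk_eq_zero] at h
  have key : ∀ y ∈ (IsLocalRing.maximalIdeal (X.presheaf.stalk z) •
      (⊤ : Submodule (X.presheaf.stalk z) (L.presheaf.stalk z))),
      ∃ a ∈ IsLocalRing.maximalIdeal (X.presheaf.stalk z), y = a • L.presheaf.germ V z hz τ := by
    intro y hy
    refine Submodule.smul_induction_on
      (p := fun y => ∃ a ∈ IsLocalRing.maximalIdeal (X.presheaf.stalk z),
        y = a • L.presheaf.germ V z hz τ) hy ?_ ?_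
    · intro r hr n _
      obtain ⟨b, hb⟩ := genAt_of_isGen hτ z hz n
      exact ⟨r * b, Ideal.mul_mem_right _ _ hr, by rw [hb, mul_smul]⟩
    · rintro y₁ y₂ ⟨a₁, ha₁, e₁⟩ ⟨a₂, ha₂, e₂⟩
      exact ⟨a₁ + a₂, Ideal.add_mem _ ha₁ ha₂, by rw [e₁, e₂, add_smul]⟩
  obtain ⟨a, ha, e⟩ := key _ h
  have h0 : (c - a) • L.presheaf.germ V z hz τ = 0 := by rw [sub_smul, e, sub_self]
  have h1 := germ_smul_eq_zero hτ z hz _ h0
  rw [sub_eq_zero.mp h1]
  exact ha

/-- A section with nonzero class in the fibre has a unit coefficient with respect to a free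
generator. -/
theorem isUnit_of_mk_ne_zero {L : X.Modules} {V : X.Opens} {τ : Γ(L, V)}
    (z : X) (hz : z ∈ V) (s : Cyc.secFibre L z) (hs : s ≠ 0) (ψ : X.presheaf.stalk z)
    (hsψ : s = ψ • (Submodule.Quotient.mk (L.presheaf.germ V z hz τ) : Cyc.secFibre L z)) :
    IsUnit ψ := by
  by_contra hnu
  have hm : ψ ∈ IsLocalRing.maximalIdeal (X.presheaf.stalk z) :=
    (IsLocalRing.mem_maximalIdeal ψ).mpr (mem_nonunits_iff.mpr hnu)
  apply hs
  rw [hsψ, ← Submodule.Quotient.mk_smul, Submodule.Quotient.mk_eq_zero]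
  exact Submodule.smul_mem_smul hm Submodule.mem_top

/-- Every element of the fibre is a multiple of the class of a free generator. -/
theorem exists_eq_smul_mk {L : X.Modules} {V : X.Opens} {τ : Γ(L, V)} (hτ : IsGen L V τ)
    (z : X) (hz : z ∈ V) (s : Cyc.secFibre L z) :
    ∃ ψ : X.presheaf.stalk z,
      s = ψ • (Submodule.Quotient.mk (L.presheaf.germ V z hz τ) : Cyc.secFibre L z) := by
  obtain ⟨s', hs'⟩ := Submodule.Quotient.mk_surjective _ s
  obtain ⟨ψ, hψ⟩ := genAt_of_isGen hτ z hz s'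
  exact ⟨ψ, by rw [← hs', hψ, Submodule.Quotient.mk_smul]⟩

end Fibre


section SecOrd

/-- `Cyc.secOrdAt` can be computed with any free generator `τ` of `L` near `x`: if
`s = ψ • [τ_ξ]` in the fibre at `ξ`, the order of `s` along `ξ ⤳ x` is the order of the residue
class of `ψ`. -/
theorem secOrdAt_eq_of_isGen {L : X.Modules} {V : X.Opens} {τ : Γ(L, V)} (hτ : IsGen L V τ)
    {ξ x : X} (h : ξ ⤳ x) (hx : x ∈ V) (hξ : ξ ∈ V) (s : Cyc.secFibre L ξ)
    (ψ : X.presheaf.stalk ξ)
    (hs : s = ψ • (Submodule.Quotient.mk (L.presheaf.germ V ξ hξ τ) : Cyc.secFibre L ξ)) :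
    Cyc.secOrdAt L ξ x h s = Cyc.ordAt x ξ h (X.residue ξ ψ) := by
  have hgx : GenAt L (L.presheaf.germ V x hx τ) := genAt_of_isGen hτ x hx
  have ht : ∃ t : L.presheaf.stalk x, Submodule.span (X.presheaf.stalk x) {t} = ⊤ := by
    refine ⟨L.presheaf.germ V x hx τ, ?_⟩
    rw [eq_top_iff]
    intro t' _
    obtain ⟨r, hr⟩ := hgx t'
    rw [hr]
    exact Submodule.smul_mem _ _ (Submodule.mem_span_singleton_self _)
  obtain ⟨t₀, ht₀⟩ : ∃ t₀, t₀ = Classical.choose ht := ⟨_, rfl⟩
  have hspan : Submodule.span (X.presheaf.stalk x) {t₀} = ⊤ := by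
    rw [ht₀]
    exact Classical.choose_spec ht
  obtain ⟨u, hu⟩ : ∃ u : X.presheaf.stalk x, L.presheaf.germ V x hx τ = u • t₀ := by
    have hmem : L.presheaf.germ V x hx τ ∈ Submodule.span (X.presheaf.stalk x) {t₀} := by
      rw [hspan]
      exact Submodule.mem_top
    obtain ⟨u, hu⟩ := Submodule.mem_span_singleton.mp hmem
    exact ⟨u, hu.symm⟩
  obtain ⟨v, hv⟩ := hgx t₀
  have huv : u * v = 1 := by
    have h0 : (u * v - 1) • L.presheaf.germ V x hx τ = 0 := by
      rw [sub_smul, one_smul, mul_smul, ← hv, ← hu, sub_self]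
    exact sub_eq_zero.mp (germ_smul_eq_zero hτ x hx _ h0)
  have hvu : IsUnit v := IsUnit.of_mul_eq_one_right u huv
  have hspec_t₀ : L.presheaf.stalkSpecializes h t₀ =
      X.presheaf.stalkSpecializes h v • L.presheaf.germ V ξ hξ τ := by
    have e1 : L.presheaf.stalkSpecializes h (v • L.presheaf.germ V x hx τ) =
        X.presheaf.stalkSpecializes h v • L.presheaf.germ V ξ hξ τ := by
      rw [stalkSpecializes_smul, TopCat.Presheaf.germ_stalkSpecializes_apply]
    rw [← e1, ← hv]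
  have hspec_τ : L.presheaf.germ V ξ hξ τ =
      X.presheaf.stalkSpecializes h u • L.presheaf.stalkSpecializes h t₀ := by
    rw [← stalkSpecializes_smul, ← hu, TopCat.Presheaf.germ_stalkSpecializes_apply]
  have hφ : ∃ φ : X.presheaf.stalk ξ,
      s = φ • (Submodule.Quotient.mk ((L.presheaf.stalkSpecializes h) (Classical.choose ht)) :
        Cyc.secFibre L ξ) := by
    refine ⟨ψ * X.presheaf.stalkSpecializes h u, ?_⟩
    rw [← ht₀, hs, mul_smul, ← Submodule.Quotient.mk_smul (r := X.presheaf.stalkSpecializes h u),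
      ← hspec_τ]
  obtain ⟨φ₀, hφ₀⟩ : ∃ φ₀, φ₀ = Classical.choose hφ := ⟨_, rfl⟩
  have hφ₀s : s = φ₀ • (Submodule.Quotient.mk (L.presheaf.stalkSpecializes h t₀) :
      Cyc.secFibre L ξ) := by
    have h1 := Classical.choose_spec hφ
    rw [← hφ₀, ← ht₀] at h1
    exact h1
  have key : Cyc.secOrdAt L ξ x h s = Cyc.ordAt x ξ h (X.residue ξ φ₀) := by
    unfold Cyc.secOrdAt
    rw [dif_pos ht, dif_pos hφ, ← hφ₀]
  rw [key]
  have hrel : (φ₀ * X.presheaf.stalkSpecializes h v - ψ) •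
      (Submodule.Quotient.mk (L.presheaf.germ V ξ hξ τ) : Cyc.secFibre L ξ) = 0 := by
    rw [sub_smul, mul_smul, ← hs,
      ← Submodule.Quotient.mk_smul (r := X.presheaf.stalkSpecializes h v), ← hspec_t₀, ← hφ₀s,
      sub_self]
  have hmem := mem_maximalIdeal_of_smul_mk_eq_zero hτ ξ hξ _ hrel
  have hres : X.residue ξ ψ = X.residue ξ φ₀ * Cyc.specMap x ξ h v := by
    have h0 : X.residue ξ (φ₀ * X.presheaf.stalkSpecializes h v - ψ) = 0 :=
      (residue_eq_zero_iff _).mpr hmem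
    rw [map_sub, map_mul, sub_eq_zero] at h0
    exact h0.symm
  rw [hres]
  exact (ordAt_mul_specMap_unit h (X.residue ξ φ₀) hvu).symm

end SecOrd

end Groth.Agent.H95.SecOrd
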