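import Groth.Agent.H8.AssPoints
import Mathlib.AlgebraicGeometry.Noetherian
import Mathlib.RingTheory.Ideal.KrullsHeightTheorem
import Mathlib.RingTheory.Ideal.UFD
import Mathlib.RingTheory.Localization.LocalizationLocalization
import Mathlib.RingTheory.HopkinsLevitzki

/-!
# Primes of the local rings of a scheme and generizations

* `comap_comap_eq`, `height_comap_eq`, `exists_generization`: the dictionary between primes of
  `O_{X,x}` and generizations `ζ ⤳ x`, with `ht p_ζ = dim O_{X,ζ}`.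
* `isDomain_of_specializes`: if `O_{X,y}` is a domain and `x ⤳ y` then `O_{X,x}` is a domain.
* `exists_specializes_ne`: a maximal point of a locally Noetherian scheme which is not isolated has a
  proper specialization.
* `exists_height_one_prime`, `isDomain_of_principal`: ring-level helpers.
-/

set_option autoImplicit false
set_option linter.style.haveILetI false

universe u

open CategoryTheory AlgebraicGeometry TopologicalSpace Opposite IsLocalRing

namespace Groth.Agent.H95.StalkPrimes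

open Groth.Agent.H8

section Alg

lemma exists_height_one_prime (A : Type*) [CommRing A] [IsLocalRing A] [IsNoetherianRing A]
    (h : (1 : WithBot ℕ∞) ≤ ringKrullDim A) : ∃ P : Ideal A, P.IsPrime ∧ P.height = 1 := by
  have hfin : ringKrullDim A < ⊤ := ringKrullDim_lt_top
  rw [← IsLocalRing.maximalIdeal_height_eq_ringKrullDim] at h hfin
  have h1 : (1 : ℕ∞) ≤ (maximalIdeal A).height := by exact_mod_cast h
  have h2 : (maximalIdeal A).height ≠ ⊤ := by
    intro htop
    rw [htop] at hfin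
    exact lt_irrefl _ hfin
  obtain ⟨n, hn⟩ := ENat.ne_top_iff_exists.mp h2
  have hn1 : 1 ≤ n := by
    rw [← hn] at h1
    exact_mod_cast h1
  let mpt : PrimeSpectrum A := ⟨maximalIdeal A, inferInstance⟩
  have hmh : Order.height mpt = n := by
    rw [← PrimeSpectrum.height_eq_orderHeight]
    exact hn.symm
  obtain ⟨p, hplast, hplen⟩ := Order.exists_series_of_height_eq_coe mpt hmh
  have hlen : (p.length : ℕ∞) = Order.height p.last := by rw [hplast, hmh, hplen]
  have hidx := Order.height_eq_index_of_length_eq_height_last hlen ⟨1, by omega⟩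
  refine ⟨(p ⟨1, by omega⟩).asIdeal, (p ⟨1, by omega⟩).isPrime, ?_⟩
  rw [PrimeSpectrum.height_eq_orderHeight]
  simpa using hidx

lemma isDomain_of_principal (A : Type*) [CommRing A] [IsLocalRing A] [IsNoetherianRing A]
    (P : Ideal A) [hPp : P.IsPrime] (t : A) (ht : t ∈ nonZeroDivisors A)
    (hP : P = Ideal.span {t}) : IsDomain A := by
  obtain ⟨q, hqmin, hqP⟩ := Ideal.exists_minimalPrimes_le (bot_le : (⊥ : Ideal A) ≤ P)
  haveI hqprime : q.IsPrime := hqmin.1.1
  have htq : t ∉ q := fun h =>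
    Set.disjoint_left.mp (Ideal.disjoint_nonZeroDivisors_of_mem_minimalPrimes hqmin) h ht
  have hle : q ≤ P • q := by
    intro a ha
    have haP : a ∈ P := hqP ha
    rw [hP, Ideal.mem_span_singleton'] at haP
    obtain ⟨b, rfl⟩ := haP
    have hb : b ∈ q := (hqprime.mem_or_mem ha).resolve_right htq
    rw [mul_comm]
    exact Submodule.smul_mem_smul (by rw [hP]; exact Ideal.mem_span_singleton_self t) hb
  have hq0 : q = ⊥ := Submodule.eq_bot_of_le_smul_of_le_jacobson_bot P q
    (IsNoetherian.noetherian q) hle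
    (le_trans (le_maximalIdeal hPp.ne_top) (IsLocalRing.maximalIdeal_le_jacobson _))
  haveI : (⊥ : Ideal A).IsPrime := hq0 ▸ hqprime
  exact IsDomain.of_bot_isPrime A

end Alg

section Dict

variable {X : Scheme.{u}}

lemma comap_comap_eq {W : X.Opens} (hW : IsAffineOpen W) {ζ x : X} (h : ζ ⤳ x) (hxW : x ∈ W)
    (hζW : ζ ∈ W) :
    ((maximalIdeal (X.presheaf.stalk ζ)).comap (X.presheaf.stalkSpecializes h).hom).comap
      (X.presheaf.germ W x hxW).hom = (hW.primeIdealOf ⟨ζ, hζW⟩).asIdeal := by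
  letI := X.presheaf.algebra_section_stalk ⟨ζ, hζW⟩
  haveI := IsAffineOpen.isLocalization_stalk hW ⟨ζ, hζW⟩
  have h1 : (maximalIdeal (X.presheaf.stalk ζ)).comap
      (algebraMap Γ(X, W) (X.presheaf.stalk ζ)) = (hW.primeIdealOf ⟨ζ, hζW⟩).asIdeal :=
    IsLocalization.AtPrime.comap_maximalIdeal _ _
  rw [← h1, Ideal.comap_comap]
  congr 1
  ext a
  exact TopCat.Presheaf.germ_stalkSpecializes_apply X.presheaf hxW h a

lemma height_comap_eq {ζ x : X} (h : ζ ⤳ x) :
    ((((maximalIdeal (X.presheaf.stalk ζ)).comap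
      (X.presheaf.stalkSpecializes h).hom).height : ℕ∞) : WithBot ℕ∞) =
      ringKrullDim (X.presheaf.stalk ζ) := by
  obtain ⟨W, hW0, hxW, -⟩ := Opens.isBasis_iff_nbhd.mp X.isBasis_affineOpens
    (show x ∈ (⊤ : X.Opens) from trivial)
  have hW : IsAffineOpen W := hW0
  have hζW : ζ ∈ W := h.mem_open W.2 hxW
  have hc := comap_comap_eq hW h hxW hζW
  letI := X.presheaf.algebra_section_stalk ⟨x, hxW⟩
  haveI := IsAffineOpen.isLocalization_stalk hW ⟨x, hxW⟩
  have h1 := IsLocalization.height_under (hW.primeIdealOf ⟨x, hxW⟩).asIdeal.primeCompl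
    ((maximalIdeal (X.presheaf.stalk ζ)).comap (X.presheaf.stalkSpecializes h).hom)
  have h2 : Ideal.under Γ(X, W) ((maximalIdeal (X.presheaf.stalk ζ)).comap
      (X.presheaf.stalkSpecializes h).hom) = (hW.primeIdealOf ⟨ζ, hζW⟩).asIdeal := hc
  rw [h2] at h1
  rw [← h1]
  letI := X.presheaf.algebra_section_stalk ⟨ζ, hζW⟩
  haveI := IsAffineOpen.isLocalization_stalk hW ⟨ζ, hζW⟩
  exact (IsLocalization.AtPrime.ringKrullDim_eq_height (hW.primeIdealOf ⟨ζ, hζW⟩).asIdeal
    (X.presheaf.stalk ζ)).symm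

lemma exists_generization (x : X) (P : Ideal (X.presheaf.stalk x)) [hP : P.IsPrime] :
    ∃ (ζ : X) (h : ζ ⤳ x),
      (maximalIdeal (X.presheaf.stalk ζ)).comap (X.presheaf.stalkSpecializes h).hom = P := by
  obtain ⟨W, hW0, hxW, -⟩ := Opens.isBasis_iff_nbhd.mp X.isBasis_affineOpens
    (show x ∈ (⊤ : X.Opens) from trivial)
  have hW : IsAffineOpen W := hW0
  haveI hqprime : (P.comap (X.presheaf.germ W x hxW).hom).IsPrime := Ideal.comap_isPrime _ _
  obtain ⟨q, hqdef⟩ : ∃ q : Ideal Γ(X, W), q = P.comap (X.presheaf.germ W x hxW).hom := ⟨_, rfl⟩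
  haveI hq' : q.IsPrime := hqdef ▸ hqprime
  have hqle : q ≤ (hW.primeIdealOf ⟨x, hxW⟩).asIdeal := by
    rw [hqdef]
    exact comap_le_primeIdealOf hW x hxW P
  have hζW := pointOfPrime_mem hW q
  have h := pointOfPrime_specializes hW q x hxW hqle
  refine ⟨pointOfPrime hW q, h, ?_⟩
  have hc := comap_comap_eq hW h hxW hζW
  rw [congrArg PrimeSpectrum.asIdeal (primeIdealOf_pointOfPrime hW q)] at hc
  letI := X.presheaf.algebra_section_stalk ⟨x, hxW⟩
  haveI := IsAffineOpen.isLocalization_stalk hW ⟨x, hxW⟩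
  have e1 := IsLocalization.map_comap (hW.primeIdealOf ⟨x, hxW⟩).asIdeal.primeCompl
    (X.presheaf.stalk x)
    ((maximalIdeal (X.presheaf.stalk (pointOfPrime hW q))).comap
      (X.presheaf.stalkSpecializes h).hom)
  have e2 := IsLocalization.map_comap (hW.primeIdealOf ⟨x, hxW⟩).asIdeal.primeCompl
    (X.presheaf.stalk x) P
  rw [← e1, ← e2]
  congr 1
  exact hc.trans hqdef

/-- Primes of height one of `O_{X,x}` are the primes of the generizations of codimension one. -/
lemma exists_generization_of_height_one (x : X) (P : Ideal (X.presheaf.stalk x)) [hP : P.IsPrime]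
    (hPh : P.height = 1) :
    ∃ (ζ : X) (h : ζ ⤳ x), ringKrullDim (X.presheaf.stalk ζ) = 1 ∧
      (maximalIdeal (X.presheaf.stalk ζ)).comap (X.presheaf.stalkSpecializes h).hom = P := by
  obtain ⟨ζ, h, hζ⟩ := exists_generization x P
  refine ⟨ζ, h, ?_, hζ⟩
  rw [← height_comap_eq h, hζ, hPh]
  rfl

lemma height_eq_one_of_dim_eq_one {ζ x : X} (h : ζ ⤳ x)
    (hd : ringKrullDim (X.presheaf.stalk ζ) = 1) :
    ((maximalIdeal (X.presheaf.stalk ζ)).comap (X.presheaf.stalkSpecializes h).hom).height = 1 := by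
  have h1 := height_comap_eq h
  rw [hd] at h1
  exact_mod_cast h1

/-- If `x ⤳ y` then `O_{X,x}` is a localization of `O_{X,y}`; in particular it is a domain when
`O_{X,y}` is. -/
lemma isDomain_of_specializes {x y : X} (h : x ⤳ y) [IsDomain (X.presheaf.stalk y)] :
    IsDomain (X.presheaf.stalk x) := by
  obtain ⟨W, hW0, hyW, -⟩ := Opens.isBasis_iff_nbhd.mp X.isBasis_affineOpens
    (show y ∈ (⊤ : X.Opens) from trivial)
  have hW : IsAffineOpen W := hW0
  have hxW : x ∈ W := h.mem_open W.2 hyW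
  letI := X.presheaf.algebra_section_stalk ⟨x, hxW⟩
  haveI := IsAffineOpen.isLocalization_stalk hW ⟨x, hxW⟩
  letI := X.presheaf.algebra_section_stalk ⟨y, hyW⟩
  haveI := IsAffineOpen.isLocalization_stalk hW ⟨y, hyW⟩
  letI : Algebra (X.presheaf.stalk y) (X.presheaf.stalk x) :=
    (X.presheaf.stalkSpecializes h).hom.toAlgebra
  haveI : IsScalarTower Γ(X, W) (X.presheaf.stalk y) (X.presheaf.stalk x) :=
    IsScalarTower.of_algebraMap_eq
      (fun a => (TopCat.Presheaf.germ_stalkSpecializes_apply X.presheaf hyW h a).symm)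
  have hle : (hW.primeIdealOf ⟨y, hyW⟩).asIdeal.primeCompl ≤
      (hW.primeIdealOf ⟨x, hxW⟩).asIdeal.primeCompl := by
    intro a ha
    have hya : y ∈ X.basicOpen a := (mem_basicOpen_iff_notMem_primeIdealOf hW y hyW a).mpr ha
    have hxa : x ∈ X.basicOpen a := h.mem_open (X.basicOpen a).2 hya
    exact (mem_basicOpen_iff_notMem_primeIdealOf hW x hxW a).mp hxa
  haveI := IsLocalization.isLocalization_of_submonoid_le (S := X.presheaf.stalk y)
    (T := X.presheaf.stalk x) _ _ hle
  apply IsLocalization.isDomain_of_le_nonZeroDivisors (X.presheaf.stalk x)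
    (M := ((hW.primeIdealOf ⟨x, hxW⟩).asIdeal.primeCompl).map
      (algebraMap Γ(X, W) (X.presheaf.stalk y)))
  rintro _ ⟨a, ha, rfl⟩
  apply mem_nonZeroDivisors_of_ne_zero
  intro h0
  have hu : IsUnit (algebraMap Γ(X, W) (X.presheaf.stalk x) a) :=
    IsLocalization.map_units (X.presheaf.stalk x)
      (⟨a, ha⟩ : (hW.primeIdealOf ⟨x, hxW⟩).asIdeal.primeCompl)
  have h1 : algebraMap Γ(X, W) (X.presheaf.stalk x) a = 0 := by
    rw [IsScalarTower.algebraMap_apply Γ(X, W) (X.presheaf.stalk y) (X.presheaf.stalk x)]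
    show algebraMap (X.presheaf.stalk y) (X.presheaf.stalk x)
      (algebraMap Γ(X, W) (X.presheaf.stalk y) a) = 0
    rw [h0, map_zero]
  rw [h1] at hu
  exact not_isUnit_zero hu

lemma one_le_dim_of_specializes_ne {x y : X} (h : x ⤳ y) (hne : y ≠ x) :
    (1 : WithBot ℕ∞) ≤ ringKrullDim (X.presheaf.stalk y) := by
  rw [ringKrullDim_stalk_eq_coheight]
  have hle : y ≤ x := h
  have hlt : y < x := lt_of_le_not_ge hle (fun hge => hne (Specializes.antisymm hge h).eq)
  have h1 := Order.coheight_add_one_le hlt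
  have h2 : (1 : ℕ∞) ≤ Order.coheight y := le_trans le_add_self h1
  exact_mod_cast h2

/-- A point of a locally Noetherian scheme whose local ring has dimension zero and which is not
isolated has a proper specialization. -/
lemma exists_specializes_ne [IsLocallyNoetherian X] (x : X)
    (hdim : ¬ (1 : WithBot ℕ∞) ≤ ringKrullDim (X.presheaf.stalk x))
    (hopen : ¬ IsOpen ({x} : Set X)) : ∃ y : X, x ⤳ y ∧ y ≠ x := by
  classical
  by_contra hcon
  push Not at hcon
  apply hopen
  obtain ⟨W, hW0, hxW, -⟩ := Opens.isBasis_iff_nbhd.mp X.isBasis_affineOpens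
    (show x ∈ (⊤ : X.Opens) from trivial)
  have hW : IsAffineOpen W := hW0
  haveI : IsNoetherianRing Γ(X, W) := IsLocallyNoetherian.component_noetherian ⟨W, hW⟩
  obtain ⟨qx, hqx⟩ : ∃ qx : PrimeSpectrum Γ(X, W), qx = hW.primeIdealOf ⟨x, hxW⟩ := ⟨_, rfl⟩
  have hmin : qx.asIdeal ∈ minimalPrimes Γ(X, W) := by
    rw [← Ideal.height_eq_zero_iff]
    letI := X.presheaf.algebra_section_stalk ⟨x, hxW⟩
    haveI := IsAffineOpen.isLocalization_stalk hW ⟨x, hxW⟩
    have hd := IsLocalization.AtPrime.ringKrullDim_eq_height (hW.primeIdealOf ⟨x, hxW⟩).asIdeal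
      (X.presheaf.stalk x)
    rw [← hqx] at hd
    by_contra hne
    apply hdim
    rw [hd]
    have h1 : (1 : ℕ∞) ≤ qx.asIdeal.height := Order.one_le_iff_ne_zero.mpr hne
    exact_mod_cast h1
  have hmax : ∀ P : PrimeSpectrum Γ(X, W), qx.asIdeal ≤ P.asIdeal → P = qx := by
    intro P hle
    haveI : P.asIdeal.IsPrime := P.2
    have hPW := pointOfPrime_mem hW P.asIdeal
    have hPq : hW.primeIdealOf ⟨pointOfPrime hW P.asIdeal, hPW⟩ = P :=
      primeIdealOf_pointOfPrime hW P.asIdeal
    have hle' : (hW.primeIdealOf ⟨x, hxW⟩).asIdeal ≤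
        (hW.primeIdealOf ⟨pointOfPrime hW P.asIdeal, hPW⟩).asIdeal := by
      rw [hPq, ← hqx]
      exact hle
    have hs := pointOfPrime_specializes hW (hW.primeIdealOf ⟨x, hxW⟩).asIdeal
      (pointOfPrime hW P.asIdeal) hPW hle'
    rw [pointOfPrime_primeIdealOf hW x hxW] at hs
    have hPx := hcon _ hs
    have h3 := eq_of_pointOfPrime_eq hW P.asIdeal x hxW hPx
    rw [hqx]
    exact PrimeSpectrum.ext h3
  have hopenSpec : IsOpen ({qx} : Set (PrimeSpectrum Γ(X, W))) := by
    rw [← isClosed_compl_iff]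
    have hfin : (minimalPrimes Γ(X, W)).Finite := minimalPrimes.finite_of_isNoetherianRing _
    have hC : ({qx} : Set (PrimeSpectrum Γ(X, W)))ᶜ =
        ⋃ q ∈ {q ∈ minimalPrimes Γ(X, W) | q ≠ qx.asIdeal},
          PrimeSpectrum.zeroLocus (q : Set Γ(X, W)) := by
      ext P
      simp only [Set.mem_compl_iff, Set.mem_singleton_iff, Set.mem_iUnion, Set.mem_ofPred_eq,
        PrimeSpectrum.mem_zeroLocus, SetLike.coe_subset_coe, exists_prop]
      constructor
      · intro hP
        obtain ⟨q, hqmin, hqP⟩ := Ideal.exists_minimalPrimes_le (bot_le : (⊥ : Ideal _) ≤ P.asIdeal)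
        refine ⟨q, ⟨hqmin, ?_⟩, hqP⟩
        intro hq
        apply hP
        apply hmax
        rw [← hq]
        exact hqP
      · rintro ⟨q, ⟨hqmin, hqne⟩, hqP⟩ hP
        apply hqne
        rw [hP] at hqP
        exact le_antisymm hqP (hmin.2 ⟨hqmin.1.1, bot_le⟩ hqP)
    rw [hC]
    exact (hfin.subset (fun q hq => hq.1)).isClosed_biUnion
      (fun q _ => PrimeSpectrum.isClosed_zeroLocus _)
  have hopenSpec' : IsOpen ({(qx : ↥(Spec Γ(X, W)))} : Set ↥(Spec Γ(X, W))) := hopenSpec
  have h5 := hW.fromSpec.isOpenEmbedding.isOpenMap _ hopenSpec'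
  have himg : (hW.fromSpec '' ({(qx : ↥(Spec Γ(X, W)))} : Set ↥(Spec Γ(X, W)))) = ({x} : Set X) := by
    ext z
    constructor
    · rintro ⟨P, hP, rfl⟩
      have hP' : P = qx := hP
      rw [hP', hqx]
      exact hW.fromSpec_primeIdealOf ⟨x, hxW⟩
    · intro hz
      have hz' : z = x := hz
      rw [hz']
      exact ⟨qx, rfl, by rw [hqx]; exact hW.fromSpec_primeIdealOf ⟨x, hxW⟩⟩
  exact himg ▸ h5

end Dict

end Groth.Agent.H95.StalkPrimes
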