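import Groth.Agent.H17.Chi
import Groth.Agent.H71.DimFun
import Groth.Agent.H95.StalkPrimes
import Groth.Agent.H95.SecOrd

/-!
# Lengths at a point of dimension one: `ℓ(A/g) = ∑_{p ≠ m} ℓ(A_p) ord_{A/p}(g)` on a scheme

* ring level: `length_quot_eq_finsum` (from helper17's `Chi.main`), in `ℤ` with `toNat`s;
* dictionary between generizations `ξ ⤳ y` and primes of `O_y`, phrased with
  `RingHom.ker (Cyc.specMap y ξ h)`: `ker_specMap`, `ker_specMap_self`, `eq_of_ker_specMap_eq`,
  `isLocalization_stalkSpecializes` (`O_ξ = (O_y)_P`), `isFractionRing_locQuot`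
  (`κ(ξ) = Frac(O_y/P)` on any scheme), `ordAt_specMap_eq`, `length_stalk_eq_locLen`.
-/

set_option autoImplicit false
set_option linter.style.haveILetI false

universe u

open CategoryTheory AlgebraicGeometry TopologicalSpace Opposite IsLocalRing

namespace Groth.Agent.H95.CycZero

open Groth.Agent.H8 Groth.Agent.H17.Chi Groth.Agent.H17.HS Groth.Agent.H95.StalkPrimes
open Groth.Agent.H95.SecOrd
open scoped Pointwise

section Ring

variable {R : Type u} [CommRing R] [IsNoetherianRing R] [IsLocalRing R]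

lemma hypH_of_mem_nonZeroDivisors (hdim : ringKrullDim R ≤ 1) {g : R}
    (hg : g ∈ nonZeroDivisors R) : HypH g R := by
  intro p _ hgp
  by_contra hpm
  have hmin : p.asIdeal ∈ minimalPrimes R := by
    refine ⟨⟨p.2, bot_le⟩, fun q hq hqp => ?_⟩
    by_contra hnle
    haveI := hq.1
    have hlt : q < p.asIdeal := lt_of_le_not_ge hqp hnle
    exact hpm (eq_maximalIdeal_of_lt hdim hlt)
  exact Set.disjoint_left.mp (Ideal.disjoint_nonZeroDivisors_of_mem_minimalPrimes hmin) hgp hg

/-- `ℓ(R/g) = ∑_{p ≠ m} ℓ(R_p) ℓ(R/(p + g))` for a nonzerodivisor `g` of a Noetherian local ring of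
dimension at most one, with all lengths read in `ℕ` and cast to `ℤ`. -/
theorem length_quot_eq_finsum (hdim : ringKrullDim R ≤ 1) {g : R} (hg : g ∈ nonZeroDivisors R) :
    ((Module.length R (R ⧸ Ideal.span {g})).toNat : ℤ) =
      ∑ᶠ p ∈ {p : PrimeSpectrum R | p.asIdeal ≠ IsLocalRing.maximalIdeal R},
        ((locLen p.asIdeal R).toNat : ℤ) *
          ((Module.length R (R ⧸ (p.asIdeal ⊔ Ideal.span {g}))).toNat : ℤ) := by
  classical
  by_cases hu : IsUnit g
  · have h1 : Module.length R (R ⧸ Ideal.span {g}) = 0 := by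
      rw [Module.length_eq_zero_iff, Ideal.span_singleton_eq_top.mpr hu,
        Submodule.Quotient.subsingleton_iff]
    have h2 : ∀ p : PrimeSpectrum R, ((locLen p.asIdeal R).toNat : ℤ) *
        ((Module.length R (R ⧸ (p.asIdeal ⊔ Ideal.span {g}))).toNat : ℤ) = 0 := by
      intro p
      rw [length_quot_sup_span_eq_zero_of_isUnit hu p.asIdeal, ENat.toNat_zero, Nat.cast_zero,
        mul_zero]
    rw [h1, ENat.toNat_zero, Nat.cast_zero]
    exact (finsum_mem_eq_zero_of_forall_eq_zero (fun p _ => h2 p)).symm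
  · have hx : g ∈ IsLocalRing.maximalIdeal R := (IsLocalRing.mem_maximalIdeal g).mpr hu
    have H := hypH_of_mem_nonZeroDivisors hdim hg
    have hE := main hx R H
    have hker : Module.length R (LinearMap.ker (LinearMap.lsmul R R g)) = 0 := by
      rw [Module.length_eq_zero_iff, Submodule.subsingleton_iff_eq_bot, LinearMap.ker_eq_bot']
      intro y hy
      have hy' : y * g = 0 := by
        rw [mul_comm]
        exact hy
      exact mem_nonZeroDivisors_iff_right.mp hg y hy'
    have hsub : g • (⊤ : Submodule R R) = Ideal.span {g} := by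
      ext x
      rw [Submodule.mem_smul_pointwise_iff_exists, Ideal.mem_span_singleton']
      constructor
      · rintro ⟨c, -, hc⟩
        exact ⟨c, by rw [mul_comm]; exact hc⟩
      · rintro ⟨c, hc⟩
        exact ⟨c, Submodule.mem_top, by rw [← hc, mul_comm]; rfl⟩
    have hlen : Module.length R (R ⧸ g • (⊤ : Submodule R R)) =
        Module.length R (R ⧸ Ideal.span {g}) :=
      (Submodule.quotEquivOfEq _ _ hsub).length_eq
    have hne : Module.length R (R ⧸ g • (⊤ : Submodule R R)) ≠ ⊤ := length_quot_ne_top H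
    rw [hker, zero_add] at hE
    have hfin := finite_support_mul hx R H
    have hAC : wsum g R = ∑ p ∈ hfin.toFinset,
        locLen p.asIdeal R * Module.length R (R ⧸ (p.asIdeal ⊔ Ideal.span {g})) := by
      unfold wsum
      refine Eq.trans ?_ (finsum_mem_eq_finite_toFinset_sum _ hfin)
      exact (finsum_mem_inter_support (fun p : PrimeSpectrum R => locLen p.asIdeal R *
        Module.length R (R ⧸ (p.asIdeal ⊔ Ideal.span {g})))
        {p : PrimeSpectrum R | p.asIdeal ≠ IsLocalRing.maximalIdeal R}).symm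
    have hsumne : (∑ p ∈ hfin.toFinset,
        locLen p.asIdeal R * Module.length R (R ⧸ (p.asIdeal ⊔ Ideal.span {g}))) ≠ ⊤ := by
      rw [← hAC, ← hE]
      exact hne
    have hterm := ENat.sum_ne_top.mp hsumne
    have hnat : (Module.length R (R ⧸ Ideal.span {g})).toNat = ∑ p ∈ hfin.toFinset,
        (locLen p.asIdeal R).toNat *
          (Module.length R (R ⧸ (p.asIdeal ⊔ Ideal.span {g}))).toNat := by
      rw [← hlen, hE, hAC, ENat.toNat_sum hterm]
      exact Finset.sum_congr rfl (fun p _ => ENat.toNat_mul _ _)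
    rw [hnat, Nat.cast_sum]
    symm
    refine Eq.trans (finsum_mem_eq_sum_of_inter_support_eq _ ?_)
      (Finset.sum_congr rfl (fun p _ => (Nat.cast_mul _ _).symm))
    ext p
    constructor
    · rintro ⟨hp, hne0⟩
      refine ⟨Finset.mem_coe.mpr (hfin.mem_toFinset.mpr ⟨hp, ?_⟩), hne0⟩
      intro h0
      apply hne0
      have h0' : locLen p.asIdeal R *
          Module.length R (R ⧸ (p.asIdeal ⊔ Ideal.span {g})) = 0 := h0
      have h3 := congrArg ENat.toNat h0'
      rw [ENat.toNat_mul, ENat.toNat_zero] at h3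
      show ((locLen p.asIdeal R).toNat : ℤ) *
        ((Module.length R (R ⧸ (p.asIdeal ⊔ Ideal.span {g}))).toNat : ℤ) = 0
      exact_mod_cast h3
    · rintro ⟨hp, hne0⟩
      exact ⟨(hfin.mem_toFinset.mp (Finset.mem_coe.mp hp)).1, hne0⟩

end Ring

section Dict

variable {X : Scheme.{u}}

theorem ker_specMap {ξ y : X} (h : ξ ⤳ y) :
    RingHom.ker (Cyc.specMap y ξ h) =
      (maximalIdeal (X.presheaf.stalk ξ)).comap (X.presheaf.stalkSpecializes h).hom := by
  ext a
  rw [RingHom.mem_ker, Ideal.mem_comap, specMap_apply]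
  exact Groth.Agent.H95.SecOrd.residue_eq_zero_iff _

theorem ker_specMap_self (y : X) (h : y ⤳ y) :
    RingHom.ker (Cyc.specMap y y h) = maximalIdeal (X.presheaf.stalk y) := by
  rw [ker_specMap, show X.presheaf.stalkSpecializes h = 𝟙 _ from
    TopCat.Presheaf.stalkSpecializes_refl X.presheaf y, CommRingCat.hom_id, Ideal.comap_id]

theorem ker_specMap_of_eq {ζ y : X} (h : ζ ⤳ y) (hzy : ζ = y) :
    RingHom.ker (Cyc.specMap y ζ h) = maximalIdeal (X.presheaf.stalk y) := by
  subst hzy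
  exact ker_specMap_self _ h

/-- A generization of `y` is determined by its prime in `O_y`. -/
theorem eq_of_ker_specMap_eq {ξ ξ' y : X} (h : ξ ⤳ y) (h' : ξ' ⤳ y)
    (heq : RingHom.ker (Cyc.specMap y ξ h) = RingHom.ker (Cyc.specMap y ξ' h')) : ξ = ξ' := by
  obtain ⟨W, hW0, hyW, -⟩ := Opens.isBasis_iff_nbhd.mp X.isBasis_affineOpens
    (show y ∈ (⊤ : X.Opens) from trivial)
  have hW : IsAffineOpen W := hW0
  have hξW : ξ ∈ W := h.mem_open W.2 hyW
  have hξ'W : ξ' ∈ W := h'.mem_open W.2 hyW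
  have c := comap_comap_eq hW h hyW hξW
  have c' := comap_comap_eq hW h' hyW hξ'W
  rw [← ker_specMap, heq, ker_specMap, c'] at c
  have hpe : hW.primeIdealOf ⟨ξ', hξ'W⟩ = hW.primeIdealOf ⟨ξ, hξW⟩ := PrimeSpectrum.ext c
  calc ξ = hW.fromSpec (hW.primeIdealOf ⟨ξ, hξW⟩) := (hW.fromSpec_primeIdealOf ⟨ξ, hξW⟩).symm
    _ = hW.fromSpec (hW.primeIdealOf ⟨ξ', hξ'W⟩) := by rw [hpe]
    _ = ξ' := hW.fromSpec_primeIdealOf ⟨ξ', hξ'W⟩

theorem ker_specMap_ne_of_ne {ξ y : X} (h : ξ ⤳ y) (hne : ξ ≠ y) :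
    RingHom.ker (Cyc.specMap y ξ h) ≠ maximalIdeal (X.presheaf.stalk y) := by
  intro h3
  exact hne (eq_of_ker_specMap_eq h (specializes_refl y)
    (h3.trans (ker_specMap_self y (specializes_refl y)).symm))

/-- For `ξ ⤳ y`, the local ring `O_ξ` is the localization of `O_y` at the prime of `ξ`. -/
theorem isLocalization_stalkSpecializes {ξ y : X} (h : ξ ⤳ y) :
    @IsLocalization (X.presheaf.stalk y) _
      ((maximalIdeal (X.presheaf.stalk ξ)).comap (X.presheaf.stalkSpecializes h).hom).primeCompl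
      (X.presheaf.stalk ξ) _ (X.presheaf.stalkSpecializes h).hom.toAlgebra := by
  obtain ⟨W, hW0, hyW, -⟩ := Opens.isBasis_iff_nbhd.mp X.isBasis_affineOpens
    (show y ∈ (⊤ : X.Opens) from trivial)
  have hW : IsAffineOpen W := hW0
  have hξW : ξ ∈ W := h.mem_open W.2 hyW
  letI algy : Algebra Γ(X, W) (X.presheaf.stalk y) := X.presheaf.algebra_section_stalk ⟨y, hyW⟩
  letI algξ : Algebra Γ(X, W) (X.presheaf.stalk ξ) := X.presheaf.algebra_section_stalk ⟨ξ, hξW⟩
  letI algyξ : Algebra (X.presheaf.stalk y) (X.presheaf.stalk ξ) :=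
    (X.presheaf.stalkSpecializes h).hom.toAlgebra
  haveI : IsScalarTower Γ(X, W) (X.presheaf.stalk y) (X.presheaf.stalk ξ) := by
    refine IsScalarTower.of_algebraMap_eq' ?_
    change (X.presheaf.germ W ξ hξW).hom =
      (X.presheaf.stalkSpecializes h).hom.comp (X.presheaf.germ W y hyW).hom
    rw [← CommRingCat.hom_comp, TopCat.Presheaf.germ_stalkSpecializes]
  haveI locy : IsLocalization.AtPrime (X.presheaf.stalk y) (hW.primeIdealOf ⟨y, hyW⟩).asIdeal :=
    hW.isLocalization_stalk ⟨y, hyW⟩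
  haveI locξ : IsLocalization.AtPrime (X.presheaf.stalk ξ) (hW.primeIdealOf ⟨ξ, hξW⟩).asIdeal :=
    hW.isLocalization_stalk ⟨ξ, hξW⟩
  have hle : (hW.primeIdealOf ⟨y, hyW⟩).asIdeal.primeCompl ≤
      (hW.primeIdealOf ⟨ξ, hξW⟩).asIdeal.primeCompl := by
    intro r hr
    have h1 : IsUnit (algebraMap Γ(X, W) (X.presheaf.stalk y) r) :=
      IsLocalization.map_units (X.presheaf.stalk y) ⟨r, hr⟩
    have h2 : IsUnit (algebraMap Γ(X, W) (X.presheaf.stalk ξ) r) := by
      rw [IsScalarTower.algebraMap_apply Γ(X, W) (X.presheaf.stalk y) (X.presheaf.stalk ξ)]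
      exact h1.map _
    exact (IsLocalization.AtPrime.isUnit_to_map_iff (X.presheaf.stalk ξ)
      (hW.primeIdealOf ⟨ξ, hξW⟩).asIdeal r).mp h2
  haveI h1 : IsLocalization ((hW.primeIdealOf ⟨ξ, hξW⟩).asIdeal.primeCompl.map
      (algebraMap Γ(X, W) (X.presheaf.stalk y))) (X.presheaf.stalk ξ) :=
    IsLocalization.isLocalization_of_submonoid_le (X.presheaf.stalk y) (X.presheaf.stalk ξ) _ _ hle
  refine IsLocalization.of_le (M := (hW.primeIdealOf ⟨ξ, hξW⟩).asIdeal.primeCompl.map
      (algebraMap Γ(X, W) (X.presheaf.stalk y))) _ ?_ ?_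
  · rintro _ ⟨r, hr, rfl⟩
    intro hmem
    have hu : IsUnit (algebraMap Γ(X, W) (X.presheaf.stalk ξ) r) :=
      IsLocalization.map_units (X.presheaf.stalk ξ) ⟨r, hr⟩
    rw [IsScalarTower.algebraMap_apply Γ(X, W) (X.presheaf.stalk y) (X.presheaf.stalk ξ)] at hu
    exact (IsLocalRing.mem_maximalIdeal _).mp (Ideal.mem_comap.mp hmem) hu
  · intro r hr
    exact IsLocalRing.notMem_maximalIdeal.mp (fun hmem => hr (Ideal.mem_comap.mpr hmem))

/-- `κ(ξ)` is the fraction field of `O_y/𝔭_ξ` for a specialization `ξ ⤳ y` on any scheme. -/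
theorem isFractionRing_locQuot {ξ y : X} (h : ξ ⤳ y) :
    IsFractionRing (Cyc.LocQuot y ξ h) (X.residueField ξ) := by
  letI alg1 : Algebra (X.presheaf.stalk y) (X.presheaf.stalk ξ) :=
    (X.presheaf.stalkSpecializes h).hom.toAlgebra
  haveI loc : IsLocalization ((maximalIdeal (X.presheaf.stalk ξ)).comap
      (X.presheaf.stalkSpecializes h).hom).primeCompl (X.presheaf.stalk ξ) :=
    isLocalization_stalkSpecializes h
  have hinj : Function.Injective (algebraMap (Cyc.LocQuot y ξ h) (X.residueField ξ)) := by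
    rw [injective_iff_map_eq_zero]
    intro a ha
    obtain ⟨a', rfl⟩ := Ideal.Quotient.mk_surjective a
    have ha' : Cyc.specMap y ξ h a' = 0 := ha
    exact Ideal.Quotient.eq_zero_iff_mem.mpr (RingHom.mem_ker.mpr ha')
  haveI : FaithfulSMul (Cyc.LocQuot y ξ h) (X.residueField ξ) :=
    (faithfulSMul_iff_algebraMap_injective _ _).mpr hinj
  refine IsFractionRing.of_field _ _ (fun z => ?_)
  obtain ⟨b, rfl⟩ := IsLocalRing.residue_surjective z
  obtain ⟨⟨a, s⟩, hbs⟩ := IsLocalization.surj ((maximalIdeal (X.presheaf.stalk ξ)).comap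
      (X.presheaf.stalkSpecializes h).hom).primeCompl b
  have hs0 : Cyc.specMap y ξ h s ≠ 0 := by
    intro h0
    apply s.2
    have hmem : (s : X.presheaf.stalk y) ∈ RingHom.ker (Cyc.specMap y ξ h) :=
      RingHom.mem_ker.mpr h0
    rw [ker_specMap] at hmem
    exact hmem
  refine ⟨Ideal.Quotient.mk _ a, Ideal.Quotient.mk _ (s : X.presheaf.stalk y), ?_⟩
  have h3 := congrArg (IsLocalRing.residue (X.presheaf.stalk ξ)) hbs
  rw [map_mul] at h3
  exact (eq_div_iff hs0).mpr h3

/-- The order along `ξ ⤳ y` of the image of `g ∈ O_y` in `κ(ξ)` is the length of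
`O_y/(𝔭_ξ + g)`, when `dim O_y ≤ 1`. -/
theorem ordAt_specMap_eq [IsLocallyNoetherian X] {ξ y : X} (h : ξ ⤳ y)
    (hdim : ringKrullDim (X.presheaf.stalk y) ≤ 1) (g : X.presheaf.stalk y)
    (hg : Cyc.specMap y ξ h g ≠ 0) :
    Cyc.ordAt y ξ h (Cyc.specMap y ξ h g) =
      ((Module.length (X.presheaf.stalk y)
        (X.presheaf.stalk y ⧸ (RingHom.ker (Cyc.specMap y ξ h) ⊔ Ideal.span {g}))).toNat : ℤ) := by
  haveI hfr := isFractionRing_locQuot h
  haveI hprime : (RingHom.ker (Cyc.specMap y ξ h)).IsPrime := RingHom.ker_isPrime _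
  haveI hdom : IsDomain (Cyc.LocQuot y ξ h) := Ideal.Quotient.isDomain _
  haveI hno : IsNoetherianRing (Cyc.LocQuot y ξ h) := inferInstance
  haveI hk : Ring.KrullDimLE 1 (Cyc.LocQuot y ξ h) := by
    rw [Ring.krullDimLE_iff]
    exact (ringKrullDim_quotient_le _).trans hdim
  haveI hnt : Nontrivial (Cyc.LocQuot y ξ h) := inferInstance
  have hmk0 : (Ideal.Quotient.mk (RingHom.ker (Cyc.specMap y ξ h)) g) ≠ 0 := by
    intro h0
    exact hg (RingHom.mem_ker.mp (Ideal.Quotient.eq_zero_iff_mem.mp h0))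
  have hnzd : (Ideal.Quotient.mk (RingHom.ker (Cyc.specMap y ξ h)) g) ∈
      nonZeroDivisors (Cyc.LocQuot y ξ h) := mem_nonZeroDivisors_iff_ne_zero.mpr hmk0
  have hfin : Ring.ord (Cyc.LocQuot y ξ h)
      (Ideal.Quotient.mk (RingHom.ker (Cyc.specMap y ξ h)) g) ≠ ⊤ := Ring.ord_ne_top hnzd
  have hordlen : Ring.ord (Cyc.LocQuot y ξ h)
      (Ideal.Quotient.mk (RingHom.ker (Cyc.specMap y ξ h)) g) =
      Module.length (X.presheaf.stalk y)
        (X.presheaf.stalk y ⧸ (RingHom.ker (Cyc.specMap y ξ h) ⊔ Ideal.span {g})) :=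
    ord_quotient_eq _ g
  have h1 : Ring.ordFrac (Cyc.LocQuot y ξ h) (algebraMap (Cyc.LocQuot y ξ h) (X.residueField ξ)
      (Ideal.Quotient.mk (RingHom.ker (Cyc.specMap y ξ h)) g)) =
      ((Multiplicative.ofAdd (((Ring.ord (Cyc.LocQuot y ξ h)
        (Ideal.Quotient.mk (RingHom.ker (Cyc.specMap y ξ h)) g)).toNat : ℕ) : ℤ) :
        Multiplicative ℤ) : WithZero (Multiplicative ℤ)) := by
    rw [Ring.ordFrac_eq_ord _ hmk0]
    exact Ring.ordMonoidWithZeroHom_eq_coe _ hnzd (ENat.natCast_toNat hfin).symm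
  have h2 : Cyc.ordAt y ξ h (Cyc.specMap y ξ h g) =
      WithZero.recZeroCoe (motive := fun _ => ℤ) 0 (fun z => Multiplicative.toAdd z)
        (Ring.ordFrac (Cyc.LocQuot y ξ h) (Cyc.specMap y ξ h g)) := by
    unfold Cyc.ordAt CycAlg.ordFrac
    rw [dif_pos ⟨‹_›, ‹_›, ‹_›, ‹_›⟩]
  rw [h2]
  have h3 : Cyc.specMap y ξ h g = algebraMap (Cyc.LocQuot y ξ h) (X.residueField ξ)
      (Ideal.Quotient.mk (RingHom.ker (Cyc.specMap y ξ h)) g) := rfl
  rw [h3, h1, ← hordlen]
  rfl

/-- `ℓ(O_ξ) = ℓ((O_y)_P)` for the prime `P` of a generization `ξ` of `y`. -/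
theorem length_stalk_eq_locLen {ξ y : X} (h : ξ ⤳ y)
    (P : Ideal (X.presheaf.stalk y)) [P.IsPrime]
    (hP : P = (maximalIdeal (X.presheaf.stalk ξ)).comap (X.presheaf.stalkSpecializes h).hom) :
    Module.length (X.presheaf.stalk ξ) (X.presheaf.stalk ξ) = locLen P (X.presheaf.stalk y) := by
  subst hP
  letI alg1 : Algebra (X.presheaf.stalk y) (X.presheaf.stalk ξ) :=
    (X.presheaf.stalkSpecializes h).hom.toAlgebra
  haveI loc : IsLocalization ((maximalIdeal (X.presheaf.stalk ξ)).comap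
      (X.presheaf.stalkSpecializes h).hom).primeCompl (X.presheaf.stalk ξ) :=
    isLocalization_stalkSpecializes h
  letI alg2 : Algebra (Localization.AtPrime ((maximalIdeal (X.presheaf.stalk ξ)).comap
      (X.presheaf.stalkSpecializes h).hom)) (X.presheaf.stalk ξ) :=
    (IsLocalization.algEquiv ((maximalIdeal (X.presheaf.stalk ξ)).comap
      (X.presheaf.stalkSpecializes h).hom).primeCompl
      (Localization.AtPrime ((maximalIdeal (X.presheaf.stalk ξ)).comap
        (X.presheaf.stalkSpecializes h).hom)) (X.presheaf.stalk ξ)).toAlgHom.toRingHom.toAlgebra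
  haveI tower : IsScalarTower (X.presheaf.stalk y)
      (Localization.AtPrime ((maximalIdeal (X.presheaf.stalk ξ)).comap
        (X.presheaf.stalkSpecializes h).hom)) (X.presheaf.stalk ξ) :=
    IsScalarTower.of_algebraMap_eq' (RingHom.ext fun a =>
      ((IsLocalization.algEquiv ((maximalIdeal (X.presheaf.stalk ξ)).comap
        (X.presheaf.stalkSpecializes h).hom).primeCompl
        (Localization.AtPrime ((maximalIdeal (X.presheaf.stalk ξ)).comap
          (X.presheaf.stalkSpecializes h).hom)) (X.presheaf.stalk ξ)).commutes a).symm)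
  have hsurj : Function.Surjective (algebraMap
      (Localization.AtPrime ((maximalIdeal (X.presheaf.stalk ξ)).comap
        (X.presheaf.stalkSpecializes h).hom)) (X.presheaf.stalk ξ)) :=
    (IsLocalization.algEquiv ((maximalIdeal (X.presheaf.stalk ξ)).comap
      (X.presheaf.stalkSpecializes h).hom).primeCompl
      (Localization.AtPrime ((maximalIdeal (X.presheaf.stalk ξ)).comap
        (X.presheaf.stalkSpecializes h).hom)) (X.presheaf.stalk ξ)).surjective
  have e1 : Module.length (Localization.AtPrime ((maximalIdeal (X.presheaf.stalk ξ)).comap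
      (X.presheaf.stalkSpecializes h).hom)) (X.presheaf.stalk ξ) =
      Module.length (X.presheaf.stalk ξ) (X.presheaf.stalk ξ) :=
    Module.length_eq_of_surjective hsurj
  have e2 : LocalizedModule ((maximalIdeal (X.presheaf.stalk ξ)).comap
      (X.presheaf.stalkSpecializes h).hom).primeCompl (X.presheaf.stalk y) ≃ₗ[X.presheaf.stalk y]
      X.presheaf.stalk ξ :=
    IsLocalizedModule.iso ((maximalIdeal (X.presheaf.stalk ξ)).comap
      (X.presheaf.stalkSpecializes h).hom).primeCompl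
      (Algebra.linearMap (X.presheaf.stalk y) (X.presheaf.stalk ξ))
  have e3 := LinearEquiv.extendScalarsOfIsLocalization
    ((maximalIdeal (X.presheaf.stalk ξ)).comap (X.presheaf.stalkSpecializes h).hom).primeCompl
    (Localization.AtPrime ((maximalIdeal (X.presheaf.stalk ξ)).comap
      (X.presheaf.stalkSpecializes h).hom)) e2
  unfold locLen
  rw [← e1]
  exact e3.length_eq.symm

end Dict

end Groth.Agent.H95.CycZero
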