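import Groth.Agent.H95.ZClosStalk

set_option autoImplicit false
universe u

open CategoryTheory CategoryTheory.Limits AlgebraicGeometry TopologicalSpace Opposite

namespace Groth.Agent.H95.ZClos

open _root_.ZClos

set_option backward.isDefEq.respectTransparency false

section Local

variable {X : Scheme.{u}}

lemma inj_congr₂ (P : TopCat.Presheaf Ab X) {A A' B B' : X.Opens} (eA : A = A') (eB : B = B')
    (f : B ⟶ A) (g : B' ⟶ A') :
    Function.Injective (P.map f.op) ↔ Function.Injective (P.map g.op) := by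
  subst eA; subst eB; rw [Subsingleton.elim f g]

lemma bij_congr₂ (P : TopCat.Presheaf Ab X) {A A' B B' : X.Opens} (eA : A = A') (eB : B = B')
    (f : B ⟶ A) (g : B' ⟶ A') :
    Function.Bijective (P.map f.op) ↔ Function.Bijective (P.map g.op) := by
  subst eA; subst eB; rw [Subsingleton.elim f g]

variable (F : X.Modules) (U : X.Opens)

theorem res_injective_of_cover (V : X.Opens) {κ : Type*} (A : κ → X.Opens) (hA : ∀ k, A k ≤ V)
    (hcov : V ≤ ⨆ k, A k) (h : ∀ k, Function.Injective (res F U (A k))) :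
    Function.Injective (res F U V) := by
  intro s t hst
  refine TopCat.Sheaf.eq_of_locally_eq' ⟨F.presheaf, F.isSheaf⟩ A V
    (fun k => homOfLE (hA k)) hcov s t ?_
  intro k
  apply h k
  show res F U (A k) (F.presheaf.map (homOfLE (hA k)).op s) =
    res F U (A k) (F.presheaf.map (homOfLE (hA k)).op t)
  rw [res_map, res_map, hst]

theorem res_bijective_of_cover (V : X.Opens) {κ : Type*} (A : κ → X.Opens) (hA : ∀ k, A k ≤ V)
    (hcov : V ≤ ⨆ k, A k) (h : ∀ k, Function.Bijective (res F U (A k)))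
    (h2 : ∀ k l, Function.Injective (res F U (A k ⊓ A l))) :
    Function.Bijective (res F U V) := by
  refine ⟨res_injective_of_cover F U V A hA hcov (fun k => (h k).1), ?_⟩
  intro t
  have hl : ∀ k, ∃ s : F.presheaf.obj (op (A k)),
      res F U (A k) s = F.presheaf.map (homOfLE (inf_le_inf_right U (hA k))).op t :=
    fun k => (h k).2 _
  choose sf hsf using hl
  have hcompat : TopCat.Presheaf.IsCompatible F.presheaf A sf := by
    intro k l
    apply h2 k l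
    show res F U (A k ⊓ A l) (F.presheaf.map (homOfLE inf_le_left).op (sf k)) =
      res F U (A k ⊓ A l) (F.presheaf.map (homOfLE inf_le_right).op (sf l))
    rw [res_map, res_map, hsf k, hsf l, map_map_apply, map_map_apply]
  obtain ⟨s, hs, -⟩ := TopCat.Sheaf.existsUnique_gluing' ⟨F.presheaf, F.isSheaf⟩
    A V (fun k => homOfLE (hA k)) hcov sf hcompat
  refine ⟨s, ?_⟩
  refine TopCat.Sheaf.eq_of_locally_eq' ⟨F.presheaf, F.isSheaf⟩ (fun k => A k ⊓ U)
    (V ⊓ U) (fun k => homOfLE (inf_le_inf_right U (hA k))) ?_ _ _ ?_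
  · intro x hx
    obtain ⟨k, hk⟩ := Opens.mem_iSup.1 (hcov hx.1)
    exact Opens.mem_iSup.2 ⟨k, ⟨hk, hx.2⟩⟩
  · intro k
    have h1 : F.presheaf.map (homOfLE (hA k)).op s = sf k := hs k
    show F.presheaf.map (homOfLE (inf_le_inf_right U (hA k))).op (res F U V s) =
      F.presheaf.map (homOfLE (inf_le_inf_right U (hA k))).op t
    rw [← res_map F U (hA k) s, h1]
    exact hsf k

variable {Z : Set X} (U₀ : X.Opens)

/-- pull back a closed subset of `Z` to the open subscheme `U₀` -/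
def pullCl (T : Cl Z) : Cl (U₀.ι.base ⁻¹' Z) :=
  ⟨⟨U₀.ι.base ⁻¹' (T.1 : Set X), T.1.isClosed.preimage U₀.ι.continuous⟩, fun _ hy => T.2 hy⟩

lemma pullCl_U (T : Cl Z) : (pullCl U₀ T).U = U₀.ι ⁻¹ᵁ T.U := Opens.ext rfl

lemma pull_res_inj_iff (T : Cl Z) (V : X.Opens) :
    Function.Injective (res ((Scheme.Modules.restrictFunctor U₀.ι).obj F) (pullCl U₀ T).U
      (U₀.ι ⁻¹ᵁ V)) ↔ Function.Injective (res F T.U (U₀ ⊓ V)) := by
  refine inj_congr₂ F.presheaf (ι_image_preimage U₀ V) ?_ _ _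
  rw [pullCl_U]
  show U₀.ι ''ᵁ U₀.ι ⁻¹ᵁ (V ⊓ T.U) = _
  rw [ι_image_preimage, inf_assoc]

lemma pull_res_bij_iff (T : Cl Z) (V : X.Opens) :
    Function.Bijective (res ((Scheme.Modules.restrictFunctor U₀.ι).obj F) (pullCl U₀ T).U
      (U₀.ι ⁻¹ᵁ V)) ↔ Function.Bijective (res F T.U (U₀ ⊓ V)) := by
  refine bij_congr₂ F.presheaf (ι_image_preimage U₀ V) ?_ _ _
  rw [pullCl_U]
  show U₀.ι ''ᵁ U₀.ι ⁻¹ᵁ (V ⊓ T.U) = _
  rw [ι_image_preimage, inf_assoc]

lemma isCompact_preimage_ι [IsLocallyNoetherian X] {V : X.Opens} (hV : IsCompact (V : Set X)) :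
    IsCompact ((U₀.ι ⁻¹ᵁ V : U₀.toScheme.Opens) : Set U₀.toScheme) := by
  rw [U₀.ι.isOpenEmbedding.isEmbedding.isCompact_iff]
  have h1 : IsCompact ((U₀ ⊓ V : X.Opens) : Set X) := isCompact_of_le_compact hV inf_le_right
  have h2 : (U₀.ι.base '' ((U₀.ι ⁻¹ᵁ V : U₀.toScheme.Opens) : Set U₀.toScheme)) =
      ((U₀ ⊓ V : X.Opens) : Set X) := by
    have := congrArg (fun O : X.Opens => (O : Set X)) (ι_image_preimage U₀ V)
    exact this
  rw [h2]; exact h1

lemma exists_cl_of_local [IsLocallyNoetherian X] (hZ : StableUnderSpecialization Z)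
    (T' : Cl (U₀.ι.base ⁻¹' Z)) (W : U₀.toScheme.Opens)
    (hW : IsCompact (W : Set U₀.toScheme)) :
    ∃ T : Cl Z, (U₀.ι ''ᵁ W) ⊓ T.U = U₀.ι ''ᵁ (W ⊓ T'.U) := by
  obtain ⟨C, hC, hCT'⟩ := U₀.ι.isOpenEmbedding.isInducing.isClosed_iff.mp T'.1.isClosed
  have hVc : IsCompact ((U₀.ι ''ᵁ W : X.Opens) : Set X) := hW.image U₀.ι.continuous
  let S : Set X := U₀.ι.base '' ((T'.1 : Set U₀.toScheme) ∩ (W : Set U₀.toScheme))
  have hSV : S ⊆ ((U₀.ι ''ᵁ W : X.Opens) : Set X) := by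
    rintro _ ⟨w, hw, rfl⟩; exact ⟨w, hw.2, rfl⟩
  have hSZ : S ⊆ Z := by
    rintro _ ⟨w, hw, rfl⟩; exact T'.2 hw.1
  have hSeq : S = C ∩ ((U₀.ι ''ᵁ W : X.Opens) : Set X) := by
    ext y; constructor
    · rintro ⟨w, hw, rfl⟩
      refine ⟨?_, w, hw.2, rfl⟩
      have : w ∈ U₀.ι.base ⁻¹' C := by rw [hCT']; exact hw.1
      exact this
    · rintro ⟨hyC, w, hw, rfl⟩
      refine ⟨w, ⟨?_, hw⟩, rfl⟩
      have : w ∈ U₀.ι.base ⁻¹' C := hyC
      rw [hCT'] at this; exact this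
  have hScl : IsClosed ((Subtype.val : ↥((U₀.ι ''ᵁ W : X.Opens) : Set X) → X) ⁻¹' S) := by
    rw [hSeq, Set.preimage_inter, Subtype.coe_preimage_self, Set.inter_univ]
    exact hC.preimage continuous_subtype_val
  haveI := noetherianSpace_of_isCompact hVc
  have hT := closure_subset_of_stable hZ (U₀.ι ''ᵁ W) S hSV hSZ hScl
  refine ⟨⟨⟨closure S, isClosed_closure⟩, hT⟩, ?_⟩
  ext y
  constructor
  · rintro ⟨⟨w, hw, rfl⟩, hy2⟩
    refine ⟨w, ⟨hw, ?_⟩, rfl⟩
    intro hwT'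
    exact hy2 (subset_closure ⟨w, ⟨hwT', hw⟩, rfl⟩)
  · rintro ⟨w, ⟨hw, hwT'⟩, rfl⟩
    refine ⟨⟨w, hw, rfl⟩, ?_⟩
    intro hcl
    have hcC : closure S ⊆ C := closure_minimal (hSeq ▸ Set.inter_subset_left) hC
    have : w ∈ U₀.ι.base ⁻¹' C := hcC hcl
    rw [hCT'] at this
    exact hwT' this

section Assembly

variable [IsLocallyNoetherian X]

theorem isZPure_restrict_of (hZ : StableUnderSpecialization Z) (h : IsZPure Z F) :
    IsZPure (U₀.ι.base ⁻¹' Z) ((Scheme.Modules.restrictFunctor U₀.ι).obj F) := by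
  rw [isZPure_iff_sections] at h ⊢
  intro T' W hW
  obtain ⟨T, hT⟩ := exists_cl_of_local U₀ hZ T' W hW
  have h1 := h T (U₀.ι ''ᵁ W) (hW.image U₀.ι.continuous)
  exact (inj_congr₂ F.presheaf rfl hT (homOfLE inf_le_left)
    (U₀.ι.opensFunctor.map (homOfLE (inf_le_left : W ⊓ T'.U ≤ W)))).1 h1

theorem isZClosed_restrict_of (hZ : StableUnderSpecialization Z) (h : IsZClosed Z F) :
    IsZClosed (U₀.ι.base ⁻¹' Z) ((Scheme.Modules.restrictFunctor U₀.ι).obj F) := by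
  rw [isZClosed_iff_sections] at h ⊢
  intro T' W hW
  obtain ⟨T, hT⟩ := exists_cl_of_local U₀ hZ T' W hW
  have h1 := h T (U₀.ι ''ᵁ W) (hW.image U₀.ι.continuous)
  exact (bij_congr₂ F.presheaf rfl hT (homOfLE inf_le_left)
    (U₀.ι.opensFunctor.map (homOfLE (inf_le_left : W ⊓ T'.U ≤ W)))).1 h1

lemma cover_inf {κ : Type*} (V : κ → X.Opens) (hV : iSup V = ⊤) (W : X.Opens) :
    W ≤ ⨆ k, V k ⊓ W := by
  intro x hx
  have hx' : x ∈ (⊤ : X.Opens) := trivial
  rw [← hV] at hx'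
  obtain ⟨i, hi⟩ := Opens.mem_iSup.1 hx'
  exact Opens.mem_iSup.2 ⟨i, ⟨hi, hx⟩⟩

theorem isZPure_of_cover {κ : Type*} (V : κ → X.Opens) (hV : iSup V = ⊤)
    (h : ∀ i, IsZPure ((V i).ι.base ⁻¹' Z) ((Scheme.Modules.restrictFunctor (V i).ι).obj F)) :
    IsZPure Z F := by
  rw [isZPure_iff_sections]
  intro T W hW
  have key : ∀ i, Function.Injective (res F T.U (V i ⊓ W)) := by
    intro i
    have hi := (isZPure_iff_sections _ _).1 (h i) (pullCl (V i) T) ((V i).ι ⁻¹ᵁ W)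
      (isCompact_preimage_ι (V i) hW)
    exact (pull_res_inj_iff F (V i) T W).1 hi
  exact res_injective_of_cover F T.U W (fun i => V i ⊓ W) (fun i => inf_le_right)
    (cover_inf V hV W) key

theorem isZClosed_of_cover {κ : Type*} (V : κ → X.Opens) (hV : iSup V = ⊤)
    (h : ∀ i, IsZClosed ((V i).ι.base ⁻¹' Z) ((Scheme.Modules.restrictFunctor (V i).ι).obj F)) :
    IsZClosed Z F := by
  rw [isZClosed_iff_sections]
  intro T W hW
  have key : ∀ (i : κ) (W' : X.Opens), IsCompact (W' : Set X) →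
      Function.Bijective (res F T.U (V i ⊓ W')) := by
    intro i W' hW'
    have hi := (isZClosed_iff_sections _ _).1 (h i) (pullCl (V i) T) ((V i).ι ⁻¹ᵁ W')
      (isCompact_preimage_ι (V i) hW')
    exact (pull_res_bij_iff F (V i) T W').1 hi
  refine res_bijective_of_cover F T.U W (fun i => V i ⊓ W) (fun i => inf_le_right)
    (cover_inf V hV W) (fun i => key i W hW) ?_
  intro k l
  have h1 := (key k (W ⊓ (V l ⊓ W)) (isCompact_of_le_compact hW inf_le_left)).1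
  have e : V k ⊓ (W ⊓ (V l ⊓ W)) = (V k ⊓ W) ⊓ (V l ⊓ W) := (inf_assoc _ _ _).symm
  rw [e] at h1
  exact h1

end Assembly

end Local

end Groth.Agent.H95.ZClos
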