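import Groth.Agent.H71.ZClosed
import Groth.Agent.H8.Coh
import Groth.Agent.H8.FinType
import Groth.Agent.H8.QCohStalk
import Groth.Agent.H8.AssPoints
import Groth.Agent.H29.FlatCM
import Groth.Agent.H26.DepthQuot
import Groth.Agent.H95.ZClosLocal

/-!
# Bridging sections of a coherent module over an affine open with `M~` on `Spec`

* `depth_eq_of_isLocalizedModule`: depth of a localized module over any model of the localization.
* `toSec_bijective_iff`: `N → Γ(W, N~)` is bijective iff `F(V) → F(image of W)` is, for `N = Γ(F, V)`.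
* `depth_stalk_eq`: `depth F_x = depth (N_P)` for `P` the prime of `x` in the affine open `V`.
* `res_bijective_affine_of_depth`, `depth_of_res_bijective`: the two halves of the depth-two
  criterion on an affine open.
-/

set_option autoImplicit false
set_option linter.style.haveILetI false
universe u

open CategoryTheory CategoryTheory.Limits AlgebraicGeometry TopologicalSpace Opposite
open Groth.Agent.H58

namespace Groth.Agent.H95.TB

section Algebra

theorem depth_eq_of_isLocalizedModule {R : Type u} [CommRing R] (P : Ideal R) [P.IsPrime]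
    (A : Type u) [CommRing A] [IsLocalRing A] [Algebra R A] [IsLocalization.AtPrime A P]
    {M : Type u} [AddCommGroup M] [Module R M] [Module.Finite R M]
    {M' : Type u} [AddCommGroup M'] [Module R M'] [Module A M'] [IsScalarTower R A M']
    (g : M →ₗ[R] M') [IsLocalizedModule P.primeCompl g] :
    LocCoh.depth A M' =
      LocCoh.depth (Localization.AtPrime P) (LocalizedModule P.primeCompl M) := by
  let e : Localization.AtPrime P ≃ₐ[R] A :=
    IsLocalization.algEquiv P.primeCompl (Localization.AtPrime P) A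
  letI algLA : Algebra (Localization.AtPrime P) A := (e : Localization.AtPrime P →+* A).toAlgebra
  letI modL : Module (Localization.AtPrime P) M' :=
    Module.compHom M' (e : Localization.AtPrime P →+* A)
  haveI : IsScalarTower (Localization.AtPrime P) A M' :=
    IsScalarTower.of_algebraMap_smul (fun r m => rfl)
  haveI : IsScalarTower R (Localization.AtPrime P) M' :=
    IsScalarTower.of_algebraMap_smul (fun r m => by
      show (e (algebraMap R (Localization.AtPrime P) r)) • m = r • m
      rw [e.commutes, algebraMap_smul])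
  haveI : Module.Finite A M' := Module.Finite.of_isLocalizedModule P.primeCompl g
  haveI : Module.Finite (Localization.AtPrime P) M' :=
    Module.Finite.of_isLocalizedModule P.primeCompl g
  have hsurj : Function.Surjective (algebraMap (Localization.AtPrime P) A) := e.surjective
  have h1 := Groth.Agent.H29.FlatCM.depth_eq_of_surjective hsurj M'
  let ε : LocalizedModule P.primeCompl M ≃ₗ[Localization.AtPrime P] M' :=
    LinearEquiv.extendScalarsOfIsLocalization P.primeCompl (Localization.AtPrime P)
      (IsLocalizedModule.iso P.primeCompl g)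
  have h2 := Groth.Agent.H26.DepthQuot.idealDepth_congr
    (IsLocalRing.maximalIdeal (Localization.AtPrime P)) ε
  rw [h1]
  exact h2.symm

end Algebra

section Sections

open Groth.Agent.H95.ZClos

variable {X : Scheme.{u}} (F : X.Modules) (U : X.Opens)

theorem res_bijective_of_affine
    (h : ∀ V : X.Opens, IsAffineOpen V → Function.Bijective (res F U V)) (V : X.Opens) :
    Function.Bijective (res F U V) := by
  have hinj : ∀ W : X.Opens, Function.Injective (res F U W) := fun W =>
    res_injective_of_cover F U W (fun i : AffIn W => i.1) (fun i => i.2.2) (le_iSup_affIn W)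
      (fun i => (h i.1 i.2.1).1)
  exact res_bijective_of_cover F U V (fun i : AffIn V => i.1) (fun i => i.2.2) (le_iSup_affIn V)
    (fun i => h i.1 i.2.1) (fun k l => hinj _)

lemma map_bijective_of_res {A B : X.Opens} (hBA : B ≤ A) (hAU : A ⊓ U ≤ B)
    (hA : Function.Bijective (res F U A)) (hB : Function.Bijective (res F U B)) :
    Function.Bijective (F.presheaf.map (homOfLE hBA).op) := by
  have e : A ⊓ U = B ⊓ U := le_antisymm (le_inf hAU inf_le_right) (inf_le_inf_right U hBA)
  have h1 : Function.Bijective (F.presheaf.map (homOfLE (inf_le_inf_right U hBA)).op) :=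
    bij_of_eq F.presheaf _ e
  have hcomp : (res F U B) ∘ (F.presheaf.map (homOfLE hBA).op) =
      (F.presheaf.map (homOfLE (inf_le_inf_right U hBA)).op) ∘ (res F U A) := by
    funext s
    exact res_map F U hBA s
  rw [← Function.Bijective.of_comp_iff' hB, hcomp]
  exact h1.comp hA

end Sections

section Bridge

open Groth.Agent.H95.ZClos Groth.Agent.H8

variable {X : Scheme.{u}} {V : X.Opens} (hV : IsAffineOpen V) (F : X.Modules)

set_option backward.isDefEq.respectTransparency false

/-- global sections of `F|_{Spec Γ(X,V)}` as a `Γ(X,V)`-module -/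
noncomputable abbrev N0 : ModuleCat.{u} Γ(X, V) :=
  (modulesSpecToSheaf.obj (F.restrict hV.fromSpec)).presheaf.obj (op ⊤)

theorem finite_N0 (hF : Coh.IsCoh F) : Module.Finite Γ(X, V) (N0 hV F) := by
  haveI := finite_sections_of_isCoh F hF hV
  exact Module.Finite.equiv (sectionsRestrictEquiv hV F).symm

theorem toSec_bijective_iff [F.IsQuasicoherent] (W : (Spec Γ(X, V)).Opens) :
    Function.Bijective (TS.toSec (R := Γ(X, V)) (N0 hV F) W) ↔
      Function.Bijective (F.presheaf.map
        (homOfLE (hV.fromSpec.image_mono (le_top : W ≤ ⊤))).op) := by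
  haveI : (F.restrict hV.fromSpec).IsQuasicoherent :=
    Scheme.Modules.isQuasicoherent_restrictFunctor hV.fromSpec F
  have key := Scheme.Modules.toOpen_fromTildeΓ_app (F.restrict hV.fromSpec) W
  let φ := (modulesSpecToSheaf.map (F.restrict hV.fromSpec).fromTildeΓ).1.app (op W)
  have hφiso : IsIso φ := by
    haveI h00 : IsIso (F.restrict hV.fromSpec).fromTildeΓ :=
      Scheme.Modules.isIso_fromTildeΓ_of_isQuasicoherent _
    haveI h0 : IsIso (modulesSpecToSheaf.map (F.restrict hV.fromSpec).fromTildeΓ) :=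
      Functor.map_isIso _ _
    haveI h1 : IsIso ((TopCat.Sheaf.forget _ _).map
        (modulesSpecToSheaf.map (F.restrict hV.fromSpec).fromTildeΓ)) := Functor.map_isIso _ _
    exact NatIso.isIso_app_of_isIso ((TopCat.Sheaf.forget _ _).map
        (modulesSpecToSheaf.map (F.restrict hV.fromSpec).fromTildeΓ)) (op W)
  have hφ : Function.Bijective φ := ConcreteCategory.bijective_of_isIso φ
  have hcomp : ∀ m, φ (TS.toSec (R := Γ(X, V)) (N0 hV F) W m) =
      (F.restrict hV.fromSpec).presheaf.map (homOfLE (le_top : W ≤ ⊤)).op m := by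
    intro m
    exact congrArg (fun ψ => ψ.hom m) key
  have hfun : (fun m => φ (TS.toSec (R := Γ(X, V)) (N0 hV F) W m)) =
      fun m => (F.restrict hV.fromSpec).presheaf.map (homOfLE (le_top : W ≤ ⊤)).op m :=
    funext hcomp
  constructor
  · intro h
    have h2 : Function.Bijective
        (fun m => φ (TS.toSec (R := Γ(X, V)) (N0 hV F) W m)) := hφ.comp h
    rw [hfun] at h2
    exact h2
  · intro h
    have h2 : Function.Bijective
        (fun m => φ (TS.toSec (R := Γ(X, V)) (N0 hV F) W m)) := by
      rw [hfun]; exact h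
    exact (Function.Bijective.of_comp_iff' hφ _).1 h2

theorem depth_stalk_eq (hF : Coh.IsCoh F) (x : X) (hxV : x ∈ V) :
    LocCoh.depth (X.presheaf.stalk x) (F.presheaf.stalk x) =
      LocCoh.depth (Localization.AtPrime (hV.primeIdealOf ⟨x, hxV⟩).asIdeal)
        (LocalizedModule (hV.primeIdealOf ⟨x, hxV⟩).asIdeal.primeCompl (N0 hV F)) := by
  haveI : F.IsQuasicoherent := hF.1
  letI := X.presheaf.algebra_section_stalk ⟨x, hxV⟩
  haveI := hV.isLocalization_stalk ⟨x, hxV⟩
  letI := moduleSectionStalk F x hxV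
  haveI := isScalarTower_sectionStalk F x hxV
  haveI := isLocalizedModule_germₗ F hV x hxV
  haveI : Module.Finite Γ(X, V) (N0 hV F) := finite_N0 hV F hF
  haveI : IsLocalizedModule (hV.primeIdealOf ⟨x, hxV⟩).asIdeal.primeCompl
      ((germₗ F x hxV) ∘ₗ (sectionsRestrictEquiv hV F).toLinearMap) :=
    IsLocalizedModule.of_linearEquiv_right _ _ _
  exact depth_eq_of_isLocalizedModule (hV.primeIdealOf ⟨x, hxV⟩).asIdeal (X.presheaf.stalk x)
    ((germₗ F x hxV) ∘ₗ (sectionsRestrictEquiv hV F).toLinearMap)

lemma image_preimage_fromSpec (U : X.Opens) :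
    hV.fromSpec ''ᵁ (hV.fromSpec ⁻¹ᵁ U) = V ⊓ U := by
  rw [Scheme.Hom.image_preimage_eq_opensRange_inf, hV.opensRange_fromSpec]

variable [IsLocallyNoetherian X]

include hV in
theorem res_bijective_affine_of_depth (hF : Coh.IsCoh F) (U : X.Opens)
    (h : ∀ x : X, x ∈ V → x ∉ U →
      (2 : ℕ∞) ≤ LocCoh.depth (X.presheaf.stalk x) (F.presheaf.stalk x)) :
    Function.Bijective (res F U V) := by
  haveI : F.IsQuasicoherent := hF.1
  haveI : IsNoetherianRing Γ(X, V) := IsLocallyNoetherian.component_noetherian ⟨V, hV⟩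
  haveI : Module.Finite Γ(X, V) (N0 hV F) := finite_N0 hV F hF
  let W : (Spec Γ(X, V)).Opens := hV.fromSpec ⁻¹ᵁ U
  let Zc : Set (PrimeSpectrum Γ(X, V)) := (W : Set (Spec Γ(X, V)))ᶜ
  have hZc_closed : IsClosed Zc := W.isOpen.isClosed_compl
  have hZc : StableUnderSpecialization Zc := hZc_closed.stableUnderSpecialization
  let J : Ideal Γ(X, V) := PrimeSpectrum.vanishingIdeal Zc
  have hJ : PrimeSpectrum.zeroLocus (J : Set Γ(X, V)) = Zc := by
    rw [PrimeSpectrum.zeroLocus_vanishingIdeal_eq_closure, hZc_closed.closure_eq]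
  have hcl : EGA4.IsClosedAlong Zc (N0 hV F) := by
    refine (Groth.Agent.H71.ZC.isClosedAlong_iff_depth (N0 hV F) Zc hZc).2 ?_
    intro p hp
    have hxV : hV.fromSpec p ∈ V := by
      have : hV.fromSpec p ∈ Set.range hV.fromSpec := ⟨_, rfl⟩
      rw [hV.range_fromSpec] at this
      exact this
    have hxU : hV.fromSpec p ∉ U := fun hU' => hp hU'
    have hp' : hV.primeIdealOf ⟨hV.fromSpec p, hxV⟩ = p :=
      hV.fromSpec.isOpenEmbedding.injective (hV.fromSpec_primeIdealOf ⟨hV.fromSpec p, hxV⟩)
    have h2 := h _ hxV hxU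
    rw [depth_stalk_eq hV F hF _ hxV, hp'] at h2
    exact h2
  have hb := hcl J hJ.subset
  rw [Groth.Agent.H71.ZC.restrCompl_bijective_iff] at hb
  have hW : LocCoh.puncturedOpen Γ(X, V) J = W := by
    apply Opens.ext
    show (PrimeSpectrum.zeroLocus (J : Set Γ(X, V)))ᶜ = (W : Set (Spec Γ(X, V)))
    rw [hJ]
    exact compl_compl _
  rw [hW] at hb
  have hb2 := (toSec_bijective_iff hV F W).1 hb
  exact (bij_congr₂ F.presheaf (fromSpec_image_top_eq hV) (image_preimage_fromSpec hV U) _ _).1 hb2

include hV in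
theorem depth_of_res_bijective (hF : Coh.IsCoh F) (U : X.Opens)
    (h : ∀ V' : X.Opens, V' ≤ V → Function.Bijective (res F U V'))
    (x : X) (hxV : x ∈ V) (hxU : x ∉ U) :
    (2 : ℕ∞) ≤ LocCoh.depth (X.presheaf.stalk x) (F.presheaf.stalk x) := by
  haveI : F.IsQuasicoherent := hF.1
  haveI : IsNoetherianRing Γ(X, V) := IsLocallyNoetherian.component_noetherian ⟨V, hV⟩
  haveI : Module.Finite Γ(X, V) (N0 hV F) := finite_N0 hV F hF
  let W : (Spec Γ(X, V)).Opens := hV.fromSpec ⁻¹ᵁ U
  let Zc : Set (PrimeSpectrum Γ(X, V)) := (W : Set (Spec Γ(X, V)))ᶜ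
  have hZc_closed : IsClosed Zc := W.isOpen.isClosed_compl
  have hZc : StableUnderSpecialization Zc := hZc_closed.stableUnderSpecialization
  have hcl : EGA4.IsClosedAlong Zc (N0 hV F) := by
    intro J' hJ'
    rw [Groth.Agent.H71.ZC.restrCompl_bijective_iff]
    refine (toSec_bijective_iff hV F (LocCoh.puncturedOpen Γ(X, V) J')).2 ?_
    have hWD : W ≤ LocCoh.puncturedOpen Γ(X, V) J' := by
      intro p hp hpJ
      exact hJ' hpJ hp
    refine map_bijective_of_res F U _ ?_ (h _ (fromSpec_image_le hV ⊤))
      (h _ (fromSpec_image_le hV _))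
    rw [fromSpec_image_top_eq hV, ← image_preimage_fromSpec hV U]
    exact hV.fromSpec.image_mono hWD
  have hmem : hV.primeIdealOf ⟨x, hxV⟩ ∈ Zc := by
    intro hW'
    apply hxU
    have : hV.fromSpec (hV.primeIdealOf ⟨x, hxV⟩) ∈ U := hW'
    rwa [hV.fromSpec_primeIdealOf ⟨x, hxV⟩] at this
  have h2 := (Groth.Agent.H71.ZC.isClosedAlong_iff_depth (N0 hV F) Zc hZc).1 hcl
    (hV.primeIdealOf ⟨x, hxV⟩) hmem
  rw [depth_stalk_eq hV F hF x hxV]
  exact h2

end Bridge

end Groth.Agent.H95.TB
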