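import Groth.Agent.H95.ZClosSec

set_option autoImplicit false
universe u

open CategoryTheory CategoryTheory.Limits AlgebraicGeometry TopologicalSpace Opposite

namespace Groth.Agent.H95.ZClos

open _root_.ZClos

set_option backward.isDefEq.respectTransparency false

section CL

variable {X : Scheme.{u}}

theorem closure_subset_of_stable {Z : Set X} (hZ : StableUnderSpecialization Z)
    (V : X.Opens) [NoetherianSpace ((V : Set X) : Type u)] (S : Set X) (hSV : S ⊆ (V : Set X))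
    (hSZ : S ⊆ Z)
    (hS : IsClosed ((Subtype.val : ↥(V : Set X) → X) ⁻¹' S)) : closure S ⊆ Z := by
  obtain ⟨𝒮, hfin, hcl, hirr, hU⟩ := NoetherianSpace.exists_finite_set_isClosed_irreducible hS
  have hmem : ∀ t ∈ 𝒮, ∀ z ∈ t, (z : X) ∈ S := by
    intro t ht z hz
    have : z ∈ ⋃₀ 𝒮 := Set.mem_sUnion.2 ⟨t, ht, hz⟩
    rw [← hU] at this
    exact this
  have hS_eq : S = ⋃ t ∈ 𝒮, (Subtype.val : ↥(V : Set X) → X) '' t := by
    ext y
    constructor
    · intro hy
      have : (⟨y, hSV hy⟩ : (V : Set X)) ∈ (Subtype.val : ↥(V : Set X) → X) ⁻¹' S := hy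
      rw [hU] at this
      obtain ⟨t, ht, hyt⟩ := Set.mem_sUnion.1 this
      exact Set.mem_biUnion ht ⟨_, hyt, rfl⟩
    · intro hy
      obtain ⟨t, ht, z, hz, rfl⟩ := Set.mem_iUnion₂.1 hy
      exact hmem t ht z hz
  intro x hx
  rw [hS_eq, hfin.closure_biUnion] at hx
  obtain ⟨t, ht, hxt⟩ := Set.mem_iUnion₂.1 hx
  have hirr_t : IsIrreducible ((Subtype.val : ↥(V : Set X) → X) '' t) :=
    (hirr t ht).image _ continuous_subtype_val.continuousOn
  obtain ⟨η, hη⟩ := QuasiSober.sober hirr_t.closure isClosed_closure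
  obtain ⟨y, hy⟩ := hirr_t.nonempty
  have hyV : y ∈ (V : Set X) := by
    obtain ⟨z, -, rfl⟩ := hy; exact z.2
  have hηV : η ∈ (V : Set X) := (hη.mem_open_set_iff V.isOpen).2 ⟨y, subset_closure hy, hyV⟩
  have hηt : (⟨η, hηV⟩ : (V : Set X)) ∈ t := by
    rw [← (hcl t ht).closure_eq,
      Topology.IsEmbedding.subtypeVal.closure_eq_preimage_closure_image]
    exact hη.mem
  exact hZ (hη.specializes hxt) (hSZ (hmem t ht _ hηt))

theorem noetherianSpace_of_isCompact [IsLocallyNoetherian X] {V : X.Opens}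
    (hV : IsCompact (V : Set X)) : NoetherianSpace ((V : Set X) : Type u) := by
  haveI : CompactSpace V := isCompact_iff_compactSpace.mp hV
  haveI : IsNoetherian (V : Scheme) := { }
  exact (inferInstance : NoetherianSpace (V : Scheme))

theorem kill [IsLocallyNoetherian X] {Z : Set X} (hZ : StableUnderSpecialization Z)
    (F : X.Modules) (O : X.Opens) (hO : IsCompact (O : Set X)) (t : F.presheaf.obj (op O))
    (ht : ∀ y (hy : y ∈ O), y ∉ Z → F.presheaf.germ O y hy t = 0) :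
    ∃ T : Cl Z, F.presheaf.map (homOfLE (inf_le_right : T.U ⊓ O ≤ O)).op t = 0 := by
  let S : Set X := {y | ∃ hy : y ∈ O, F.presheaf.germ O y hy t ≠ 0}
  have hSO : S ⊆ (O : Set X) := fun y hy => hy.1
  have hSZ : S ⊆ Z := fun y hy => by
    by_contra hn
    exact hy.2 (ht y hy.1 hn)
  have hScl : IsClosed ((Subtype.val : ↥(O : Set X) → X) ⁻¹' S) := by
    rw [← isOpen_compl_iff, isOpen_iff_forall_mem_open]
    intro y hy
    have h0 : F.presheaf.germ O y.1 y.2 t = 0 := by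
      by_contra h; exact hy ⟨y.2, h⟩
    obtain ⟨W, hyW, iU, iV, hW⟩ :=
      F.presheaf.germ_eq y.1 y.2 y.2 t 0 (h0.trans (map_zero _).symm)
    refine ⟨Subtype.val ⁻¹' (W : Set X), ?_, W.isOpen.preimage continuous_subtype_val, hyW⟩
    rintro z hzW ⟨hz, hne⟩
    apply hne
    rw [← F.presheaf.germ_res_apply iU z.1 hzW t, hW, map_zero, map_zero]
  haveI : NoetherianSpace ((O : Set X) : Type u) := noetherianSpace_of_isCompact hO
  have hT : closure S ⊆ Z := closure_subset_of_stable hZ O S hSO hSZ hScl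
  refine ⟨⟨⟨closure S, isClosed_closure⟩, hT⟩, ?_⟩
  refine TopCat.Presheaf.section_ext ⟨F.presheaf, F.isSheaf⟩ _ _ _ ?_
  intro y hy
  rw [map_zero]
  refine (F.presheaf.germ_res_apply (homOfLE inf_le_right) y hy t).trans ?_
  by_contra h
  exact hy.1 (subset_closure ⟨hy.2, h⟩)

end CL

section Stalk

variable {X : Scheme.{u}}

lemma exists_affine_germ (M : X.Modules) (x : X) (a : M.presheaf.stalk x) :
    ∃ (V : X.Opens) (_ : IsAffineOpen V) (hx : x ∈ V) (m : M.presheaf.obj (op V)),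
      M.presheaf.germ V x hx m = a := by
  obtain ⟨U, hxU, s, rfl⟩ := M.presheaf.exists_germ_eq a
  obtain ⟨W, hW, hxW, hWU⟩ := exists_isAffineOpen_mem_and_subset (x := x) (U := U) hxU
  exact ⟨W, hW, hxW, M.presheaf.map (homOfLE hWU).op s,
    M.presheaf.germ_res_apply (homOfLE hWU) x hxW s⟩

variable (Z : Set X) (F : X.Modules)

lemma rho_app_eq (T : Cl Z) (V : X.Opens) (m : F.presheaf.obj (op V)) :
    (rhoApp Z F).app V m = ((cc Z F).ι.app T).app V ((toDiagram Z F T).app V m) := by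
  rw [rhoApp_eq Z F T, Scheme.Modules.Hom.comp_app, ConcreteCategory.comp_apply]
  rfl

lemma dg_map_toDiagram {T T' : Cl Z} (h : T ≤ T') (V : X.Opens) (m : F.presheaf.obj (op V)) :
    ((Dg Z F).map (homOfLE h)).app V ((toDiagram Z F T).app V m) = (toDiagram Z F T').app V m := by
  rw [← toDiagram_map Z F (homOfLE h), Scheme.Modules.Hom.comp_app, ConcreteCategory.comp_apply]

lemma mem_VT {T : Cl Z} {V : X.Opens} {x : X} (hxV : x ∈ V) (hx : x ∉ Z) :
    x ∈ T.U.ι ''ᵁ T.U.ι ⁻¹ᵁ V := by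
  rw [ι_image_preimage]
  exact ⟨fun h => hx (T.2 h), hxV⟩

variable [IsLocallyNoetherian X]

theorem isZClosedAt_of_not_mem (x : X) (hx : x ∉ Z) : IsZClosedAt Z F x := by
  have hcol := colimit.isColimit (Dg Z F)
  constructor
  · show Function.Injective (rhoStalk Z F x)
    rw [injective_iff_map_eq_zero]
    intro a ha
    obtain ⟨V, hVaff, hxV, m, rfl⟩ := exists_affine_germ F x a
    have h1 : ((H0 Z).obj F).presheaf.germ V x hxV ((rhoApp Z F).app V m) = 0 := by
      rw [← ha]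
      exact (TopCat.Presheaf.stalkFunctor_map_germ_apply V x hxV (rhoApp Z F).mapPresheaf m).symm
    obtain ⟨W, hxW, iU, iV, hW⟩ := ((H0 Z).obj F).presheaf.germ_eq x hxV hxV _ 0
      (h1.trans (map_zero _).symm)
    obtain ⟨W', hW'aff, hxW', hW'W0⟩ := exists_isAffineOpen_mem_and_subset (x := x) (U := W) hxW
    have hW'W : W' ≤ W := hW'W0
    have hW'V : W' ≤ V := le_trans hW'W iU.le
    have h2 : (rhoApp Z F).app W' (F.presheaf.map (homOfLE hW'V).op m) = 0 := by
      rw [app_res]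
      have := congrArg (fun z => ((H0 Z).obj F).presheaf.map (homOfLE hW'W).op z) hW
      simp only [map_zero] at this
      rw [show iU = homOfLE iU.le from Subsingleton.elim _ _, map_map_apply] at this
      exact this
    rw [rho_app_eq Z F ⊥] at h2
    obtain ⟨T, hT, h3⟩ := sec_inj (Dg Z F) (cc Z F) hcol ⊥ W' hW'aff.isCompact _ h2
    rw [dg_map_toDiagram] at h3
    have hxT : x ∈ T.U.ι ''ᵁ T.U.ι ⁻¹ᵁ W' := mem_VT Z hxW' hx
    have h4 : F.presheaf.map (homOfLE (T.U.ι.image_preimage_le W')).op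
        (F.presheaf.map (homOfLE hW'V).op m) = 0 := h3
    rw [map_map_apply] at h4
    rw [← F.presheaf.germ_res_apply (homOfLE ((T.U.ι.image_preimage_le W').trans hW'V)) x hxT m,
      h4, map_zero]
  · show Function.Surjective (rhoStalk Z F x)
    intro b
    obtain ⟨V, hVaff, hxV, s, rfl⟩ := exists_affine_germ ((H0 Z).obj F) x b
    obtain ⟨T, t, rfl⟩ := sec_surj (Dg Z F) (cc Z F) hcol V hVaff.isCompact s
    have hxT : x ∈ T.U.ι ''ᵁ T.U.ι ⁻¹ᵁ V := mem_VT Z hxV hx
    refine ⟨F.presheaf.germ _ x hxT t, ?_⟩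
    have e1 := TopCat.Presheaf.stalkFunctor_map_germ_apply (T.U.ι ''ᵁ T.U.ι ⁻¹ᵁ V) x hxT
      (rhoApp Z F).mapPresheaf t
    refine e1.trans ?_
    have e2 : (rhoApp Z F).app (T.U.ι ''ᵁ T.U.ι ⁻¹ᵁ V) t =
        ((H0 Z).obj F).presheaf.map (homOfLE (T.U.ι.image_preimage_le V)).op
          (((cc Z F).ι.app T).app V t) := by
      rw [rho_app_eq Z F T]
      refine Eq.trans ?_ (ι_app_res (Dg Z F) (cc Z F) T (T.U.ι.image_preimage_le V) t)
      congr 1
    show ((H0 Z).obj F).presheaf.germ _ x hxT ((rhoApp Z F).app _ t) = _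
    rw [e2]
    exact ((H0 Z).obj F).presheaf.germ_res_apply (homOfLE (T.U.ι.image_preimage_le V)) x hxT _

theorem isZero_H0_of_support (hZ : StableUnderSpecialization Z)
    (hsupp : ∀ x : X, x ∉ Z → Subsingleton (F.presheaf.stalk x)) : IsZero ((H0 Z).obj F) := by
  rw [IsZero.iff_id_eq_zero]
  show (𝟙 (colimit (Dg Z F)) : colimit (Dg Z F) ⟶ colimit (Dg Z F)) = 0
  apply colimit.hom_ext
  intro T
  rw [Category.comp_id, comp_zero]
  apply Scheme.Modules.hom_ext
  intro V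
  ext t
  show ((cc Z F).ι.app T).app V t = 0
  refine TopCat.Sheaf.eq_of_locally_eq' ⟨(cc Z F).pt.presheaf, (cc Z F).pt.isSheaf⟩
    (fun i : AffIn V => i.1) V (fun i => homOfLE i.2.2) (le_iSup_affIn V) _ _ ?_
  intro i
  show (cc Z F).pt.presheaf.map (homOfLE i.2.2).op (((cc Z F).ι.app T).app V t) =
    (cc Z F).pt.presheaf.map (homOfLE i.2.2).op 0
  rw [map_zero, ← ι_app_res]
  -- now an element of `D_T(W)` with `W` affine
  obtain ⟨t', ht'⟩ : ∃ t' : F.presheaf.obj (op (T.U.ι ''ᵁ T.U.ι ⁻¹ᵁ i.1)),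
      t' = ((Dg Z F).obj T).presheaf.map (homOfLE i.2.2).op t := ⟨_, rfl⟩
  rw [← ht']
  have hO : IsCompact ((T.U.ι ''ᵁ T.U.ι ⁻¹ᵁ i.1 : X.Opens) : Set X) :=
    isCompact_of_le_affine i.2.1 (T.U.ι.image_preimage_le i.1)
  obtain ⟨T', hT'⟩ := kill hZ F _ hO t' (fun y hy hyZ => by
    haveI := hsupp y hyZ
    exact Subsingleton.elim _ _)
  have hle : T ≤ T ⊔ T' := le_sup_left
  have h1 : ((Dg Z F).map (homOfLE hle)).app i.1 t' = 0 := by
    have e := resPushMapApp_app (Cl.U_anti hle) F i.1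
    show (ConcreteCategory.hom ((resPushMapApp (Cl.U_anti hle) F).app i.1)) t' = 0
    rw [e]
    have hle2 : (T ⊔ T').U.ι ''ᵁ (T ⊔ T').U.ι ⁻¹ᵁ i.1 ≤ T'.U ⊓ (T.U.ι ''ᵁ T.U.ι ⁻¹ᵁ i.1) := by
      rw [ι_image_preimage, ι_image_preimage]
      exact le_inf (inf_le_left.trans (Cl.U_anti le_sup_right))
        (inf_le_inf_right _ (Cl.U_anti le_sup_left))
    have := congrArg (fun z => F.presheaf.map (homOfLE hle2).op z) hT'
    simp only [map_zero] at this
    rw [map_map_apply] at this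
    exact this
  rw [← cocone_w_apply (Dg Z F) (cc Z F) hle i.1 t', h1, map_zero]

theorem isZero_H0_iff (hZ : StableUnderSpecialization Z) :
    IsZero ((H0 Z).obj F) ↔ ∀ x : X, x ∉ Z → Subsingleton (F.presheaf.stalk x) := by
  refine ⟨fun h x hx => ?_, isZero_H0_of_support Z F hZ⟩
  have hbij := isZClosedAt_of_not_mem Z F x hx
  have hsub : Subsingleton (((H0 Z).obj F).presheaf.stalk x) := by
    refine ⟨fun a b => ?_⟩
    obtain ⟨U, hxU, s, rfl⟩ := ((H0 Z).obj F).presheaf.exists_germ_eq a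
    obtain ⟨U', hxU', s', rfl⟩ := ((H0 Z).obj F).presheaf.exists_germ_eq b
    have hz : ∀ (W : X.Opens) (r : ((H0 Z).obj F).presheaf.obj (op W)), r = 0 := by
      intro W r
      have h1 : (𝟙 ((H0 Z).obj F) : (H0 Z).obj F ⟶ (H0 Z).obj F) = 0 := h.eq_of_src _ _
      have h2 := congrArg (fun f => (Scheme.Modules.Hom.app f W) r) h1
      exact h2
    rw [hz U s, hz U' s', map_zero, map_zero]
  exact hbij.1.subsingleton

end Stalk

end Groth.Agent.H95.ZClos
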