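import Mathlib
import Groth.Prelude.Def_Rees
import Groth.Prelude.Def_BlowUp2
import Groth.Prelude.Def_ega3
set_option autoImplicit false
universe u
open CategoryTheory AlgebraicGeometry

namespace Groth.Agent.H95.ReesProj

variable (A : Type u) [CommRing A] (I : Ideal A)

/-- the degree one element `a X` of the Rees algebra, for `a ∈ I` -/
noncomputable def gen (a : A) (ha : a ∈ I) : reesAlgebra I :=
  ⟨Polynomial.monomial 1 a, reesAlgebra.monomial_mem.mpr (by simpa using ha)⟩

theorem gen_mem (a : A) (ha : a ∈ I) : gen A I a ha ∈ Rees.deg (reesAlgebra I) 1 := by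
  intro m hm
  change (Polynomial.monomial 1 a).coeff m = 0
  rw [Polynomial.coeff_monomial]
  exact if_neg fun h => hm h.symm

/-- the structure ring map `A → (R(I)_{aX})_0` (through the degree zero part of the Rees algebra) -/
noncomputable def toAway (a : A) (ha : a ∈ I) :
    A →+* HomogeneousLocalization.Away (Rees.deg (reesAlgebra I)) (gen A I a ha) :=
  (algebraMap (Rees.deg (reesAlgebra I) 0)
    (HomogeneousLocalization.Away (Rees.deg (reesAlgebra I)) (gen A I a ha))).comp
    (algebraMap A (Rees.deg (reesAlgebra I) 0))

end Groth.Agent.H95.ReesProj
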