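import Groth.Agent.H95.SecOrd
import Groth.Agent.S16092
import Groth.Agent.H18.TensorGen

/-!
# First Chern class operations on cycles: independence of the rational sections

* `ordAt_one`, `ordAt_inv`, `ordAt_zpow`, `divFun_zpow`.
* `ratEquivZero_of_forall_eq_divFun`: a cycle of the form `Σ_ξ α(ξ) · div(g_ξ)` is rationally
  equivalent to zero.
* `exists_unit_smul_eq`, `secOrdAt_smul`: comparison of rational sections of an invertible module.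
* `ratEquiv_c1Cap_of_sections`: `c_1(L) ∩ α` does not depend on the rational sections.
* `secOrdAt_tensor`: additivity of orders for tensor products at an arbitrary point.
-/

set_option autoImplicit false
set_option linter.style.haveILetI false

universe u

open CategoryTheory AlgebraicGeometry TopologicalSpace Opposite

namespace Groth.Agent.H95.C1Cap

open Groth.Agent.H18.TensorGen (IsGen exists_isGen exists_isGen_pair isGen_tm isInvertible_tensorMod)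
open Groth.Agent.H18.SecTw (tm tm_res tm_smul_left tm_smul_right)
open Groth.Agent.H95.AssGen (GenAt genAt_of_isGen germ_eq_smul_germ isUnit_germ_of_genAt)
open Groth.Agent.H95.SecOrd
open Groth.Agent.S16092 (secOrdAt_rebase)

variable {X : Scheme.{u}}

section OrdAt

theorem ordAt_one {x ξ : X} (h : ξ ⤳ x) : Cyc.ordAt x ξ h 1 = 0 := by
  have h1 := ordAt_mul h (one_ne_zero : (1 : X.residueField ξ) ≠ 0) one_ne_zero
  rw [mul_one] at h1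
  omega

theorem ordAt_inv {x ξ : X} (h : ξ ⤳ x) {f : X.residueField ξ} (hf : f ≠ 0) :
    Cyc.ordAt x ξ h f⁻¹ = - Cyc.ordAt x ξ h f := by
  have h1 := ordAt_mul h hf (inv_ne_zero hf)
  rw [mul_inv_cancel₀ hf, ordAt_one] at h1
  omega

theorem ordAt_zpow {x ξ : X} (h : ξ ⤳ x) {f : X.residueField ξ} (hf : f ≠ 0) (n : ℤ) :
    Cyc.ordAt x ξ h (f ^ n) = n * Cyc.ordAt x ξ h f := by
  induction n using Int.induction_on with
  | zero => rw [zpow_zero, ordAt_one, zero_mul]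
  | succ n ih =>
    rw [zpow_add_one₀ hf, ordAt_mul h (zpow_ne_zero _ hf) hf, ih]
    ring
  | pred n ih =>
    rw [zpow_sub_one₀ hf, ordAt_mul h (zpow_ne_zero _ hf) (inv_ne_zero hf), ih, ordAt_inv h hf]
    ring

theorem divFun_zpow (δ : X → ℤ) (ξ : X) {f : X.residueField ξ} (hf : f ≠ 0) (n : ℤ) (x : X) :
    Cyc.divFun δ ξ (f ^ n) x = n * Cyc.divFun δ ξ f x := by
  unfold Cyc.divFun
  split_ifs with h
  · exact ordAt_zpow h.1 hf n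
  · rw [mul_zero]

theorem divFun_eq_zero (δ : X → ℤ) (ξ : X) (f : X.residueField ξ) (x : X) (h : ¬ ξ ⤳ x) :
    Cyc.divFun δ ξ f x = 0 := by
  unfold Cyc.divFun
  rw [dif_neg (fun h' => h h'.1)]

theorem secDivFun_eq_zero (δ : X → ℤ) (L : X.Modules) (ξ : X) (s : Cyc.secFibre L ξ) (x : X)
    (h : ¬ ξ ⤳ x) : Cyc.secDivFun δ L ξ s x = 0 := by
  unfold Cyc.secDivFun
  rw [dif_neg (fun h' => h h'.1)]

end OrdAt

section Finsum

theorem finite_support_mul (α : AlgebraicCycle X ℤ) (x : X) (d : X → ℤ)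
    (hd : ∀ ξ, ¬ ξ ⤳ x → d ξ = 0) : (Function.support fun ξ => α ξ * d ξ).Finite := by
  obtain ⟨t, ht, hfin⟩ := α.supportLocallyFiniteWithinDomain x (Set.mem_univ x)
  obtain ⟨U, hUt, hUo, hxU⟩ := mem_nhds_iff.mp ht
  refine hfin.subset (fun ξ hξ => ?_)
  have hξ' : α ξ * d ξ ≠ 0 := hξ
  have h1 : α ξ ≠ 0 := left_ne_zero_of_mul hξ'
  have h2 : d ξ ≠ 0 := right_ne_zero_of_mul hξ'
  have h3 : ξ ⤳ x := by
    by_contra hn
    exact h2 (hd ξ hn)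
  exact ⟨hUt (h3.mem_open hUo hxU), h1⟩

theorem finsum_c1_sub (α : AlgebraicCycle X ℤ) (x : X) (d₁ d₂ : X → ℤ)
    (h₁ : ∀ ξ, ¬ ξ ⤳ x → d₁ ξ = 0) (h₂ : ∀ ξ, ¬ ξ ⤳ x → d₂ ξ = 0) :
    (∑ᶠ ξ, α ξ * d₁ ξ) - (∑ᶠ ξ, α ξ * d₂ ξ) = ∑ᶠ ξ, α ξ * (d₁ ξ - d₂ ξ) := by
  have e : ∀ ξ, α ξ * (d₁ ξ - d₂ ξ) = α ξ * d₁ ξ - α ξ * d₂ ξ := fun ξ => by ring
  rw [finsum_congr e, finsum_sub_distrib (finite_support_mul α x d₁ h₁)
    (finite_support_mul α x d₂ h₂)]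

theorem finsum_c1_add_sub (α : AlgebraicCycle X ℤ) (x : X) (d₁ d₂ d₃ : X → ℤ)
    (h₁ : ∀ ξ, ¬ ξ ⤳ x → d₁ ξ = 0) (h₂ : ∀ ξ, ¬ ξ ⤳ x → d₂ ξ = 0)
    (h₃ : ∀ ξ, ¬ ξ ⤳ x → d₃ ξ = 0) :
    (∑ᶠ ξ, α ξ * d₁ ξ) + (∑ᶠ ξ, α ξ * d₂ ξ) - (∑ᶠ ξ, α ξ * d₃ ξ) =
      ∑ᶠ ξ, α ξ * (d₁ ξ + d₂ ξ - d₃ ξ) := by
  have h₁₂ : ∀ ξ, ¬ ξ ⤳ x → d₁ ξ + d₂ ξ = 0 := fun ξ hn => by rw [h₁ ξ hn, h₂ ξ hn, add_zero]
  have e : ∀ ξ, α ξ * (d₁ ξ + d₂ ξ) = α ξ * d₁ ξ + α ξ * d₂ ξ := fun ξ => by ring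
  rw [← finsum_c1_sub α x (fun ξ => d₁ ξ + d₂ ξ) d₃ h₁₂ h₃, finsum_congr e,
    finsum_add_distrib (finite_support_mul α x d₁ h₁) (finite_support_mul α x d₂ h₂)]

/-- A cycle of the form `Σ_ξ α(ξ) · div(g_ξ)`, `α` a `(k+1)`-cycle, is rationally equivalent to
zero. -/
theorem ratEquivZero_of_forall_eq_divFun (δ : X → ℤ) (k : ℤ) (α : AlgebraicCycle X ℤ)
    (hα : α ∈ Cyc.Zk X δ (k + 1)) (g : (ξ : X) → X.residueField ξ) (hg : ∀ ξ, g ξ ≠ 0)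
    (γ : AlgebraicCycle X ℤ) (hγ : ∀ x, γ x = ∑ᶠ ξ : X, α ξ * Cyc.divFun δ ξ (g ξ) x) :
    Cyc.RatEquivZero δ k γ := by
  refine ⟨{ξ : X // α ξ ≠ 0}, fun i => i.1, fun i => (g i.1) ^ (α i.1), ?_, ?_, ?_, ?_⟩
  · intro i
    by_contra hne
    exact i.2 (hα i.1 hne)
  · intro i
    exact zpow_ne_zero _ (hg i.1)
  · intro x
    obtain ⟨t, ht, hfin⟩ := α.supportLocallyFiniteWithinDomain x (Set.mem_univ x)
    obtain ⟨U, hUt, hUo, hxU⟩ := mem_nhds_iff.mp ht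
    refine ⟨U, hUo, hxU, ?_⟩
    refine Set.Finite.subset (hfin.preimage (Subtype.val_injective.injOn)) ?_
    rintro i ⟨y, hy, hyU⟩
    have hiU : i.1 ∈ U := (specializes_iff_mem_closure.mpr hy).mem_open hUo hyU
    exact ⟨hUt hiU, i.2⟩
  · intro x
    rw [hγ x]
    have e : ∀ ξ, α ξ * Cyc.divFun δ ξ (g ξ) x = Cyc.divFun δ ξ ((g ξ) ^ (α ξ)) x :=
      fun ξ => (divFun_zpow δ ξ (hg ξ) (α ξ) x).symm
    rw [finsum_congr e]
    symm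
    show (∑ᶠ i : {ξ : X // α ξ ≠ 0}, Cyc.divFun δ i.1 ((g i.1) ^ (α i.1)) x) = _
    rw [finsum_subtype_eq_finsum_cond (f := fun ξ => Cyc.divFun δ ξ ((g ξ) ^ (α ξ)) x)
      (fun ξ => α ξ ≠ 0)]
    refine finsum_congr (fun ξ => ?_)
    classical
    rw [finsum_eq_if]
    split_ifs with hξ
    · rfl
    · rw [not_not] at hξ
      rw [← e ξ, hξ, zero_mul]

end Finsum

section Sections

/-- Two nonzero rational sections of an invertible module differ by a unit. -/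
theorem exists_unit_smul_eq {L : X.Modules} (hL : PicF.IsInvertible L) (ξ : X)
    (s₁ s₂ : Cyc.secFibre L ξ) (h₁ : s₁ ≠ 0) (h₂ : s₂ ≠ 0) :
    ∃ ψ : X.presheaf.stalk ξ, IsUnit ψ ∧ s₁ = ψ • s₂ := by
  obtain ⟨V, τ, hξV, hτ⟩ := exists_isGen hL ξ
  obtain ⟨φ₁, hφ₁⟩ := exists_eq_smul_mk hτ ξ hξV s₁
  obtain ⟨φ₂, hφ₂⟩ := exists_eq_smul_mk hτ ξ hξV s₂
  have hu₁ : IsUnit φ₁ := isUnit_of_mk_ne_zero ξ hξV s₁ h₁ φ₁ hφ₁
  have hu₂ : IsUnit φ₂ := isUnit_of_mk_ne_zero ξ hξV s₂ h₂ φ₂ hφ₂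
  refine ⟨φ₁ * ↑hu₂.unit⁻¹, hu₁.mul (Units.isUnit _), ?_⟩
  rw [hφ₂, ← mul_smul, mul_assoc, IsUnit.val_inv_mul, mul_one]
  exact hφ₁

/-- Multiplying a nonzero rational section by a unit `ψ` adds the order of `ψ`. -/
theorem secOrdAt_smul {L : X.Modules} (hL : PicF.IsInvertible L) {ξ x : X} (h : ξ ⤳ x)
    (s : Cyc.secFibre L ξ) (hs : s ≠ 0) (ψ : X.presheaf.stalk ξ) (hψ : IsUnit ψ) :
    Cyc.secOrdAt L ξ x h (ψ • s) =
      Cyc.ordAt x ξ h (X.residue ξ ψ) + Cyc.secOrdAt L ξ x h s := by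
  obtain ⟨V, τ, hxV, hτ⟩ := exists_isGen hL x
  have hξV : ξ ∈ V := h.mem_open V.2 hxV
  obtain ⟨φ, hφ⟩ := exists_eq_smul_mk hτ ξ hξV s
  have hu : IsUnit φ := isUnit_of_mk_ne_zero ξ hξV s hs φ hφ
  have h1 : ψ • s = (ψ * φ) •
      (Submodule.Quotient.mk (L.presheaf.germ V ξ hξV τ) : Cyc.secFibre L ξ) := by
    rw [mul_smul, ← hφ]
  rw [secOrdAt_eq_of_isGen hτ h hxV hξV (ψ • s) (ψ * φ) h1,
    secOrdAt_eq_of_isGen hτ h hxV hξV s φ hφ, map_mul]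
  exact ordAt_mul h (residue_ne_zero_of_isUnit hψ) (residue_ne_zero_of_isUnit hu)

/-- `c_1(L) ∩ α` does not depend, up to rational equivalence, on the nonzero rational sections
used to compute it. -/
theorem ratEquiv_c1Cap_of_sections (δ : X → ℤ) (k : ℤ) {L : X.Modules}
    (hL : PicF.IsInvertible L) (α : AlgebraicCycle X ℤ) (hα : α ∈ Cyc.Zk X δ (k + 1))
    (s₁ s₂ : (ξ : X) → Cyc.secFibre L ξ) (h₁ : ∀ ξ, s₁ ξ ≠ 0) (h₂ : ∀ ξ, s₂ ξ ≠ 0)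
    (γ₁ γ₂ : AlgebraicCycle X ℤ) (hγ₁ : ⇑γ₁ = Cyc.c1CapFun δ L ⇑α s₁)
    (hγ₂ : ⇑γ₂ = Cyc.c1CapFun δ L ⇑α s₂) : Cyc.RatEquiv δ k γ₁ γ₂ := by
  choose ψ hψu hψ using fun ξ => exists_unit_smul_eq hL ξ (s₁ ξ) (s₂ ξ) (h₁ ξ) (h₂ ξ)
  show Cyc.RatEquivZero δ k (γ₁ - γ₂)
  refine ratEquivZero_of_forall_eq_divFun δ k α hα (fun ξ => X.residue ξ (ψ ξ))
    (fun ξ => residue_ne_zero_of_isUnit (hψu ξ)) (γ₁ - γ₂) (fun x => ?_)
  rw [Function.locallyFinsuppWithin.coe_sub, Pi.sub_apply, hγ₁, hγ₂]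
  unfold Cyc.c1CapFun
  dsimp only
  rw [finsum_c1_sub α x (fun ξ => Cyc.secDivFun δ L ξ (s₁ ξ) x)
    (fun ξ => Cyc.secDivFun δ L ξ (s₂ ξ) x)
    (fun ξ hn => secDivFun_eq_zero δ L ξ (s₁ ξ) x hn)
    (fun ξ hn => secDivFun_eq_zero δ L ξ (s₂ ξ) x hn)]
  refine finsum_congr (fun ξ => ?_)
  congr 1
  unfold Cyc.secDivFun Cyc.divFun
  split_ifs with h
  · rw [hψ ξ, secOrdAt_smul hL h.1 (s₂ ξ) (h₂ ξ) (ψ ξ) (hψu ξ)]
    ring
  · rw [sub_zero]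

/-- Additivity of the order of rational sections under tensor product, at an arbitrary point. -/
theorem secOrdAt_tensor (L N : X.Modules) (hL : PicF.IsInvertible L)
    (hN : PicF.IsInvertible N) (η : X) (s : Cyc.secFibre L η) (hs : s ≠ 0)
    (t : Cyc.secFibre N η) (ht : t ≠ 0) :
    ∃ w : Cyc.secFibre (CohB1.tensorMod L N) η, w ≠ 0 ∧ ∀ (x : X) (h : η ⤳ x),
      Cyc.secOrdAt (CohB1.tensorMod L N) η x h w =
        Cyc.secOrdAt L η x h s + Cyc.secOrdAt N η x h t := by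
  obtain ⟨V₀, τ₀, ν₀, hηV₀, hτ₀, hν₀⟩ := exists_isGen_pair hL hN η
  obtain ⟨ψs, hψs⟩ := exists_eq_smul_mk hτ₀ η hηV₀ s
  obtain ⟨ψt, hψt⟩ := exists_eq_smul_mk hν₀ η hηV₀ t
  have hus : IsUnit ψs := isUnit_of_mk_ne_zero η hηV₀ s hs ψs hψs
  have hut : IsUnit ψt := isUnit_of_mk_ne_zero η hηV₀ t ht ψt hψt
  have hτν : IsGen (CohB1.tensorMod L N) V₀ (tm L N τ₀ ν₀) := isGen_tm hτ₀ hν₀
  obtain ⟨w, hw⟩ : ∃ w : Cyc.secFibre (CohB1.tensorMod L N) η,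
      w = (ψs * ψt) • (Submodule.Quotient.mk
        ((CohB1.tensorMod L N).presheaf.germ V₀ η hηV₀ (tm L N τ₀ ν₀)) :
          Cyc.secFibre (CohB1.tensorMod L N) η) := ⟨_, rfl⟩
  refine ⟨w, ?_, ?_⟩
  · intro hw0
    rw [hw] at hw0
    have hm := mem_maximalIdeal_of_smul_mk_eq_zero hτν η hηV₀ _ hw0
    exact (IsLocalRing.mem_maximalIdeal _).mp hm (hus.mul hut)
  · intro x h
    obtain ⟨V, α, β, hxV, hα, hβ⟩ := exists_isGen_pair hL hN x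
    have hηV : η ∈ V := h.mem_open V.2 hxV
    have hηP : η ∈ V₀ ⊓ V := Opens.mem_inf.mpr ⟨hηV₀, hηV⟩
    obtain ⟨c, hc⟩ := (hτ₀ (V₀ ⊓ V) inf_le_left).2
      (L.presheaf.map (homOfLE (inf_le_right : V₀ ⊓ V ≤ V)).op α)
    obtain ⟨d, hd⟩ := (hν₀ (V₀ ⊓ V) inf_le_left).2
      (N.presheaf.map (homOfLE (inf_le_right : V₀ ⊓ V ≤ V)).op β)
    have hc' : L.presheaf.map (homOfLE (inf_le_right : V₀ ⊓ V ≤ V)).op α =
        c • L.presheaf.map (homOfLE (inf_le_left : V₀ ⊓ V ≤ V₀)).op τ₀ := hc.symm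
    have hd' : N.presheaf.map (homOfLE (inf_le_right : V₀ ⊓ V ≤ V)).op β =
        d • N.presheaf.map (homOfLE (inf_le_left : V₀ ⊓ V ≤ V₀)).op ν₀ := hd.symm
    have hcd : (CohB1.tensorMod L N).presheaf.map (homOfLE (inf_le_right : V₀ ⊓ V ≤ V)).op
        (tm L N α β) =
        (c * d) • (CohB1.tensorMod L N).presheaf.map
          (homOfLE (inf_le_left : V₀ ⊓ V ≤ V₀)).op (tm L N τ₀ ν₀) := by
      rw [tm_res, tm_res, hc', hd', tm_smul_left, tm_smul_right, mul_smul]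
    have hcu : IsUnit (X.presheaf.germ (V₀ ⊓ V) η hηP c) :=
      isUnit_germ_of_genAt hτ₀ α c hc' η hηV₀ hηV hηP (genAt_of_isGen hα η hηV)
    have hdu : IsUnit (X.presheaf.germ (V₀ ⊓ V) η hηP d) :=
      isUnit_germ_of_genAt hν₀ β d hd' η hηV₀ hηV hηP (genAt_of_isGen hβ η hηV)
    obtain ⟨c', hcc'⟩ := hcu.exists_right_inv
    obtain ⟨d', hdd'⟩ := hdu.exists_right_inv
    have hcd' : X.presheaf.germ (V₀ ⊓ V) η hηP (c * d) * (c' * d') = 1 := by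
      rw [map_mul, mul_mul_mul_comm, hcc', hdd', one_mul]
    have hc'u : IsUnit c' := IsUnit.of_mul_eq_one_right _ hcc'
    have hd'u : IsUnit d' := IsUnit.of_mul_eq_one_right _ hdd'
    rw [secOrdAt_rebase hα c hc' h hxV hηV hηV₀ hηP c' hcc' s ψs hψs,
      secOrdAt_rebase hβ d hd' h hxV hηV hηV₀ hηP d' hdd' t ψt hψt,
      secOrdAt_rebase (isGen_tm hα hβ) (c * d) hcd h hxV hηV hηV₀ hηP (c' * d') hcd' w
        (ψs * ψt) hw,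
      mul_mul_mul_comm, map_mul]
    exact ordAt_mul h (residue_ne_zero_of_isUnit (hus.mul hc'u))
      (residue_ne_zero_of_isUnit (hut.mul hd'u))

end Sections

end Groth.Agent.H95.C1Cap
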