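import Groth.Prelude.Def_ZClos
import Mathlib

set_option autoImplicit false
universe u

open CategoryTheory CategoryTheory.Limits AlgebraicGeometry TopologicalSpace Opposite

namespace Groth.Agent.H95.ZClos

open _root_.ZClos

section AB5

variable {C : Type u} [SmallCategory C] (R₀ : Cᵒᵖ ⥤ RingCat.{u})

noncomputable instance reflFinLim : ReflectsFiniteLimits (PresheafOfModules.toPresheaf.{u} R₀) :=
  ⟨fun J _ _ => reflectsLimitsOfShape_of_reflectsIsomorphisms⟩

instance presheafExact (J : Type u) [SmallCategory J] [IsFiltered J] :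
    HasExactColimitsOfShape J (PresheafOfModules.{u} R₀) :=
  HasExactColimitsOfShape.domain_of_functor J (PresheafOfModules.toPresheaf.{u} R₀)

end AB5

instance sheafExact {C : Type u} [SmallCategory C] {K : GrothendieckTopology C}
    (R : Sheaf K RingCat.{u}) [HasWeakSheafify K AddCommGrpCat.{u}]
    [K.WEqualsLocallyBijective AddCommGrpCat.{u}]
    (J : Type u) [SmallCategory J] [IsFiltered J] :
    HasExactColimitsOfShape J (SheafOfModules.{u} R) :=
  (PresheafOfModules.sheafificationAdjunction (𝟙 R.obj)).hasExactColimitsOfShape J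

instance modulesExact (X : Scheme.{u}) (J : Type u) [SmallCategory J] [IsFiltered J] :
    HasExactColimitsOfShape J X.Modules :=
  inferInstanceAs (HasExactColimitsOfShape J (SheafOfModules.{u} X.ringCatSheaf))

section Restrict

variable {X Y : Scheme.{u}} (f : X ⟶ Y) [IsOpenImmersion f]

noncomputable def restrictCompToPresheaf :
    Scheme.Modules.restrictFunctor f ⋙ Scheme.Modules.toPresheaf X ≅
      Scheme.Modules.toPresheaf Y ⋙ (Functor.whiskeringLeft _ _ _).obj f.opensFunctor.op :=
  NatIso.ofComponents (fun M => Iso.refl _) (fun φ => by rfl)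

noncomputable instance reflFinLimToPresheaf (X : Scheme.{u}) :
    ReflectsFiniteLimits (Scheme.Modules.toPresheaf X) :=
  ⟨fun J _ _ => reflectsLimitsOfShape_of_reflectsIsomorphisms⟩

noncomputable instance restrictPresFinLim : PreservesFiniteLimits (Scheme.Modules.restrictFunctor f) := by
  have h1 : PreservesFiniteLimits
      ((Functor.whiskeringLeft _ _ Ab.{u}).obj f.opensFunctor.op) := inferInstance
  have h0 : PreservesFiniteLimits (Scheme.Modules.toPresheaf Y ⋙
      (Functor.whiskeringLeft _ _ Ab.{u}).obj f.opensFunctor.op) := comp_preservesFiniteLimits _ _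
  have : PreservesFiniteLimits (Scheme.Modules.restrictFunctor f ⋙ Scheme.Modules.toPresheaf X) :=
    preservesFiniteLimits_of_natIso (restrictCompToPresheaf f).symm
  exact preservesFiniteLimits_of_reflects_of_preserves (Scheme.Modules.restrictFunctor f)
    (Scheme.Modules.toPresheaf X)

end Restrict

section H0

variable {X : Scheme.{u}} (Z : Set X)

instance : IsFiltered (Cl Z) := inferInstance

noncomputable instance diagramPresFinLim : PreservesFiniteLimits (diagram Z) :=
  preservesFiniteLimits_of_evaluation _ fun T => by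
    have : PreservesFiniteLimits (resPush (X := X) T.U) := comp_preservesFiniteLimits _ _
    exact preservesFiniteLimits_of_natIso
      (NatIso.ofComponents (fun M => Iso.refl _) (fun φ => by rfl) :
        resPush (X := X) T.U ≅ diagram Z ⋙ (evaluation (Cl Z) X.Modules).obj T)

noncomputable instance H0PresFinLim : PreservesFiniteLimits (H0 Z) := by
  have : PreservesFiniteLimits (colim : (Cl Z ⥤ X.Modules) ⥤ X.Modules) :=
    HasExactColimitsOfShape.preservesFiniteLimits
  exact comp_preservesFiniteLimits (diagram Z) colim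

end H0

set_option backward.isDefEq.respectTransparency false

section Adj

variable {C D : Type*} [Category C] [Category D] {L : C ⥤ D} {R : D ⥤ C}

lemma map_unit_eq_inv (adj : L ⊣ R) [IsIso adj.counit] (A : C) :
    L.map (adj.unit.app A) = inv (adj.counit.app (L.obj A)) :=
  IsIso.eq_inv_of_inv_hom_id (adj.left_triangle_components A)

lemma unit_cancel (adj : L ⊣ R) [IsIso adj.counit] {A : C} {B : D}
    (φ ψ : R.obj (L.obj A) ⟶ R.obj B)
    (h : adj.unit.app A ≫ φ = adj.unit.app A ≫ ψ) : φ = ψ := by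
  have : IsIso (L.map (adj.unit.app A)) := by rw [map_unit_eq_inv adj A]; infer_instance
  have h2 : L.map φ = L.map ψ := by
    rw [← cancel_epi (L.map (adj.unit.app A)), ← L.map_comp, ← L.map_comp, h]
  apply (adj.homEquiv _ _).symm.injective
  rw [adj.homEquiv_counit, adj.homEquiv_counit, h2]

lemma unit_retract (adj : L ⊣ R) [IsIso adj.counit] (A : C) (r : R.obj (L.obj A) ⟶ A)
    (h : adj.unit.app A ≫ r = 𝟙 A) : r ≫ adj.unit.app A = 𝟙 _ := by
  apply unit_cancel adj (A := A) (B := L.obj A)
  rw [← Category.assoc, h]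
  exact (Category.id_comp _).trans (Category.comp_id _).symm

end Adj

section Rho

variable {X : Scheme.{u}} (Z : Set X) (F : X.Modules)

noncomputable def alpha : (Functor.const (Cl Z)).obj F ⟶ (diagram Z).obj F where
  app T := toDiagram Z F T
  naturality {T T'} f := by
    exact (Category.id_comp _).trans (toDiagram_map Z F f).symm

noncomputable def cF : F ⟶ colimit ((Functor.const (Cl Z)).obj F) :=
  colimit.ι ((Functor.const (Cl Z)).obj F) ⊥

noncomputable def dF : colimit ((Functor.const (Cl Z)).obj F) ⟶ F :=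
  colimit.desc ((Functor.const (Cl Z)).obj F) ⟨F, 𝟙 _⟩

lemma cF_dF : cF Z F ≫ dF Z F = 𝟙 F := by
  unfold cF dF; rw [colimit.ι_desc]; rfl

lemma dF_cF : dF Z F ≫ cF Z F = 𝟙 _ := by
  apply colimit.hom_ext; intro T
  unfold dF cF
  rw [colimit.ι_desc_assoc, Category.comp_id]
  have := colimit.w ((Functor.const (Cl Z)).obj F) (homOfLE (bot_le : (⊥ : Cl Z) ≤ T))
  have this' : colimit.ι ((Functor.const (Cl Z)).obj F) T = colimit.ι ((Functor.const (Cl Z)).obj F) ⊥ :=
    (Category.id_comp _).symm.trans this
  exact (Category.id_comp _).trans this'.symm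

instance : IsIso (cF Z F) := ⟨dF Z F, cF_dF Z F, dF_cF Z F⟩

lemma rho_fac : rhoApp Z F = cF Z F ≫ colimMap (alpha Z F) := by
  unfold cF
  rw [ι_colimMap]
  rfl

lemma mono_rho_of (h : ∀ T, Mono (toDiagram Z F T)) : Mono (rhoApp Z F) := by
  have : Mono (alpha Z F) := by
    apply (config := {allowSynthFailures := true}) NatTrans.mono_of_mono_app; intro T; exact h T
  have h2 : Mono (colimMap (alpha Z F)) := (inferInstance : Mono (colim.map (alpha Z F)))
  rw [rho_fac]; exact mono_comp _ _

lemma isIso_rho_of (h : ∀ T, IsIso (toDiagram Z F T)) : IsIso (rhoApp Z F) := by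
  have : IsIso (alpha Z F) := by
    apply (config := {allowSynthFailures := true}) NatIso.isIso_of_isIso_app; intro T; exact h T
  have h2 : IsIso (colimMap (alpha Z F)) := (inferInstance : IsIso (colim.map (alpha Z F)))
  rw [rho_fac]; infer_instance

lemma mono_toDiagram_of (h : Mono (rhoApp Z F)) (T : Cl Z) : Mono (toDiagram Z F T) := by
  rw [rhoApp_eq Z F T] at h
  exact mono_of_mono _ (colimit.ι ((diagram Z).obj F) T)

lemma isIso_toDiagram_of (h : IsIso (rhoApp Z F)) (T : Cl Z) : IsIso (toDiagram Z F T) := by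
  let r : ((diagram Z).obj F).obj T ⟶ F := colimit.ι ((diagram Z).obj F) T ≫ inv (rhoApp Z F)
  have h1 : toDiagram Z F T ≫ r = 𝟙 F := by
    show toDiagram Z F T ≫ colimit.ι _ T ≫ inv (rhoApp Z F) = 𝟙 F
    rw [← Category.assoc, ← rhoApp_eq Z F T, IsIso.hom_inv_id]
  have h2 : r ≫ toDiagram Z F T = 𝟙 _ :=
    unit_retract (Scheme.Modules.restrictAdjunction T.U.ι) F r h1
  exact ⟨r, h1, h2⟩

theorem isZPure_iff : IsZPure Z F ↔ ∀ T : Cl Z, Mono (toDiagram Z F T) :=
  ⟨fun h T => mono_toDiagram_of Z F h T, fun h => mono_rho_of Z F h⟩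

theorem isZClosed_iff : IsZClosed Z F ↔ ∀ T : Cl Z, IsIso (toDiagram Z F T) :=
  ⟨fun h T => isIso_toDiagram_of Z F h T, fun h => isIso_rho_of Z F h⟩

lemma hom_ext_of_closed {F' : X.Modules} (hF' : IsZClosed Z F') (v v' : (H0 Z).obj F ⟶ F')
    (h : rhoApp Z F ≫ v = rhoApp Z F ≫ v') : v = v' := by
  apply colimit.hom_ext; intro T
  have hT : IsIso (toDiagram Z F' T) := isIso_toDiagram_of Z F' hF' T
  have e : toDiagram Z F T ≫ colimit.ι ((diagram Z).obj F) T = rhoApp Z F := (rhoApp_eq Z F T).symm
  have key : (colimit.ι ((diagram Z).obj F) T ≫ v) ≫ toDiagram Z F' T =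
      (colimit.ι ((diagram Z).obj F) T ≫ v') ≫ toDiagram Z F' T := by
    apply unit_cancel (Scheme.Modules.restrictAdjunction T.U.ι) (A := F)
      (B := (Scheme.Modules.restrictFunctor T.U.ι).obj F')
    show toDiagram Z F T ≫ (colimit.ι ((diagram Z).obj F) T ≫ v) ≫ toDiagram Z F' T =
      toDiagram Z F T ≫ (colimit.ι ((diagram Z).obj F) T ≫ v') ≫ toDiagram Z F' T
    calc toDiagram Z F T ≫ (colimit.ι ((diagram Z).obj F) T ≫ v) ≫ toDiagram Z F' T
        = ((toDiagram Z F T ≫ colimit.ι ((diagram Z).obj F) T) ≫ v) ≫ toDiagram Z F' T := by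
          simp only [Category.assoc]
      _ = ((toDiagram Z F T ≫ colimit.ι ((diagram Z).obj F) T) ≫ v') ≫ toDiagram Z F' T := by
          rw [e, h]
      _ = toDiagram Z F T ≫ (colimit.ι ((diagram Z).obj F) T ≫ v') ≫ toDiagram Z F' T := by
          simp only [Category.assoc]
  exact (cancel_mono _).1 key

theorem existsUnique_fac {F' : X.Modules} (hF' : IsZClosed Z F') (u : F ⟶ F') :
    ∃! v : (H0 Z).obj F ⟶ F', rhoApp Z F ≫ v = u := by
  have : IsIso (rhoApp Z F') := hF'
  refine ⟨(H0 Z).map u ≫ inv (rhoApp Z F'), ?_, ?_⟩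
  · have := (rho Z).naturality u
    show rhoApp Z F ≫ (H0 Z).map u ≫ inv (rhoApp Z F') = u
    rw [← Category.assoc]
    erw [← this]
    rw [Category.assoc]
    erw [IsIso.hom_inv_id]
    rw [Category.comp_id]; rfl
  · intro v hv
    apply hom_ext_of_closed Z F hF'
    rw [hv]
    have := (rho Z).naturality u
    rw [← Category.assoc]
    erw [← this]
    rw [Category.assoc]
    erw [IsIso.hom_inv_id]
    rw [Category.comp_id]; rfl

end Rho

section Sections

variable {X : Scheme.{u}} (F : X.Modules) (U : X.Opens)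

/-- restriction `F(V) → F(V ⊓ U)` -/
noncomputable abbrev res (V : X.Opens) : F.presheaf.obj (op V) ⟶ F.presheaf.obj (op (V ⊓ U)) :=
  F.presheaf.map (homOfLE (inf_le_left : V ⊓ U ≤ V)).op

lemma map_map_apply {A B C : X.Opens} (h1 : B ≤ A) (h2 : C ≤ B) (s : F.presheaf.obj (op A)) :
    F.presheaf.map (homOfLE h2).op (F.presheaf.map (homOfLE h1).op s) =
      F.presheaf.map (homOfLE (h2.trans h1)).op s := by
  rw [show homOfLE (h2.trans h1) = homOfLE h2 ≫ homOfLE h1 from Subsingleton.elim _ _, op_comp,
    Functor.map_comp, ConcreteCategory.comp_apply]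

lemma res_map {A B : X.Opens} (hBA : B ≤ A) (s : F.presheaf.obj (op A)) :
    res F U B (F.presheaf.map (homOfLE hBA).op s) =
      F.presheaf.map (homOfLE (inf_le_inf_right U hBA)).op (res F U A s) := by
  rw [map_map_apply, map_map_apply]

/-- affine opens inside `V` -/
def AffIn (V : X.Opens) : Type u := {W : X.Opens // IsAffineOpen W ∧ W ≤ V}

lemma le_iSup_affIn (V : X.Opens) : V ≤ ⨆ i : AffIn V, i.1 := by
  intro x hx
  obtain ⟨W, hW, hxW, hWV⟩ := exists_isAffineOpen_mem_and_subset (x := x) (U := V) hx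
  exact Opens.mem_iSup.2 ⟨⟨W, hW, hWV⟩, hxW⟩

variable [IsLocallyNoetherian X]

lemma isCompact_of_le_affine {W W' : X.Opens} (hW : IsAffineOpen W) (h : W' ≤ W) :
    IsCompact (W' : Set X) := by
  haveI : IsNoetherianRing Γ(X, W) := IsLocallyNoetherian.component_noetherian ⟨W, hW⟩
  have hN : NoetherianSpace ((W : Set X) : Type u) := noetherianSpace_of_isAffineOpen W hW
  exact (TopologicalSpace.noetherianSpace_set_iff (W : Set X)).mp hN _ h

omit [IsLocallyNoetherian X] in
theorem res_injective_of_compact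
    (h : ∀ V : X.Opens, IsCompact (V : Set X) → Function.Injective (res F U V)) (V : X.Opens) :
    Function.Injective (res F U V) := by
  intro s t hst
  refine TopCat.Sheaf.eq_of_locally_eq' ⟨F.presheaf, F.isSheaf⟩ (fun i : AffIn V => i.1) V
    (fun i => homOfLE i.2.2) (le_iSup_affIn V) s t ?_
  intro i
  apply h i.1 i.2.1.isCompact
  show res F U i.1 (F.presheaf.map (homOfLE i.2.2).op s) =
    res F U i.1 (F.presheaf.map (homOfLE i.2.2).op t)
  rw [res_map, res_map, hst]

theorem res_bijective_of_compact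
    (h : ∀ V : X.Opens, IsCompact (V : Set X) → Function.Bijective (res F U V)) (V : X.Opens) :
    Function.Bijective (res F U V) := by
  refine ⟨res_injective_of_compact F U (fun V hV => (h V hV).1) V, ?_⟩
  intro t
  have hl : ∀ i : AffIn V, ∃ s : F.presheaf.obj (op i.1),
      res F U i.1 s = F.presheaf.map (homOfLE (inf_le_inf_right U i.2.2)).op t :=
    fun i => (h i.1 i.2.1.isCompact).2 _
  choose sf hsf using hl
  have hcompat : TopCat.Presheaf.IsCompatible F.presheaf (fun i : AffIn V => i.1) sf := by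
    intro i j
    have hc : IsCompact ((i.1 ⊓ j.1 : X.Opens) : Set X) :=
      isCompact_of_le_affine i.2.1 inf_le_left
    apply (h _ hc).1
    show res F U (i.1 ⊓ j.1) (F.presheaf.map (homOfLE inf_le_left).op (sf i)) =
      res F U (i.1 ⊓ j.1) (F.presheaf.map (homOfLE inf_le_right).op (sf j))
    rw [res_map, res_map, hsf i, hsf j, map_map_apply, map_map_apply]
  obtain ⟨s, hs, -⟩ := TopCat.Sheaf.existsUnique_gluing' ⟨F.presheaf, F.isSheaf⟩
    (fun i : AffIn V => i.1) V (fun i => homOfLE i.2.2) (le_iSup_affIn V) sf hcompat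
  refine ⟨s, ?_⟩
  refine TopCat.Sheaf.eq_of_locally_eq' ⟨F.presheaf, F.isSheaf⟩ (fun i : AffIn V => i.1 ⊓ U)
    (V ⊓ U) (fun i => homOfLE (inf_le_inf_right U i.2.2)) ?_ _ _ ?_
  · intro x hx
    obtain ⟨i, hi⟩ := Opens.mem_iSup.1 (le_iSup_affIn V hx.1)
    exact Opens.mem_iSup.2 ⟨i, ⟨hi, hx.2⟩⟩
  · intro i
    have h1 : F.presheaf.map (homOfLE i.2.2).op s = sf i := hs i
    show F.presheaf.map (homOfLE (inf_le_inf_right U i.2.2)).op (res F U V s) =
      F.presheaf.map (homOfLE (inf_le_inf_right U i.2.2)).op t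
    rw [← res_map F U i.2.2 s, h1]
    exact hsf i

end Sections

section Criteria

variable {X : Scheme.{u}}

lemma mono_iff_app {M N : X.Modules} (φ : M ⟶ N) :
    Mono φ ↔ ∀ V : X.Opens, Function.Injective (φ.app V) := by
  constructor
  · intro h V
    have h1 : Mono ((Scheme.Modules.toPresheaf X).map φ) := inferInstance
    have h2 : Mono (((Scheme.Modules.toPresheaf X).map φ).app (op V)) :=
      (NatTrans.mono_iff_mono_app _).1 h1 (op V)
    exact (AddCommGrpCat.mono_iff_injective _).1 h2
  · intro h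
    have h1 : Mono ((Scheme.Modules.toPresheaf X).map φ) := by
      rw [NatTrans.mono_iff_mono_app]
      intro V
      exact (AddCommGrpCat.mono_iff_injective _).2 (h V.unop)
    exact (Scheme.Modules.toPresheaf X).mono_of_mono_map h1

lemma isIso_iff_app {M N : X.Modules} (φ : M ⟶ N) :
    IsIso φ ↔ ∀ V : X.Opens, Function.Bijective (φ.app V) := by
  rw [Scheme.Modules.Hom.isIso_iff_isIso_app]
  exact forall_congr' fun V => ConcreteCategory.isIso_iff_bijective _

lemma inj_congr (P : TopCat.Presheaf Ab X) {A B B' : X.Opens} (e : B = B') (hB : B ≤ A)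
    (hB' : B' ≤ A) :
    Function.Injective (P.map (homOfLE hB).op) ↔ Function.Injective (P.map (homOfLE hB').op) := by
  subst e; rfl

lemma bij_congr (P : TopCat.Presheaf Ab X) {A B B' : X.Opens} (e : B = B') (hB : B ≤ A)
    (hB' : B' ≤ A) :
    Function.Bijective (P.map (homOfLE hB).op) ↔ Function.Bijective (P.map (homOfLE hB').op) := by
  subst e; rfl

variable (Z : Set X) (F : X.Modules)

lemma toDiagram_app_injective_iff (T : Cl Z) (V : X.Opens) :
    Function.Injective ((toDiagram Z F T).app V) ↔ Function.Injective (res F T.U V) :=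
  inj_congr F.presheaf ((ι_image_preimage T.U V).trans (inf_comm _ _)) (T.U.ι.image_preimage_le V)
    inf_le_left

lemma toDiagram_app_bijective_iff (T : Cl Z) (V : X.Opens) :
    Function.Bijective ((toDiagram Z F T).app V) ↔ Function.Bijective (res F T.U V) :=
  bij_congr F.presheaf ((ι_image_preimage T.U V).trans (inf_comm _ _)) (T.U.ι.image_preimage_le V)
    inf_le_left

variable [IsLocallyNoetherian X]

theorem isZPure_iff_sections :
    IsZPure Z F ↔ ∀ (T : Cl Z) (V : X.Opens), IsCompact (V : Set X) →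
      Function.Injective (F.presheaf.map (homOfLE (inf_le_left : V ⊓ T.U ≤ V)).op) := by
  rw [isZPure_iff]
  refine forall_congr' fun T => ?_
  rw [mono_iff_app]
  constructor
  · intro h V _; exact (toDiagram_app_injective_iff Z F T V).1 (h V)
  · intro h V
    exact (toDiagram_app_injective_iff Z F T V).2 (res_injective_of_compact F T.U h V)

theorem isZClosed_iff_sections :
    IsZClosed Z F ↔ ∀ (T : Cl Z) (V : X.Opens), IsCompact (V : Set X) →
      Function.Bijective (F.presheaf.map (homOfLE (inf_le_left : V ⊓ T.U ≤ V)).op) := by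
  rw [isZClosed_iff]
  refine forall_congr' fun T => ?_
  rw [isIso_iff_app]
  constructor
  · intro h V _; exact (toDiagram_app_bijective_iff Z F T V).1 (h V)
  · intro h V
    exact (toDiagram_app_bijective_iff Z F T V).2 (res_bijective_of_compact F T.U h V)

end Criteria

end Groth.Agent.H95.ZClos
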