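import Groth.Agent.H95.RefGen
import Groth.Agent.H41.BilinGlue
import Groth.Agent.H22.VeryAmpleIso
import Groth.Agent.H18.TensorAssoc
import Groth.Agent.H18.AmpleTwistGG

/-!
# Duals of invertible modules

For an invertible module `N` the dual `N^∨ = 𝓗om(N, O)` is invertible, the evaluation pairing gives
`N^∨ ⊗ N ≅ O`, and inverses in the Picard group are unique up to isomorphism.
-/

set_option autoImplicit false
set_option linter.style.haveILetI false

universe u

open CategoryTheory AlgebraicGeometry TopologicalSpace Opposite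

namespace Groth.Agent.H95.DualInv

open Groth.Agent.H18.TensorGen (IsGen isGen_one exists_isGen isInvertible_of_isGen
  isInvertible_tensorMod)
open Groth.Agent.H17.HomSh
open Groth.Agent.H95.RefGen
open Groth.Agent.H41.BilinGlue

variable {X : Scheme.{u}}

/-- The dual of an invertible module is invertible. -/
theorem isInvertible_dual {N : X.Modules} (hN : PicF.IsInvertible N) :
    PicF.IsInvertible (RefHull.dual N) := by
  refine isInvertible_of_isGen _ (fun x => ?_)
  obtain ⟨V, τ, hxV, hτ⟩ := exists_isGen hN x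
  obtain ⟨θ, hθ, -⟩ := isGen_homSh hτ (isGen_one V)
  exact ⟨V, θ, hxV, hθ⟩

/-- `w` is the value of the linear form `θ` on `n`. -/
def EvRel (N : X.Modules) (W : X.Opens) (θ : Γ(RefHull.dual N, W)) (n : Γ(N, W))
    (w : Γ(Coh.structureModule X, W)) : Prop :=
  ∀ (y : X) (hy : y ∈ W), (Coh.structureModule X).presheaf.germ W y hy w =
    θ.1 ⟨y, hy⟩ (N.presheaf.germ W y hy n)

theorem evRel_fwd (N : X.Modules) (W : X.Opens) (θ : Γ(RefHull.dual N, W)) (n : Γ(N, W)) :
    EvRel N W θ n (fwd N (Coh.structureModule X) (le_refl W) θ n) :=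
  fun y hy => germ_fwd N _ (le_refl W) θ n y hy

theorem glueRel (N : X.Modules) :
    GlueRel (RefHull.dual N) N (Coh.structureModule X) (EvRel N) where
  unique W θ n w w' h h' :=
    section_ext_germ _ w w' (fun y => (h y.1 y.2).trans (h' y.1 y.2).symm)
  res {W V} h θ n w hw := fun y hy => by
    rw [TopCat.Presheaf.germ_res_apply, TopCat.Presheaf.germ_res_apply]
    exact hw y (h hy)
  of_local W θ n w hloc := fun y hy => by
    obtain ⟨V, h, hyV, hR⟩ := hloc y hy
    have h1 := hR y hyV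
    rw [TopCat.Presheaf.germ_res_apply, TopCat.Presheaf.germ_res_apply] at h1
    exact h1
  exists_local W θ n x hx := ⟨W, le_rfl, hx, _, evRel_fwd N W _ _⟩
  add_left W θ θ' n w w' h h' := fun y hy => by
    rw [map_add, h y hy, h' y hy]
    rfl
  add_right W θ n n' w w' h h' := fun y hy => by
    rw [map_add, map_add, map_add, h y hy, h' y hy]
  smul_left W a θ n w h := fun y hy => by
    rw [Mero.germ_smul, h y hy]
    rfl
  smul_right W a θ n w h := fun y hy => by
    rw [Mero.germ_smul, Mero.germ_smul, map_smul, h y hy]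

/-- The evaluation pairing `N^∨ ⊗ N ≅ O` for an invertible module `N`. -/
theorem nonempty_dual_tensor_iso {N : X.Modules} (hN : PicF.IsInvertible N) :
    Nonempty (CohB1.tensorMod (RefHull.dual N) N ≅ Coh.structureModule X) := by
  refine (glueRel N).nonempty_iso (fun U x hx => ?_)
  obtain ⟨V', τ', hxV', hτ'⟩ := exists_isGen hN x
  obtain ⟨τ, hτ⟩ : ∃ τ : Γ(N, V' ⊓ U), IsGen N (V' ⊓ U) τ :=
    ⟨_, hτ'.res (inf_le_left : V' ⊓ U ≤ V')⟩
  refine ⟨V' ⊓ U, inf_le_right, ⟨hxV', hx⟩, τ, hτ.self.2, ?_⟩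
  obtain ⟨θ₀, hθ₀, hev⟩ := isGen_homSh hτ (isGen_one (V' ⊓ U))
  have hmul : ∀ θ : Γ(RefHull.dual N, V' ⊓ U), (glueRel N).mul (V' ⊓ U) θ τ =
      fwd N (Coh.structureModule X) (le_refl _) θ τ :=
    fun θ => (glueRel N).mul_eq (evRel_fwd N _ θ τ)
  constructor
  · intro θ θ' h
    have h' : fwd N (Coh.structureModule X) (le_refl _) θ τ =
        fwd N (Coh.structureModule X) (le_refl _) θ' τ := by
      rw [← hmul θ, ← hmul θ']
      exact h
    refine Subtype.ext (funext fun z => ?_)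
    refine stalkHom_ext_of_freeAt (freeAt_of_isGen hτ z.1 z.2) _ _ ?_
    have h1 := germ_fwd N (Coh.structureModule X) (le_refl _) θ τ z.1 z.2
    have h2 := germ_fwd N (Coh.structureModule X) (le_refl _) θ' τ z.1 z.2
    rw [← h1, ← h2, h']
  · intro w
    obtain ⟨r, hr⟩ : ∃ r : Γ(X, V' ⊓ U), (show Γ(Coh.structureModule X, V' ⊓ U) from r) = w :=
      ⟨w, rfl⟩
    refine ⟨r • θ₀, ?_⟩
    show (glueRel N).mul (V' ⊓ U) (r • θ₀) τ = w
    rw [hmul, fwd_smul_left, ← hr]
    have h1 : fwd N (Coh.structureModule X) (le_refl _) θ₀ τ =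
        (show Γ(Coh.structureModule X, V' ⊓ U) from (1 : Γ(X, V' ⊓ U))) := by
      refine section_ext_germ _ _ _ (fun y => ?_)
      rw [germ_fwd]
      exact hev y.1 y.2
    rw [h1]
    exact mul_one r

/-- Inverses for the tensor product are unique up to isomorphism. -/
theorem nonempty_iso_of_tensor_iso {A B M : X.Modules} (hA : PicF.IsInvertible A)
    (hB : PicF.IsInvertible B) (hM : PicF.IsInvertible M)
    (eA : CohB1.tensorMod A M ≅ Coh.structureModule X)
    (eB : CohB1.tensorMod B M ≅ Coh.structureModule X) : Nonempty (A ≅ B) := by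
  obtain ⟨u1⟩ := Groth.Agent.H22.VeryAmpleIso.nonempty_tensorMod_unit_right hA
  obtain ⟨u2⟩ := Groth.Agent.H22.VeryAmpleIso.nonempty_tensorMod_unit_right hB
  obtain ⟨c1⟩ := Groth.Agent.H18.AmpleTwistGG.nonempty_tensorMod_comm M B
  obtain ⟨k1⟩ := Groth.Agent.H18.TensorModIso.nonempty_tensorMod_congr (Iso.refl A)
    (eB.symm ≪≫ c1.symm)
  obtain ⟨as⟩ := Groth.Agent.H18.TensorAssoc.nonempty_tensorMod_assoc A M B hM hB
  obtain ⟨k2⟩ := Groth.Agent.H18.TensorModIso.nonempty_tensorMod_congr eA (Iso.refl B)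
  obtain ⟨c2⟩ := Groth.Agent.H18.AmpleTwistGG.nonempty_tensorMod_comm (Coh.structureModule X) B
  exact ⟨u1.symm ≪≫ k1 ≪≫ as.symm ≪≫ k2 ≪≫ c2 ≪≫ u2⟩

end Groth.Agent.H95.DualInv
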