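import Groth.Agent.H95.NoethMero
import Groth.Agent.H18.AmpleBasis

/-!
# Sections of invertible modules generating at the associated points

* `GenAt L t`: the element `t` generates the stalk of `L`.
* `exists_section_genAt_finite`: on an affine open, an invertible module has a section generating
  the stalks at finitely many pairwise non-specializing points.
* `exists_section_genAt`: on a Noetherian affine open there is a section generating the stalks at
  all associated points.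
* `exists_iso_divMod_of_subset_affine`: if all associated points of a locally Noetherian scheme
  lie in one affine open, every invertible module is `O_X(D)` for a divisor `D`.
-/

set_option autoImplicit false
set_option linter.style.haveILetI false

universe u

open CategoryTheory AlgebraicGeometry TopologicalSpace Opposite

namespace Groth.Agent.H95.AssGen

open Groth.Agent.H8 (res_res res_smul ringRes_res pointOfPrime pointOfPrime_mem
  primeIdealOf_pointOfPrime pointOfPrime_primeIdealOf pointOfPrime_specializes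
  mem_basicOpen_iff_notMem_primeIdealOf)
open Groth.Agent.H18.TensorGen (IsGen exists_isGen)
open Groth.Agent.H95.MeroDepth Groth.Agent.H95.MeroDense
open Groth.Agent.H95.DivMod Groth.Agent.H95.DivOfData
open Groth.Agent.H95.MeroData (Compat isUnit_of_gens germ_transition germ_smul_eq_zero)
open Groth.Agent.H95.NoethMero

variable {X : Scheme.{u}}

/-- `t` generates the stalk `L_z`. -/
def GenAt (L : X.Modules) {z : X} (t : L.presheaf.stalk z) : Prop :=
  ∀ t' : L.presheaf.stalk z, ∃ r : X.presheaf.stalk z, t' = r • t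

lemma genAt_smul_of_isUnit {L : X.Modules} {z : X} {t : L.presheaf.stalk z}
    {u : X.presheaf.stalk z} (hu : IsUnit u) (ht : GenAt L t) : GenAt L (u • t) := by
  intro t'
  obtain ⟨r, hr⟩ := ht t'
  obtain ⟨v, hv⟩ := hu
  refine ⟨r * ↑v⁻¹, ?_⟩
  rw [← hv, ← mul_smul, mul_assoc, Units.inv_mul, mul_one]
  exact hr

lemma genAt_of_isGen {L : X.Modules} {V : X.Opens} {τ : Γ(L, V)} (hτ : IsGen L V τ) (z : X)
    (hz : z ∈ V) : GenAt L (L.presheaf.germ V z hz τ) := by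
  intro t'
  obtain ⟨V', hzV', σ, rfl⟩ := TopCat.Presheaf.exists_germ_eq L.presheaf t'
  have hzP : z ∈ V' ⊓ V := Opens.mem_inf.mpr ⟨hzV', hz⟩
  obtain ⟨r, hr⟩ := (hτ (V' ⊓ V) inf_le_right).2
    (L.presheaf.map (homOfLE (inf_le_left : V' ⊓ V ≤ V')).op σ)
  have hr' : r • L.presheaf.map (homOfLE (inf_le_right : V' ⊓ V ≤ V)).op τ =
      L.presheaf.map (homOfLE (inf_le_left : V' ⊓ V ≤ V')).op σ := hr
  refine ⟨X.presheaf.germ (V' ⊓ V) z hzP r, ?_⟩
  rw [← TopCat.Presheaf.germ_res_apply L.presheaf (homOfLE (inf_le_left : V' ⊓ V ≤ V')) z hzP σ,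
    ← hr', Mero.germ_smul,
    TopCat.Presheaf.germ_res_apply L.presheaf (homOfLE (inf_le_right : V' ⊓ V ≤ V)) z hzP τ]

lemma germ_eq_smul_germ {L : X.Modules} {V W : X.Opens} (τ : Γ(L, V))
    (m : Γ(L, W)) (g : Γ(X, V ⊓ W))
    (hg : L.presheaf.map (homOfLE (inf_le_right : V ⊓ W ≤ W)).op m =
      g • L.presheaf.map (homOfLE (inf_le_left : V ⊓ W ≤ V)).op τ)
    (z : X) (hzV : z ∈ V) (hzW : z ∈ W) (hz : z ∈ V ⊓ W) :
    L.presheaf.germ W z hzW m =
      X.presheaf.germ (V ⊓ W) z hz g • L.presheaf.germ V z hzV τ := by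
  rw [← TopCat.Presheaf.germ_res_apply L.presheaf (homOfLE (inf_le_right : V ⊓ W ≤ W)) z hz m,
    hg, Mero.germ_smul,
    TopCat.Presheaf.germ_res_apply L.presheaf (homOfLE (inf_le_left : V ⊓ W ≤ V)) z hz τ]

lemma isUnit_germ_of_genAt {L : X.Modules} {V W : X.Opens} {τ : Γ(L, V)} (hτ : IsGen L V τ)
    (m : Γ(L, W)) (g : Γ(X, V ⊓ W))
    (hg : L.presheaf.map (homOfLE (inf_le_right : V ⊓ W ≤ W)).op m =
      g • L.presheaf.map (homOfLE (inf_le_left : V ⊓ W ≤ V)).op τ)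
    (z : X) (hzV : z ∈ V) (hzW : z ∈ W) (hz : z ∈ V ⊓ W)
    (hgen : GenAt L (L.presheaf.germ W z hzW m)) :
    IsUnit (X.presheaf.germ (V ⊓ W) z hz g) := by
  have hgm := germ_eq_smul_germ τ m g hg z hzV hzW hz
  obtain ⟨r, hr⟩ := hgen (L.presheaf.germ V z hzV τ)
  rw [hgm, ← mul_smul] at hr
  have h0 : (r * X.presheaf.germ (V ⊓ W) z hz g - 1) • L.presheaf.germ V z hzV τ = 0 := by
    rw [sub_smul, one_smul, ← hr, sub_self]
  have h1 := germ_smul_eq_zero hτ z hzV _ h0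
  exact IsUnit.of_mul_eq_one_right r (sub_eq_zero.mp h1)

lemma genAt_of_isUnit_germ {L : X.Modules} {V W : X.Opens} {τ : Γ(L, V)} (hτ : IsGen L V τ)
    (m : Γ(L, W)) (g : Γ(X, V ⊓ W))
    (hg : L.presheaf.map (homOfLE (inf_le_right : V ⊓ W ≤ W)).op m =
      g • L.presheaf.map (homOfLE (inf_le_left : V ⊓ W ≤ V)).op τ)
    (z : X) (hzV : z ∈ V) (hzW : z ∈ W) (hz : z ∈ V ⊓ W)
    (hu : IsUnit (X.presheaf.germ (V ⊓ W) z hz g)) :
    GenAt L (L.presheaf.germ W z hzW m) := by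
  rw [germ_eq_smul_germ τ m g hg z hzV hzW hz]
  exact genAt_smul_of_isUnit hu (genAt_of_isGen hτ z hzV)

lemma genAt_of_specializes {L : X.Modules} (hL : PicF.IsInvertible L) {W : X.Opens}
    (m : Γ(L, W)) {ξ η : X} (hξW : ξ ∈ W) (hηW : η ∈ W) (hspec : η ⤳ ξ)
    (hgen : GenAt L (L.presheaf.germ W ξ hξW m)) : GenAt L (L.presheaf.germ W η hηW m) := by
  obtain ⟨V, τ, hξV, hτ⟩ := exists_isGen hL ξ
  obtain ⟨g, hg⟩ := (hτ (V ⊓ W) inf_le_left).2
    (L.presheaf.map (homOfLE (inf_le_right : V ⊓ W ≤ W)).op m)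
  have hg' : L.presheaf.map (homOfLE (inf_le_right : V ⊓ W ≤ W)).op m =
      g • L.presheaf.map (homOfLE (inf_le_left : V ⊓ W ≤ V)).op τ := hg.symm
  have hξP : ξ ∈ V ⊓ W := Opens.mem_inf.mpr ⟨hξV, hξW⟩
  have hu := isUnit_germ_of_genAt hτ m g hg' ξ hξV hξW hξP hgen
  have hξb : ξ ∈ X.basicOpen g := (Scheme.mem_basicOpen X g ξ hξP).mpr hu
  have hηb : η ∈ X.basicOpen g := hspec.mem_open (X.basicOpen g).2 hξb
  have hηP : η ∈ V ⊓ W := X.basicOpen_le g hηb
  have hu' : IsUnit (X.presheaf.germ (V ⊓ W) η hηP g) :=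
    (Scheme.mem_basicOpen X g η hηP).mp hηb
  exact genAt_of_isUnit_germ hτ m g hg' η hηP.1 hηW hηP hu'

/-- On an affine open, an invertible module has a section generating the stalks at finitely many
pairwise non-specializing points. -/
theorem exists_section_genAt_finite {W : X.Opens} (hW : IsAffineOpen W) (L : X.Modules)
    (hL : PicF.IsInvertible L) {ι : Type*} [Fintype ι] [DecidableEq ι] (pt : ι → X)
    (hptW : ∀ i, pt i ∈ W) (hinc : ∀ i j, i ≠ j → ¬ (pt j ⤳ pt i)) :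
    ∃ m : Γ(L, W), ∀ i, GenAt L (L.presheaf.germ W (pt i) (hptW i) m) := by
  haveI : L.IsQuasicoherent := Groth.Agent.H18.AmpleBasis.isQuasicoherent_of_isInvertible hL
  have hmi : ∀ i, ∃ mi : Γ(L, W), GenAt L (L.presheaf.germ W (pt i) (hptW i) mi) := by
    intro i
    obtain ⟨V, τ, hV, hτ⟩ := exists_isGen hL (pt i)
    obtain ⟨a, hxa, mi, hmi⟩ := Groth.Agent.H8.exists_germ_smul_eq_germ L hW (pt i) (hptW i)
      (L.presheaf.germ V (pt i) hV τ)
    refine ⟨mi, ?_⟩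
    rw [← hmi]
    exact genAt_smul_of_isUnit ((Scheme.mem_basicOpen X a (pt i) (hptW i)).mp hxa)
      (genAt_of_isGen hτ (pt i) hV)
  choose μ hμ using hmi
  have hc : ∀ i j : ι, i ≠ j → ∃ c : Γ(X, W),
      ¬ IsUnit (X.presheaf.germ W (pt j) (hptW j) c) ∧
        IsUnit (X.presheaf.germ W (pt i) (hptW i) c) := by
    intro i j hne
    have hnle : ¬ (hW.primeIdealOf ⟨pt j, hptW j⟩).asIdeal ≤
        (hW.primeIdealOf ⟨pt i, hptW i⟩).asIdeal := by
      intro hle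
      have h1 := pointOfPrime_specializes hW (hW.primeIdealOf ⟨pt j, hptW j⟩).asIdeal (pt i)
        (hptW i) hle
      rw [pointOfPrime_primeIdealOf hW (pt j) (hptW j)] at h1
      exact hinc i j hne h1
    obtain ⟨c, hcj, hci⟩ := SetLike.not_le_iff_exists.mp hnle
    refine ⟨c, ?_, ?_⟩
    · intro hu
      have h2 : pt j ∈ X.basicOpen c := (Scheme.mem_basicOpen X c (pt j) (hptW j)).mpr hu
      exact (mem_basicOpen_iff_notMem_primeIdealOf hW (pt j) (hptW j) c).mp h2 hcj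
    · have h2 : pt i ∈ X.basicOpen c :=
        (mem_basicOpen_iff_notMem_primeIdealOf hW (pt i) (hptW i) c).mpr hci
      exact (Scheme.mem_basicOpen X c (pt i) (hptW i)).mp h2
  choose c hcn hcu using hc
  obtain ⟨e, he⟩ : ∃ e : ι → Γ(X, W), ∀ i, e i =
      ∏ j : ι, (if h : i = j then (1 : Γ(X, W)) else c i j h) := ⟨_, fun _ => rfl⟩
  have he_unit : ∀ i : ι, IsUnit (X.presheaf.germ W (pt i) (hptW i) (e i)) := by
    intro i
    rw [he, map_prod]
    apply Finset.prod_induction _ IsUnit (fun _ _ => IsUnit.mul) isUnit_one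
    intro j _
    by_cases h : i = j
    · simp only [dif_pos h, map_one, isUnit_one]
    · simp only [dif_neg h]
      exact hcu i j h
  have he_mem : ∀ i j : ι, i ≠ j → X.presheaf.germ W (pt j) (hptW j) (e i) ∈
      IsLocalRing.maximalIdeal (X.presheaf.stalk (pt j)) := by
    intro i j hne
    rw [he, map_prod]
    refine Ideal.prod_mem _ (Finset.mem_univ j) ?_
    simp only [dif_neg hne]
    exact (IsLocalRing.mem_maximalIdeal _).mpr (hcn i j hne)
  obtain ⟨m, hm⟩ : ∃ m : Γ(L, W), m = ∑ i : ι, e i • μ i := ⟨_, rfl⟩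
  refine ⟨m, fun i₀ => ?_⟩
  have hr : ∀ j : ι, ∃ r : X.presheaf.stalk (pt i₀),
      L.presheaf.germ W (pt i₀) (hptW i₀) (μ j) =
        r • L.presheaf.germ W (pt i₀) (hptW i₀) (μ i₀) := fun j => hμ i₀ _
  choose r hr using hr
  have hsum : L.presheaf.germ W (pt i₀) (hptW i₀) m =
      (X.presheaf.germ W (pt i₀) (hptW i₀) (e i₀) +
        ∑ j ∈ Finset.univ.erase i₀, X.presheaf.germ W (pt i₀) (hptW i₀) (e j) * r j) •
        L.presheaf.germ W (pt i₀) (hptW i₀) (μ i₀) := by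
    rw [hm, map_sum, ← Finset.add_sum_erase Finset.univ _ (Finset.mem_univ i₀), add_smul,
      Finset.sum_smul]
    congr 1
    · exact Mero.germ_smul L W (pt i₀) (hptW i₀) (e i₀) (μ i₀)
    · refine Finset.sum_congr rfl (fun j _ => ?_)
      rw [Mero.germ_smul, hr j, mul_smul]
  have hsm : ∑ j ∈ Finset.univ.erase i₀, X.presheaf.germ W (pt i₀) (hptW i₀) (e j) * r j ∈
      IsLocalRing.maximalIdeal (X.presheaf.stalk (pt i₀)) :=
    Ideal.sum_mem _ (fun j hj => Ideal.mul_mem_right _ _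
      (he_mem j i₀ (Finset.ne_of_mem_erase hj)))
  have hu : IsUnit (X.presheaf.germ W (pt i₀) (hptW i₀) (e i₀) +
      ∑ j ∈ Finset.univ.erase i₀, X.presheaf.germ W (pt i₀) (hptW i₀) (e j) * r j) := by
    apply IsLocalRing.notMem_maximalIdeal.mp
    intro hmem
    have h1 := Ideal.sub_mem _ hmem hsm
    rw [add_sub_cancel_right] at h1
    exact (IsLocalRing.mem_maximalIdeal _).mp h1 (he_unit i₀)
  rw [hsum]
  exact genAt_smul_of_isUnit hu (hμ i₀)

section Noeth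

variable [IsLocallyNoetherian X]

/-- On a Noetherian affine open there is a section of an invertible module generating the stalks
at all associated points. -/
theorem exists_section_genAt {W : X.Opens} (hW : IsAffineOpen W) (L : X.Modules)
    (hL : PicF.IsInvertible L) :
    ∃ m : Γ(L, W), ∀ (ξ : X) (hξ : ξ ∈ W), IsAssPt ξ →
      GenAt L (L.presheaf.germ W ξ hξ m) := by
  classical
  obtain ⟨S, hS⟩ : ∃ S : Set X, S = {ξ : X | ξ ∈ W ∧ IsAssPt ξ} := ⟨_, rfl⟩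
  have hSfin : S.Finite := by
    rw [hS]
    exact finite_assPt hW
  have hSW : ∀ ξ ∈ S, ξ ∈ W := fun ξ h => by
    rw [hS] at h
    exact h.1
  obtain ⟨T, hT⟩ : ∃ T : Set X, T = {ξ : X | ξ ∈ S ∧ ∀ ζ ∈ S, ξ ⤳ ζ → ζ ⤳ ξ} := ⟨_, rfl⟩
  have hTS : ∀ ξ ∈ T, ξ ∈ S := fun ξ h => by
    rw [hT] at h
    exact h.1
  have hTmin : ∀ ξ ∈ T, ∀ ζ ∈ S, ξ ⤳ ζ → ζ ⤳ ξ := fun ξ h => by
    rw [hT] at h
    exact h.2
  have hTfin : T.Finite := hSfin.subset hTS
  haveI : Fintype ↥T := hTfin.fintype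
  have hmin : ∀ η : X, η ∈ S → ∃ ξ : X, η ⤳ ξ ∧ ξ ∈ T := by
    intro η hη
    letI : Preorder ↥X := specializationPreorder ↥X
    obtain ⟨ξ, hξη, hξmin⟩ := hSfin.exists_le_minimal hη
    refine ⟨ξ, hξη, ?_⟩
    rw [hT]
    exact ⟨hξmin.1, fun ζ hζ h => hξmin.2 hζ h⟩
  obtain ⟨m, hm⟩ := exists_section_genAt_finite hW L hL (fun ξ : T => ξ.1)
    (fun ξ => hSW _ (hTS _ ξ.2))
    (by
      intro ξ η hne hspec
      have h2 : ξ.1 ⤳ η.1 := hTmin η.1 η.2 ξ.1 (hTS _ ξ.2) hspec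
      exact hne (Subtype.ext (h2.antisymm hspec).eq))
  refine ⟨m, fun η hηW hηass => ?_⟩
  have hηS : η ∈ S := by
    rw [hS]
    exact ⟨hηW, hηass⟩
  obtain ⟨ξ, hηξ, hξT⟩ := hmin η hηS
  exact genAt_of_specializes hL m (hSW _ (hTS _ hξT)) hηW hηξ (hm ⟨ξ, hξT⟩)

/-- If all associated points of a locally Noetherian scheme lie in one affine open, every
invertible module is isomorphic to `O_X(D)` for some divisor `D`. -/
theorem exists_iso_divMod_of_subset_affine {W : X.Opens} (hW : IsAffineOpen W)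
    (hAss : ∀ x : X, IsAssPt x → x ∈ W) (L : X.Modules) (hL : PicF.IsInvertible L) :
    ∃ D : Mero.Divisor X, Nonempty (L ≅ Mero.divMod D) := by
  classical
  obtain ⟨m, hm⟩ := exists_section_genAt hW L hL
  choose V τ hxV hτ using fun x : X => exists_isGen hL x
  have hg : ∀ x : X, ∃ g : Γ(X, V x ⊓ W),
      L.presheaf.map (homOfLE (inf_le_right : V x ⊓ W ≤ W)).op m =
        g • L.presheaf.map (homOfLE (inf_le_left : V x ⊓ W ≤ V x)).op (τ x) := by
    intro x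
    obtain ⟨g, hg⟩ := ((hτ x) (V x ⊓ W) inf_le_left).2
      (L.presheaf.map (homOfLE (inf_le_right : V x ⊓ W ≤ W)).op m)
    exact ⟨g, hg.symm⟩
  choose g hg using hg
  have hmemVW : ∀ (x ξ : X), ξ ∈ V x → IsAssPt ξ → ξ ∈ V x ⊓ W := fun x ξ hξ hass =>
    Opens.mem_inf.mpr ⟨hξ, hAss ξ hass⟩
  have hgu : ∀ (x ξ : X) (hξ : ξ ∈ V x) (hass : IsAssPt ξ),
      IsUnit (X.presheaf.germ (V x ⊓ W) ξ (hmemVW x ξ hξ hass) (g x)) := fun x ξ hξ hass =>
    isUnit_germ_of_genAt (hτ x) m (g x) (hg x) ξ hξ (hAss ξ hass) (hmemVW x ξ hξ hass)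
      (hm ξ (hAss ξ hass) hass)
  have hB : ∀ (x ξ : X), ξ ∈ V x → IsAssPt ξ → ξ ∈ X.basicOpen (g x) := fun x ξ hξ hass =>
    (Scheme.mem_basicOpen X (g x) ξ (hmemVW x ξ hξ hass)).mpr (hgu x ξ hξ hass)
  have hBV : ∀ x, X.basicOpen (g x) ≤ V x := fun x => (X.basicOpen_le (g x)).trans inf_le_left
  have hgunit : ∀ x, IsUnit (X.presheaf.map (homOfLE (X.basicOpen_le (g x))).op (g x)) :=
    fun x => RingedSpace.isUnit_res_basicOpen X.toRingedSpace (g x)
  have hdense : ∀ (x : X) (W' : X.Opens), W' ≤ V x → Function.Injective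
      ⇑(X.presheaf.map (homOfLE (inf_le_left : W' ⊓ X.basicOpen (g x) ≤ W')).op) := by
    intro x W' hW' t t' htt'
    have h0 : t - t' = 0 := by
      apply eq_zero_of_assPt
      intro ξ hξ hass
      have hξB : ξ ∈ W' ⊓ X.basicOpen (g x) :=
        Opens.mem_inf.mpr ⟨hξ, hB x ξ (hW' hξ) hass⟩
      rw [map_sub, ← TopCat.Presheaf.germ_res_apply X.presheaf
          (homOfLE (inf_le_left : W' ⊓ X.basicOpen (g x) ≤ W')) ξ hξB t,
        ← TopCat.Presheaf.germ_res_apply X.presheaf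
          (homOfLE (inf_le_left : W' ⊓ X.basicOpen (g x) ≤ W')) ξ hξB t', htt', sub_self]
    exact sub_eq_zero.mp h0
  have hext : ∀ x : X, ∃ f : (Γ(Mero.kmod X, V x))ˣ,
      ∀ (ξ : X) (hξ : ξ ∈ V x) (hass : IsAssPt ξ),
        (f : Γ(Mero.kmod X, V x)).1 ⟨ξ, hξ⟩ =
          algebraMap (X.presheaf.stalk ξ) (Mero.KStalk X ξ)
            (X.presheaf.germ (V x ⊓ W) ξ (hmemVW x ξ hξ hass) (g x)) := by
    intro x
    obtain ⟨γ, hγ⟩ := hgunit x
    obtain ⟨s, hs⟩ := exists_kmod_section (Or.inl inferInstance) (V x) (X.basicOpen (g x))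
      (hBV x) (hdense x) (γ : Γ(X, X.basicOpen (g x)))
    obtain ⟨s', hs'⟩ := exists_kmod_section (Or.inl inferInstance) (V x) (X.basicOpen (g x))
      (hBV x) (hdense x) ((γ⁻¹ : (Γ(X, X.basicOpen (g x)))ˣ) : Γ(X, X.basicOpen (g x)))
    have hval : ∀ (ξ : X) (hξ : ξ ∈ V x) (hξB : ξ ∈ X.basicOpen (g x)), s.1 ⟨ξ, hξ⟩ =
        algebraMap (X.presheaf.stalk ξ) (Mero.KStalk X ξ)
          (X.presheaf.germ (X.basicOpen (g x)) ξ hξB (γ : Γ(X, X.basicOpen (g x)))) := by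
      intro ξ hξ hξB
      have h1 := congrArg (fun t : Γ(Mero.kmod X, X.basicOpen (g x)) => t.1 ⟨ξ, hξB⟩) hs
      have h2 : s.1 ⟨ξ, hξ⟩ =
          (Mero.toK X (X.basicOpen (g x)) (γ : Γ(X, X.basicOpen (g x)))).1 ⟨ξ, hξB⟩ := h1
      rw [h2, Mero.toK_apply]
      exact kmk_one _ _
    have hval' : ∀ (ξ : X) (hξ : ξ ∈ V x) (hξB : ξ ∈ X.basicOpen (g x)), s'.1 ⟨ξ, hξ⟩ =
        algebraMap (X.presheaf.stalk ξ) (Mero.KStalk X ξ)
          (X.presheaf.germ (X.basicOpen (g x)) ξ hξB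
            ((γ⁻¹ : (Γ(X, X.basicOpen (g x)))ˣ) : Γ(X, X.basicOpen (g x)))) := by
      intro ξ hξ hξB
      have h1 := congrArg (fun t : Γ(Mero.kmod X, X.basicOpen (g x)) => t.1 ⟨ξ, hξB⟩) hs'
      have h2 : s'.1 ⟨ξ, hξ⟩ =
          (Mero.toK X (X.basicOpen (g x))
            ((γ⁻¹ : (Γ(X, X.basicOpen (g x)))ˣ) : Γ(X, X.basicOpen (g x)))).1 ⟨ξ, hξB⟩ := h1
      rw [h2, Mero.toK_apply]
      exact kmk_one _ _
    have h1 : s * s' = 1 := by
      apply kmod_ext_of_assPt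
      intro ξ hξ hass
      show s.1 ⟨ξ, hξ⟩ * s'.1 ⟨ξ, hξ⟩ = 1
      rw [hval ξ hξ (hB x ξ hξ hass), hval' ξ hξ (hB x ξ hξ hass), ← map_mul, ← map_mul,
        Units.mul_inv, map_one, map_one]
    refine ⟨Units.mkOfMulEqOne s s' h1, fun ξ hξ hass => ?_⟩
    show s.1 ⟨ξ, hξ⟩ = _
    rw [hval ξ hξ (hB x ξ hξ hass), hγ,
      TopCat.Presheaf.germ_res_apply X.presheaf (homOfLE (X.basicOpen_le (g x))) ξ
        (hB x ξ hξ hass) (g x)]
  choose f hf using hext
  refine exists_divisor_iso L V (fun x => ⟨x, hxV x⟩) τ hτ f ?_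
  intro x y W' hi hj w hw z
  have h12 : ((Mero.kmod X).presheaf.map (homOfLE hi).op (f x : Γ(Mero.kmod X, V x)) :
      Γ(Mero.kmod X, W')) = Mero.toK X W' w *
      ((Mero.kmod X).presheaf.map (homOfLE hj).op (f y : Γ(Mero.kmod X, V y)) :
        Γ(Mero.kmod X, W')) := by
    apply kmod_ext_of_assPt
    intro ξ hξ hass
    show (f x : Γ(Mero.kmod X, V x)).1 ⟨ξ, hi hξ⟩ =
      (Mero.toK X W' w).1 ⟨ξ, hξ⟩ * (f y : Γ(Mero.kmod X, V y)).1 ⟨ξ, hj hξ⟩
    rw [hf x ξ (hi hξ) hass, hf y ξ (hj hξ) hass]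
    show algebraMap (X.presheaf.stalk ξ) (Mero.KStalk X ξ)
        (X.presheaf.germ (V x ⊓ W) ξ (hmemVW x ξ (hi hξ) hass) (g x)) =
      (LocalizedModule.mk (X.presheaf.germ W' ξ hξ w) 1 : Mero.KStalk X ξ) *
        algebraMap (X.presheaf.stalk ξ) (Mero.KStalk X ξ)
          (X.presheaf.germ (V y ⊓ W) ξ (hmemVW y ξ (hj hξ) hass) (g y))
    rw [kmk_one, ← map_mul,
      germ_transition L (τ x) (hτ x) (τ y) m (g x) (hg x) (g y) (hg y) W' hi hj w hw
        ξ hξ (hAss ξ hass) (hmemVW x ξ (hi hξ) hass) (hmemVW y ξ (hj hξ) hass)]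
  have h3 := congrArg (fun t : Γ(Mero.kmod X, W') => t.1 z) h12
  have h4 : (f x : Γ(Mero.kmod X, V x)).1 ⟨z.1, hi z.2⟩ =
      (Mero.toK X W' w).1 z * (f y : Γ(Mero.kmod X, V y)).1 ⟨z.1, hj z.2⟩ := h3
  rw [h4, Mero.toK_apply, kmk_one]

end Noeth

end Groth.Agent.H95.AssGen
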