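import Groth.Agent.H94.EffCartierDense
import Groth.Prelude.Def_BlowUp2

/-!
# Strict transforms via scheme-theoretic closure, and blow-ups of closed subschemes

For a locally principal ideal sheaf `𝓙` on a scheme `P`, the scheme-theoretic closure of the
complement of `V(𝓙)` is a closed subscheme on which `𝓙` becomes an effective Cartier divisor, and
every morphism `T ⟶ P` making `𝓙` effective Cartier factors through it.  As a consequence, the
morphism induced between the blow-ups (in the sense of the universal property) by a closed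
immersion is a closed immersion.
-/

set_option autoImplicit false

universe u

open CategoryTheory CategoryTheory.Limits AlgebraicGeometry TopologicalSpace

namespace Groth.Agent.H95.StrictTransform

variable {P : Scheme.{u}}

/-- the ideal sheaf is locally generated by one section -/
def IsLocPrincipal (𝓙 : P.IdealSheafData) : Prop :=
  ∀ x : P, ∃ W : P.affineOpens, x ∈ W.1 ∧ ∃ t : Γ(P, W.1), 𝓙.ideal W = Ideal.span {t}

theorem mem_ker_res_iff (W : P.affineOpens) (t : Γ(P, W.1)) (O : P.Opens)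
    (hO : O = P.basicOpen t) (hle : O ≤ W.1) (a : Γ(P, W.1)) :
    (P.presheaf.map (homOfLE hle).op).hom a = 0 ↔ ∃ n : ℕ, t ^ n * a = 0 := by
  subst hO
  haveI := W.2.isLocalization_basicOpen t
  have h := IsLocalization.map_eq_zero_iff (Submonoid.powers t) Γ(P, P.basicOpen t) a
  have e : (P.presheaf.map (homOfLE hle).op).hom a =
      algebraMap Γ(P, W.1) Γ(P, P.basicOpen t) a := rfl
  rw [e, h]
  constructor
  · rintro ⟨⟨_, n, rfl⟩, hm⟩
    exact ⟨n, hm⟩
  · rintro ⟨n, hn⟩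
    exact ⟨⟨t ^ n, n, rfl⟩, hn⟩

theorem ι_image_preimage (𝓙 : P.IdealSheafData) (W : P.affineOpens) (t : Γ(P, W.1))
    (ht : 𝓙.ideal W = Ideal.span {t}) :
    (Scheme.Opens.ι 𝓙.support.compl) ''ᵁ ((Scheme.Opens.ι 𝓙.support.compl) ⁻¹ᵁ W.1) = P.basicOpen t := by
  rw [Scheme.Hom.image_preimage_eq_opensRange_inf, Scheme.Opens.opensRange_ι]
  exact Groth.Agent.H94.EffCartierDense.compl_inf_eq_basicOpen 𝓙 W t ht

theorem isAffineHom_ι_compl {𝓙 : P.IdealSheafData} (h : IsLocPrincipal 𝓙) :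
    IsAffineHom (Scheme.Opens.ι 𝓙.support.compl) := by
  apply isAffineHom_of_forall_exists_isAffineOpen
  intro x
  obtain ⟨W, hxW, t, ht⟩ := h x
  refine ⟨W.1, hxW, W.2, ?_⟩
  rw [← Scheme.Hom.isAffineOpen_iff_of_isOpenImmersion (Scheme.Opens.ι 𝓙.support.compl),
    ι_image_preimage 𝓙 W t ht]
  exact W.2.basicOpen t

theorem mem_ker_ideal_iff {𝓙 : P.IdealSheafData} (h : IsLocPrincipal 𝓙) (W : P.affineOpens)
    (t : Γ(P, W.1)) (ht : 𝓙.ideal W = Ideal.span {t}) (a : Γ(P, W.1)) :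
    a ∈ ((Scheme.Opens.ι 𝓙.support.compl).ker).ideal W ↔ ∃ n : ℕ, t ^ n * a = 0 := by
  have : IsAffineHom (Scheme.Opens.ι 𝓙.support.compl) := isAffineHom_ι_compl h
  rw [Scheme.Hom.ker_apply, RingHom.mem_ker]
  exact mem_ker_res_iff W t _ (ι_image_preimage 𝓙 W t ht) _ a

theorem isEffCartierIdeal_comap_subschemeι_aux {𝓙 𝒦 : P.IdealSheafData} (h : IsLocPrincipal 𝓙)
    (h𝒦 : 𝒦 = (Scheme.Opens.ι 𝓙.support.compl).ker) :
    BlowUp.IsEffCartierIdeal (𝓙.comap 𝒦.subschemeι) := by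
  intro y
  obtain ⟨W, hxW, t, ht⟩ := h (𝒦.subschemeι y)
  have hV : IsAffineOpen (𝒦.subschemeι ⁻¹ᵁ W.1) := W.2.preimage 𝒦.subschemeι
  have hmem : ∀ a : Γ(P, W.1), a ∈ 𝒦.ideal W ↔ ∃ n : ℕ, t ^ n * a = 0 := by
    intro a
    rw [h𝒦]
    exact mem_ker_ideal_iff h W t ht a
  refine ⟨⟨𝒦.subschemeι ⁻¹ᵁ W.1, hV⟩, hxW, (𝒦.subschemeι.app W.1).hom t, ?_, ?_⟩
  · rw [mem_nonZeroDivisors_iff_right]
    intro z hz
    obtain ⟨a, rfl⟩ := 𝒦.subschemeι_app_surjective W z
    have hz' : (𝒦.subschemeι.app W.1).hom (a * t) = 0 := by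
      rw [map_mul]
      exact hz
    have h1 : a * t ∈ 𝒦.ideal W := by
      rw [← 𝒦.ker_subschemeι_app W, RingHom.mem_ker]
      exact hz'
    obtain ⟨n, hn⟩ := (hmem (a * t)).mp h1
    have h2 : a ∈ 𝒦.ideal W := (hmem a).mpr ⟨n + 1, by
      rw [pow_succ, mul_assoc, mul_comm t a]
      exact hn⟩
    rw [← 𝒦.ker_subschemeι_app W, RingHom.mem_ker] at h2
    exact h2
  · rw [Groth.Agent.H9.comap_ideal 𝒦.subschemeι 𝓙 W ⟨_, hV⟩ le_rfl, ht, Ideal.map_span,
      Set.image_singleton, ← Scheme.Hom.app_eq_appLE]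

/-- On the scheme-theoretic closure of the complement of `V(𝓙)`, the ideal `𝓙` becomes an
effective Cartier divisor. -/
theorem isEffCartierIdeal_comap_subschemeι {𝓙 : P.IdealSheafData} (h : IsLocPrincipal 𝓙) :
    BlowUp.IsEffCartierIdeal (𝓙.comap ((Scheme.Opens.ι 𝓙.support.compl).ker).subschemeι) :=
  isEffCartierIdeal_comap_subschemeι_aux h rfl

/-- A morphism which makes `𝓙` effective Cartier factors through the scheme-theoretic closure of
the complement of `V(𝓙)`. -/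
theorem exists_lift {𝓙 : P.IdealSheafData} {T : Scheme.{u}} (ℓ : T ⟶ P)
    (hT : BlowUp.IsEffCartierIdeal (𝓙.comap ℓ)) :
    ∃ g : T ⟶ ((Scheme.Opens.ι 𝓙.support.compl).ker).subscheme,
      g ≫ ((Scheme.Opens.ι 𝓙.support.compl).ker).subschemeι = ℓ := by
  have := Groth.Agent.H94.EffCartierDense.dominant_compl_of_isEffCartier _ hT
  have hrange : Set.range ((Scheme.Opens.ι (𝓙.comap ℓ).support.compl) ≫ ℓ) ⊆
      Set.range (Scheme.Opens.ι 𝓙.support.compl) := by
    rintro _ ⟨x, rfl⟩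
    rw [Scheme.Opens.range_ι]
    have hx : (Scheme.Opens.ι (𝓙.comap ℓ).support.compl) x ∈ (𝓙.comap ℓ).support.compl := by
      have h1 : (Scheme.Opens.ι (𝓙.comap ℓ).support.compl) x ∈
          Set.range (Scheme.Opens.ι (𝓙.comap ℓ).support.compl) := ⟨x, rfl⟩
      rwa [Scheme.Opens.range_ι] at h1
    have key : ∀ t : T, t ∈ (𝓙.comap ℓ).support.compl → ℓ t ∈ 𝓙.support.compl := by
      intro t ht
      rw [Scheme.IdealSheafData.support_comap] at ht
      exact ht
    exact key _ hx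
  have hℓ' : IsOpenImmersion.lift (Scheme.Opens.ι 𝓙.support.compl) ((Scheme.Opens.ι (𝓙.comap ℓ).support.compl) ≫ ℓ) hrange ≫
      (Scheme.Opens.ι 𝓙.support.compl) = (Scheme.Opens.ι (𝓙.comap ℓ).support.compl) ≫ ℓ := IsOpenImmersion.lift_fac _ _ _
  have hle : (Scheme.Opens.ι 𝓙.support.compl).ker ≤ ℓ.ker := by
    calc (Scheme.Opens.ι 𝓙.support.compl).ker
        ≤ (IsOpenImmersion.lift (Scheme.Opens.ι 𝓙.support.compl) ((Scheme.Opens.ι (𝓙.comap ℓ).support.compl) ≫ ℓ) hrange ≫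
            (Scheme.Opens.ι 𝓙.support.compl)).ker := Scheme.Hom.le_ker_comp _ _
      _ = ((Scheme.Opens.ι (𝓙.comap ℓ).support.compl) ≫ ℓ).ker := by rw [hℓ']
      _ = ℓ.ker := by
        rw [Scheme.Hom.ker_comp, Scheme.Hom.ker_eq_bot, Scheme.IdealSheafData.map_bot]
  exact ⟨IsClosedImmersion.lift ((Scheme.Opens.ι 𝓙.support.compl).ker).subschemeι ℓ
    (by rw [Scheme.IdealSheafData.ker_subschemeι]; exact hle), IsClosedImmersion.lift_fac _ _ _⟩

/-- The morphism induced between blow-ups by a closed immersion is a closed immersion. -/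
theorem main {X Y X' Y' : Scheme.{u}} (𝓘 : X.IdealSheafData) (f : Y ⟶ X) [IsClosedImmersion f]
    (b : X' ⟶ X) (hb : BlowUp.IsBlowUp b 𝓘) (b' : Y' ⟶ Y)
    (hb' : BlowUp.IsBlowUp b' (𝓘.comap f))
    (f' : Y' ⟶ X') (hf' : f' ≫ b = b' ≫ f) : IsClosedImmersion f' := by
  have : IsClosedImmersion (pullback.fst b f) :=
    MorphismProperty.pullback_fst (P := @IsClosedImmersion) b f inferInstance
  have hcond : pullback.fst b f ≫ b = pullback.snd b f ≫ f := pullback.condition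
  obtain ⟨𝓙, h𝓙⟩ : ∃ 𝓙 : (pullback b f).IdealSheafData, 𝓙 = 𝓘.comap (pullback.fst b f ≫ b) :=
    ⟨_, rfl⟩
  have hlp : IsLocPrincipal 𝓙 := by
    intro x
    obtain ⟨V', hxV', t, -, ht⟩ := hb.1 ((pullback.fst b f) x)
    have hW : IsAffineOpen ((pullback.fst b f) ⁻¹ᵁ V'.1) := V'.2.preimage (pullback.fst b f)
    refine ⟨⟨(pullback.fst b f) ⁻¹ᵁ V'.1, hW⟩, hxV', ((pullback.fst b f).app V'.1).hom t, ?_⟩
    rw [h𝓙, Scheme.IdealSheafData.comap_comp,
      Groth.Agent.H9.comap_ideal (pullback.fst b f) (𝓘.comap b) V' ⟨_, hW⟩ le_rfl, ht,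
      Ideal.map_span, Set.image_singleton, ← Scheme.Hom.app_eq_appLE]
  have hA : BlowUp.IsEffCartierIdeal (𝓙.comap ((Scheme.Opens.ι 𝓙.support.compl).ker).subschemeι) :=
    isEffCartierIdeal_comap_subschemeι hlp
  have hA' : BlowUp.IsEffCartierIdeal
      ((𝓘.comap f).comap (((Scheme.Opens.ι 𝓙.support.compl).ker).subschemeι ≫ pullback.snd b f)) := by
    have e1 : (𝓘.comap f).comap (((Scheme.Opens.ι 𝓙.support.compl).ker).subschemeι ≫ pullback.snd b f) =
        𝓙.comap ((Scheme.Opens.ι 𝓙.support.compl).ker).subschemeι := by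
      rw [← Scheme.IdealSheafData.comap_comp, Category.assoc, ← hcond,
        Scheme.IdealSheafData.comap_comp, ← h𝓙]
    rw [e1]
    exact hA
  obtain ⟨h, hh, -⟩ := hb'.2 _ (((Scheme.Opens.ι 𝓙.support.compl).ker).subschemeι ≫ pullback.snd b f) hA'
  have hℓ1 : pullback.lift f' b' hf' ≫ pullback.fst b f = f' := pullback.lift_fst _ _ _
  have hℓ2 : pullback.lift f' b' hf' ≫ pullback.snd b f = b' := pullback.lift_snd _ _ _
  have hT : BlowUp.IsEffCartierIdeal (𝓙.comap (pullback.lift f' b' hf')) := by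
    have e2 : 𝓙.comap (pullback.lift f' b' hf') = (𝓘.comap f).comap b' := by
      rw [h𝓙, ← Scheme.IdealSheafData.comap_comp, ← Category.assoc, hℓ1, hf',
        Scheme.IdealSheafData.comap_comp]
    rw [e2]
    exact hb'.1
  obtain ⟨g, hg⟩ := exists_lift (pullback.lift f' b' hf') hT
  have hgh : g ≫ h = 𝟙 Y' := by
    obtain ⟨u, -, hu⟩ := hb'.2 Y' b' hb'.1
    have h1 : (g ≫ h) ≫ b' = b' := by
      rw [Category.assoc, hh, ← Category.assoc, hg, hℓ2]
    have h2 : 𝟙 Y' ≫ b' = b' := Category.id_comp _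
    exact (hu _ h1).trans (hu _ h2).symm
  have hhf : h ≫ f' = ((Scheme.Opens.ι 𝓙.support.compl).ker).subschemeι ≫ pullback.fst b f := by
    have hA'' : BlowUp.IsEffCartierIdeal
        (𝓘.comap (((Scheme.Opens.ι 𝓙.support.compl).ker).subschemeι ≫ pullback.fst b f ≫ b)) := by
      rw [Scheme.IdealSheafData.comap_comp, ← h𝓙]
      exact hA
    obtain ⟨u, -, hu⟩ := hb.2 _ (((Scheme.Opens.ι 𝓙.support.compl).ker).subschemeι ≫ pullback.fst b f ≫ b) hA''
    have h1 : (h ≫ f') ≫ b = ((Scheme.Opens.ι 𝓙.support.compl).ker).subschemeι ≫ pullback.fst b f ≫ b := by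
      rw [Category.assoc, hf', ← Category.assoc, hh, Category.assoc, ← hcond]
    have h2 : (((Scheme.Opens.ι 𝓙.support.compl).ker).subschemeι ≫ pullback.fst b f) ≫ b =
        ((Scheme.Opens.ι 𝓙.support.compl).ker).subschemeι ≫ pullback.fst b f ≫ b := Category.assoc _ _ _
    exact (hu _ h1).trans (hu _ h2).symm
  have hhℓ : h ≫ pullback.lift f' b' hf' = ((Scheme.Opens.ι 𝓙.support.compl).ker).subschemeι := by
    apply pullback.hom_ext
    · rw [Category.assoc, hℓ1]
      exact hhf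
    · rw [Category.assoc, hℓ2]
      exact hh
  have hhg : h ≫ g = 𝟙 _ := by
    rw [← cancel_mono ((Scheme.Opens.ι 𝓙.support.compl).ker).subschemeι, Category.assoc, hg, hhℓ,
      Category.id_comp]
  have : IsIso g := ⟨h, hgh, hhg⟩
  have hfac : f' = g ≫ ((Scheme.Opens.ι 𝓙.support.compl).ker).subschemeι ≫ pullback.fst b f := by
    rw [← Category.assoc, hg, hℓ1]
  rw [hfac]
  infer_instance

end Groth.Agent.H95.StrictTransform
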