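import Groth.Agent.H95.RefGen
import Groth.Agent.H95.C1Cap
import Groth.Agent.H17.HomExtend
import Groth.Prelude.Def_DefoSh

/-!
# Isomorphisms of rank one reflexive modules and linear equivalence of divisors

* `ord_ringEquiv`, `ordFrac_transport`, `isFractionRing_transport`: transport of Mathlib's order
  of vanishing along compatible ring isomorphisms.
* `ordAt_residue_eq_ord`: on an integral locally Noetherian scheme, the prelude's `Cyc.ordAt` along
  `η ⤳ x` for a point of codimension one agrees with Mathlib's `Scheme.ord`.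
* `exists_of_ord_eq_zero`: on a normal scheme, a rational function of order zero at a point of
  codimension one is a unit of the local ring.
* `hom_ext_of_generic`: morphisms into a torsion-free module are determined by the generic stalk.
* `exists_local_gen`, `exists_unit_stalkMap`, `maps_stalk_of_ord_eq`: tools for S16086.
-/

set_option autoImplicit false
set_option linter.style.haveILetI false

universe u

open CategoryTheory AlgebraicGeometry TopologicalSpace Opposite

namespace Groth.Agent.H95.RefIso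

open Groth.Agent.H18.TensorGen (IsGen)
open Groth.Agent.H95.AssGen (GenAt genAt_of_isGen germ_eq_smul_germ isUnit_germ_of_genAt)
open Groth.Agent.H95.SecOrd
open Groth.Agent.H95.RefGen
open Groth.Agent.H95.C1Cap (ordAt_one ordAt_inv)
open Groth.Agent.S16092 (secOrdAt_rebase)
open Groth.Agent.H17.HomSh (section_ext_germ)
open Groth.Agent.H17.HomExtend (sp_germ sp_smul sp_stalkMapₗ germ_eq_of_germ_generic_eq
  exists_hom_of_codim_one)

section Transport

theorem ord_ringEquiv {R R' : Type*} [CommRing R] [CommRing R'] (e : R ≃+* R') (a : R) :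
    Ring.ord R' (e a) = Ring.ord R a := by
  unfold Ring.ord
  letI : Algebra R R' := e.toRingHom.toAlgebra
  have h1 : Module.length R (R' ⧸ Ideal.span {e a}) =
      Module.length R' (R' ⧸ Ideal.span {e a}) :=
    Module.length_eq_of_surjective e.surjective
  rw [← h1]
  let f : R ≃ₐ[R] R' := AlgEquiv.ofRingEquiv (f := e) (fun _ => rfl)
  have hI : Ideal.span {e a} = Ideal.map (f : R →+* R') (Ideal.span {a}) := by
    rw [Ideal.map_span, Set.image_singleton]
    rfl
  exact (Ideal.quotientEquivAlg (Ideal.span {a}) (Ideal.span {e a}) f hI).toLinearEquiv.symm.length_eq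

variable {R R' K K' : Type*} [CommRing R] [CommRing R'] [Field K] [Field K'] [Algebra R K]
  [Algebra R' K']

theorem isFractionRing_transport [IsFractionRing R K] (e : R ≃+* R') (ε : K ≃+* K')
    (hc : ∀ r, ε (algebraMap R K r) = algebraMap R' K' (e r)) : IsFractionRing R' K' := by
  haveI : IsDomain R := (IsFractionRing.injective R K).isDomain
  have hc' : ∀ r' : R', algebraMap R' K' r' = ε (algebraMap R K (e.symm r')) := fun r' => by
    rw [hc, e.apply_symm_apply]
  have hinj : Function.Injective (algebraMap R' K') := by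
    intro r₁ r₂ h
    rw [hc', hc'] at h
    exact e.symm.injective (IsFractionRing.injective R K (ε.injective h))
  haveI : FaithfulSMul R' K' := (faithfulSMul_iff_algebraMap_injective R' K').mpr hinj
  refine IsFractionRing.of_field R' K' (fun z => ?_)
  obtain ⟨a, b, -, hab⟩ := IsFractionRing.div_surjective (A := R) (ε.symm z)
  refine ⟨e a, e b, ?_⟩
  rw [← hc, ← hc, ← map_div₀, hab, ε.apply_symm_apply]

theorem ordFrac_transport [IsNoetherianRing R] [Ring.KrullDimLE 1 R] [Nontrivial R]
    [IsFractionRing R K] [IsNoetherianRing R'] [Ring.KrullDimLE 1 R'] [Nontrivial R']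
    [IsFractionRing R' K'] (e : R ≃+* R') (ε : K ≃+* K')
    (hc : ∀ r, ε (algebraMap R K r) = algebraMap R' K' (e r)) (f : K) :
    Ring.ordFrac R' (ε f) = Ring.ordFrac R f := by
  haveI : IsDomain R := (IsFractionRing.injective R K).isDomain
  haveI : IsDomain R' := (IsFractionRing.injective R' K').isDomain
  by_cases hf : f = 0
  · rw [hf, map_zero, map_zero, map_zero]
  obtain ⟨a, b, hb, rfl⟩ := IsFractionRing.div_surjective (A := R) f
  have hb0 : b ≠ 0 := nonZeroDivisors.ne_zero hb
  have ha0 : a ≠ 0 := by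
    rintro rfl
    exact hf (by rw [map_zero, zero_div])
  have hea0 : e a ≠ 0 := (EmbeddingLike.map_ne_zero_iff (f := e)).mpr ha0
  have heb0 : e b ≠ 0 := (EmbeddingLike.map_ne_zero_iff (f := e)).mpr hb0
  have key : ∀ c : R, c ≠ 0 → Ring.ordMonoidWithZeroHom R' (e c) = Ring.ordMonoidWithZeroHom R c := by
    intro c hc0
    have hec0 : e c ≠ 0 := (EmbeddingLike.map_ne_zero_iff (f := e)).mpr hc0
    rw [Ring.ordMonoidWithZeroHom_eq_ord (mem_nonZeroDivisors_of_ne_zero hec0),
      Ring.ordMonoidWithZeroHom_eq_ord (mem_nonZeroDivisors_of_ne_zero hc0), ord_ringEquiv]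
  rw [map_div₀, hc, hc, map_div₀, map_div₀, Ring.ordFrac_eq_ord R ha0, Ring.ordFrac_eq_ord R hb0,
    Ring.ordFrac_eq_ord R' hea0, Ring.ordFrac_eq_ord R' heb0, key a ha0, key b hb0]

end Transport

variable {X : Scheme.{u}} [IsIntegral X]

section Generic

theorem ker_specMap_generic (x : X) (h : genericPoint X ⤳ x) :
    RingHom.ker (Cyc.specMap x (genericPoint X) h) = ⊥ := by
  rw [← RingHom.injective_iff_ker_eq_bot]
  have h1 : Function.Injective (X.presheaf.stalkSpecializes h).hom :=
    IsFractionRing.injective (X.presheaf.stalk x) X.functionField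
  have h2 : Function.Injective (X.residue (genericPoint X)).hom :=
    RingHom.injective (R := X.functionField) _
  exact h2.comp h1

theorem o_mul (x : X) (h : genericPoint X ⤳ x) {z w : X.functionField} (hz : z ≠ 0)
    (hw : w ≠ 0) :
    Cyc.ordAt x (genericPoint X) h (X.residue (genericPoint X) (z * w)) =
      Cyc.ordAt x (genericPoint X) h (X.residue (genericPoint X) z) +
        Cyc.ordAt x (genericPoint X) h (X.residue (genericPoint X) w) := by
  rw [map_mul]
  exact ordAt_mul h (residue_ne_zero_of_isUnit (Ne.isUnit hz))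
    (residue_ne_zero_of_isUnit (Ne.isUnit hw))

variable [IsLocallyNoetherian X]

/-- The prelude's order along `η ⤳ x` agrees with Mathlib's order of vanishing at a point of
codimension one. -/
theorem ordAt_residue_eq_ord (x : X) (hx : Order.coheight x = 1) (h : genericPoint X ⤳ x)
    (c : X.functionField) (hc : c ≠ 0) :
    Cyc.ordAt x (genericPoint X) h (X.residue (genericPoint X) c) = Scheme.ord c x := by
  haveI : Ring.KrullDimLE 1 (X.presheaf.stalk x) := krullDimLE_of_coheight_le hx.le
  have hker := ker_specMap_generic x h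
  have hinj : Function.Injective
      (Ideal.Quotient.mk (RingHom.ker (Cyc.specMap x (genericPoint X) h))) := by
    rw [RingHom.injective_iff_ker_eq_bot, Ideal.mk_ker]
    exact hker
  let e : X.presheaf.stalk x ≃+* Cyc.LocQuot x (genericPoint X) h :=
    RingEquiv.ofBijective (Ideal.Quotient.mk _) ⟨hinj, Ideal.Quotient.mk_surjective⟩
  let ε : X.functionField ≃+* X.residueField (genericPoint X) :=
    RingEquiv.ofBijective (X.residue (genericPoint X)).hom
      ⟨RingHom.injective (R := X.functionField) _, fun y => Ideal.Quotient.mk_surjective y⟩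
  have hcomp : ∀ r, ε (algebraMap (X.presheaf.stalk x) X.functionField r) =
      algebraMap (Cyc.LocQuot x (genericPoint X) h) (X.residueField (genericPoint X)) (e r) :=
    fun r => rfl
  haveI : IsNoetherianRing (Cyc.LocQuot x (genericPoint X) h) :=
    isNoetherianRing_of_ringEquiv _ e
  haveI : Ring.KrullDimLE 1 (Cyc.LocQuot x (genericPoint X) h) := by
    rw [Ring.krullDimLE_iff, ← ringKrullDim_eq_of_ringEquiv e]
    exact Ring.krullDimLE_iff.mp inferInstance
  haveI : Nontrivial (Cyc.LocQuot x (genericPoint X) h) := e.injective.nontrivial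
  haveI : IsFractionRing (Cyc.LocQuot x (genericPoint X) h) (X.residueField (genericPoint X)) :=
    isFractionRing_transport e ε hcomp
  have h1 : Ring.ordFrac (Cyc.LocQuot x (genericPoint X) h) (X.residue (genericPoint X) c) =
      Ring.ordFrac (X.presheaf.stalk x) c := ordFrac_transport e ε hcomp c
  have h2 : Cyc.ordAt x (genericPoint X) h (X.residue (genericPoint X) c) =
      WithZero.recZeroCoe (motive := fun _ => ℤ) 0 (fun z => Multiplicative.toAdd z)
        (Ring.ordFrac (Cyc.LocQuot x (genericPoint X) h) (X.residue (genericPoint X) c)) := by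
    unfold Cyc.ordAt CycAlg.ordFrac
    rw [dif_pos ⟨‹_›, ‹_›, ‹_›, ‹_›⟩]
  rw [h2, h1, Scheme.ord_eq_ordHom_of_coheight_eq_one hx c]
  obtain ⟨z, hz⟩ := WithZero.ne_zero_iff_exists.mp
    ((map_ne_zero (Ring.ordFrac (X.presheaf.stalk x) (K := X.functionField))).mpr hc)
  show WithZero.recZeroCoe (motive := fun _ => ℤ) 0 (fun z => Multiplicative.toAdd z)
    (Ring.ordFrac (X.presheaf.stalk x) c) =
      Multiplicative.toAdd ((Ring.ordFrac (X.presheaf.stalk x) c).unzeroD 1)
  rw [← hz]
  rfl

/-- On a normal scheme, a rational function of order zero at a point of codimension one is the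
image of an element of the local ring. -/
theorem exists_of_ord_eq_zero (hX : Pi1.IsNormalScheme X) (x : X) (hx1 : Order.coheight x = 1)
    (h : genericPoint X ⤳ x) (κ : X.functionField) (hκ0 : κ ≠ 0) (hord : Scheme.ord κ x = 0) :
    ∃ k : X.presheaf.stalk x, X.presheaf.stalkSpecializes h k = κ := by
  haveI : IsIntegrallyClosed (X.presheaf.stalk x) := (hX x).2
  have hdim : ringKrullDim (X.presheaf.stalk x) = 1 := by
    rw [AlgebraicGeometry.ringKrullDim_stalk_eq_coheight, hx1]
    rfl
  have hlt : ringKrullDim (X.presheaf.stalk x) < 2 := by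
    rw [hdim]
    first
      | exact one_lt_two
      | norm_num
  haveI : IsPrincipalIdealRing (X.presheaf.stalk x) :=
    Groth.Agent.S7862.isPrincipalIdealRing_of_dim_lt_two (X.presheaf.stalk x) hlt
  haveI : IsDiscreteValuationRing (X.presheaf.stalk x) :=
    { not_a_field' := fun hbot => by
        have hfld : IsField (X.presheaf.stalk x) :=
          IsLocalRing.isField_iff_maximalIdeal_eq.mpr hbot
        have h0 := ringKrullDim_eq_zero_of_isField hfld
        rw [hdim] at h0
        exact one_ne_zero h0 }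
  haveI : Ring.KrullDimLE 1 (X.presheaf.stalk x) := krullDimLE_of_coheight_le hx1.le
  have h1 : Ring.ordFrac (X.presheaf.stalk x) κ = Ring.ordFrac (X.presheaf.stalk x) (1 : X.functionField) := by
    rw [map_one]
    have h2 := (Scheme.ord_eq_iff hx1 hκ0 (n := 0)).mp hord
    exact h2
  obtain ⟨u, hu⟩ := Ring.associated_of_ordFrac_eq (R := X.presheaf.stalk x) κ 1 h1
  refine ⟨((u⁻¹ : (X.presheaf.stalk x)ˣ) : X.presheaf.stalk x), ?_⟩
  have h3 : algebraMap (X.presheaf.stalk x) X.functionField (u : X.presheaf.stalk x) * κ = 1 := by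
    rw [← Algebra.smul_def]
    exact hu
  have h4 : algebraMap (X.presheaf.stalk x) X.functionField
      (((u⁻¹ : (X.presheaf.stalk x)ˣ) : X.presheaf.stalk x)) = κ := by
    have h5 : algebraMap (X.presheaf.stalk x) X.functionField
        (((u⁻¹ : (X.presheaf.stalk x)ˣ) : X.presheaf.stalk x)) *
        algebraMap (X.presheaf.stalk x) X.functionField (u : X.presheaf.stalk x) = 1 := by
      rw [← map_mul, Units.inv_mul, map_one]
    calc algebraMap (X.presheaf.stalk x) X.functionField
          (((u⁻¹ : (X.presheaf.stalk x)ˣ) : X.presheaf.stalk x))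
        = algebraMap (X.presheaf.stalk x) X.functionField
          (((u⁻¹ : (X.presheaf.stalk x)ˣ) : X.presheaf.stalk x)) *
          (algebraMap (X.presheaf.stalk x) X.functionField (u : X.presheaf.stalk x) * κ) := by
            rw [h3, mul_one]
      _ = κ := by rw [← mul_assoc, h5, one_mul]
  exact h4

end Generic

section Main

/-- Morphisms into a torsion-free quasi-coherent module on an integral scheme are determined by
their generic stalk maps. -/
theorem hom_ext_of_generic {M F : X.Modules} [F.IsQuasicoherent] (hF : TorSh.IsTorsionFree F)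
    (φ₁ φ₂ : M ⟶ F)
    (h : RefHull.stalkMapₗ φ₁ (genericPoint X) = RefHull.stalkMapₗ φ₂ (genericPoint X)) :
    φ₁ = φ₂ := by
  apply Scheme.Modules.hom_ext
  intro U
  ext m
  refine section_ext_germ F _ _ (fun y => ?_)
  have hηU : genericPoint X ∈ U :=
    ((genericPoint_spec X).specializes (Set.mem_univ y.1)).mem_open U.2 y.2
  refine germ_eq_of_germ_generic_eq F hF hηU hηU _ _ ?_ y.1 y.2 y.2
  have h1 := RefHull.stalkMapₗ_germ φ₁ (genericPoint X) hηU m
  have h2 := RefHull.stalkMapₗ_germ φ₂ (genericPoint X) hηU m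
  rw [h] at h1
  exact h1.symm.trans h2

/-- The stalk map of an isomorphism sends a free generator to a unit multiple of a free
generator. -/
theorem exists_unit_stalkMap {F G : X.Modules} (φ : F ≅ G) {y : X} {t : F.presheaf.stalk y}
    {t' : G.presheaf.stalk y} (ht : FreeAt F t) (ht' : FreeAt G t') :
    ∃ k : X.presheaf.stalk y, IsUnit k ∧ RefHull.stalkMapₗ φ.hom y t = k • t' := by
  obtain ⟨k, hk⟩ := ht'.2 (RefHull.stalkMapₗ φ.hom y t)
  obtain ⟨k', hk'⟩ := ht.2 (RefHull.stalkMapₗ φ.inv y t')
  have hk1 : k • t' = RefHull.stalkMapₗ φ.hom y t := hk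
  have hk1' : k' • t = RefHull.stalkMapₗ φ.inv y t' := hk'
  refine ⟨k, ?_, hk1.symm⟩
  have h1 : (k * k') • t = (1 : X.presheaf.stalk y) • t := by
    rw [one_smul, mul_smul, hk1', ← map_smul, hk1, ← DefoSh.stalkMapₗ_comp_apply, φ.hom_inv_id,
      DefoSh.stalkMapₗ_id_apply]
  exact IsUnit.of_mul_eq_one _ (ht.1 h1)

variable [IsLocallyNoetherian X]

/-- A generator of a rank one reflexive module near a point of codimension at most one, compared
with a generator near the generic point. -/
theorem exists_local_gen (hX : Pi1.IsNormalScheme X) {F : X.Modules} (hF : RefHull.IsRef1 F)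
    {V₀ : X.Opens} {τ₀ : Γ(F, V₀)} (hτ₀ : IsGen F V₀ τ₀) (hηV₀ : genericPoint X ∈ V₀) (x : X)
    (hx : ringKrullDim (X.presheaf.stalk x) < 2) :
    ∃ (V : X.Opens) (α : Γ(F, V)) (hxV : x ∈ V) (hηV : genericPoint X ∈ V)
      (cη c' : X.presheaf.stalk (genericPoint X)),
      IsGen F V α ∧ cη * c' = 1 ∧
      F.presheaf.germ V (genericPoint X) hηV α =
        cη • F.presheaf.germ V₀ (genericPoint X) hηV₀ τ₀ ∧
      ∀ (h : genericPoint X ⤳ x) (s : Cyc.secFibre F (genericPoint X))
        (a : X.presheaf.stalk (genericPoint X)),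
        s = a • (Submodule.Quotient.mk (F.presheaf.germ V₀ (genericPoint X) hηV₀ τ₀) :
          Cyc.secFibre F (genericPoint X)) →
        Cyc.secOrdAt F (genericPoint X) x h s =
          Cyc.ordAt x (genericPoint X) h (X.residue (genericPoint X) (a * c')) := by
  obtain ⟨V, α, hxV, hα⟩ := exists_isGen_of_dim_lt_two hX F hF x hx
  have hηV : genericPoint X ∈ V :=
    ((genericPoint_spec X).specializes (Set.mem_univ x)).mem_open V.2 hxV
  have hηP : genericPoint X ∈ V₀ ⊓ V := ⟨hηV₀, hηV⟩
  obtain ⟨c, hc⟩ := (hτ₀ (V₀ ⊓ V) inf_le_left).2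
    (F.presheaf.map (homOfLE (inf_le_right : V₀ ⊓ V ≤ V)).op α)
  have hc' : F.presheaf.map (homOfLE (inf_le_right : V₀ ⊓ V ≤ V)).op α =
      c • F.presheaf.map (homOfLE (inf_le_left : V₀ ⊓ V ≤ V₀)).op τ₀ := hc.symm
  have hcu : IsUnit (X.presheaf.germ (V₀ ⊓ V) (genericPoint X) hηP c) :=
    isUnit_germ_of_genAt hτ₀ α c hc' (genericPoint X) hηV₀ hηV hηP
      (genAt_of_isGen hα (genericPoint X) hηV)
  obtain ⟨c', hcc'⟩ := hcu.exists_right_inv
  refine ⟨V, α, hxV, hηV, X.presheaf.germ (V₀ ⊓ V) (genericPoint X) hηP c, c', hα, hcc',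
    germ_eq_smul_germ τ₀ α c hc' (genericPoint X) hηV₀ hηV hηP, fun h s a hs => ?_⟩
  exact secOrdAt_rebase hα c hc' h hxV hηV hηV₀ hηP c' hcc' s a hs

/-- The generic linear map `s ↦ f t` maps the stalk `F_x` into `G_x` at every point `x` of
codimension one where the orders of `s` and `f t` agree. -/
theorem maps_stalk_of_ord_eq (hX : Pi1.IsNormalScheme X) {F G : X.Modules}
    (hF : RefHull.IsRef1 F) (hG : RefHull.IsRef1 G) {V₀ : X.Opens} {τ₀ : Γ(F, V₀)}
    {ν₀ : Γ(G, V₀)} (hτ₀ : IsGen F V₀ τ₀) (hν₀ : IsGen G V₀ ν₀) (hηV₀ : genericPoint X ∈ V₀)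
    (s : Cyc.secFibre F (genericPoint X)) (t : Cyc.secFibre G (genericPoint X))
    (a b ainv : X.functionField)
    (ha : s = a • (Submodule.Quotient.mk (F.presheaf.germ V₀ (genericPoint X) hηV₀ τ₀) :
      Cyc.secFibre F (genericPoint X)))
    (hb : t = b • (Submodule.Quotient.mk (G.presheaf.germ V₀ (genericPoint X) hηV₀ ν₀) :
      Cyc.secFibre G (genericPoint X)))
    (hainv : a * ainv = 1) (hb0 : b ≠ 0) (f : X.functionField) (hf0 : f ≠ 0)
    (hf : ∀ (x : X) (h : genericPoint X ⤳ x), Order.coheight x = 1 →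
      Cyc.secOrdAt F (genericPoint X) x h s =
        Cyc.secOrdAt G (genericPoint X) x h t + Scheme.ord f x)
    (x : X) (hdim : ringKrullDim (X.presheaf.stalk x) = 1) (h : genericPoint X ⤳ x)
    (v : F.presheaf.stalk x) :
    ∃ w : G.presheaf.stalk x,
      genHom (freeAt_of_isGen hτ₀ (genericPoint X) hηV₀)
        ((f * b * ainv) • G.presheaf.germ V₀ (genericPoint X) hηV₀ ν₀)
        ((F.presheaf.stalkSpecializes h) v) = (G.presheaf.stalkSpecializes h) w := by
  have hx1 : Order.coheight x = 1 := by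
    have h0 := (AlgebraicGeometry.ringKrullDim_stalk_eq_coheight x).symm.trans hdim
    exact_mod_cast h0
  have hdimx : ringKrullDim (X.presheaf.stalk x) < 2 := by
    rw [hdim]
    first
      | exact one_lt_two
      | norm_num
  obtain ⟨V, α, hxV, hηV, cη, c', hα, hcc', hαη, hsF⟩ := exists_local_gen hX hF hτ₀ hηV₀ x hdimx
  obtain ⟨W, β, hxW, hηW, dη, d', hβ, hdd', hβη, hsG⟩ := exists_local_gen hX hG hν₀ hηV₀ x hdimx
  have ha0 : a ≠ 0 := left_ne_zero_of_mul_eq_one hainv
  have hainv0 : ainv ≠ 0 := right_ne_zero_of_mul_eq_one hainv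
  have hcη0 : cη ≠ 0 := left_ne_zero_of_mul_eq_one hcc'
  have hc'0 : c' ≠ 0 := right_ne_zero_of_mul_eq_one hcc'
  have hd'0 : d' ≠ 0 := right_ne_zero_of_mul_eq_one hdd'
  obtain ⟨κ, hκ⟩ : ∃ κ : X.functionField, κ = cη * (f * b * ainv) * d' := ⟨_, rfl⟩
  have key : (a * c') * κ = (b * d') * f := by
    rw [hκ]
    linear_combination (c' * cη * f * b * d') * hainv + (f * b * d') * hcc'
  have hκ0 : κ ≠ 0 := by
    rw [hκ]
    exact mul_ne_zero (mul_ne_zero hcη0 (mul_ne_zero (mul_ne_zero hf0 hb0) hainv0)) hd'0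
  have ho : Cyc.ordAt x (genericPoint X) h (X.residue (genericPoint X) κ) = 0 := by
    have e1 := o_mul x h (mul_ne_zero ha0 hc'0) hκ0
    have e2 := o_mul x h (mul_ne_zero hb0 hd'0) hf0
    rw [key] at e1
    have e3 := hf x h hx1
    rw [hsF h s a ha, hsG h t b hb, ← ordAt_residue_eq_ord x hx1 h f hf0] at e3
    omega
  have hord : Scheme.ord κ x = 0 := by
    rw [← ordAt_residue_eq_ord x hx1 h κ hκ0]
    exact ho
  obtain ⟨k, hk⟩ := exists_of_ord_eq_zero hX x hx1 h κ hκ0 hord
  obtain ⟨r, hr⟩ := genAt_of_isGen hα x hxV v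
  refine ⟨(r * k) • G.presheaf.germ W x hxW β, ?_⟩
  rw [hr, sp_smul, sp_germ, hαη, map_smul, map_smul, genHom_self, sp_smul, sp_germ, hβη, map_mul,
    hk, hκ, ← mul_smul, ← mul_smul, ← mul_smul]
  congr 1
  linear_combination (-(X.presheaf.stalkSpecializes h r * cη * (f * b * ainv))) * hdd'

end Main

end Groth.Agent.H95.RefIso
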