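import Mathlib
import Groth.Prelude

/-!
# Effective Cartier ideals: the condition is local (hedge for S7894 squad piece ECL)
-/

set_option autoImplicit false
universe u
open CategoryTheory CategoryTheory.Limits AlgebraicGeometry

namespace Groth.Agent.H95.EffCartierLocal

theorem nzd_of_iso {R S : CommRingCat.{u}} (e : R ≅ S) (c : R) (hc : c ∈ nonZeroDivisors R) :
    e.hom.hom c ∈ nonZeroDivisors S := by
  rw [mem_nonZeroDivisors_iff_right]
  intro z hz
  have h2 : e.inv.hom (e.hom.hom c) = c := by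
    rw [← CommRingCat.comp_apply, Iso.hom_inv_id]; rfl
  have h1 : e.inv.hom z * c = 0 := by
    have h0 := congrArg e.inv.hom hz
    rw [map_mul, map_zero, h2] at h0
    exact h0
  have h3 := (mem_nonZeroDivisors_iff_right.mp hc) _ h1
  have h4 : e.hom.hom (e.inv.hom z) = z := by
    rw [← CommRingCat.comp_apply, Iso.inv_hom_id]; rfl
  rw [← h4, h3, map_zero]

theorem ECL {X : Scheme.{u}} (J : X.IdealSheafData) {ι : Type*} (V : ι → X.Opens)
    (hV : ⨆ i, V i = ⊤) (h : ∀ i, BlowUp.IsEffCartierIdeal (J.comap (V i).ι)) :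
    BlowUp.IsEffCartierIdeal J := by
  intro x
  have hx : x ∈ (⨆ i, V i : X.Opens) := by rw [hV]; trivial
  obtain ⟨i, hi⟩ := TopologicalSpace.Opens.mem_iSup.mp hx
  obtain ⟨W, hxW, t, ht, hW⟩ := h i ⟨x, hi⟩
  have hW' : IsAffineOpen ((V i).ι ''ᵁ W.1) := W.2.image_of_isOpenImmersion (V i).ι
  refine ⟨⟨(V i).ι ''ᵁ W.1, hW'⟩, ⟨⟨x, hi⟩, hxW, rfl⟩, ?_⟩
  rw [Scheme.IdealSheafData.ideal_comap_of_isOpenImmersion] at hW
  refine ⟨((V i).ι.appIso W.1).inv.hom t, nzd_of_iso ((V i).ι.appIso W.1).symm t ht, ?_⟩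
  have hsurj : Function.Surjective ((V i).ι.appIso W.1).inv.hom :=
    (ConcreteCategory.bijective_of_isIso ((V i).ι.appIso W.1).inv).surjective
  have h1 := Ideal.map_comap_of_surjective _ hsurj
    (J.ideal ⟨(V i).ι ''ᵁ W.1, hW'⟩)
  rw [hW, Ideal.map_span, Set.image_singleton] at h1
  exact h1.symm

end Groth.Agent.H95.EffCartierLocal
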