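import Groth.Agent.H95.AffSpaceOrd2
import Groth.Agent.H97.OrdOpen
import Groth.Agent.H88.ProjChart

/-!
# The standard chart `D_+(X_0)` of projective space over a ring, for Weil divisor computations

* `ord_ffMap_of_generic`: a pulled back rational function has order zero at points lying over the
  generic point.
* `toSpecZero_mem_basicOpen_iff'`: the structure map of `Proj` on points.
* `c0 : Spec A[t] ⟶ P^n_A` (the chart `X_0 ≠ 0`), `c0' : 𝔸^n_{Spec A} ⟶ P^n_A`, their compatibility
  with the structure maps, and the description of their ranges.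
* for the hyperplane point `H` (ideal `(X_0)`): `H` lies over the generic point, and every other
  point of codimension one lies in the chart.
-/

set_option autoImplicit false
set_option linter.style.haveILetI false
universe u

open CategoryTheory CategoryTheory.Limits AlgebraicGeometry TopologicalSpace Opposite
open HomogeneousLocalization
open Groth.Agent.H95.FFMap Groth.Agent.H95.AffSpaceOrd Groth.Agent.H97.OrdOpen
open Groth.Agent.H88.ProjChart Groth.Agent.H18.ProjUPUniq
open Order

namespace Groth.Agent.H95.ProjSpaceChart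

section General

variable {X Y : Scheme.{u}} [IsIntegral X] [IsIntegral Y]

lemma isUnit_of_generic (x : X) (hx : x = genericPoint X) (b : X.presheaf.stalk x)
    (hb : algebraMap (X.presheaf.stalk x) X.functionField b ≠ 0) : IsUnit b := by
  subst hx
  have hb0 : (b : X.functionField) ≠ 0 := fun h => hb (by rw [h]; exact map_zero _)
  exact hb0.isUnit

variable [IsLocallyNoetherian Y]

/-- A pulled back rational function has neither zero nor pole at a point over the generic point. -/
lemma ord_ffMap_of_generic (q : Y ⟶ X) (hq : q (genericPoint Y) ⤳ genericPoint X) (y : Y)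
    (hy : q y = genericPoint X) (f : X.functionField) (hf : f ≠ 0) :
    Scheme.ord (ffMap q hq f) y = 0 := by
  by_cases hy1 : coheight y = 1
  swap
  · exact Scheme.ord_eq_zero_of_coheight_neq_one hy1 _
  obtain ⟨b, hb⟩ : ∃ b : X.presheaf.stalk (q y),
      algebraMap (X.presheaf.stalk (q y)) X.functionField b = f := by
    obtain ⟨U, hU, r, rfl⟩ := TopCat.Presheaf.exists_germ_eq X.presheaf f
    have hU' : q y ∈ U := by rw [hy]; exact hU
    exact ⟨X.presheaf.germ U (q y) hU' r,
      TopCat.Presheaf.germ_stalkSpecializes_apply X.presheaf hU' (genericPoint_specializes _) r⟩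
  have hbu : IsUnit b := isUnit_of_generic (q y) hy b (by rw [hb]; exact hf)
  rw [← hb, ffMap_algebraMap]
  exact ord_of_unit_stalk y hy1 _ (hbu.map (q.stalkMap y).hom)

end General

section ProjGeneral

variable {σ : Type*} {B : Type u} [CommRing B] [SetLike σ B] [AddSubgroupClass σ B]
  (𝒜 : ℕ → σ) [GradedRing 𝒜]

theorem fromZero_val' (f : B) (y : 𝒜 0) :
    (fromZeroRingHom 𝒜 (Submonoid.powers f) y).val =
      Localization.mk ((y : B) * f ^ 0) ⟨f ^ 0, pow_mem (Submonoid.mem_powers f) 0⟩ := by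
  show (HomogeneousLocalization.mk ⟨0, y, 1, one_mem _⟩ :
    HomogeneousLocalization 𝒜 (Submonoid.powers f)).val = _
  rw [HomogeneousLocalization.val_mk, Localization.mk_eq_mk_iff, Localization.r_iff_exists]
  exact ⟨1, by simp⟩

/-- the structure morphism `Proj 𝒜 → Spec 𝒜_0` and basic opens of degree-zero elements -/
theorem toSpecZero_mem_basicOpen_iff' {d : ℕ} (hd : 0 < d) {f : B} (hf : f ∈ 𝒜 d)
    (b : 𝒜 0) (Q : Proj 𝒜) (hfQ : f ∉ Q.asHomogeneousIdeal) :
    (Proj.toSpecZero 𝒜).base Q ∈ PrimeSpectrum.basicOpen b ↔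
      (b : B) ∉ Q.asHomogeneousIdeal := by
  have hQf : Q ∈ Proj.basicOpen 𝒜 f := (Proj.mem_basicOpen 𝒜 f Q).mpr hfQ
  rw [← Proj.opensRange_awayι 𝒜 f hf hd] at hQf
  obtain ⟨y, rfl⟩ := hQf
  have h1 : (Proj.toSpecZero 𝒜).base ((Proj.awayι 𝒜 f hf hd).base y) =
      (Spec.map (CommRingCat.ofHom (fromZeroRingHom 𝒜 (Submonoid.powers f)))).base y :=
    congrArg (fun k => k.base y) (Proj.awayι_toSpecZero 𝒜 f hf hd)
  rw [h1]
  have hbf : (b : B) * f ∈ 𝒜 d := by simpa using SetLike.mul_mem_graded b.2 hf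
  have h2 := Proj.awayι_preimage_basicOpen 𝒜 hf hd hbf hd
  have h3 : (Proj.awayι 𝒜 f hf hd).base y ∈ Proj.basicOpen 𝒜 ((b : B) * f) ↔
      y ∈ PrimeSpectrum.basicOpen (Away.isLocalizationElem hf hbf) := by
    rw [← h2]; exact Iff.rfl
  have h4 : Away.isLocalizationElem hf hbf = (fromZeroRingHom 𝒜 (Submonoid.powers f) b) ^ d := by
    apply HomogeneousLocalization.val_injective
    rw [HomogeneousLocalization.val_pow, fromZero_val', Away.val_mk, Localization.mk_pow,
      Localization.mk_eq_mk_iff, Localization.r_iff_exists]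
    refine ⟨1, ?_⟩
    simp only [OneMemClass.coe_one, one_mul, pow_zero, mul_one, one_pow, SubmonoidClass.coe_pow]
    ring
  rw [h4, PrimeSpectrum.basicOpen_pow _ d hd] at h3
  have h5 : (b : B) ∉ ((Proj.awayι 𝒜 f hf hd).base y).asHomogeneousIdeal ↔
      (Proj.awayι 𝒜 f hf hd).base y ∈ Proj.basicOpen 𝒜 ((b : B) * f) := by
    rw [Proj.mem_basicOpen]
    constructor
    · intro hb hbfQ
      rcases ((Proj.awayι 𝒜 f hf hd).base y).isPrime.mem_or_mem hbfQ with h | h
      · exact hb h
      · exact hfQ h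
    · intro hbfQ hb
      exact hbfQ (Ideal.mul_mem_right _ _ hb)
  rw [h5, h3]
  exact Iff.rfl

end ProjGeneral

section Chart

variable (n : ℕ) (A : Type u) [CommRing A]

/-- the index type of the chart `X_0 ≠ 0`, in the universe of `A` -/
abbrev I0 : Type u := ULift.{u} {j : Fin (n + 1) // j ≠ 0}

/-- the coordinate ring of the chart `X_0 ≠ 0` is a polynomial ring -/
noncomputable def e0 : MvPolynomial (I0 n) A ≃+* B n A 0 :=
  (MvPolynomial.renameEquiv A
    (Equiv.ulift : I0 n ≃ {j : Fin (n + 1) // j ≠ 0})).toRingEquiv.trans (chartEquiv n A 0)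

lemma e0_C (r : A) : e0 n A (MvPolynomial.C r) =
    constMapG (CohB1.polyGrading n A) (MvPolynomial.X 0) r := by
  show chartEquiv n A 0 (MvPolynomial.renameEquiv A Equiv.ulift (MvPolynomial.C r)) = _
  rw [MvPolynomial.renameEquiv_apply, MvPolynomial.rename_C, chartEquiv_C]

/-- the chart `X_0 ≠ 0`, with values in `Proj` -/
noncomputable def c0P : Spec (SS (CommRingCat.of A) (I0 n)) ⟶ Proj (CohB1.polyGrading n A) :=
  Spec.map (CommRingCat.ofHom ((e0 n A).symm : B n A 0 →+* MvPolynomial (I0 n) A)) ≫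
    Proj.awayι (CohB1.polyGrading n A) (MvPolynomial.X 0) (hT n A 0) Nat.one_pos

instance : IsOpenImmersion (c0P n A) := by
  haveI : IsIso (CommRingCat.ofHom ((e0 n A).symm : B n A 0 →+* MvPolynomial (I0 n) A)) :=
    (inferInstance : IsIso (e0 n A).symm.toCommRingCatIso.hom)
  unfold c0P
  infer_instance

/-- the chart `X_0 ≠ 0` -/
noncomputable def c0 : Spec (SS (CommRingCat.of A) (I0 n)) ⟶ CohB1.ProjSpace n A :=
  c0P n A

instance : IsOpenImmersion (c0 n A) := inferInstanceAs (IsOpenImmersion (c0P n A))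

lemma c0_toSpec : c0 n A ≫ CohB1.ProjSpace.toSpec n A = qq (CommRingCat.of A) (I0 n) := by
  have key : (Spec.map (CommRingCat.ofHom ((e0 n A).symm : B n A 0 →+* MvPolynomial (I0 n) A)) ≫
      Proj.awayι (CohB1.polyGrading n A) (MvPolynomial.X 0) (hT n A 0) Nat.one_pos) ≫
      Proj.toSpecZero (CohB1.polyGrading n A) ≫
        Spec.map (CommRingCat.ofHom (algebraMap A (CohB1.polyGrading n A 0))) =
      Spec.map (CommRingCat.ofHom (MvPolynomial.C : A →+* MvPolynomial (I0 n) A)) := by
    rw [Category.assoc, Proj.awayι_toSpecZero_assoc, ← Spec.map_comp, ← Spec.map_comp]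
    congr 1
    refine CommRingCat.hom_ext (RingHom.ext fun r => ?_)
    show (e0 n A).symm (fromZeroRingHom (CohB1.polyGrading n A) (Submonoid.powers _)
      (algebraMap A (CohB1.polyGrading n A 0) r)) = MvPolynomial.C r
    rw [RingEquiv.symm_apply_eq, e0_C]
    rfl
  exact key

lemma c0_apply (v : Spec (SS (CommRingCat.of A) (I0 n))) :
    (CohB1.ProjSpace.toSpec n A) ((c0 n A) v) = (qq (CommRingCat.of A) (I0 n)) v := by
  rw [← Scheme.Hom.comp_apply, c0_toSpec]

lemma c0_notMem (v : Spec (SS (CommRingCat.of A) (I0 n))) :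
    (MvPolynomial.X 0 : MvPolynomial (Fin (n + 1)) A) ∉ ((c0 n A) v).asHomogeneousIdeal := by
  have h1 : (c0 n A) v ∈ Proj.basicOpen (CohB1.polyGrading n A)
      (MvPolynomial.X 0 : MvPolynomial (Fin (n + 1)) A) := by
    rw [← Proj.opensRange_awayι (CohB1.polyGrading n A) _ (hT n A 0) Nat.one_pos]
    exact ⟨(Spec.map (CommRingCat.ofHom
      ((e0 n A).symm : B n A 0 →+* MvPolynomial (I0 n) A))) v, rfl⟩
  exact (Proj.mem_basicOpen _ _ _).mp h1

lemma exists_c0 (y : CohB1.ProjSpace n A)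
    (hy : (MvPolynomial.X 0 : MvPolynomial (Fin (n + 1)) A) ∉ y.asHomogeneousIdeal) :
    ∃ v, (c0 n A) v = y := by
  have hy' : y ∈ Proj.basicOpen (CohB1.polyGrading n A)
      (MvPolynomial.X 0 : MvPolynomial (Fin (n + 1)) A) := (Proj.mem_basicOpen _ _ y).mpr hy
  rw [← Proj.opensRange_awayι (CohB1.polyGrading n A) _ (hT n A 0) Nat.one_pos] at hy'
  obtain ⟨w, rfl⟩ := hy'
  refine ⟨(Spec.map (CommRingCat.ofHom
    ((e0 n A : MvPolynomial (I0 n) A ≃+* B n A 0) : MvPolynomial (I0 n) A →+* B n A 0))) w, ?_⟩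
  have h1 : Spec.map (CommRingCat.ofHom
      ((e0 n A : MvPolynomial (I0 n) A ≃+* B n A 0) : MvPolynomial (I0 n) A →+* B n A 0)) ≫
      c0P n A = Proj.awayι (CohB1.polyGrading n A) (MvPolynomial.X 0) (hT n A 0) Nat.one_pos := by
    unfold c0P
    rw [← Category.assoc, ← Spec.map_comp]
    have h2 : CommRingCat.ofHom ((e0 n A).symm : B n A 0 →+* MvPolynomial (I0 n) A) ≫
        CommRingCat.ofHom ((e0 n A : MvPolynomial (I0 n) A ≃+* B n A 0) :
          MvPolynomial (I0 n) A →+* B n A 0) = 𝟙 _ := by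
      refine CommRingCat.hom_ext (RingHom.ext fun x => ?_)
      exact (e0 n A).apply_symm_apply x
    rw [h2, Spec.map_id, Category.id_comp]
  exact congrArg (fun k => k.base w) h1

/-- the chart `X_0 ≠ 0`, as a morphism from affine space over `Spec A` -/
noncomputable def c0' : 𝔸(I0 n; Spec (CommRingCat.of A)) ⟶ CohB1.ProjSpace n A :=
  (AffineSpace.SpecIso (I0 n) (CommRingCat.of A)).hom ≫ c0 n A

instance : IsOpenImmersion (c0' n A) := by
  unfold c0'
  infer_instance

lemma c0'_toSpec : c0' n A ≫ CohB1.ProjSpace.toSpec n A =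
    𝔸(I0 n; Spec (CommRingCat.of A)) ↘ Spec (CommRingCat.of A) := by
  unfold c0'
  rw [Category.assoc, c0_toSpec]
  have h := AffineSpace.SpecIso_inv_over (n := I0 n) (CommRingCat.of A)
  exact ((Iso.inv_comp_eq _).mp h).symm

lemma c0'_apply (w : 𝔸(I0 n; Spec (CommRingCat.of A))) :
    (CohB1.ProjSpace.toSpec n A) ((c0' n A) w) =
      (𝔸(I0 n; Spec (CommRingCat.of A)) ↘ Spec (CommRingCat.of A)) w := by
  rw [← Scheme.Hom.comp_apply, c0'_toSpec]

lemma exists_c0'_of_c0 (v : Spec (SS (CommRingCat.of A) (I0 n))) :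
    ∃ w, (c0' n A) w = (c0 n A) v := by
  refine ⟨(AffineSpace.SpecIso (I0 n) (CommRingCat.of A)).inv v, ?_⟩
  rw [← Scheme.Hom.comp_apply]
  unfold c0'
  rw [Iso.inv_hom_id_assoc]

end Chart

section Hyperplane

variable {n : ℕ} {A : Type u} [CommRing A]

lemma X0_mem_of_hH (H : CohB1.ProjSpace n A)
    (hH : H.asHomogeneousIdeal.toIdeal =
      Ideal.span {(MvPolynomial.X 0 : MvPolynomial (Fin (n + 1)) A)}) :
    (MvPolynomial.X 0 : MvPolynomial (Fin (n + 1)) A) ∈ H.asHomogeneousIdeal := by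
  rw [← HomogeneousIdeal.mem_iff, hH]
  exact Ideal.mem_span_singleton_self _

lemma specializes_of_mem (H y : CohB1.ProjSpace n A)
    (hH : H.asHomogeneousIdeal.toIdeal =
      Ideal.span {(MvPolynomial.X 0 : MvPolynomial (Fin (n + 1)) A)})
    (hy : (MvPolynomial.X 0 : MvPolynomial (Fin (n + 1)) A) ∈ y.asHomogeneousIdeal) : H ⤳ y := by
  rw [specializes_iff_mem_closure]
  refine (ProjectiveSpectrum.le_iff_mem_closure (CohB1.polyGrading n A) H y).mp ?_
  show H.asHomogeneousIdeal ≤ y.asHomogeneousIdeal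
  intro a ha
  have ha' : a ∈ H.asHomogeneousIdeal.toIdeal := HomogeneousIdeal.mem_iff.mpr ha
  rw [hH, Ideal.mem_span_singleton] at ha'
  obtain ⟨c, rfl⟩ := ha'
  exact HomogeneousIdeal.mem_iff.mp
    (Ideal.mul_mem_right c _ (HomogeneousIdeal.mem_iff.mpr hy))

variable [IsDomain A]

/-- every point of codimension one other than the hyperplane `X_0 = 0` lies in the chart -/
lemma exists_c0_of_coheight [IsIntegral (CohB1.ProjSpace n A)] (H y : CohB1.ProjSpace n A)
    (hH : H.asHomogeneousIdeal.toIdeal =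
      Ideal.span {(MvPolynomial.X 0 : MvPolynomial (Fin (n + 1)) A)})
    (hne : y ≠ H) (hy1 : coheight y = 1) : ∃ v, (c0 n A) v = y := by
  by_contra hcon
  have hyX : (MvPolynomial.X 0 : MvPolynomial (Fin (n + 1)) A) ∈ y.asHomogeneousIdeal := by
    by_contra h
    exact hcon (exists_c0 n A y h)
  have hHy : H ⤳ y := specializes_of_mem H y hH hyX
  have hle : y ≤ H := hHy
  have hlt : y < H := lt_of_le_not_ge hle (fun hge => hne ((hHy.antisymm hge).eq).symm)
  have h1 : coheight y ≤ ((1 : ℕ) : ℕ∞) := by rw [hy1, Nat.cast_one]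
  have h2 : coheight H < ((1 : ℕ) : ℕ∞) := (Order.coheight_le_coe_iff.mp h1) H hlt
  rw [Nat.cast_one] at h2
  have h3 : coheight H = 0 := Order.lt_one_iff.mp h2
  have h4 : IsMax H := Order.coheight_eq_zero.mp h3
  have h5 : H ≤ genericPoint (CohB1.ProjSpace n A) := genericPoint_specializes H
  have h6 : H ⤳ genericPoint (CohB1.ProjSpace n A) := h4 h5
  have h7 : genericPoint (CohB1.ProjSpace n A) = H :=
    ((genericPoint_specializes H).antisymm h6).eq
  have h8 := c0_notMem n A (genericPoint (Spec (SS (CommRingCat.of A) (I0 n))))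
  rw [genericPoint_eq_of_isOpenImmersion (c0 n A), h7] at h8
  exact h8 (X0_mem_of_hH H hH)

lemma exists_c0'_of_coheight [IsIntegral (CohB1.ProjSpace n A)] (H y : CohB1.ProjSpace n A)
    (hH : H.asHomogeneousIdeal.toIdeal =
      Ideal.span {(MvPolynomial.X 0 : MvPolynomial (Fin (n + 1)) A)})
    (hne : y ≠ H) (hy1 : coheight y = 1) : ∃ w, (c0' n A) w = y := by
  obtain ⟨v, rfl⟩ := exists_c0_of_coheight H y hH hne hy1
  exact exists_c0'_of_c0 n A v

/-- the hyperplane point lies over the generic point of the base -/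
lemma toSpec_eq_generic (hn : 1 ≤ n) (H : CohB1.ProjSpace n A)
    (hH : H.asHomogeneousIdeal.toIdeal =
      Ideal.span {(MvPolynomial.X 0 : MvPolynomial (Fin (n + 1)) A)}) :
    (CohB1.ProjSpace.toSpec n A) H = genericPoint (Spec (CommRingCat.of A)) := by
  obtain ⟨i, hi⟩ : ∃ i : Fin (n + 1), i ≠ 0 :=
    ⟨⟨1, by omega⟩, fun h => by
      have h' := congrArg Fin.val h
      simp at h'⟩
  have hmemX0 : ∀ p : MvPolynomial (Fin (n + 1)) A, p ∈ H.asHomogeneousIdeal ↔
      (MvPolynomial.X 0 : MvPolynomial (Fin (n + 1)) A) ∣ p := by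
    intro p
    rw [← HomogeneousIdeal.mem_iff, hH, Ideal.mem_span_singleton]
  have hXi : (MvPolynomial.X i : MvPolynomial (Fin (n + 1)) A) ∉ H.asHomogeneousIdeal := by
    rw [hmemX0]
    rintro ⟨p, hp⟩
    have h1 := congrArg (MvPolynomial.eval (fun j : Fin (n + 1) => if j = 0 then (0 : A) else 1)) hp
    rw [map_mul, MvPolynomial.eval_X, MvPolynomial.eval_X, if_neg hi, if_pos rfl, zero_mul] at h1
    exact one_ne_zero h1
  rw [genericPoint_eq_bot_of_affine]
  apply PrimeSpectrum.ext
  show Ideal.comap (algebraMap A (CohB1.polyGrading n A 0))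
    (PrimeSpectrum.asIdeal ((Proj.toSpecZero (CohB1.polyGrading n A)).base H)) = ⊥
  ext a
  rw [Ideal.mem_comap, Ideal.mem_bot]
  have key := toSpecZero_mem_basicOpen_iff' (CohB1.polyGrading n A) Nat.one_pos (hT n A i)
    (algebraMap A (CohB1.polyGrading n A 0) a) H hXi
  have key' : ¬ ((algebraMap A (CohB1.polyGrading n A 0) a) ∈
      PrimeSpectrum.asIdeal ((Proj.toSpecZero (CohB1.polyGrading n A)).base H)) ↔
      ¬ (((algebraMap A (CohB1.polyGrading n A 0) a : CohB1.polyGrading n A 0) :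
        MvPolynomial (Fin (n + 1)) A) ∈ H.asHomogeneousIdeal) := key
  rw [not_iff_not] at key'
  rw [key', hmemX0]
  have hC : ((algebraMap A (CohB1.polyGrading n A 0) a : CohB1.polyGrading n A 0) :
      MvPolynomial (Fin (n + 1)) A) = MvPolynomial.C a := rfl
  rw [hC]
  constructor
  · rintro ⟨p, hp⟩
    have h1 := congrArg MvPolynomial.constantCoeff hp
    rw [map_mul, MvPolynomial.constantCoeff_C, MvPolynomial.constantCoeff_X, zero_mul] at h1
    exact h1
  · rintro rfl
    rw [map_zero]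
    exact dvd_zero _

end Hyperplane

end Groth.Agent.H95.ProjSpaceChart
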