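import Mathlib
import Groth.Prelude.Def_WeilCoh
import Groth.Prelude.Def_W4c1zetahwZeta
import Groth.Prelude.Def_SgaExt

/-!
# (L1) for helper74's zeta squad: `a - a^N` lies in the ideal of the graph of Frobenius
-/

set_option autoImplicit false
universe u v w
open CategoryTheory CategoryTheory.Limits AlgebraicGeometry

namespace Groth.Agent.H95.ZF_L1

theorem germ_stalkMap_eq {X Y : Scheme.{u}} (φ : X ⟶ Y) {V : Y.Opens} {U : X.Opens}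
    (hUV : U ≤ φ ⁻¹ᵁ V) (x : X) (hxU : x ∈ U) :
    Y.presheaf.germ V (φ x) (hUV hxU) ≫ φ.stalkMap x =
      φ.appLE V U hUV ≫ X.presheaf.germ U x hxU := by
  rw [Scheme.Hom.germ_stalkMap, Scheme.Hom.appLE, Category.assoc, X.presheaf.germ_res]

theorem appLE_of_eq {X Y : Scheme.{u}} {f g : X ⟶ Y} (h : f = g) (U : Y.Opens) (V : X.Opens)
    (e : V ≤ f ⁻¹ᵁ U) (e' : V ≤ g ⁻¹ᵁ U) : f.appLE U V e = g.appLE U V e' := by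
  subst h
  rfl

theorem appLE_eq_id {Y : Scheme.{u}} {f : Y ⟶ Y} (hf : f = 𝟙 Y) (V : Y.Opens)
    (e : V ≤ f ⁻¹ᵁ V) (t : Γ(Y, V)) : (f.appLE V V e).hom t = t := by
  subst hf
  exact congrArg (fun m => m.hom t) (Y.presheaf.map_id (Opposite.op V))

theorem key {Y P : Scheme.{u}} (N : ℕ) (G : Y ⟶ Y) (p q : P ⟶ Y) (j d : Y ⟶ P)
    (hjp : j ≫ p = 𝟙 Y) (hjq : j ≫ q = G) (hdp : d ≫ p = 𝟙 Y) (hdq : d ≫ q = 𝟙 Y)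
    (V : Y.Opens) (hGV : V ≤ G ⁻¹ᵁ V) (ā : Γ(Y, V)) (hGā : (G.appLE V V hGV).hom ā = ā ^ N)
    (ξ w : Y) (hwV : w ∈ V) (h : j ξ ⤳ d w) :
    (Y.presheaf.germ V w hwV).hom (ā - ā ^ N) ∈
      Ideal.map (d.stalkMap w).hom (RingHom.ker (Cyc.specMap (d w) (j ξ) h)) := by
  have hpd : ∀ y, p (d y) = y := fun y => congrArg (fun m : Y ⟶ Y => m y) hdp
  have hqd : ∀ y, q (d y) = y := fun y => congrArg (fun m : Y ⟶ Y => m y) hdq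
  have hpj : ∀ y, p (j y) = y := fun y => congrArg (fun m : Y ⟶ Y => m y) hjp
  have hqj : ∀ y, q (j y) = G y := fun y => congrArg (fun m : Y ⟶ Y => m y) hjq
  have hVd : V ≤ d ⁻¹ᵁ (p ⁻¹ᵁ V ⊓ q ⁻¹ᵁ V) := fun y hy =>
    ⟨by show p (d y) ∈ V; rw [hpd]; exact hy, by show q (d y) ∈ V; rw [hqd]; exact hy⟩
  have hVj : V ≤ j ⁻¹ᵁ (p ⁻¹ᵁ V ⊓ q ⁻¹ᵁ V) := fun y hy =>
    ⟨by show p (j y) ∈ V; rw [hpj]; exact hy, by show q (j y) ∈ V; rw [hqj]; exact hGV hy⟩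
  obtain ⟨s, hs⟩ : ∃ s : Γ(P, p ⁻¹ᵁ V ⊓ q ⁻¹ᵁ V),
      s = (q.appLE V (p ⁻¹ᵁ V ⊓ q ⁻¹ᵁ V) inf_le_right).hom ā -
        ((p.appLE V (p ⁻¹ᵁ V ⊓ q ⁻¹ᵁ V) inf_le_left).hom ā) ^ N := ⟨_, rfl⟩
  have hds : (d.appLE (p ⁻¹ᵁ V ⊓ q ⁻¹ᵁ V) V hVd).hom s = ā - ā ^ N := by
    have e1 : (d.appLE (p ⁻¹ᵁ V ⊓ q ⁻¹ᵁ V) V hVd).hom
        ((q.appLE V (p ⁻¹ᵁ V ⊓ q ⁻¹ᵁ V) inf_le_right).hom ā) = ā := by
      have h1 := congrArg (fun m => m.hom ā)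
        (Scheme.Hom.appLE_comp_appLE d q V (p ⁻¹ᵁ V ⊓ q ⁻¹ᵁ V) V inf_le_right hVd)
      exact h1.trans (appLE_eq_id hdq V _ ā)
    have e2 : (d.appLE (p ⁻¹ᵁ V ⊓ q ⁻¹ᵁ V) V hVd).hom
        ((p.appLE V (p ⁻¹ᵁ V ⊓ q ⁻¹ᵁ V) inf_le_left).hom ā) = ā := by
      have h1 := congrArg (fun m => m.hom ā)
        (Scheme.Hom.appLE_comp_appLE d p V (p ⁻¹ᵁ V ⊓ q ⁻¹ᵁ V) V inf_le_left hVd)
      exact h1.trans (appLE_eq_id hdp V _ ā)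
    rw [hs, map_sub, map_pow, e1, e2]
  have hjs : (j.appLE (p ⁻¹ᵁ V ⊓ q ⁻¹ᵁ V) V hVj).hom s = 0 := by
    have e1 : (j.appLE (p ⁻¹ᵁ V ⊓ q ⁻¹ᵁ V) V hVj).hom
        ((q.appLE V (p ⁻¹ᵁ V ⊓ q ⁻¹ᵁ V) inf_le_right).hom ā) = ā ^ N := by
      have h1 := congrArg (fun m => m.hom ā)
        (Scheme.Hom.appLE_comp_appLE j q V (p ⁻¹ᵁ V ⊓ q ⁻¹ᵁ V) V inf_le_right hVj)
      exact h1.trans ((congrArg (fun m => m.hom ā) (appLE_of_eq hjq V V _ hGV)).trans hGā)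
    have e2 : (j.appLE (p ⁻¹ᵁ V ⊓ q ⁻¹ᵁ V) V hVj).hom
        ((p.appLE V (p ⁻¹ᵁ V ⊓ q ⁻¹ᵁ V) inf_le_left).hom ā) = ā := by
      have h1 := congrArg (fun m => m.hom ā)
        (Scheme.Hom.appLE_comp_appLE j p V (p ⁻¹ᵁ V ⊓ q ⁻¹ᵁ V) V inf_le_left hVj)
      exact h1.trans (appLE_eq_id hjp V _ ā)
    rw [hs, map_sub, map_pow, e1, e2, sub_self]
  have hdwW : d w ∈ p ⁻¹ᵁ V ⊓ q ⁻¹ᵁ V := hVd hwV
  have hjξW : j ξ ∈ p ⁻¹ᵁ V ⊓ q ⁻¹ᵁ V := h.mem_open (p ⁻¹ᵁ V ⊓ q ⁻¹ᵁ V).2 hdwW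
  have hξV : ξ ∈ V := by
    have h1 : p (j ξ) ∈ V := hjξW.1
    rwa [hpj] at h1
  have hm : (P.presheaf.germ (p ⁻¹ᵁ V ⊓ q ⁻¹ᵁ V) (j ξ) hjξW).hom s ∈
      IsLocalRing.maximalIdeal (P.presheaf.stalk (j ξ)) := by
    rw [IsLocalRing.mem_maximalIdeal, mem_nonunits_iff]
    intro hu
    have h1 := congrArg (fun m => m.hom s) (germ_stalkMap_eq j hVj ξ hξV)
    have h2 : (j.stalkMap ξ).hom ((P.presheaf.germ (p ⁻¹ᵁ V ⊓ q ⁻¹ᵁ V) (j ξ) hjξW).hom s) = 0 := by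
      refine h1.trans ?_
      show (Y.presheaf.germ V ξ hξV).hom ((j.appLE (p ⁻¹ᵁ V ⊓ q ⁻¹ᵁ V) V hVj).hom s) = 0
      rw [hjs, map_zero]
    have h3 := hu.map (j.stalkMap ξ).hom
    rw [h2] at h3
    exact not_isUnit_zero h3
  have hk : (P.presheaf.germ (p ⁻¹ᵁ V ⊓ q ⁻¹ᵁ V) (d w) hdwW).hom s ∈
      RingHom.ker (Cyc.specMap (d w) (j ξ) h) := by
    rw [RingHom.mem_ker]
    show P.residue (j ξ) (P.presheaf.stalkSpecializes h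
      (P.presheaf.germ (p ⁻¹ᵁ V ⊓ q ⁻¹ᵁ V) (d w) hdwW s)) = 0
    rw [TopCat.Presheaf.germ_stalkSpecializes_apply]
    exact (IsLocalRing.residue_eq_zero_iff _).mpr hm
  have h1 := congrArg (fun m => m.hom s) (germ_stalkMap_eq d hVd w hwV)
  have h2 : (Y.presheaf.germ V w hwV).hom (ā - ā ^ N) =
      (d.stalkMap w).hom ((P.presheaf.germ (p ⁻¹ᵁ V ⊓ q ⁻¹ᵁ V) (d w) hdwW).hom s) := by
    rw [← hds]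
    exact h1.symm
  rw [h2]
  exact Ideal.mem_map_of_mem _ hk

/-- (L1) -/
theorem germ_sub_pow_mem {X Y P : Scheme.{u}} (π : Y ⟶ X) (N : ℕ) (G : Y ⟶ Y)
    (hGle : ∀ U : X.Opens, π ⁻¹ᵁ U ≤ G ⁻¹ᵁ (π ⁻¹ᵁ U))
    (hGapp : ∀ (U : X.Opens) (a : Γ(X, U)),
      (G.appLE (π ⁻¹ᵁ U) (π ⁻¹ᵁ U) (hGle U)).hom ((π.app U).hom a) = ((π.app U).hom a) ^ N)
    (p q : P ⟶ Y) (j d : Y ⟶ P) (hjp : j ≫ p = 𝟙 Y) (hjq : j ≫ q = G)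
    (hdp : d ≫ p = 𝟙 Y) (hdq : d ≫ q = 𝟙 Y)
    (ξ : Y) (U : X.Opens) (a : Γ(X, U)) (w : Y) (hwU : w ∈ π ⁻¹ᵁ U)
    (hw : d w ∈ closure ({j ξ} : Set P)) :
    (Y.presheaf.germ (π ⁻¹ᵁ U) w hwU).hom ((π.app U).hom a - ((π.app U).hom a) ^ N) ∈
      Ideal.map (d.stalkMap w).hom
        (RingHom.ker (Cyc.specMap (d w) (j ξ) (specializes_iff_mem_closure.mpr hw))) :=
  key N G p q j d hjp hjq hdp hdq (π ⁻¹ᵁ U) (hGle U) ((π.app U).hom a) (hGapp U a) ξ w hwU _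

end Groth.Agent.H95.ZF_L1
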