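import Mathlib
import Groth.Prelude.Def_HTop
import Groth.Prelude.Def_HTop3
import Groth.Agent.H9.ComapIdeal
set_option autoImplicit false
universe u
open CategoryTheory CategoryTheory.Limits AlgebraicGeometry

namespace Groth.Agent.H95.ABU_LP

/-- (LP) locally principal ideals pull back to locally principal ideals -/
theorem LP {X' X₁ : Scheme.{u}} (gX : X₁ ⟶ X') (𝓙 : X'.IdealSheafData)
    (h : HTop.IsLocPrincipal 𝓙) : HTop.IsLocPrincipal (𝓙.comap gX) := by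
  intro x
  obtain ⟨U, hxU, f, hf⟩ := h (gX x)
  have hx : x ∈ gX ⁻¹ᵁ U.1 := hxU
  obtain ⟨_, ⟨V, hV, rfl⟩, hxV, hVU⟩ := (X₁.isBasis_affineOpens).exists_subset_of_mem_open hx
    (gX ⁻¹ᵁ U.1).isOpen
  refine ⟨⟨V, hV⟩, hxV, (gX.appLE U.1 V hVU).hom f, ?_⟩
  rw [Groth.Agent.H9.comap_ideal gX 𝓙 U ⟨V, hV⟩ hVU, hf, Ideal.map_span, Set.image_singleton]

end Groth.Agent.H95.ABU_LP
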