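import Groth.Agent.H95.TestPts
import Groth.Agent.H8.AssPoints2

/-!
# Divisors on absolute curves

`C` Noetherian such that the local rings at closed points have dimension one.

* `primeIdealOf_le_of_specializes`
* `isUnit_of_nzd_of_not_isClosed`: at a non-closed point every nonzerodivisor of the local ring is
  a unit.
* `germ_eq_one_of_not_isClosed`: the group of germs of divisors at a non-closed point is trivial.
* `germOf_eq_one_of_mul_eq`, `exists_local_frac`, `finite_bad`, `exists_unit_section`,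
  `exists_regStalk_frac`.
* `finite_support`, `mem_divisorGroup_of_finite`: the two directions of the description of
  `Div(C)` as families of germs with finite support in the closed points.
-/

set_option autoImplicit false
set_option linter.style.haveILetI false

universe u

open CategoryTheory AlgebraicGeometry TopologicalSpace Opposite

namespace Groth.Agent.H95.AbsCurve

open Groth.Agent.H8 (pointOfPrime pointOfPrime_mem
  primeIdealOf_pointOfPrime pointOfPrime_primeIdealOf pointOfPrime_specializes pointOfPrime_congr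
  mem_basicOpen_iff_notMem_primeIdealOf)
open Groth.Agent.H95.MeroDepth (kmk_eq kmk_mul regStalk_of_mul)
open Groth.Agent.H95.MeroDense (mem_range_of_isUnit_germ)
open Groth.Agent.H95.DivMod (unitAt unitAt_val germOf_eq resUnit germOf_resUnit inv_mul_apply
  mul_inv_apply kmk_one)
open Groth.Agent.H95.TestPts (isUnit_toK_of_regSub)

variable {C : Scheme.{u}}

lemma primeIdealOf_le_of_specializes {U : C.Opens} (hU : IsAffineOpen U) {x y : C} (hx : x ∈ U)
    (hy : y ∈ U) (h : x ⤳ y) :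
    (hU.primeIdealOf ⟨x, hx⟩).asIdeal ≤ (hU.primeIdealOf ⟨y, hy⟩).asIdeal := by
  intro a ha
  by_contra hna
  have hyD : y ∈ C.basicOpen a :=
    (mem_basicOpen_iff_notMem_primeIdealOf hU y hy a).mpr (Ideal.mem_primeCompl_iff.mpr hna)
  have hxD : x ∈ C.basicOpen a := h.mem_open (C.basicOpen a).2 hyD
  exact (Ideal.mem_primeCompl_iff.mp
    ((mem_basicOpen_iff_notMem_primeIdealOf hU x hx a).mp hxD)) ha

lemma eq_of_primeIdealOf_eq {U : C.Opens} (hU : IsAffineOpen U) {x y : C} (hx : x ∈ U)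
    (hy : y ∈ U)
    (e : (hU.primeIdealOf ⟨x, hx⟩).asIdeal = (hU.primeIdealOf ⟨y, hy⟩).asIdeal) : x = y :=
  calc x = pointOfPrime hU (hU.primeIdealOf ⟨x, hx⟩).asIdeal :=
        (pointOfPrime_primeIdealOf hU x hx).symm
    _ = pointOfPrime hU (hU.primeIdealOf ⟨y, hy⟩).asIdeal := pointOfPrime_congr hU _ _ e
    _ = y := pointOfPrime_primeIdealOf hU y hy

lemma height_primeIdealOf_eq_one {U : C.Opens} (hU : IsAffineOpen U) {y : C} (hy : y ∈ U)
    (hdim : ringKrullDim (C.presheaf.stalk y) = 1) :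
    (hU.primeIdealOf ⟨y, hy⟩).asIdeal.height = 1 := by
  letI := C.presheaf.algebra_section_stalk ⟨y, hy⟩
  haveI := hU.isLocalization_stalk ⟨y, hy⟩
  have hh := IsLocalization.AtPrime.ringKrullDim_eq_height
    (hU.primeIdealOf ⟨y, hy⟩).asIdeal (C.presheaf.stalk y)
  rw [hdim] at hh
  exact WithBot.one_eq_coe.mp hh

/-- At a non-closed point of an absolute curve, nonzerodivisors of the local ring are units. -/
theorem isUnit_of_nzd_of_not_isClosed [IsNoetherian C]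
    (hC : ∀ x : C, IsClosed ({x} : Set C) → ringKrullDim (C.presheaf.stalk x) = 1)
    (x : C) (hx : ¬ IsClosed ({x} : Set C)) (β : C.presheaf.stalk x)
    (hβ : β ∈ nonZeroDivisors (C.presheaf.stalk x)) : IsUnit β := by
  obtain ⟨x₀, hx₀mem, hx₀cl⟩ := IsClosed.exists_closed_singleton
    (isClosed_closure (s := ({x} : Set C))) ⟨x, subset_closure rfl⟩
  have hspec : x ⤳ x₀ := specializes_iff_mem_closure.mpr hx₀mem
  have hne : x ≠ x₀ := by
    intro e
    rw [e] at hx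
    exact hx hx₀cl
  obtain ⟨U, hU0, hx₀U, -⟩ := Opens.isBasis_iff_nbhd.mp C.isBasis_affineOpens
    (show x₀ ∈ (⊤ : C.Opens) from trivial)
  have hU : IsAffineOpen U := hU0
  have hxU : x ∈ U := hspec.mem_open U.2 hx₀U
  haveI : IsNoetherianRing Γ(C, U) := IsLocallyNoetherian.component_noetherian ⟨U, hU⟩
  have hle := primeIdealOf_le_of_specializes hU hxU hx₀U hspec
  have hneP : (hU.primeIdealOf ⟨x, hxU⟩).asIdeal ≠ (hU.primeIdealOf ⟨x₀, hx₀U⟩).asIdeal :=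
    fun e => hne (eq_of_primeIdealOf_eq hU hxU hx₀U e)
  have hlt := lt_of_le_of_ne hle hneP
  have hht₀ := height_primeIdealOf_eq_one hU hx₀U (hC x₀ hx₀cl)
  have h1 := Ideal.height_strict_mono_of_isPrime_of_isPrime hlt
  rw [hht₀] at h1
  have hmin : (hU.primeIdealOf ⟨x, hxU⟩).asIdeal ∈ minimalPrimes Γ(C, U) :=
    Ideal.height_eq_zero_iff.mp (ENat.lt_one_iff_eq_zero.mp h1)
  letI := C.presheaf.algebra_section_stalk ⟨x, hxU⟩
  haveI := hU.isLocalization_stalk ⟨x, hxU⟩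
  haveI : Ring.KrullDimLE 0 (C.presheaf.stalk x) :=
    Ring.KrullDimLE.of_isLocalization _ hmin (C.presheaf.stalk x)
  by_contra hnu
  have hm : β ∈ IsLocalRing.maximalIdeal (C.presheaf.stalk x) :=
    (IsLocalRing.mem_maximalIdeal β).mpr hnu
  obtain ⟨n, hn⟩ := Ring.KrullDimLE.isNilpotent_iff_mem_maximalIdeal.mpr hm
  have h2 : β ^ n ∈ nonZeroDivisors (C.presheaf.stalk x) := pow_mem hβ n
  rw [hn] at h2
  exact zero_notMem_nonZeroDivisors h2

/-- If all nonzerodivisors of `O_x` are units, every germ of a divisor at `x` is trivial. -/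
theorem germ_eq_one_of_forall_nzd_isUnit (x : C)
    (h : ∀ β ∈ nonZeroDivisors (C.presheaf.stalk x), IsUnit β) (γ : Mero.Germ C x) : γ = 1 := by
  obtain ⟨u, rfl⟩ := QuotientGroup.mk_surjective γ
  rw [QuotientGroup.eq_one_iff, Mero.stalkUnits, MonoidHom.mem_range]
  have hrange : ∀ t : Mero.KStalk C x,
      t ∈ (algebraMap (C.presheaf.stalk x) (Mero.KStalk C x)).range := by
    intro t
    obtain ⟨α, β, rfl⟩ := IsLocalization.exists_mk'_eq (Mero.regStalk C x) t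
    rw [← kmk_eq]
    exact mem_range_of_isUnit_germ α β (h _ (Mero.regStalk_le_nonZeroDivisors x β.2))
  obtain ⟨κ, hκ⟩ := hrange (u : Mero.KStalk C x)
  obtain ⟨κ', hκ'⟩ := hrange ((u⁻¹ : (Mero.KStalk C x)ˣ) : Mero.KStalk C x)
  have h1 : κ * κ' = 1 := by
    apply Mero.algebraMap_KStalk_injective x
    rw [map_mul, hκ, hκ', map_one, Units.mul_inv]
  refine ⟨Units.mkOfMulEqOne κ κ' h1, ?_⟩
  apply Units.ext
  exact hκ

theorem germ_eq_one_of_not_isClosed [IsNoetherian C]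
    (hC : ∀ x : C, IsClosed ({x} : Set C) → ringKrullDim (C.presheaf.stalk x) = 1)
    (x : C) (hx : ¬ IsClosed ({x} : Set C)) (γ : Mero.Germ C x) : γ = 1 :=
  germ_eq_one_of_forall_nzd_isUnit x
    (fun β hβ => isUnit_of_nzd_of_not_isClosed hC x hx β hβ) γ

/-- The germ of `div f` is trivial where `f` is a quotient of two units of the local ring. -/
theorem germOf_eq_one_of_mul_eq {U : C.Opens} (f : (Γ(Mero.kmod C, U))ˣ) (y : U)
    (α β : C.presheaf.stalk y.1)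
    (h : (f : Γ(Mero.kmod C, U)).1 y * algebraMap (C.presheaf.stalk y.1) (Mero.KStalk C y.1) β =
      algebraMap (C.presheaf.stalk y.1) (Mero.KStalk C y.1) α)
    (hα : IsUnit α) (hβ : IsUnit β) : Mero.germOf f y = 1 := by
  rw [germOf_eq, QuotientGroup.eq_one_iff, Mero.stalkUnits, MonoidHom.mem_range]
  obtain ⟨uα, huα⟩ := hα
  obtain ⟨uβ, huβ⟩ := hβ
  refine ⟨uα * uβ⁻¹, ?_⟩
  apply Units.ext
  show algebraMap (C.presheaf.stalk y.1) (Mero.KStalk C y.1)
    ((uα * uβ⁻¹ : (C.presheaf.stalk y.1)ˣ) : C.presheaf.stalk y.1) =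
      (f : Γ(Mero.kmod C, U)).1 y
  rw [Units.val_mul, map_mul, huα, ← h, ← huβ, mul_assoc, ← map_mul, Units.mul_inv, map_one,
    mul_one]

/-- A unit of `K_C(U)` is, near any point, a fraction of two regular sections on an affine open. -/
theorem exists_local_frac {U : C.Opens} (f : (Γ(Mero.kmod C, U))ˣ) (z : C) (hz : z ∈ U) :
    ∃ (W : C.Opens) (_ : IsAffineOpen W) (hWU : W ≤ U) (_ : z ∈ W) (a b : Γ(C, W))
      (_ : a ∈ Mero.regSub C W) (_ : b ∈ Mero.regSub C W), ∀ (y : C) (hy : y ∈ W),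
        (f : Γ(Mero.kmod C, U)).1 ⟨y, hWU hy⟩ *
          algebraMap (C.presheaf.stalk y) (Mero.KStalk C y) (C.presheaf.germ W y hy b) =
        algebraMap (C.presheaf.stalk y) (Mero.KStalk C y) (C.presheaf.germ W y hy a) := by
  obtain ⟨W₁, hzW₁, i₁, a₁, b₁, w₁⟩ := (f : Γ(Mero.kmod C, U)).2 ⟨z, hz⟩
  obtain ⟨W₂, hzW₂, i₂, a₂, b₂, w₂⟩ :=
    ((f⁻¹ : (Γ(Mero.kmod C, U))ˣ) : Γ(Mero.kmod C, U)).2 ⟨z, hz⟩
  obtain ⟨W, hW0, hzW, hWle⟩ := Opens.isBasis_iff_nbhd.mp C.isBasis_affineOpens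
    (show z ∈ W₁ ⊓ W₂ from ⟨hzW₁, hzW₂⟩)
  have hW : IsAffineOpen W := hW0
  have hW1 : W ≤ W₁ := hWle.trans inf_le_left
  have hW2 : W ≤ W₂ := hWle.trans inf_le_right
  have hWU : W ≤ U := hW1.trans i₁.le
  have key : ∀ (y : C) (hy : y ∈ W),
      (f : Γ(Mero.kmod C, U)).1 ⟨y, hWU hy⟩ *
        algebraMap (C.presheaf.stalk y) (Mero.KStalk C y) (C.presheaf.germ W₁ y (hW1 hy) b₁.1) =
      algebraMap (C.presheaf.stalk y) (Mero.KStalk C y) (C.presheaf.germ W₁ y (hW1 hy) a₁) := by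
    intro y hy
    have e1 : (f : Γ(Mero.kmod C, U)).1 ⟨y, hWU hy⟩ =
        LocalizedModule.mk (C.presheaf.germ W₁ y (hW1 hy) a₁)
          (Mero.regGerm ⟨y, hW1 hy⟩ b₁) := w₁ ⟨y, hW1 hy⟩
    rw [e1]
    exact kmk_mul y _ _
  have key2 : ∀ (y : C) (hy : y ∈ W),
      ((f⁻¹ : (Γ(Mero.kmod C, U))ˣ) : Γ(Mero.kmod C, U)).1 ⟨y, hWU hy⟩ *
        algebraMap (C.presheaf.stalk y) (Mero.KStalk C y) (C.presheaf.germ W₂ y (hW2 hy) b₂.1) =
      algebraMap (C.presheaf.stalk y) (Mero.KStalk C y) (C.presheaf.germ W₂ y (hW2 hy) a₂) := by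
    intro y hy
    have e1 : ((f⁻¹ : (Γ(Mero.kmod C, U))ˣ) : Γ(Mero.kmod C, U)).1 ⟨y, hWU hy⟩ =
        LocalizedModule.mk (C.presheaf.germ W₂ y (hW2 hy) a₂)
          (Mero.regGerm ⟨y, hW2 hy⟩ b₂) := w₂ ⟨y, hW2 hy⟩
    rw [e1]
    exact kmk_mul y _ _
  have hprod : ∀ (y : C) (hy : y ∈ W),
      C.presheaf.germ W₁ y (hW1 hy) a₁ * C.presheaf.germ W₂ y (hW2 hy) a₂ =
        C.presheaf.germ W₁ y (hW1 hy) b₁.1 * C.presheaf.germ W₂ y (hW2 hy) b₂.1 := by
    intro y hy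
    apply Mero.algebraMap_KStalk_injective y
    rw [map_mul, map_mul, ← key y hy, ← key2 y hy, mul_mul_mul_comm,
      mul_inv_apply f ⟨y, hWU hy⟩, one_mul]
  refine ⟨W, hW, hWU, hzW, C.presheaf.map (homOfLE hW1).op a₁,
    C.presheaf.map (homOfLE hW1).op b₁.1, ?_, Mero.regSub_res (homOfLE hW1) b₁.2, ?_⟩
  · intro y
    show C.presheaf.germ W y.1 y.2 (C.presheaf.map (homOfLE hW1).op a₁) ∈
      nonZeroDivisors (C.presheaf.stalk y.1)
    rw [TopCat.Presheaf.germ_res_apply]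
    have hb12 : C.presheaf.germ W₁ y.1 (hW1 y.2) b₁.1 * C.presheaf.germ W₂ y.1 (hW2 y.2) b₂.1 ∈
        nonZeroDivisors (C.presheaf.stalk y.1) :=
      mul_mem (b₁.2 ⟨y.1, hW1 y.2⟩) (b₂.2 ⟨y.1, hW2 y.2⟩)
    rw [← hprod y.1 y.2] at hb12
    exact (mul_mem_nonZeroDivisors.mp hb12).1
  · intro y hy
    rw [TopCat.Presheaf.germ_res_apply, TopCat.Presheaf.germ_res_apply]
    exact key y hy

/-- On an affine open of a locally Noetherian scheme, the points with one-dimensional local ring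
at which a given regular section `a * b` is not a unit form a finite set. -/
theorem finite_bad [IsLocallyNoetherian C] {W : C.Opens} (hW : IsAffineOpen W) (a b : Γ(C, W))
    (hab : a * b ∈ Mero.regSub C W) :
    {y : C | ∃ hy : y ∈ W, ringKrullDim (C.presheaf.stalk y) = 1 ∧
      ¬ (IsUnit (C.presheaf.germ W y hy a) ∧ IsUnit (C.presheaf.germ W y hy b))}.Finite := by
  classical
  haveI : IsNoetherianRing Γ(C, W) := IsLocallyNoetherian.component_noetherian ⟨W, hW⟩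
  have habnzd : a * b ∈ nonZeroDivisors Γ(C, W) := by
    rw [← Groth.Agent.S12513.result C W hW]
    exact hab
  obtain ⟨g, hg⟩ : ∃ g : C → Ideal Γ(C, W), ∀ (x : C) (h : x ∈ W),
      g x = (hW.primeIdealOf ⟨x, h⟩).asIdeal :=
    ⟨fun x => if h : x ∈ W then (hW.primeIdealOf ⟨x, h⟩).asIdeal else ⊥, fun x h => dif_pos h⟩
  refine Set.Finite.of_injOn (f := g)
    (t := (Ideal.span {a * b} : Ideal Γ(C, W)).minimalPrimes) ?_ ?_
    (Ideal.finite_minimalPrimes_of_isNoetherianRing _ _)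
  · rintro y ⟨hy, hdim, hnu⟩
    show g y ∈ _
    rw [hg y hy]
    have habP : a * b ∈ (hW.primeIdealOf ⟨y, hy⟩).asIdeal := by
      by_contra hnot
      have hy_ab : y ∈ C.basicOpen (a * b) :=
        (mem_basicOpen_iff_notMem_primeIdealOf hW y hy (a * b)).mpr
          (Ideal.mem_primeCompl_iff.mpr hnot)
      have hu : IsUnit (C.presheaf.germ W y hy (a * b)) :=
        (Scheme.mem_basicOpen C _ y hy).mp hy_ab
      rw [map_mul] at hu
      exact hnu (IsUnit.mul_iff.mp hu)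
    have hht := height_primeIdealOf_eq_one hW hy hdim
    refine ⟨⟨inferInstance, Ideal.span_le.mpr (Set.singleton_subset_iff.mpr habP)⟩, ?_⟩
    rintro Q ⟨hQ, hIQ⟩ hQP
    by_contra hnle
    have hlt : Q < (hW.primeIdealOf ⟨y, hy⟩).asIdeal := lt_of_le_not_ge hQP hnle
    haveI := hQ
    have h1 : Q.height < (hW.primeIdealOf ⟨y, hy⟩).asIdeal.height :=
      Ideal.height_strict_mono_of_isPrime_of_isPrime hlt
    rw [hht] at h1
    have hQmin : Q ∈ minimalPrimes Γ(C, W) :=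
      Ideal.height_eq_zero_iff.mp (ENat.lt_one_iff_eq_zero.mp h1)
    have h4 : a * b ∈ Q := hIQ (Ideal.subset_span (Set.mem_singleton _))
    exact notMem_nonZeroDivisors_of_mem_mem_minimalPrimes h4 hQmin habnzd
  · rintro y ⟨hy, -, -⟩ y' ⟨hy', -, -⟩ hyy'
    rw [hg y hy, hg y' hy'] at hyy'
    exact eq_of_primeIdealOf_eq hW hy hy' hyy'

/-- Every unit of `K_{C,x}` is `a / b` with `a`, `b` germs of regular sections. -/
theorem exists_regStalk_frac (x : C) (u : (Mero.KStalk C x)ˣ) :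
    ∃ α β : Mero.regStalk C x,
      (u : Mero.KStalk C x) *
          algebraMap (C.presheaf.stalk x) (Mero.KStalk C x) (β : C.presheaf.stalk x) =
        algebraMap (C.presheaf.stalk x) (Mero.KStalk C x) (α : C.presheaf.stalk x) := by
  obtain ⟨α, β, hαβ⟩ := IsLocalization.exists_mk'_eq (Mero.regStalk C x) (u : Mero.KStalk C x)
  obtain ⟨α', β', hαβ'⟩ := IsLocalization.exists_mk'_eq (Mero.regStalk C x)
    ((u⁻¹ : (Mero.KStalk C x)ˣ) : Mero.KStalk C x)
  rw [← kmk_eq] at hαβ hαβ'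
  have k1 := kmk_mul x α β
  have k2 := kmk_mul x α' β'
  rw [hαβ] at k1
  rw [hαβ'] at k2
  have hprod : α * α' = (β : C.presheaf.stalk x) * (β' : C.presheaf.stalk x) := by
    apply Mero.algebraMap_KStalk_injective x
    rw [map_mul, map_mul, ← k1, ← k2, mul_mul_mul_comm, Units.mul_inv, one_mul]
  have hαreg : α ∈ Mero.regStalk C x := by
    refine regStalk_of_mul x α α' ?_
    rw [hprod]
    exact Submonoid.mul_mem _ β.2 β'.2
  exact ⟨⟨α, hαreg⟩, β, k1⟩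

/-- Every unit of `K_{C,x}` is the value at `x` of a unit of `K_C` over a neighbourhood. -/
theorem exists_unit_section (x : C) (u : (Mero.KStalk C x)ˣ) :
    ∃ (W : C.Opens) (hx : x ∈ W) (f : (Γ(Mero.kmod C, W))ˣ), unitAt f ⟨x, hx⟩ = u := by
  obtain ⟨α, β, k1⟩ := exists_regStalk_frac x u
  obtain ⟨Wa, hxWa, a₀, ha₀, haα⟩ := α.2
  obtain ⟨Wb, hxWb, b₀, hb₀, hbβ⟩ := β.2
  have hxW : x ∈ Wa ⊓ Wb := ⟨hxWa, hxWb⟩
  obtain ⟨a, hadef⟩ : ∃ a : Γ(C, Wa ⊓ Wb),
      a = C.presheaf.map (homOfLE (inf_le_left : Wa ⊓ Wb ≤ Wa)).op a₀ := ⟨_, rfl⟩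
  obtain ⟨b, hbdef⟩ : ∃ b : Γ(C, Wa ⊓ Wb),
      b = C.presheaf.map (homOfLE (inf_le_right : Wa ⊓ Wb ≤ Wb)).op b₀ := ⟨_, rfl⟩
  have ha : a ∈ Mero.regSub C (Wa ⊓ Wb) := by
    rw [hadef]
    exact Mero.regSub_res _ ha₀
  have hb : b ∈ Mero.regSub C (Wa ⊓ Wb) := by
    rw [hbdef]
    exact Mero.regSub_res _ hb₀
  have hagerm : C.presheaf.germ (Wa ⊓ Wb) x hxW a = (α : C.presheaf.stalk x) := by
    rw [hadef, TopCat.Presheaf.germ_res_apply]
    exact haα
  have hbgerm : C.presheaf.germ (Wa ⊓ Wb) x hxW b = (β : C.presheaf.stalk x) := by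
    rw [hbdef, TopCat.Presheaf.germ_res_apply]
    exact hbβ
  obtain ⟨ua, hua⟩ : ∃ ua : (Γ(Mero.kmod C, Wa ⊓ Wb))ˣ,
      (ua : Γ(Mero.kmod C, Wa ⊓ Wb)) = Mero.toK C (Wa ⊓ Wb) a :=
    ⟨(isUnit_toK_of_regSub (Wa ⊓ Wb) a ha).unit, rfl⟩
  obtain ⟨ub, hub⟩ : ∃ ub : (Γ(Mero.kmod C, Wa ⊓ Wb))ˣ,
      (ub : Γ(Mero.kmod C, Wa ⊓ Wb)) = Mero.toK C (Wa ⊓ Wb) b :=
    ⟨(isUnit_toK_of_regSub (Wa ⊓ Wb) b hb).unit, rfl⟩
  refine ⟨Wa ⊓ Wb, hxW, ua * ub⁻¹, ?_⟩
  apply Units.ext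
  have hunit : IsUnit (algebraMap (C.presheaf.stalk x) (Mero.KStalk C x)
      (β : C.presheaf.stalk x)) := IsLocalization.map_units (Mero.KStalk C x) β
  apply (IsUnit.mul_left_inj hunit).mp
  rw [k1]
  show ((ua : Γ(Mero.kmod C, Wa ⊓ Wb)).1 ⟨x, hxW⟩ *
      ((ub⁻¹ : (Γ(Mero.kmod C, Wa ⊓ Wb))ˣ) : Γ(Mero.kmod C, Wa ⊓ Wb)).1 ⟨x, hxW⟩) *
      algebraMap (C.presheaf.stalk x) (Mero.KStalk C x) (β : C.presheaf.stalk x) =
    algebraMap (C.presheaf.stalk x) (Mero.KStalk C x) (α : C.presheaf.stalk x)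
  have e2 : ((ub⁻¹ : (Γ(Mero.kmod C, Wa ⊓ Wb))ˣ) : Γ(Mero.kmod C, Wa ⊓ Wb)).1 ⟨x, hxW⟩ *
      (ub : Γ(Mero.kmod C, Wa ⊓ Wb)).1 ⟨x, hxW⟩ = 1 := inv_mul_apply ub ⟨x, hxW⟩
  have e3 : (ua : Γ(Mero.kmod C, Wa ⊓ Wb)).1 ⟨x, hxW⟩ =
      algebraMap (C.presheaf.stalk x) (Mero.KStalk C x) (α : C.presheaf.stalk x) := by
    rw [hua, Mero.toK_apply, kmk_one, hagerm]
  have e4 : (ub : Γ(Mero.kmod C, Wa ⊓ Wb)).1 ⟨x, hxW⟩ =
      algebraMap (C.presheaf.stalk x) (Mero.KStalk C x) (β : C.presheaf.stalk x) := by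
    rw [hub, Mero.toK_apply, kmk_one, hbgerm]
  rw [e3, ← e4, mul_assoc, e2, mul_one]

section Main

variable [IsNoetherian C]
  (hC : ∀ x : C, IsClosed ({x} : Set C) → ringKrullDim (C.presheaf.stalk x) = 1)

include hC in
/-- A divisor on an absolute curve has finite support. -/
theorem finite_support (g : ∀ x : C, Mero.Germ C x) (hg : g ∈ Mero.divisorGroup C) :
    {x : C | g x ≠ 1}.Finite := by
  have hg' : ∀ x : C, ∃ (U : C.Opens) (hx : x ∈ U) (f : (Γ(Mero.kmod C, U))ˣ),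
      ∀ y : U, g y.1 = Mero.germOf f y := hg
  have hloc : ∀ z : C, ∃ (W : C.Opens) (_ : IsAffineOpen W) (a b : Γ(C, W)), z ∈ W ∧
      a * b ∈ Mero.regSub C W ∧ ∀ (y : C) (hy : y ∈ W), IsUnit (C.presheaf.germ W y hy a) →
        IsUnit (C.presheaf.germ W y hy b) → g y = 1 := by
    intro z
    obtain ⟨U, hzU, f, hf⟩ := hg' z
    obtain ⟨W, hW, hWU, hzW, a, b, ha, hb, hfab⟩ := exists_local_frac f z hzU
    refine ⟨W, hW, a, b, hzW, Submonoid.mul_mem _ ha hb, fun y hy hua hub => ?_⟩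
    rw [hf ⟨y, hWU hy⟩]
    exact germOf_eq_one_of_mul_eq f ⟨y, hWU hy⟩ _ _ (hfab y hy) hua hub
  choose W hW a b hzW hab hone using hloc
  obtain ⟨t, ht⟩ := CompactSpace.elim_nhds_subcover (fun z : C => ((W z : C.Opens) : Set C))
    (fun z => (W z).2.mem_nhds (hzW z))
  have hfin : (⋃ z ∈ (↑t : Set C), {y : C | ∃ hy : y ∈ W z,
      ringKrullDim (C.presheaf.stalk y) = 1 ∧
        ¬ (IsUnit (C.presheaf.germ (W z) y hy (a z)) ∧
          IsUnit (C.presheaf.germ (W z) y hy (b z)))}).Finite :=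
    t.finite_toSet.biUnion (fun z _ => finite_bad (hW z) (a z) (b z) (hab z))
  refine hfin.subset (fun x hx => ?_)
  have hxcl : IsClosed ({x} : Set C) := by
    by_contra hncl
    exact hx (germ_eq_one_of_not_isClosed hC x hncl (g x))
  have hxt : x ∈ ⋃ z ∈ t, ((W z : C.Opens) : Set C) := by
    rw [ht]
    trivial
  obtain ⟨z, hzt, hxW⟩ := Set.mem_iUnion₂.mp hxt
  exact Set.mem_iUnion₂.mpr ⟨z, Finset.mem_coe.mpr hzt, hxW, hC x hxcl,
    fun hu => hx (hone z x hxW hu.1 hu.2)⟩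

include hC in
/-- A family of germs with finite support in the closed points is a divisor. -/
theorem mem_divisorGroup_of_finite (g : ∀ x : C, Mero.Germ C x)
    (hfin : {x : C | g x ≠ 1}.Finite)
    (hcl : ∀ x : C, ¬ IsClosed ({x} : Set C) → g x = 1) : g ∈ Mero.divisorGroup C := by
  intro x
  obtain ⟨u, hu⟩ := QuotientGroup.mk_surjective (g x)
  obtain ⟨W₁, hxW₁, f, hfu⟩ := exists_unit_section x u
  obtain ⟨W, hW, hWW₁, hxW, a, b, ha, hb, hfab⟩ := exists_local_frac f x hxW₁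
  have hB := finite_bad hW a b (Submonoid.mul_mem _ ha hb)
  obtain ⟨T, hTdef⟩ : ∃ T : Set C, T = {y : C | IsClosed ({y} : Set C) ∧ y ≠ x ∧
      (y ∈ {y : C | ∃ hy : y ∈ W, ringKrullDim (C.presheaf.stalk y) = 1 ∧
        ¬ (IsUnit (C.presheaf.germ W y hy a) ∧ IsUnit (C.presheaf.germ W y hy b))} ∨
        y ∈ {x : C | g x ≠ 1})} := ⟨_, rfl⟩
  have hTfin : T.Finite := by
    rw [hTdef]
    exact (hB.union hfin).subset (fun y hy => hy.2.2)
  have hTcl : IsClosed T := by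
    rw [← Set.biUnion_of_singleton T]
    refine hTfin.isClosed_biUnion (fun y hy => ?_)
    rw [hTdef] at hy
    exact hy.1
  obtain ⟨W', hW'def⟩ : ∃ W' : C.Opens, W' = ⟨(W : Set C) \ T, W.2.sdiff hTcl⟩ := ⟨_, rfl⟩
  have hW'W : W' ≤ W := by
    rw [hW'def]
    exact fun y hy => hy.1
  have hxW' : x ∈ W' := by
    rw [hW'def]
    refine ⟨hxW, fun hxT => ?_⟩
    rw [hTdef] at hxT
    exact hxT.2.1 rfl
  refine ⟨W', hxW', resUnit f (hW'W.trans hWW₁), fun y => ?_⟩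
  rw [germOf_resUnit]
  obtain ⟨y, hy⟩ := y
  show g y = Mero.germOf f ⟨y, (hW'W.trans hWW₁) hy⟩
  by_cases hyx : y = x
  · subst hyx
    rw [germOf_eq, ← hu, ← hfu]
  · have hyW : y ∈ W := hW'W hy
    have hyT : y ∉ T := by
      rw [hW'def] at hy
      exact hy.2
    by_cases hycl : IsClosed ({y} : Set C)
    · rw [hTdef] at hyT
      have h1 : ¬ (y ∈ {y : C | ∃ hy : y ∈ W, ringKrullDim (C.presheaf.stalk y) = 1 ∧
          ¬ (IsUnit (C.presheaf.germ W y hy a) ∧ IsUnit (C.presheaf.germ W y hy b))} ∨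
          y ∈ {x : C | g x ≠ 1}) := fun h => hyT ⟨hycl, hyx, h⟩
      have hgy : g y = 1 := by
        by_contra hne
        exact h1 (Or.inr hne)
      have hunits : IsUnit (C.presheaf.germ W y hyW a) ∧ IsUnit (C.presheaf.germ W y hyW b) := by
        by_contra hnu
        exact h1 (Or.inl ⟨hyW, hC y hycl, hnu⟩)
      rw [hgy]
      exact (germOf_eq_one_of_mul_eq f ⟨y, hWW₁ hyW⟩ _ _ (hfab y hyW) hunits.1 hunits.2).symm
    · rw [hcl y hycl]
      exact (germ_eq_one_of_not_isClosed hC y hycl _).symm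

end Main

end Groth.Agent.H95.AbsCurve
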