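import Mathlib
import Groth.Prelude.Def_Rees
import Groth.Prelude.Def_BlowUp2
import Groth.Prelude.Def_ega3
import Groth.Agent.H95.ReesProjDefs
import Groth.Agent.H95.EffCartierLocal
import Groth.Agent.H54.CD_FLAT
import Groth.Agent.H98.BC_A1
import Groth.Agent.H35.RP_EA
import Groth.Agent.H35.RP_EA2
import Groth.Agent.H13.RP_ECA
import Groth.Agent.H13.RP_U1
import Groth.Agent.H93.RP_U2
import Groth.Agent.S1695
set_option autoImplicit false
universe u
open CategoryTheory CategoryTheory.Limits AlgebraicGeometry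
open Groth.Agent.H95.ReesProj

/-!
# Proj of the Rees algebra is the blow-up (assembly for S16054)
-/

namespace Groth.Agent.H95.ReesProjMain

variable (A : Type u) [CommRing A] (I : Ideal A)

theorem UA (a : A) (ha : a ∈ I) {C : Type u} [CommRing C] (φ : A →+* C)
    (hgen : I.map φ = Ideal.span {φ a}) (hnzd : φ a ∈ nonZeroDivisors C)
    (v₁ v₂ : Spec (CommRingCat.of C) ⟶ Proj (Rees.deg (reesAlgebra I)))
    (h₁ : v₁ ≫ (Proj (Rees.deg (reesAlgebra I)) ↘ Spec (CommRingCat.of A)) =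
      Spec.map (CommRingCat.ofHom φ))
    (h₂ : v₂ ≫ (Proj (Rees.deg (reesAlgebra I)) ↘ Spec (CommRingCat.of A)) =
      Spec.map (CommRingCat.ofHom φ)) : v₁ = v₂ :=
  Groth.Agent.H35.RP_EA.UA_core A I a ha φ hnzd
    (fun ψ₁ ψ₂ h hn => Groth.Agent.H13.RP_U1.U1 A I a ha ψ₁ ψ₂ h hn) v₁ v₂
    (Groth.Agent.H93.RP_U2.U2 A I a ha φ hgen hnzd v₁ h₁)
    (Groth.Agent.H93.RP_U2.U2 A I a ha φ hgen hnzd v₂ h₂) h₁ h₂

theorem EA (a : A) (ha : a ∈ I) {C : Type u} [CommRing C] (φ : A →+* C)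
    (hgen : I.map φ = Ideal.span {φ a}) (hnzd : φ a ∈ nonZeroDivisors C) :
    ∃ v : Spec (CommRingCat.of C) ⟶ Proj (Rees.deg (reesAlgebra I)),
      v ≫ (Proj (Rees.deg (reesAlgebra I)) ↘ Spec (CommRingCat.of A)) =
        Spec.map (CommRingCat.ofHom φ) :=
  Groth.Agent.H35.RP_EA2.EA A I a ha φ hgen hnzd

/-- the ring map `A → Γ(T, W)` induced by `t : T ⟶ Spec A` -/
noncomputable def phi {T : Scheme.{u}} (t : T ⟶ Spec (CommRingCat.of A)) (W : T.Opens) :
    A →+* Γ(T, W) :=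
  ((T.presheaf.map (homOfLE (le_top : W ≤ ⊤)).op).hom.comp t.appTop.hom).comp
    (Scheme.ΓSpecIso (CommRingCat.of A)).inv.hom

theorem fromSpec_comp {T : Scheme.{u}} (t : T ⟶ Spec (CommRingCat.of A)) (W : T.affineOpens) :
    W.2.fromSpec ≫ t = Spec.map (CommRingCat.ofHom (phi A t W.1)) := by
  have h := IsAffineOpen.SpecMap_appLE_fromSpec t (isAffineOpen_top _) W.2 (le_top : W.1 ≤ t ⁻¹ᵁ ⊤)
  rw [← h, IsAffineOpen.fromSpec_top, Scheme.isoSpec_Spec_inv, ← Spec.map_comp]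
  rfl

theorem loc_data {T : Scheme.{u}} (t : T ⟶ Spec (CommRingCat.of A))
    (ht : BlowUp.IsEffCartierIdeal ((Scheme.IdealSheafData.ofIdealTop
      (I.map (Scheme.ΓSpecIso (CommRingCat.of A)).inv.hom)).comap t)) (x : T) :
    ∃ a ∈ I, ∃ W : T.affineOpens, x ∈ W.1 ∧
      I.map (phi A t W.1) = Ideal.span {phi A t W.1 a} ∧
      phi A t W.1 a ∈ nonZeroDivisors Γ(T, W.1) := by
  obtain ⟨a, ha, W, hxW, hid, hnzd⟩ := Groth.Agent.H98.BC_A1.A1 A I t ht x
  refine ⟨a, ha, W, hxW, ?_, hnzd⟩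
  have hmap : ((Scheme.IdealSheafData.ofIdealTop
      (I.map (Scheme.ΓSpecIso (CommRingCat.of A)).inv.hom)).comap t).ideal W =
      I.map (phi A t W.1) := by
    rw [Groth.Agent.H9.comap_ideal t _ ⟨⊤, isAffineOpen_top _⟩ W le_top,
      Scheme.IdealSheafData.ofIdealTop_ideal, Ideal.map_map, Ideal.map_map]
    rfl
  rw [← hmap]
  exact hid

/-- uniqueness of lifts -/
theorem uniq {T : Scheme.{u}} (t : T ⟶ Spec (CommRingCat.of A))
    (ht : BlowUp.IsEffCartierIdeal ((Scheme.IdealSheafData.ofIdealTop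
      (I.map (Scheme.ΓSpecIso (CommRingCat.of A)).inv.hom)).comap t))
    (l₁ l₂ : T ⟶ Proj (Rees.deg (reesAlgebra I)))
    (h₁ : l₁ ≫ (Proj (Rees.deg (reesAlgebra I)) ↘ Spec (CommRingCat.of A)) = t)
    (h₂ : l₂ ≫ (Proj (Rees.deg (reesAlgebra I)) ↘ Spec (CommRingCat.of A)) = t) : l₁ = l₂ := by
  choose a haI W hxW hgen hnzd using loc_data A I t ht
  have hcov : TopologicalSpace.IsOpenCover (fun x => (W x).1) := by
    rw [TopologicalSpace.IsOpenCover, eq_top_iff]
    intro x _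
    exact TopologicalSpace.Opens.mem_iSup.mpr ⟨x, hxW x⟩
  refine (T.openCoverOfIsOpenCover _ hcov).hom_ext _ _ fun x => ?_
  change (W x).1.ι ≫ l₁ = (W x).1.ι ≫ l₂
  have key : (W x).2.fromSpec ≫ l₁ = (W x).2.fromSpec ≫ l₂ := by
    refine UA A I (a x) (haI x) (phi A t (W x).1) (hgen x) (hnzd x) _ _ ?_ ?_
    · rw [Category.assoc, h₁, fromSpec_comp]
    · rw [Category.assoc, h₂, fromSpec_comp]
  unfold IsAffineOpen.fromSpec at key
  rw [Category.assoc, Category.assoc] at key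
  exact (cancel_epi _).mp key

theorem GLU {T : Scheme.{u}} (t : T ⟶ Spec (CommRingCat.of A))
    (ht : BlowUp.IsEffCartierIdeal ((Scheme.IdealSheafData.ofIdealTop
      (I.map (Scheme.ΓSpecIso (CommRingCat.of A)).inv.hom)).comap t)) :
    ∃! l : T ⟶ Proj (Rees.deg (reesAlgebra I)),
      l ≫ (Proj (Rees.deg (reesAlgebra I)) ↘ Spec (CommRingCat.of A)) = t := by
  choose a haI W hxW hgen hnzd using loc_data A I t ht
  have hcov : TopologicalSpace.IsOpenCover (fun x => (W x).1) := by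
    rw [TopologicalSpace.IsOpenCover, eq_top_iff]
    intro x _
    exact TopologicalSpace.Opens.mem_iSup.mpr ⟨x, hxW x⟩
  have hex : ∀ x, ∃ v : Spec (CommRingCat.of Γ(T, (W x).1)) ⟶ Proj (Rees.deg (reesAlgebra I)),
      v ≫ (Proj (Rees.deg (reesAlgebra I)) ↘ Spec (CommRingCat.of A)) =
        Spec.map (CommRingCat.ofHom (phi A t (W x).1)) :=
    fun x => EA A I (a x) (haI x) (phi A t (W x).1) (hgen x) (hnzd x)
  choose v hv using hex
  have hg : ∀ x, ((W x).2.isoSpec.hom ≫ v x) ≫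
      (Proj (Rees.deg (reesAlgebra I)) ↘ Spec (CommRingCat.of A)) = (W x).1.ι ≫ t := by
    intro x
    rw [Category.assoc, hv, ← fromSpec_comp]
    unfold IsAffineOpen.fromSpec
    rw [Category.assoc, Iso.hom_inv_id_assoc]
  have hcompat : ∀ x y, pullback.fst (W x).1.ι (W y).1.ι ≫ ((W x).2.isoSpec.hom ≫ v x) =
      pullback.snd (W x).1.ι (W y).1.ι ≫ ((W y).2.isoSpec.hom ≫ v y) := by
    intro x y
    refine uniq A I ((pullback.fst (W x).1.ι (W y).1.ι ≫ (W x).1.ι) ≫ t) ?_ _ _ ?_ ?_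
    · rw [Scheme.IdealSheafData.comap_comp]
      exact Groth.Agent.H54.CD_FLAT.FLAT _ _ ht
    · rw [Category.assoc, hg, Category.assoc]
    · rw [Category.assoc, hg, Category.assoc, pullback.condition_assoc]
  refine ⟨(T.openCoverOfIsOpenCover _ hcov).glueMorphisms
    (fun x => (W x).2.isoSpec.hom ≫ v x) hcompat, ?_, ?_⟩
  · refine (T.openCoverOfIsOpenCover _ hcov).hom_ext _ _ fun x => ?_
    have h1 := Scheme.Cover.ι_glueMorphisms (T.openCoverOfIsOpenCover _ hcov)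
      (fun x => (W x).2.isoSpec.hom ≫ v x) hcompat x
    rw [← Category.assoc, h1]
    exact hg x
  · intro l hl
    refine uniq A I t ht _ _ hl ?_
    refine (T.openCoverOfIsOpenCover _ hcov).hom_ext _ _ fun x => ?_
    have h1 := Scheme.Cover.ι_glueMorphisms (T.openCoverOfIsOpenCover _ hcov)
      (fun x => (W x).2.isoSpec.hom ≫ v x) hcompat x
    rw [← Category.assoc, h1]
    exact hg x

theorem COV : ⨆ a : I, Proj.basicOpen (Rees.deg (reesAlgebra I)) (gen A I a.1 a.2) = ⊤ := by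
  rw [eq_top_iff]
  intro y _
  obtain ⟨b, hb, hy⟩ := Groth.Agent.H93.RP_U2.exists_gen_mem_basicOpen A I y
  exact TopologicalSpace.Opens.mem_iSup.mpr ⟨⟨b, hb⟩, hy⟩

theorem ECS (a : A) (ha : a ∈ I) : BlowUp.IsEffCartierIdeal
    ((Scheme.IdealSheafData.ofIdealTop (I.map (Scheme.ΓSpecIso (CommRingCat.of A)).inv.hom)).comap
      (Spec.map (CommRingCat.ofHom (toAway A I a ha)))) := by
  intro y
  obtain ⟨h1, h2⟩ := Groth.Agent.H13.RP_ECA.ECA A I a ha
  refine ⟨⟨⊤, isAffineOpen_top _⟩, trivial,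
    (Scheme.ΓSpecIso (CommRingCat.of (HomogeneousLocalization.Away (Rees.deg (reesAlgebra I))
      (gen A I a ha)))).inv.hom (toAway A I a ha a),
    Groth.Agent.S1695.nzd_ΓSpecIso_inv _ h2, ?_⟩
  have h3 := Groth.Agent.S14090.comap_idealSheaf_ideal A I
    (Spec.map (CommRingCat.ofHom (toAway A I a ha))) ⟨⊤, isAffineOpen_top _⟩
  have hsharp : Groth.Agent.H54.BlowUpAffine.sharp (Spec.map (CommRingCat.ofHom (toAway A I a ha))) =
      (Scheme.ΓSpecIso (CommRingCat.of (HomogeneousLocalization.Away (Rees.deg (reesAlgebra I))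
        (gen A I a ha)))).inv.hom.comp (toAway A I a ha) := by
    unfold Groth.Agent.H54.BlowUpAffine.sharp
    rw [← Scheme.ΓSpecIso_inv_naturality]
    rfl
  have e1 : ((Spec (CommRingCat.of (HomogeneousLocalization.Away (Rees.deg (reesAlgebra I))
      (gen A I a ha)))).presheaf.map (homOfLE (le_top : (⊤ : (Spec (CommRingCat.of
        (HomogeneousLocalization.Away (Rees.deg (reesAlgebra I)) (gen A I a ha)))).Opens) ≤ ⊤)).op) =
      𝟙 _ := by
    have : (homOfLE (le_top : (⊤ : (Spec (CommRingCat.of (HomogeneousLocalization.Away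
        (Rees.deg (reesAlgebra I)) (gen A I a ha)))).Opens) ≤ ⊤)) = 𝟙 _ := Subsingleton.elim _ _
    rw [this, op_id, CategoryTheory.Functor.map_id]
  have h4 : ((Scheme.IdealSheafData.ofIdealTop
      (I.map (Scheme.ΓSpecIso (CommRingCat.of A)).inv.hom)).comap
      (Spec.map (CommRingCat.ofHom (toAway A I a ha)))).ideal ⟨⊤, isAffineOpen_top _⟩ =
      Ideal.map ((Scheme.ΓSpecIso (CommRingCat.of (HomogeneousLocalization.Away
        (Rees.deg (reesAlgebra I)) (gen A I a ha)))).inv.hom.comp (toAway A I a ha)) I := by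
    refine h3.trans ?_
    rw [hsharp, e1]
    rfl
  refine h4.trans ?_
  have h5 : Ideal.map ((Scheme.ΓSpecIso (CommRingCat.of (HomogeneousLocalization.Away
        (Rees.deg (reesAlgebra I)) (gen A I a ha)))).inv.hom.comp (toAway A I a ha)) I =
      Ideal.map (Scheme.ΓSpecIso (CommRingCat.of (HomogeneousLocalization.Away
        (Rees.deg (reesAlgebra I)) (gen A I a ha)))).inv.hom (Ideal.map (toAway A I a ha) I) :=
    (Ideal.map_map _ _).symm
  rw [h5, h1]
  exact Ideal.map_span _ _ |>.trans (by rw [Set.image_singleton])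

theorem EC : BlowUp.IsEffCartierIdeal
    ((Scheme.IdealSheafData.ofIdealTop (I.map (Scheme.ΓSpecIso (CommRingCat.of A)).inv.hom)).comap
      (Proj (Rees.deg (reesAlgebra I)) ↘ Spec (CommRingCat.of A))) := by
  refine Groth.Agent.H95.EffCartierLocal.ECL _
    (fun a : I => Proj.basicOpen (Rees.deg (reesAlgebra I)) (gen A I a.1 a.2)) (COV A I) ?_
  rintro ⟨a, ha⟩
  have hι : (Proj.basicOpen (Rees.deg (reesAlgebra I)) (gen A I a ha)).ι =
      (Proj.basicOpenIsoSpec (Rees.deg (reesAlgebra I)) (gen A I a ha) (gen_mem A I a ha)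
        one_pos).hom ≫
      Proj.awayι (Rees.deg (reesAlgebra I)) (gen A I a ha) (gen_mem A I a ha) one_pos := by
    rw [← Proj.basicOpenIsoSpec_inv_ι, Iso.hom_inv_id_assoc]
  show BlowUp.IsEffCartierIdeal (Scheme.IdealSheafData.comap _
    (Proj.basicOpen (Rees.deg (reesAlgebra I)) (gen A I a ha)).ι)
  rw [hι, Scheme.IdealSheafData.comap_comp]
  apply Groth.Agent.H54.CD_FLAT.FLAT
  rw [← Scheme.IdealSheafData.comap_comp, Groth.Agent.H35.RP_EA.awayι_over]
  exact ECS A I a ha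

theorem main : BlowUp.IsBlowUp (Proj (Rees.deg (reesAlgebra I)) ↘ Spec (CommRingCat.of A))
      (Scheme.IdealSheafData.ofIdealTop (I.map (Scheme.ΓSpecIso (CommRingCat.of A)).inv.hom)) :=
  ⟨EC A I, fun _ t ht => GLU A I t ht⟩

end Groth.Agent.H95.ReesProjMain
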