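import Mathlib
import Groth.Prelude.Def_BlowUp2
import Groth.Agent.H95.ReesProjMain
import Groth.Agent.H22.FB_AFF
set_option autoImplicit false
universe u
open CategoryTheory CategoryTheory.Limits AlgebraicGeometry

namespace Groth.Agent.H95.BlowUpAffEx

/-- every affine open has a blow-up of the restricted ideal sheaf (Proj of the Rees algebra) -/
theorem AFFEX (Y : Scheme.{u}) (I : Y.IdealSheafData) (U : Y.affineOpens) :
    ∃ (B : Scheme.{u}) (b : B ⟶ U.1.toScheme), BlowUp.IsBlowUp b (I.comap U.1.ι) := by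
  have h0 := Groth.Agent.H95.ReesProjMain.main Γ(Y, U.1) (I.ideal U)
  have h1 := Groth.Agent.H22.FBAFF.ISO
    (Proj (Rees.deg (reesAlgebra (I.ideal U))) ↘ Spec (CommRingCat.of Γ(Y, U.1)))
    ((Proj (Rees.deg (reesAlgebra (I.ideal U))) ↘ Spec (CommRingCat.of Γ(Y, U.1))) ≫
      U.2.isoSpec.inv) (Iso.refl _) U.2.isoSpec (by simp) _ h0
  refine ⟨Proj (Rees.deg (reesAlgebra (I.ideal U))),
    (Proj (Rees.deg (reesAlgebra (I.ideal U))) ↘ Spec (CommRingCat.of Γ(Y, U.1))) ≫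
      U.2.isoSpec.inv, ?_⟩
  rw [← Groth.Agent.H22.FBAFF.comap_isoSpec_eq I U]
  exact h1

end Groth.Agent.H95.BlowUpAffEx
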