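import Mathlib
import Groth.Prelude.Def_BlowUp2
import Groth.Agent.S7894
import Groth.Agent.H22.FB_AFF
import Groth.Agent.H54.BUEX_BCO
import Groth.Agent.H54.BUEX_UI
set_option autoImplicit false
universe u
open CategoryTheory CategoryTheory.Limits AlgebraicGeometry

namespace Groth.Agent.H95.BlowUpGlue

/-- blow-ups of the affine opens glue to a blow-up (relative gluing over the directed affine cover) -/
theorem GLUEBU (Y : Scheme.{u}) (I : Y.IdealSheafData)
    (h : ∀ U : Y.affineOpens, ∃ (B : Scheme.{u}) (b : B ⟶ U.1.toScheme),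
      BlowUp.IsBlowUp b (I.comap U.1.ι)) :
    ∃ (X' : Scheme.{u}) (b : X' ⟶ Y), BlowUp.IsBlowUp b I := by
  classical
  choose B b hb using h
  have hEC : ∀ (U V : Y.affineOpens) (hUV : U ≤ V),
      BlowUp.IsEffCartierIdeal ((I.comap V.1.ι).comap (b U ≫ Y.homOfLE hUV)) := by
    intro U V hUV
    rw [← Scheme.IdealSheafData.comap_comp, Category.assoc, Scheme.homOfLE_ι,
      Scheme.IdealSheafData.comap_comp]
    exact (hb U).1
  let tr : ∀ (U V : Y.affineOpens) (hUV : U ≤ V), B U ⟶ B V :=
    fun U V hUV => ((hb V).2 _ _ (hEC U V hUV)).choose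
  have tr_spec : ∀ U V hUV, tr U V hUV ≫ b V = b U ≫ Y.homOfLE hUV :=
    fun U V hUV => ((hb V).2 _ _ (hEC U V hUV)).choose_spec.1
  have tr_uniq : ∀ U V hUV (l : B U ⟶ B V), l ≫ b V = b U ≫ Y.homOfLE hUV → l = tr U V hUV :=
    fun U V hUV l hl => ((hb V).2 _ _ (hEC U V hUV)).choose_spec.2 l hl
  let F₀ : Y.affineOpens ⥤ Scheme.{u} :=
    { obj := fun U => B U
      map := fun {U V} f => tr U V (leOfHom f)
      map_id := fun U => by
        symm
        apply tr_uniq
        simp
      map_comp := fun {U V W} f g => by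
        symm
        apply tr_uniq
        rw [Category.assoc, tr_spec V W, ← Category.assoc, tr_spec U V, Category.assoc]
        simp }
  let F : Y.directedAffineCover.I₀ ⥤ Scheme.{u} := F₀
  let α : F ⟶ Y.directedAffineCover.functorOfLocallyDirected :=
    { app := fun U => b U
      naturality := fun {U V} f => by
        exact tr_spec U V (leOfHom f) }
  have heq : α.Equifibered := by
    intro U V f
    have : Flat (Y.homOfLE (leOfHom f)) := inferInstance
    have hJ : (I.comap V.1.ι).comap (Y.homOfLE (leOfHom f)) = I.comap U.1.ι := by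
      rw [← Scheme.IdealSheafData.comap_comp, Scheme.homOfLE_ι]
    exact Groth.Agent.H54.BUEX_BCO.BCO (I.comap V.1.ι) (Y.homOfLE (leOfHom f)) (b V) (hb V) (b U)
      (hJ ▸ hb U) (tr U V (leOfHom f)) (tr_spec U V (leOfHom f))
  let d : Scheme.Cover.RelativeGluingData Y.directedAffineCover := ⟨F, α, heq⟩
  refine ⟨d.glued, d.toBase, ?_⟩
  refine Groth.Agent.S7894.LOC d.toBase I (fun U : Y.affineOpens => U.1)
    (iSup_affineOpens_eq_top Y) ?_
  intro U
  have hpb := d.isPullback_natTrans_ι_toBase U
  have hres := isPullback_morphismRestrict d.toBase U.1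
  have h1 := Groth.Agent.H22.FBAFF.ISO (b U) (d.toBase ∣_ U.1)
    (hpb.isoIsPullback _ _ hres).symm (Iso.refl _)
    (by
      rw [Iso.symm_hom, Iso.inv_comp_eq, Iso.refl_hom, Category.comp_id]
      exact (IsPullback.isoIsPullback_hom_fst _ _ hpb hres).symm) _ (hb U)
  simpa using h1


end Groth.Agent.H95.BlowUpGlue
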