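import Mathlib
import Groth.Agent.H9.SubschemeStalk

/-!
# The closed subscheme without embedded components attached to an effective cycle of
codimension one at regular points
-/

set_option autoImplicit false

universe u

open CategoryTheory CategoryTheory.Limits AlgebraicGeometry TopologicalSpace IsLocalRing

namespace Groth.Agent.H95.CycSubscheme

/-! ### algebra -/

section Alg

theorem length_self_of_surjective {S R : Type*} [CommRing S] [CommRing R] (φ : S →+* R)
    (hφ : Function.Surjective φ) :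
    Module.length R R = Module.length S (S ⧸ RingHom.ker φ) := by
  letI := φ.toAlgebra
  have h1 : Module.length S R = Module.length R R :=
    Module.length_eq_of_surjective (S := S) (R := R) (M := R) hφ
  let e0 : (S ⧸ RingHom.ker φ) ≃+* R := RingHom.quotientKerEquivOfSurjective hφ
  have he0 : ∀ a : S, e0 (Ideal.Quotient.mk _ a) = φ a := fun a => rfl
  let e : (S ⧸ RingHom.ker φ) ≃ₗ[S] R :=
    { e0.toAddEquiv with
      map_smul' := by
        intro s q
        obtain ⟨a, rfl⟩ := Ideal.Quotient.mk_surjective q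
        show e0 (s • Ideal.Quotient.mk _ a) = s • e0 (Ideal.Quotient.mk _ a)
        rw [show s • Ideal.Quotient.mk (RingHom.ker φ) a = Ideal.Quotient.mk _ (s * a) from rfl,
          he0, he0, map_mul]
        rfl }
  rw [← h1, ← e.length_eq]

theorem length_quot_anti {R : Type*} [CommRing R] {K L : Ideal R} (h : K ≤ L) :
    Module.length R (R ⧸ L) ≤ Module.length R (R ⧸ K) := by
  rw [Module.length_quotient, Module.length_quotient]
  exact Order.coheight_anti h

theorem eq_pow_of_length {R : Type*} [CommRing R] [IsDomain R] [IsDiscreteValuationRing R]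
    (K : Ideal R) (w : ℕ) (hlen : Module.length R (R ⧸ K) = w) : K = maximalIdeal R ^ w := by
  have hK : K ≠ ⊥ := by
    intro hK
    have h1 := length_quot_anti (R := R) (K := K) (L := maximalIdeal R ^ (w + 1))
      (by rw [hK]; exact bot_le)
    rw [hlen, IsDiscreteValuationRing.length_quotient_pow_maximalIdeal] at h1
    have h2 : w + 1 ≤ w := by exact_mod_cast h1
    omega
  obtain ⟨ϖ, hϖ⟩ := IsDiscreteValuationRing.exists_irreducible R
  obtain ⟨n, hn⟩ := IsDiscreteValuationRing.ideal_eq_span_pow_irreducible hK hϖ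
  have hm : maximalIdeal R = Ideal.span {ϖ} :=
    (IsDiscreteValuationRing.irreducible_iff_uniformizer ϖ).mp hϖ
  have hKn : K = maximalIdeal R ^ n := by
    rw [hn, hm, Ideal.span_singleton_pow]
  rw [hKn, IsDiscreteValuationRing.length_quotient_pow_maximalIdeal] at hlen
  have : n = w := by exact_mod_cast hlen
  rw [hKn, this]

end Alg

variable {X : Scheme.{u}}

/-! ### germs -/

theorem germ_res {U V : X.Opens} (h : V ≤ U) (a : Γ(X, U)) (x : X) (hx : x ∈ V) :
    (X.presheaf.germ V x hx).hom ((X.presheaf.map (homOfLE h).op).hom a) =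
      (X.presheaf.germ U x (h hx)).hom a :=
  TopCat.Presheaf.germ_res_apply X.presheaf (homOfLE h) x hx a

theorem spec_germ {U : X.Opens} {x y : X} (h : x ⤳ y) (hy : y ∈ U) (a : Γ(X, U)) :
    (X.presheaf.stalkSpecializes h).hom ((X.presheaf.germ U y hy).hom a) =
      (X.presheaf.germ U x (h.mem_open U.2 hy)).hom a := by
  have h1 := congrArg (fun φ => φ.hom a) (X.presheaf.germ_stalkSpecializes hy h)
  exact h1

theorem spec_refl {x : X} (h : x ⤳ x) (c : X.presheaf.stalk x) :
    (X.presheaf.stalkSpecializes h).hom c = c := by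
  have h1 : X.presheaf.stalkSpecializes h = 𝟙 _ := X.presheaf.stalkSpecializes_refl x
  rw [h1]
  rfl

theorem germ_mem_maximalIdeal_iff {U : X.Opens} (f : Γ(X, U)) (x : X) (hx : x ∈ U) :
    (X.presheaf.germ U x hx).hom f ∈ maximalIdeal (X.presheaf.stalk x) ↔ x ∉ X.basicOpen f := by
  rw [Scheme.mem_basicOpen X f x hx, mem_maximalIdeal, mem_nonunits_iff]

theorem exists_sep (U : X.affineOpens) {x' y : X} (hx' : x' ∈ U.1) (hy : y ∈ U.1)
    (hns : ¬ x' ⤳ y) :
    ∃ e : Γ(X, U.1), (X.presheaf.germ U.1 x' hx').hom e ∈ maximalIdeal (X.presheaf.stalk x') ∧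
      IsUnit ((X.presheaf.germ U.1 y hy).hom e) := by
  have hyc : y ∉ closure ({x'} : Set X) := fun h => hns (specializes_iff_mem_closure.mpr h)
  let O : X.Opens := ⟨(closure ({x'} : Set X))ᶜ, isClosed_closure.isOpen_compl⟩
  obtain ⟨e, heO, hye⟩ := U.2.exists_basicOpen_le (V := O) ⟨y, hyc⟩ hy
  refine ⟨e, ?_, (Scheme.mem_basicOpen X e y hy).mp hye⟩
  rw [germ_mem_maximalIdeal_iff]
  intro hx'e
  exact heO hx'e (subset_closure rfl)

/-! ### the ideal sheaf -/

/-- the local ideal `𝔪_x ^ (W x)` -/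
noncomputable def M (W : X → ℤ) (x : X) : Ideal (X.presheaf.stalk x) :=
  maximalIdeal (X.presheaf.stalk x) ^ (W x).toNat

theorem M_eq_top (W : X → ℤ) {x : X} (hx : W x = 0) : M W x = ⊤ := by
  unfold M
  rw [hx, Int.toNat_zero, pow_zero, Ideal.one_eq_top]

theorem M_le (W : X → ℤ) {x : X} (hx : W x ≠ 0) (hpos : 0 ≤ W x) :
    M W x ≤ maximalIdeal (X.presheaf.stalk x) := by
  unfold M
  have h1 : 1 ≤ (W x).toNat := by omega
  exact (Ideal.pow_le_pow_right h1).trans (by rw [pow_one])

/-- sections all of whose germs lie in `M W x` -/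
noncomputable def F (W : X → ℤ) (U : X.Opens) : Ideal Γ(X, U) where
  carrier := {a | ∀ (x : X) (hx : x ∈ U), (X.presheaf.germ U x hx).hom a ∈ M W x}
  add_mem' := fun ha hb x hx => by
    rw [map_add]
    exact Ideal.add_mem _ (ha x hx) (hb x hx)
  zero_mem' := fun x hx => by
    rw [map_zero]
    exact Ideal.zero_mem _
  smul_mem' := fun c a ha x hx => by
    rw [smul_eq_mul, map_mul]
    exact Ideal.mul_mem_left _ _ (ha x hx)

theorem mem_F (W : X → ℤ) (U : X.Opens) (a : Γ(X, U)) :
    a ∈ F W U ↔ ∀ (x : X) (hx : x ∈ U), (X.presheaf.germ U x hx).hom a ∈ M W x := Iff.rfl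

theorem exists_bound (W : X → ℤ) (hfin : {x | W x ≠ 0}.Finite) :
    ∃ N : ℕ, ∀ x : X, (W x).toNat ≤ N := by
  classical
  refine ⟨∑ x ∈ hfin.toFinset, (W x).toNat, fun x => ?_⟩
  by_cases hx : W x = 0
  · rw [hx, Int.toNat_zero]
    exact Nat.zero_le _
  · exact Finset.single_le_sum (f := fun x => (W x).toNat) (fun _ _ => Nat.zero_le _)
      (hfin.mem_toFinset.mpr hx)

theorem map_F_basicOpen (W : X → ℤ) (hfin : {x | W x ≠ 0}.Finite) (U : X.affineOpens)
    (f : Γ(X, U.1)) :
    (F W U.1).map (X.presheaf.map (homOfLE (X.basicOpen_le f)).op).hom =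
      F W (X.basicOpen f) := by
  apply le_antisymm
  · rw [Ideal.map_le_iff_le_comap]
    intro a ha x hx
    rw [germ_res]
    exact ha x _
  · intro b hb
    have := U.2.isLocalization_basicOpen f
    obtain ⟨⟨a, ⟨_, n, rfl⟩⟩, hab⟩ := IsLocalization.surj (Submonoid.powers f) b
    have hab' : b * (X.presheaf.map (homOfLE (X.basicOpen_le f)).op).hom (f ^ n) =
        (X.presheaf.map (homOfLE (X.basicOpen_le f)).op).hom a := hab
    obtain ⟨N, hN⟩ := exists_bound W hfin
    have ha' : f ^ N * a ∈ F W U.1 := by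
      intro x hx
      rw [map_mul, map_pow]
      by_cases hxf : x ∈ X.basicOpen f
      · apply Ideal.mul_mem_left
        have h1 := congrArg (X.presheaf.germ (X.basicOpen f) x hxf).hom hab'
        rw [map_mul, germ_res, germ_res] at h1
        rw [← h1]
        exact Ideal.mul_mem_right _ _ (hb x hxf)
      · apply Ideal.mul_mem_right
        have hm := (germ_mem_maximalIdeal_iff f x hx).mpr hxf
        exact Ideal.pow_le_pow_right (hN x) (Ideal.pow_mem_pow hm N)
    show b ∈ Ideal.map (algebraMap Γ(X, U.1) Γ(X, X.basicOpen f)) (F W U.1)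
    rw [IsLocalization.mem_map_algebraMap_iff (Submonoid.powers f)]
    refine ⟨⟨⟨f ^ N * a, ha'⟩, ⟨f ^ (N + n), _, rfl⟩⟩, ?_⟩
    show b * algebraMap Γ(X, U.1) Γ(X, X.basicOpen f) (f ^ (N + n)) =
      algebraMap Γ(X, U.1) Γ(X, X.basicOpen f) (f ^ N * a)
    have hab'' : b * algebraMap Γ(X, U.1) Γ(X, X.basicOpen f) (f ^ n) =
        algebraMap Γ(X, U.1) Γ(X, X.basicOpen f) a := hab
    rw [map_mul, ← hab'', pow_add, map_mul]
    ring

/-- the ideal sheaf of the cycle -/
noncomputable def idl (W : X → ℤ) (hfin : {x | W x ≠ 0}.Finite) : X.IdealSheafData where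
  ideal U := F W U.1
  map_ideal_basicOpen U f := map_F_basicOpen W hfin U f

/-- the expected stalk of the ideal sheaf -/
noncomputable def J (W : X → ℤ) (y : X) : Ideal (X.presheaf.stalk y) :=
  ⨅ (x : X) (h : x ⤳ y), (M W x).comap (X.presheaf.stalkSpecializes h).hom

theorem mem_J {W : X → ℤ} {y : X} {c : X.presheaf.stalk y} :
    c ∈ J W y ↔ ∀ (x : X) (h : x ⤳ y), (X.presheaf.stalkSpecializes h).hom c ∈ M W x := by
  unfold J
  simp only [Ideal.mem_iInf, Ideal.mem_comap]

theorem map_germ_eq_J (W : X → ℤ) (hfin : {x | W x ≠ 0}.Finite) (U : X.affineOpens) (y : X)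
    (hy : y ∈ U.1) : (F W U.1).map (X.presheaf.germ U.1 y hy).hom = J W y := by
  classical
  apply le_antisymm
  · rw [Ideal.map_le_iff_le_comap]
    intro a ha
    rw [Ideal.mem_comap, mem_J]
    intro x h
    rw [spec_germ]
    exact ha x _
  · intro c hc
    rw [mem_J] at hc
    let _ : Algebra Γ(X, U.1) (X.presheaf.stalk y) := X.presheaf.algebra_section_stalk ⟨y, hy⟩
    have : IsLocalization.AtPrime (X.presheaf.stalk y) (U.2.primeIdealOf ⟨y, hy⟩).asIdeal :=
      U.2.isLocalization_stalk ⟨y, hy⟩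
    obtain ⟨⟨a, ⟨s, hs⟩⟩, hcs⟩ :=
      IsLocalization.surj (U.2.primeIdealOf ⟨y, hy⟩).asIdeal.primeCompl c
    have hcs' : c * (X.presheaf.germ U.1 y hy).hom s = (X.presheaf.germ U.1 y hy).hom a := hcs
    have hsu : IsUnit ((X.presheaf.germ U.1 y hy).hom s) :=
      IsLocalization.map_units (X.presheaf.stalk y)
        (⟨s, hs⟩ : (U.2.primeIdealOf ⟨y, hy⟩).asIdeal.primeCompl)
    have hex : ∀ x' : X, ∃ e : Γ(X, U.1),
        (¬ x' ⤳ y → ∀ hx' : x' ∈ U.1,
          (X.presheaf.germ U.1 x' hx').hom e ∈ maximalIdeal (X.presheaf.stalk x')) ∧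
        IsUnit ((X.presheaf.germ U.1 y hy).hom e) := by
      intro x'
      by_cases h : x' ∈ U.1 ∧ ¬ x' ⤳ y
      · obtain ⟨e, h1, h2⟩ := exists_sep U h.1 hy h.2
        exact ⟨e, fun _ _ => h1, h2⟩
      · refine ⟨1, fun h1 hx' => absurd ⟨hx', h1⟩ h, ?_⟩
        rw [map_one]
        exact isUnit_one
    choose e he1 he2 using hex
    obtain ⟨s', hs'⟩ : ∃ s' : Γ(X, U.1), s' = ∏ x' ∈ hfin.toFinset, e x' ^ (W x').toNat :=
      ⟨_, rfl⟩
    have hs'u : IsUnit ((X.presheaf.germ U.1 y hy).hom s') := by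
      rw [hs', map_prod]
      refine Finset.prod_induction _ IsUnit (fun _ _ => IsUnit.mul) isUnit_one (fun x' _ => ?_)
      rw [map_pow]
      exact (he2 x').pow _
    have hmem : s' * a ∈ F W U.1 := by
      intro x hx
      rw [map_mul]
      by_cases hxW : W x = 0
      · rw [M_eq_top W hxW]
        trivial
      by_cases hxy : x ⤳ y
      · apply Ideal.mul_mem_left
        have h1 := congrArg (X.presheaf.stalkSpecializes hxy).hom hcs'
        rw [map_mul, spec_germ, spec_germ] at h1
        rw [← h1]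
        exact Ideal.mul_mem_right _ _ (hc x hxy)
      · apply Ideal.mul_mem_right
        have hxS : x ∈ hfin.toFinset := hfin.mem_toFinset.mpr hxW
        have hdvd : e x ^ (W x).toNat ∣ s' := by
          rw [hs']
          exact Finset.dvd_prod_of_mem (fun x' => e x' ^ (W x').toNat) hxS
        have h2 : (X.presheaf.germ U.1 x hx).hom (e x ^ (W x).toNat) ∈ M W x := by
          rw [map_pow]
          exact Ideal.pow_mem_pow (he1 x hxy hx) _
        exact Ideal.mem_of_dvd _ (map_dvd (X.presheaf.germ U.1 x hx).hom hdvd) h2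
    obtain ⟨u, hu⟩ := hs'u.mul hsu
    have h3 : c * (u : X.presheaf.stalk y) = (X.presheaf.germ U.1 y hy).hom (s' * a) := by
      rw [hu, map_mul, ← hcs']
      ring
    have h4 : c = (X.presheaf.germ U.1 y hy).hom (s' * a) * ((u⁻¹ : (X.presheaf.stalk y)ˣ) :
        X.presheaf.stalk y) := by
      rw [← h3, mul_assoc, Units.mul_inv, mul_one]
    rw [h4]
    exact Ideal.mul_mem_right _ _ (Ideal.mem_map_of_mem _ hmem)

end Groth.Agent.H95.CycSubscheme
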