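import Mathlib
import Groth.Agent.H95.CycSubscheme

/-!
# The closed subscheme attached to an effective cycle of codimension one: existence and
uniqueness
-/

set_option autoImplicit false

universe u

open CategoryTheory CategoryTheory.Limits AlgebraicGeometry TopologicalSpace IsLocalRing

namespace Groth.Agent.H95.CycSubscheme

variable {X : Scheme.{u}}

/-! ### points of a closed subscheme -/

theorem ι_injective (𝓘 : X.IdealSheafData) :
    Function.Injective (𝓘.subschemeι : 𝓘.subscheme → X) :=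
  𝓘.subschemeι.isEmbedding.injective

theorem ι_specializes_iff (𝓘 : X.IdealSheafData) {z' z : 𝓘.subscheme} :
    𝓘.subschemeι z' ⤳ 𝓘.subschemeι z ↔ z' ⤳ z :=
  𝓘.subschemeι.isEmbedding.isInducing.specializes_iff

theorem exists_affine (x : X) : ∃ U : X.affineOpens, x ∈ U.1 := by
  obtain ⟨U, hU, hxU, -⟩ := exists_isAffineOpen_mem_and_subset (x := x) (U := ⊤) trivial
  exact ⟨⟨U, hU⟩, hxU⟩

theorem ker_idl (W : X → ℤ) (hfin : {x | W x ≠ 0}.Finite) (z : (idl W hfin).subscheme) :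
    RingHom.ker ((idl W hfin).subschemeι.stalkMap z).hom =
      J W ((idl W hfin).subschemeι z) := by
  obtain ⟨U, hzU⟩ := exists_affine ((idl W hfin).subschemeι z)
  rw [Groth.Agent.H9.ker_stalkMap_subschemeι (idl W hfin) U z hzU]
  exact map_germ_eq_J W hfin U _ hzU

theorem J_eq_top_of (W : X → ℤ) (y : X) (h : ∀ x, x ⤳ y → W x = 0) : J W y = ⊤ := by
  rw [Ideal.eq_top_iff_one, mem_J]
  intro x hx
  rw [M_eq_top W (h x hx)]
  trivial

theorem coheight_eq_one {x : X}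
    (hreg : ∃ _ : IsDomain ↑(X.presheaf.stalk x),
      IsDiscreteValuationRing ↑(X.presheaf.stalk x)) :
    Order.coheight x = 1 := by
  obtain ⟨_, _⟩ := hreg
  have h1 : ringKrullDim (X.presheaf.stalk x) = 1 :=
    IsPrincipalIdealRing.ringKrullDim_eq_one _ (IsDiscreteValuationRing.not_isField _)
  rw [AlgebraicGeometry.ringKrullDim_stalk_eq_coheight] at h1
  exact_mod_cast h1

theorem eq_of_specializes {x x' : X} (hx : Order.coheight x = 1) (hx' : Order.coheight x' = 1)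
    (h : x' ⤳ x) : x' = x := by
  by_contra hne
  have hle : x ≤ x' := Scheme.le_iff_specializes.mpr h
  have hlt : x < x' := by
    refine lt_of_le_not_ge hle (fun hge => hne ?_)
    have h2 : x ⤳ x' := Scheme.le_iff_specializes.mp hge
    exact (h.antisymm h2).eq
  have h3 := Order.coheight_add_one_le hlt
  rw [hx, hx'] at h3
  have h4 : ((2 : ℕ) : ℕ∞) ≤ ((1 : ℕ) : ℕ∞) := by exact_mod_cast h3
  have h5 := ENat.coe_le_coe.mp h4
  omega

section General

variable {W : X → ℤ} {𝓘 : X.IdealSheafData}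

theorem J_eq_M
    (hreg : ∀ x, W x ≠ 0 → ∃ _ : IsDomain ↑(X.presheaf.stalk x),
      IsDiscreteValuationRing ↑(X.presheaf.stalk x))
    {x : X} (hx : W x ≠ 0) : J W x = M W x := by
  ext c
  rw [mem_J]
  constructor
  · intro h
    have h1 := h x specializes_rfl
    rwa [spec_refl] at h1
  · intro h x' hx'
    by_cases hx'0 : W x' = 0
    · rw [M_eq_top W hx'0]
      trivial
    · have h1 : x' = x := eq_of_specializes (coheight_eq_one (hreg x hx))
        (coheight_eq_one (hreg x' hx'0)) hx'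
      subst h1
      rwa [spec_refl]

theorem exists_gen
    (hker : ∀ z : 𝓘.subscheme,
      RingHom.ker (𝓘.subschemeι.stalkMap z).hom = J W (𝓘.subschemeι z))
    (z : 𝓘.subscheme) : ∃ x, W x ≠ 0 ∧ x ⤳ 𝓘.subschemeι z := by
  by_contra hcon
  push_neg at hcon
  have h1 : J W (𝓘.subschemeι z) = ⊤ := J_eq_top_of W _ (fun x hx => by
    by_contra h0
    exact hcon x h0 hx)
  rw [← hker] at h1
  exact RingHom.ker_ne_top _ h1

theorem isMaxPt_of_mem
    (hker : ∀ z : 𝓘.subscheme,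
      RingHom.ker (𝓘.subschemeι.stalkMap z).hom = J W (𝓘.subschemeι z))
    (hreg : ∀ x, W x ≠ 0 → ∃ _ : IsDomain ↑(X.presheaf.stalk x),
      IsDiscreteValuationRing ↑(X.presheaf.stalk x))
    (z : 𝓘.subscheme) (hz : W (𝓘.subschemeι z) ≠ 0) :
    ∀ z' : 𝓘.subscheme, z' ⤳ z → z' = z := by
  intro z' hz'
  have h1 : 𝓘.subschemeι z' ⤳ 𝓘.subschemeι z := (ι_specializes_iff 𝓘).mpr hz'
  obtain ⟨x, hx0, hx⟩ := exists_gen hker z'
  have h2 : x = 𝓘.subschemeι z :=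
    eq_of_specializes (coheight_eq_one (hreg _ hz)) (coheight_eq_one (hreg x hx0)) (hx.trans h1)
  rw [h2] at hx
  exact ι_injective 𝓘 (h1.antisymm hx).eq

theorem mem_of_isMaxPt
    (hker : ∀ z : 𝓘.subscheme,
      RingHom.ker (𝓘.subschemeι.stalkMap z).hom = J W (𝓘.subschemeι z))
    (hpt : ∀ x, W x ≠ 0 → ∃ z : 𝓘.subscheme, 𝓘.subschemeι z = x)
    (z : 𝓘.subscheme) (hz : ∀ z' : 𝓘.subscheme, z' ⤳ z → z' = z) :
    W (𝓘.subschemeι z) ≠ 0 := by
  obtain ⟨x, hx0, hx⟩ := exists_gen hker z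
  obtain ⟨z', rfl⟩ := hpt x hx0
  have h1 := hz z' ((ι_specializes_iff 𝓘).mp hx)
  rw [← h1]
  exact hx0

theorem length_eq
    (hker : ∀ z : 𝓘.subscheme,
      RingHom.ker (𝓘.subschemeι.stalkMap z).hom = J W (𝓘.subschemeι z))
    (hreg : ∀ x, W x ≠ 0 → ∃ _ : IsDomain ↑(X.presheaf.stalk x),
      IsDiscreteValuationRing ↑(X.presheaf.stalk x))
    (z : 𝓘.subscheme) (hz : W (𝓘.subschemeι z) ≠ 0) :
    Module.length ↑(𝓘.subscheme.presheaf.stalk z) ↑(𝓘.subscheme.presheaf.stalk z) =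
      ((W (𝓘.subschemeι z)).toNat : ℕ∞) := by
  obtain ⟨_, _⟩ := hreg _ hz
  rw [length_self_of_surjective (𝓘.subschemeι.stalkMap z).hom
    (Groth.Agent.H9.stalkMap_subschemeι_surjective 𝓘 z), hker, J_eq_M hreg hz]
  exact IsDiscreteValuationRing.length_quotient_pow_maximalIdeal _ _

theorem mem_of_ass
    (hker : ∀ z : 𝓘.subscheme,
      RingHom.ker (𝓘.subschemeι.stalkMap z).hom = J W (𝓘.subschemeι z))
    (z : 𝓘.subscheme)
    (hass : IsAssociatedPrime (maximalIdeal ↑(𝓘.subscheme.presheaf.stalk z))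
      ↑(𝓘.subscheme.presheaf.stalk z)) :
    W (𝓘.subschemeι z) ≠ 0 := by
  intro hW0
  have hφs : Function.Surjective (𝓘.subschemeι.stalkMap z).hom :=
    Groth.Agent.H9.stalkMap_subschemeι_surjective 𝓘 z
  obtain ⟨hp, cbar, hc⟩ := hass
  obtain ⟨c, rfl⟩ := hφs cbar
  have hcJ : c ∉ J W (𝓘.subschemeι z) := by
    intro hcJ
    rw [← hker, RingHom.mem_ker] at hcJ
    apply hp.ne_top
    rw [hc, Ideal.radical_eq_top, Ideal.eq_top_iff_one, Submodule.mem_colon_singleton, hcJ,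
      smul_zero]
    exact Submodule.zero_mem _
  rw [mem_J] at hcJ
  push_neg at hcJ
  obtain ⟨x, hxy, hxc⟩ := hcJ
  have hx0 : W x ≠ 0 := by
    intro h0
    apply hxc
    rw [M_eq_top W h0]
    trivial
  have hne : ¬ 𝓘.subschemeι z ⤳ x := by
    intro hyx
    have h1 : x = 𝓘.subschemeι z := (hxy.antisymm hyx).eq
    rw [h1] at hx0
    exact hx0 hW0
  obtain ⟨U, hyU⟩ := exists_affine (𝓘.subschemeι z)
  have hxU : x ∈ U.1 := hxy.mem_open U.1.2 hyU
  obtain ⟨e, he1, he2⟩ := exists_sep U hyU hxU hne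
  have hm : (𝓘.subschemeι.stalkMap z).hom ((X.presheaf.germ U.1 _ hyU).hom e) ∈
      maximalIdeal ↑(𝓘.subscheme.presheaf.stalk z) := by
    rw [mem_maximalIdeal, mem_nonunits_iff]
    intro hu
    have hu' := isUnit_of_map_unit (𝓘.subschemeι.stalkMap z).hom _ hu
    rw [mem_maximalIdeal, mem_nonunits_iff] at he1
    exact he1 hu'
  rw [hc, Ideal.mem_radical_iff] at hm
  obtain ⟨n, hn⟩ := hm
  have hn' : ((X.presheaf.germ U.1 _ hyU).hom e) ^ n * c ∈ J W (𝓘.subschemeι z) := by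
    rw [← hker, RingHom.mem_ker, map_mul, map_pow]
    exact (Submodule.mem_bot _).mp (Submodule.mem_colon_singleton.mp hn)
  have h1 := (mem_J.mp hn') x hxy
  rw [map_mul, map_pow, spec_germ] at h1
  exact hxc ((Ideal.unit_mul_mem_iff_mem _ (he2.pow n)).mp h1)

end General

/-! ### existence -/

theorem exists_point (W : X → ℤ) (hfin : {x | W x ≠ 0}.Finite) (hpos : ∀ x, 0 ≤ W x) (x : X)
    (hx : W x ≠ 0) :
    ∃ z : (idl W hfin).subscheme, (idl W hfin).subschemeι z = x := by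
  have h1 : x ∈ (idl W hfin).support := by
    obtain ⟨U, hxU⟩ := exists_affine x
    rw [Scheme.IdealSheafData.mem_support_iff_of_mem hxU, Scheme.mem_zeroLocus_iff]
    intro f hf
    rw [← germ_mem_maximalIdeal_iff f x hxU]
    exact M_le W hx (hpos x) (hf x hxU)
  have h2 : x ∈ Set.range (idl W hfin).subschemeι := by
    rw [Scheme.IdealSheafData.range_subschemeι]
    exact h1
  exact h2

/-- the three conditions of the statement -/
def Good (W : X → ℤ) (𝓘 : X.IdealSheafData) : Prop :=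
  (∀ z : ↥𝓘.subscheme,
      IsAssociatedPrime (IsLocalRing.maximalIdeal ↑(𝓘.subscheme.presheaf.stalk z))
        ↑(𝓘.subscheme.presheaf.stalk z) → ∀ z' : ↥𝓘.subscheme, z' ⤳ z → z' = z) ∧
    (∀ z : ↥𝓘.subscheme, (∀ z' : ↥𝓘.subscheme, z' ⤳ z → z' = z) →
      Module.length ↑(𝓘.subscheme.presheaf.stalk z) ↑(𝓘.subscheme.presheaf.stalk z) =
        ((W (𝓘.subschemeι.base z)).toNat : ℕ∞)) ∧
    (∀ x : X, W x ≠ 0 → ∃ z : ↥𝓘.subscheme, 𝓘.subschemeι.base z = x ∧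
      ∀ z' : ↥𝓘.subscheme, z' ⤳ z → z' = z)

theorem good_idl (W : X → ℤ) (hfin : {x | W x ≠ 0}.Finite) (hpos : ∀ x, 0 ≤ W x)
    (hreg : ∀ x, W x ≠ 0 → ∃ _ : IsDomain ↑(X.presheaf.stalk x),
      IsDiscreteValuationRing ↑(X.presheaf.stalk x)) :
    Good W (idl W hfin) := by
  have hker := ker_idl W hfin
  refine ⟨fun z hass => ?_, fun z hzmax => ?_, fun x hx0 => ?_⟩
  · exact isMaxPt_of_mem hker hreg z (mem_of_ass hker z hass)
  · exact length_eq hker hreg z (mem_of_isMaxPt hker (exists_point W hfin hpos) z hzmax)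
  · obtain ⟨z, hz⟩ := exists_point W hfin hpos x hx0
    refine ⟨z, hz, ?_⟩
    apply isMaxPt_of_mem hker hreg z
    rw [hz]
    exact hx0

/-! ### uniqueness -/

theorem ker_of_length {W : X → ℤ}
    (hreg : ∀ x, W x ≠ 0 → ∃ _ : IsDomain ↑(X.presheaf.stalk x),
      IsDiscreteValuationRing ↑(X.presheaf.stalk x))
    (𝓘' : X.IdealSheafData) (z : 𝓘'.subscheme)
    (hlen : Module.length ↑(𝓘'.subscheme.presheaf.stalk z) ↑(𝓘'.subscheme.presheaf.stalk z) =
      ((W (𝓘'.subschemeι z)).toNat : ℕ∞)) :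
    W (𝓘'.subschemeι z) ≠ 0 ∧
      RingHom.ker (𝓘'.subschemeι.stalkMap z).hom = M W (𝓘'.subschemeι z) := by
  have hW : W (𝓘'.subschemeι z) ≠ 0 := by
    intro h0
    rw [h0, Int.toNat_zero, Nat.cast_zero] at hlen
    have hpos : 0 < Module.length ↑(𝓘'.subscheme.presheaf.stalk z)
        ↑(𝓘'.subscheme.presheaf.stalk z) := Module.length_pos_iff.mpr inferInstance
    rw [hlen] at hpos
    exact lt_irrefl _ hpos
  refine ⟨hW, ?_⟩
  obtain ⟨_, _⟩ := hreg _ hW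
  rw [length_self_of_surjective (𝓘'.subschemeι.stalkMap z).hom
    (Groth.Agent.H9.stalkMap_subschemeι_surjective 𝓘' z)] at hlen
  exact eq_pow_of_length _ _ hlen

theorem le_idl (W : X → ℤ) (hfin : {x | W x ≠ 0}.Finite)
    (hreg : ∀ x, W x ≠ 0 → ∃ _ : IsDomain ↑(X.presheaf.stalk x),
      IsDiscreteValuationRing ↑(X.presheaf.stalk x))
    (𝓘' : X.IdealSheafData) (hG : Good W 𝓘') : 𝓘' ≤ idl W hfin := by
  rw [Scheme.IdealSheafData.le_def]
  intro U a ha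
  show a ∈ F W U.1
  intro x hxU
  by_cases hx0 : W x = 0
  · rw [M_eq_top W hx0]
    trivial
  · obtain ⟨z, hzx, hzmax⟩ := hG.2.2 x hx0
    subst hzx
    obtain ⟨-, hk⟩ := ker_of_length hreg 𝓘' z (hG.2.1 z hzmax)
    rw [← hk, Groth.Agent.H9.ker_stalkMap_subschemeι 𝓘' U z hxU]
    exact Ideal.mem_map_of_mem _ ha

theorem idl_le [IsNoetherian X] (W : X → ℤ) (hfin : {x | W x ≠ 0}.Finite)
    (hreg : ∀ x, W x ≠ 0 → ∃ _ : IsDomain ↑(X.presheaf.stalk x),
      IsDiscreteValuationRing ↑(X.presheaf.stalk x))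
    (𝓘' : X.IdealSheafData) (hG : Good W 𝓘') : idl W hfin ≤ 𝓘' := by
  rw [Scheme.IdealSheafData.le_def]
  intro U a ha
  have ha' : a ∈ F W U.1 := ha
  by_contra hcon
  have hV : IsAffineOpen (𝓘'.subschemeι ⁻¹ᵁ U.1) := U.2.preimage 𝓘'.subschemeι
  have hsurj : Function.Surjective (𝓘'.subschemeι.app U.1).hom :=
    𝓘'.subschemeι_app_surjective U
  have hkerU : RingHom.ker (𝓘'.subschemeι.app U.1).hom = 𝓘'.ideal U :=
    𝓘'.ker_subschemeι_app U
  have hne : (𝓘'.subschemeι.app U.1).hom a ≠ 0 := by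
    intro h0
    apply hcon
    rw [← hkerU, RingHom.mem_ker]
    exact h0
  haveI : IsNoetherianRing Γ(X, U.1) := IsLocallyNoetherian.component_noetherian U
  haveI : IsNoetherianRing Γ(𝓘'.subscheme, 𝓘'.subschemeι ⁻¹ᵁ U.1) :=
    isNoetherianRing_of_surjective _ _ (𝓘'.subschemeι.app U.1).hom hsurj
  obtain ⟨P, hPass, hPle⟩ := exists_le_isAssociatedPrime_of_isNoetherianRing
    Γ(𝓘'.subscheme, 𝓘'.subschemeι ⁻¹ᵁ U.1) ((𝓘'.subschemeι.app U.1).hom a) hne
  haveI hPprime : P.IsPrime := hPass.isPrime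
  obtain ⟨p, hp⟩ : ∃ p : PrimeSpectrum Γ(𝓘'.subscheme, 𝓘'.subschemeι ⁻¹ᵁ U.1),
      p.asIdeal = P := ⟨⟨P, hPprime⟩, rfl⟩
  have hz0 : hV.fromSpec p ∈ 𝓘'.subschemeι ⁻¹ᵁ U.1 := by
    have h1 := hV.range_fromSpec
    have h2 : hV.fromSpec p ∈ Set.range hV.fromSpec := ⟨p, rfl⟩
    rw [h1] at h2
    exact h2
  letI : Algebra Γ(𝓘'.subscheme, 𝓘'.subschemeι ⁻¹ᵁ U.1)
      ↑(𝓘'.subscheme.presheaf.stalk (hV.fromSpec p)) :=
    𝓘'.subscheme.presheaf.algebra_section_stalk ⟨hV.fromSpec p, hz0⟩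
  haveI hloc0 : IsLocalization.AtPrime ↑(𝓘'.subscheme.presheaf.stalk (hV.fromSpec p))
      p.asIdeal := hV.isLocalization_stalk' p hz0
  subst hp
  have hass : maximalIdeal ↑(𝓘'.subscheme.presheaf.stalk (hV.fromSpec p)) ∈
      associatedPrimes ↑(𝓘'.subscheme.presheaf.stalk (hV.fromSpec p))
        ↑(𝓘'.subscheme.presheaf.stalk (hV.fromSpec p)) := by
    apply Module.associatedPrimes.mem_associatedPrimes_of_comap_mem_associatedPrimes_of_isLocalizedModule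
      p.asIdeal.primeCompl (Algebra.linearMap Γ(𝓘'.subscheme, 𝓘'.subschemeι ⁻¹ᵁ U.1)
        ↑(𝓘'.subscheme.presheaf.stalk (hV.fromSpec p)))
    have h1 : (maximalIdeal ↑(𝓘'.subscheme.presheaf.stalk (hV.fromSpec p))).comap
        (algebraMap Γ(𝓘'.subscheme, 𝓘'.subschemeι ⁻¹ᵁ U.1)
          ↑(𝓘'.subscheme.presheaf.stalk (hV.fromSpec p))) = p.asIdeal :=
      IsLocalization.AtPrime.under_maximalIdeal _ p.asIdeal
    rw [h1]
    exact hPass
  have hzmax := hG.1 (hV.fromSpec p) hass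
  obtain ⟨-, hk⟩ := ker_of_length hreg 𝓘' (hV.fromSpec p) (hG.2.1 _ hzmax)
  have hzU : 𝓘'.subschemeι (hV.fromSpec p) ∈ U.1 := hz0
  have h1 : (X.presheaf.germ U.1 _ hzU).hom a ∈
      RingHom.ker (𝓘'.subschemeι.stalkMap (hV.fromSpec p)).hom := by
    rw [hk]
    exact ha' _ hzU
  rw [RingHom.mem_ker] at h1
  have h2 : (𝓘'.subscheme.presheaf.germ (𝓘'.subschemeι ⁻¹ᵁ U.1) (hV.fromSpec p) hz0).hom
      ((𝓘'.subschemeι.app U.1).hom a) = 0 := by
    rw [← h1]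
    exact (Scheme.Hom.germ_stalkMap_apply 𝓘'.subschemeι U.1 (hV.fromSpec p) hzU a).symm
  have h3 : algebraMap Γ(𝓘'.subscheme, 𝓘'.subschemeι ⁻¹ᵁ U.1)
      ↑(𝓘'.subscheme.presheaf.stalk (hV.fromSpec p)) ((𝓘'.subschemeι.app U.1).hom a) = 0 := h2
  obtain ⟨⟨m, hm⟩, hm0⟩ := (IsLocalization.map_eq_zero_iff p.asIdeal.primeCompl
    ↑(𝓘'.subscheme.presheaf.stalk (hV.fromSpec p)) _).mp h3
  refine (Ideal.mem_primeCompl_iff.mp hm) (hPle ?_)
  rw [Submodule.mem_colon_singleton, Submodule.mem_bot]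
  exact hm0

theorem existsUnique [IsNoetherian X] (W : X → ℤ) (hfin : {x | W x ≠ 0}.Finite)
    (hpos : ∀ x, 0 ≤ W x)
    (hreg : ∀ x, W x ≠ 0 → ∃ _ : IsDomain ↑(X.presheaf.stalk x),
      IsDiscreteValuationRing ↑(X.presheaf.stalk x)) :
    ∃! 𝓘 : X.IdealSheafData, Good W 𝓘 :=
  ⟨idl W hfin, good_idl W hfin hpos hreg,
    fun 𝓘' hG => le_antisymm (le_idl W hfin hreg 𝓘' hG) (idl_le W hfin hreg 𝓘' hG)⟩

end Groth.Agent.H95.CycSubscheme
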