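import Groth.Agent.H95.MeroDense
import Groth.Agent.H41.BilinGlue
import Groth.Agent.H18.TensorGen

/-!
# The fractional ideals `O_X(D)` of divisors

* `divCond_iff`, `divCond_mul`: the pointwise condition cutting out `O_X(D)`.
* `exists_toK_eq`: a meromorphic function all of whose values are regular is a function.
* `gen D f hf`: the generator `f⁻¹` of `O_X(D)` where `D = div f`; `isGen_gen`,
  `isInvertible_divMod`.
* `mulHom D E : O_X(D) ⊗ O_X(E) ⟶ O_X(D * E)`, `divModι_mulHom`, `isIso_mulHom`.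
* `descTensor`, `descTensor_tmul`, `isIso_descTensor`: morphisms out of `tensorMod`.
-/

set_option autoImplicit false
set_option linter.style.haveILetI false

universe u

open CategoryTheory AlgebraicGeometry TopologicalSpace Opposite

noncomputable section

namespace Groth.Agent.H95.DivMod

open Groth.Agent.H95.MeroDepth Groth.Agent.H95.MeroDense
open Groth.Agent.H41.BilinGlue
open scoped TensorProduct

variable {X : Scheme.{u}}

section Stalk

lemma mul_mem_range_of_mk_eq (x : X) (g g' : (Mero.KStalk X x)ˣ)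
    (h : (QuotientGroup.mk g : Mero.Germ X x) = QuotientGroup.mk g') (t : Mero.KStalk X x)
    (ht : t * g ∈ (algebraMap (X.presheaf.stalk x) (Mero.KStalk X x)).range) :
    t * g' ∈ (algebraMap (X.presheaf.stalk x) (Mero.KStalk X x)).range := by
  have h1 : g⁻¹ * g' ∈ Mero.stalkUnits X x := QuotientGroup.eq.1 h
  obtain ⟨v, hv⟩ := h1
  have h2 : algebraMap (X.presheaf.stalk x) (Mero.KStalk X x) (v : X.presheaf.stalk x) =
      ((g⁻¹ : (Mero.KStalk X x)ˣ) : Mero.KStalk X x) * (g' : Mero.KStalk X x) := by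
    have h2' := congrArg Units.val hv
    rw [Units.val_mul] at h2'
    exact h2'
  have h3 : t * (g' : Mero.KStalk X x) =
      (t * g) * algebraMap (X.presheaf.stalk x) (Mero.KStalk X x) (v : X.presheaf.stalk x) := by
    rw [h2, mul_assoc, ← mul_assoc (g : Mero.KStalk X x), ← Units.val_mul, mul_inv_cancel,
      Units.val_one, one_mul]
  rw [h3]
  exact mul_mem ht ⟨_, rfl⟩

lemma divCond_iff (D : Mero.Divisor X) (x : X) (g : (Mero.KStalk X x)ˣ)
    (hg : D.1 x = QuotientGroup.mk g) (t : Mero.KStalk X x) :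
    Mero.DivCond D x t ↔
      t * g ∈ (algebraMap (X.presheaf.stalk x) (Mero.KStalk X x)).range :=
  ⟨fun h => h g hg, fun h g' hg' => mul_mem_range_of_mk_eq x g g' (hg.symm.trans hg') t h⟩

lemma divCond_mul (D E : Mero.Divisor X) (x : X) {a b : Mero.KStalk X x}
    (ha : Mero.DivCond D x a) (hb : Mero.DivCond E x b) : Mero.DivCond (D * E) x (a * b) := by
  obtain ⟨g₁, h₁⟩ := QuotientGroup.mk_surjective (D.1 x)
  obtain ⟨g₂, h₂⟩ := QuotientGroup.mk_surjective (E.1 x)
  have h3 : (D * E).1 x = QuotientGroup.mk (g₁ * g₂) := by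
    show D.1 x * E.1 x = _
    rw [← h₁, ← h₂, QuotientGroup.mk_mul]
  rw [divCond_iff (D * E) x (g₁ * g₂) h3]
  have h4 : a * b * ((g₁ * g₂ : (Mero.KStalk X x)ˣ) : Mero.KStalk X x) =
      (a * g₁) * (b * g₂) := by
    rw [Units.val_mul]; ring
  rw [h4]
  exact mul_mem (ha g₁ h₁.symm) (hb g₂ h₂.symm)

lemma kmk_one (x : X) (α : X.presheaf.stalk x) :
    (LocalizedModule.mk α 1 : Mero.KStalk X x) =
      algebraMap (X.presheaf.stalk x) (Mero.KStalk X x) α := by
  have h := kmk_mul x α 1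
  rwa [OneMemClass.coe_one, map_one, mul_one] at h

end Stalk

section Sections

lemma exists_local_section (V : X.Opens) (s : Γ(Mero.kmod X, V)) (x : X) (hxV : x ∈ V)
    (hx : s.1 ⟨x, hxV⟩ ∈ (algebraMap (X.presheaf.stalk x) (Mero.KStalk X x)).range) :
    ∃ (W : X.Opens) (hWV : W ≤ V) (_ : x ∈ W) (r : Γ(X, W)), ∀ (y : X) (hy : y ∈ W),
      s.1 ⟨y, hWV hy⟩ = algebraMap (X.presheaf.stalk y) (Mero.KStalk X y)
        (X.presheaf.germ W y hy r) := by
  obtain ⟨r₀, hr₀⟩ := hx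
  obtain ⟨W, hxW, i, a, b, w⟩ := s.2 ⟨x, hxV⟩
  obtain ⟨W₁, hxW₁, r, rfl⟩ := X.presheaf.exists_germ_eq r₀
  have hfx : s.1 ⟨x, hxV⟩ = LocalizedModule.mk (X.presheaf.germ W x hxW a)
      (Mero.regGerm ⟨x, hxW⟩ b) := w ⟨x, hxW⟩
  have heq : X.presheaf.germ W₁ x hxW₁ r * X.presheaf.germ W x hxW b.1 =
      X.presheaf.germ W x hxW a := by
    apply Mero.algebraMap_KStalk_injective x
    rw [map_mul, hr₀, hfx]
    exact kmk_mul x _ _
  have hxP : x ∈ W₁ ⊓ W := ⟨hxW₁, hxW⟩
  have heq' : X.presheaf.germ (W₁ ⊓ W) x hxP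
      (X.presheaf.map (homOfLE (inf_le_left : W₁ ⊓ W ≤ W₁)).op r *
        X.presheaf.map (homOfLE (inf_le_right : W₁ ⊓ W ≤ W)).op b.1) =
      X.presheaf.germ (W₁ ⊓ W) x hxP
        (X.presheaf.map (homOfLE (inf_le_right : W₁ ⊓ W ≤ W)).op a) := by
    rw [map_mul, TopCat.Presheaf.germ_res_apply, TopCat.Presheaf.germ_res_apply,
      TopCat.Presheaf.germ_res_apply]
    exact heq
  obtain ⟨W₃, hxW₃, i₁, i₂, hres⟩ := X.presheaf.germ_eq x hxP hxP _ _ heq'
  have hW₃V : W₃ ≤ V := fun y hy => i.le (i₁.le hy).2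
  refine ⟨W₃, hW₃V, hxW₃,
    X.presheaf.map i₁.op (X.presheaf.map (homOfLE (inf_le_left : W₁ ⊓ W ≤ W₁)).op r), ?_⟩
  intro y hyW₃
  have hyP : y ∈ W₁ ⊓ W := i₁.le hyW₃
  have hy_eq : X.presheaf.germ W₁ y hyP.1 r * X.presheaf.germ W y hyP.2 b.1 =
      X.presheaf.germ W y hyP.2 a := by
    have h3 := congrArg (fun t => X.presheaf.germ W₃ y hyW₃ t) hres
    simp only [TopCat.Presheaf.germ_res_apply, map_mul] at h3
    exact h3
  have hfy : s.1 ⟨y, hW₃V hyW₃⟩ = LocalizedModule.mk (X.presheaf.germ W y hyP.2 a)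
      (Mero.regGerm ⟨y, hyP.2⟩ b) := w ⟨y, hyP.2⟩
  rw [TopCat.Presheaf.germ_res_apply, TopCat.Presheaf.germ_res_apply]
  have hunit : IsUnit (algebraMap (X.presheaf.stalk y) (Mero.KStalk X y)
      (X.presheaf.germ W y hyP.2 b.1)) :=
    IsLocalization.map_units (Mero.KStalk X y) (Mero.regGerm ⟨y, hyP.2⟩ b)
  apply (IsUnit.mul_left_inj hunit).mp
  rw [← map_mul, hy_eq, hfy]
  exact kmk_mul y _ _

/-- A meromorphic function all of whose values are regular is a function. -/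
lemma exists_toK_eq (V : X.Opens) (s : Γ(Mero.kmod X, V))
    (hs : ∀ y : V, s.1 y ∈ (algebraMap (X.presheaf.stalk y.1) (Mero.KStalk X y.1)).range) :
    ∃ r : Γ(X, V), Mero.toK X V r = s := by
  choose W hWV hxW r hr using fun y : V => exists_local_section V s y.1 y.2 (hs y)
  have hcompat : TopCat.Presheaf.IsCompatible X.presheaf W r := by
    intro y y'
    change X.presheaf.map (homOfLE (inf_le_left : W y ⊓ W y' ≤ W y)).op (r y) =
      X.presheaf.map (homOfLE (inf_le_right : W y ⊓ W y' ≤ W y')).op (r y')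
    refine TopCat.Presheaf.section_ext X.sheaf _ _ _ (fun z hz => ?_)
    show X.presheaf.germ (W y ⊓ W y') z hz _ = X.presheaf.germ (W y ⊓ W y') z hz _
    rw [TopCat.Presheaf.germ_res_apply, TopCat.Presheaf.germ_res_apply]
    apply Mero.algebraMap_KStalk_injective z
    rw [← hr y z hz.1, ← hr y' z hz.2]
  have hcover : V ≤ iSup W := fun y hy => Opens.mem_iSup.mpr ⟨⟨y, hy⟩, hxW ⟨y, hy⟩⟩
  obtain ⟨ρ, hρ, -⟩ := TopCat.Sheaf.existsUnique_gluing' (F := X.sheaf) W V
    (fun y => homOfLE (hWV y)) hcover r hcompat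
  refine ⟨ρ, Subtype.ext (funext fun z => ?_)⟩
  show LocalizedModule.mk (X.presheaf.germ V z.1 z.2 ρ) 1 = s.1 z
  have h1 : X.presheaf.map (homOfLE (hWV z)).op ρ = r z := hρ z
  rw [kmk_one, hr z z.1 (hxW z), ← h1, TopCat.Presheaf.germ_res_apply]

end Sections

section Units

variable {V : X.Opens}

lemma inv_mul_apply (f : (Γ(Mero.kmod X, V))ˣ) (z : V) :
    ((f⁻¹ : (Γ(Mero.kmod X, V))ˣ) : Γ(Mero.kmod X, V)).1 z * (f : Γ(Mero.kmod X, V)).1 z = 1 := by
  have h : ((f⁻¹ : (Γ(Mero.kmod X, V))ˣ) : Γ(Mero.kmod X, V)) * (f : Γ(Mero.kmod X, V)) = 1 :=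
    Units.inv_mul f
  exact congrArg (fun t : Γ(Mero.kmod X, V) => t.1 z) h

lemma mul_inv_apply (f : (Γ(Mero.kmod X, V))ˣ) (z : V) :
    (f : Γ(Mero.kmod X, V)).1 z * ((f⁻¹ : (Γ(Mero.kmod X, V))ˣ) : Γ(Mero.kmod X, V)).1 z = 1 := by
  rw [mul_comm]
  exact inv_mul_apply f z

/-- The unit of `K_{X,z}` given by a unit section. -/
def unitAt (f : (Γ(Mero.kmod X, V))ˣ) (z : V) : (Mero.KStalk X z.1)ˣ :=
  Units.map (Mero.evalK X V z).toMonoidHom f

lemma unitAt_val (f : (Γ(Mero.kmod X, V))ˣ) (z : V) :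
    ((unitAt f z : (Mero.KStalk X z.1)ˣ) : Mero.KStalk X z.1) = (f : Γ(Mero.kmod X, V)).1 z :=
  rfl

lemma germOf_eq (f : (Γ(Mero.kmod X, V))ˣ) (z : V) :
    Mero.germOf f z = QuotientGroup.mk (unitAt f z) := rfl

/-- Restriction of a unit section. -/
def resUnit (f : (Γ(Mero.kmod X, V))ˣ) {V' : X.Opens} (h : V' ≤ V) : (Γ(Mero.kmod X, V'))ˣ :=
  Units.map ((Mero.kring X).obj.map (homOfLE h).op).hom.toMonoidHom f

lemma germOf_resUnit (f : (Γ(Mero.kmod X, V))ˣ) {V' : X.Opens} (h : V' ≤ V) (z : V') :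
    Mero.germOf (resUnit f h) z = Mero.germOf f ⟨z.1, h z.2⟩ :=
  congrArg _ (Units.ext rfl)

/-- The generator `f⁻¹` of `O_X(D)` over an open where `D` is the divisor of `f`. -/
def gen (D : Mero.Divisor X) (f : (Γ(Mero.kmod X, V))ˣ)
    (hf : ∀ z : V, D.1 z.1 = Mero.germOf f z) : Γ(Mero.divMod D, V) :=
  ⟨((f⁻¹ : (Γ(Mero.kmod X, V))ˣ) : Γ(Mero.kmod X, V)).1,
    ⟨((f⁻¹ : (Γ(Mero.kmod X, V))ˣ) : Γ(Mero.kmod X, V)).2, fun z => by
      rw [divCond_iff D z.1 (unitAt f z) (hf z), unitAt_val, inv_mul_apply]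
      exact one_mem _⟩⟩

lemma smul_res_gen_apply (D : Mero.Divisor X) (f : (Γ(Mero.kmod X, V))ˣ)
    (hf : ∀ z : V, D.1 z.1 = Mero.germOf f z) {V' : X.Opens} (h : V' ≤ V) (r : Γ(X, V'))
    (z : V') :
    (r • (Mero.divMod D).presheaf.map (homOfLE h).op (gen D f hf)).1 z =
      algebraMap (X.presheaf.stalk z.1) (Mero.KStalk X z.1) (X.presheaf.germ V' z.1 z.2 r) *
        ((f⁻¹ : (Γ(Mero.kmod X, V))ˣ) : Γ(Mero.kmod X, V)).1 ⟨z.1, h z.2⟩ := by
  have h1 : (r • (Mero.divMod D).presheaf.map (homOfLE h).op (gen D f hf)).1 z =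
      X.presheaf.germ V' z.1 z.2 r •
        ((f⁻¹ : (Γ(Mero.kmod X, V))ˣ) : Γ(Mero.kmod X, V)).1 ⟨z.1, h z.2⟩ := rfl
  rw [h1, Algebra.smul_def]

theorem isGen_gen (D : Mero.Divisor X) (f : (Γ(Mero.kmod X, V))ˣ)
    (hf : ∀ z : V, D.1 z.1 = Mero.germOf f z) :
    Groth.Agent.H18.TensorGen.IsGen (Mero.divMod D) V (gen D f hf) := by
  intro V' h
  constructor
  · intro r r' hrr'
    have hrr : r • (Mero.divMod D).presheaf.map (homOfLE h).op (gen D f hf) =
        r' • (Mero.divMod D).presheaf.map (homOfLE h).op (gen D f hf) := hrr'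
    refine TopCat.Presheaf.section_ext X.sheaf V' r r' (fun z hz => ?_)
    show X.presheaf.germ V' z hz r = X.presheaf.germ V' z hz r'
    apply Mero.algebraMap_KStalk_injective z
    have h1 := congrArg (fun t : Γ(Mero.divMod D, V') => t.1 ⟨z, hz⟩) hrr
    simp only [smul_res_gen_apply] at h1
    have h2 := congrArg (fun t => t * (f : Γ(Mero.kmod X, V)).1 ⟨z, h hz⟩) h1
    have h3 : ((f⁻¹ : (Γ(Mero.kmod X, V))ˣ) : Γ(Mero.kmod X, V)).1 ⟨z, h hz⟩ *
        (f : Γ(Mero.kmod X, V)).1 ⟨z, h hz⟩ = (1 : Mero.KStalk X z) :=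
      inv_mul_apply f ⟨z, h hz⟩
    simp only [mul_assoc] at h2
    rw [h3, mul_one, mul_one] at h2
    exact h2
  · intro t
    obtain ⟨s, hs⟩ : ∃ s : Γ(Mero.kmod X, V'), ∀ z : V', s.1 z =
        t.1 z * (f : Γ(Mero.kmod X, V)).1 ⟨z.1, h z.2⟩ :=
      ⟨⟨_, Mero.kLoc_mul X V' t.1 (fun z => (f : Γ(Mero.kmod X, V)).1 ⟨z.1, h z.2⟩) t.2.1
        ((Mero.kLoc X).res (homOfLE h) _ (f : Γ(Mero.kmod X, V)).2)⟩, fun z => rfl⟩
    have hs' : ∀ y : V', s.1 y ∈
        (algebraMap (X.presheaf.stalk y.1) (Mero.KStalk X y.1)).range := by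
      intro y
      rw [hs y]
      exact (t.2.2 y) (unitAt f ⟨y.1, h y.2⟩) (hf ⟨y.1, h y.2⟩)
    obtain ⟨r, hr⟩ := exists_toK_eq V' s hs'
    refine ⟨r, ?_⟩
    show r • (Mero.divMod D).presheaf.map (homOfLE h).op (gen D f hf) = t
    refine Subtype.ext (funext fun z => ?_)
    rw [smul_res_gen_apply]
    have h1 : (Mero.toK X V' r).1 z = s.1 z := by rw [hr]
    rw [Mero.toK_apply, kmk_one, hs z] at h1
    have h3 : (f : Γ(Mero.kmod X, V)).1 ⟨z.1, h z.2⟩ *
        ((f⁻¹ : (Γ(Mero.kmod X, V))ˣ) : Γ(Mero.kmod X, V)).1 ⟨z.1, h z.2⟩ =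
        (1 : Mero.KStalk X z.1) := mul_inv_apply f ⟨z.1, h z.2⟩
    rw [h1, mul_assoc, h3, mul_one]

theorem isInvertible_divMod (D : Mero.Divisor X) : PicF.IsInvertible (Mero.divMod D) := by
  refine Groth.Agent.H18.TensorGen.isInvertible_of_isGen _ (fun x => ?_)
  obtain ⟨U, hx, f, hf⟩ := D.2 x
  exact ⟨U, gen D f hf, hx, isGen_gen D f hf⟩

lemma exists_local_units (D E : Mero.Divisor X) (U : X.Opens) (x : X) (hx : x ∈ U) :
    ∃ (V : X.Opens) (_ : V ≤ U) (_ : x ∈ V) (f g : (Γ(Mero.kmod X, V))ˣ),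
      (∀ z : V, D.1 z.1 = Mero.germOf f z) ∧ (∀ z : V, E.1 z.1 = Mero.germOf g z) := by
  obtain ⟨U₁, hx₁, f, hf⟩ := D.2 x
  obtain ⟨U₂, hx₂, g, hg⟩ := E.2 x
  have h₁ : U ⊓ (U₁ ⊓ U₂) ≤ U₁ := fun y hy => hy.2.1
  have h₂ : U ⊓ (U₁ ⊓ U₂) ≤ U₂ := fun y hy => hy.2.2
  refine ⟨U ⊓ (U₁ ⊓ U₂), inf_le_left, ⟨hx, hx₁, hx₂⟩, resUnit f h₁, resUnit g h₂, ?_, ?_⟩
  · intro z
    rw [germOf_resUnit]
    exact hf ⟨z.1, h₁ z.2⟩
  · intro z
    rw [germOf_resUnit]
    exact hg ⟨z.1, h₂ z.2⟩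

end Units

section Desc

set_option backward.isDefEq.respectTransparency false in
/-- A morphism out of the tensor product from a morphism of presheaves of modules. -/
def descTensor (M N Q : X.Modules)
    (μ : Groth.Agent.H18.TensorModIso.tensorPre' M N ⟶
      (PresheafOfModules.restrictScalars (𝟙 X.ringCatSheaf.obj)).obj Q.val) :
    CohB1.tensorMod M N ⟶ Q :=
  (PresheafOfModules.sheafificationHomEquiv (𝟙 X.ringCatSheaf.obj)).symm μ

set_option backward.isDefEq.respectTransparency false in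
lemma descTensor_tmul (M N Q : X.Modules)
    (μ : Groth.Agent.H18.TensorModIso.tensorPre' M N ⟶
      (PresheafOfModules.restrictScalars (𝟙 X.ringCatSheaf.obj)).obj Q.val)
    (U : X.Opens) (a : M.val.obj (op U)) (b : N.val.obj (op U)) :
    ((descTensor M N Q μ).val.app (op U)).hom (SecTwist.tmul M N U a b) =
      (μ.app (op U)).hom (a ⊗ₜ b) := by
  have h1 : PresheafOfModules.sheafificationHomEquiv (𝟙 X.ringCatSheaf.obj)
      (descTensor M N Q μ) = μ := Equiv.apply_symm_apply _ μ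
  have h2 := (PresheafOfModules.sheafificationAdjunction
    (𝟙 X.ringCatSheaf.obj)).homEquiv_unit (f := descTensor M N Q μ)
  rw [PresheafOfModules.sheafificationAdjunction_homEquiv_apply, h1] at h2
  have h3 := congrArg (fun ν : Groth.Agent.H18.TensorModIso.tensorPre' M N ⟶
      (PresheafOfModules.restrictScalars (𝟙 X.ringCatSheaf.obj)).obj Q.val =>
      (ν.app (op U)).hom (a ⊗ₜ b)) h2
  exact h3.symm

set_option backward.isDefEq.respectTransparency false in
/-- `descTensor μ` is an isomorphism as soon as `μ` is bijective on a basis of opens. -/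
theorem isIso_descTensor (M N Q : X.Modules)
    (μ : Groth.Agent.H18.TensorModIso.tensorPre' M N ⟶
      (PresheafOfModules.restrictScalars (𝟙 X.ringCatSheaf.obj)).obj Q.val)
    (hloc : ∀ (U : X.Opens) (x : X), x ∈ U → ∃ V : X.Opens, ∃ _ : V ≤ U, x ∈ V ∧
      Function.Bijective (μ.app (op V)).hom) :
    IsIso (descTensor M N Q μ) := by
  have hinj : Presheaf.IsLocallyInjective (Opens.grothendieckTopology X)
      ((PresheafOfModules.toPresheaf _).map μ) :=
    Groth.Agent.H18.TensorModIso.isLocallyInjective_of_locally_injective _ (fun U x hx => by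
      obtain ⟨V, h1, h2, h3⟩ := hloc U x hx
      exact ⟨V, h1, h2, h3.1⟩)
  have hsurj : Presheaf.IsLocallySurjective (Opens.grothendieckTopology X)
      ((PresheafOfModules.toPresheaf _).map μ) :=
    Groth.Agent.H18.TensorModIso.isLocallySurjective_of_locally_surjective _ (fun U x hx => by
      obtain ⟨V, h1, h2, h3⟩ := hloc U x hx
      exact ⟨V, h1, h2, h3.2⟩)
  have hW : (Opens.grothendieckTopology X).W ((PresheafOfModules.toPresheaf _).map μ) :=
    GrothendieckTopology.W_of_isLocallyBijective _ _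
  have hiso : IsIso ((presheafToSheaf (Opens.grothendieckTopology X) AddCommGrpCat.{u}).map
      ((PresheafOfModules.toPresheaf _).map μ)) :=
    (GrothendieckTopology.W_iff _ _).mp hW
  have h1 : IsIso ((SheafOfModules.toSheaf X.ringCatSheaf).map
      ((PresheafOfModules.sheafificationHomEquiv (𝟙 X.ringCatSheaf.obj)).symm μ)) := by
    rw [PresheafOfModules.toSheaf_map_sheafificationHomEquiv_symm, Adjunction.homEquiv_counit]
    infer_instance
  have h2 : IsIso ((PresheafOfModules.sheafificationHomEquiv (𝟙 X.ringCatSheaf.obj)).symm μ) :=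
    isIso_of_reflects_iso _ (SheafOfModules.toSheaf X.ringCatSheaf)
  exact h2

end Desc

section Mul

/-- `w` is the product of `s` and `t` in `K_X`. -/
def Rel (D E : Mero.Divisor X) (W : X.Opens) (s : Γ(Mero.divMod D, W))
    (t : Γ(Mero.divMod E, W)) (w : Γ(Mero.divMod (D * E), W)) : Prop :=
  ∀ z : W, w.1 z = s.1 z * t.1 z

/-- The product of a section of `O_X(D)` and a section of `O_X(E)`. -/
def mulSec (D E : Mero.Divisor X) (W : X.Opens) (s : Γ(Mero.divMod D, W))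
    (t : Γ(Mero.divMod E, W)) : Γ(Mero.divMod (D * E), W) :=
  ⟨fun z => s.1 z * t.1 z, ⟨Mero.kLoc_mul X W s.1 t.1 s.2.1 t.2.1,
    fun z => divCond_mul D E z.1 (s.2.2 z) (t.2.2 z)⟩⟩

theorem glueRel (D E : Mero.Divisor X) :
    GlueRel (Mero.divMod D) (Mero.divMod E) (Mero.divMod (D * E)) (Rel D E) where
  unique W s t w w' h h' := Subtype.ext (funext fun z => (h z).trans (h' z).symm)
  res h s t w hw := fun z => hw ⟨z.1, h z.2⟩
  of_local W s t w hloc := fun z => by
    obtain ⟨V, h, hzV, hR⟩ := hloc z.1 z.2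
    exact hR ⟨z.1, hzV⟩
  exists_local W s t x hx := ⟨W, le_rfl, hx, mulSec D E W _ _, fun z => rfl⟩
  add_left W s s' t w w' h h' := fun z => by
    show w.1 z + w'.1 z = (s.1 z + s'.1 z) * t.1 z
    rw [h z, h' z, add_mul]
  add_right W s t t' w w' h h' := fun z => by
    show w.1 z + w'.1 z = s.1 z * (t.1 z + t'.1 z)
    rw [h z, h' z, mul_add]
  smul_left W a s t w h := fun z => by
    show X.presheaf.germ W z.1 z.2 a • w.1 z = (X.presheaf.germ W z.1 z.2 a • s.1 z) * t.1 z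
    rw [h z, smul_mul_assoc]
  smul_right W a s t w h := fun z => by
    show X.presheaf.germ W z.1 z.2 a • w.1 z = s.1 z * (X.presheaf.germ W z.1 z.2 a • t.1 z)
    rw [h z, mul_smul_comm]

lemma glueRel_mul (D E : Mero.Divisor X) (W : X.Opens) (s : Γ(Mero.divMod D, W))
    (t : Γ(Mero.divMod E, W)) : (glueRel D E).mul W s t = mulSec D E W s t :=
  (glueRel D E).mul_eq (fun _ => rfl)

/-- The multiplication map `O_X(D) ⊗ O_X(E) ⟶ O_X(D * E)`. -/
def mulHom (D E : Mero.Divisor X) :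
    CohB1.tensorMod (Mero.divMod D) (Mero.divMod E) ⟶ Mero.divMod (D * E) :=
  descTensor _ _ _ (glueRel D E).hom

set_option backward.isDefEq.respectTransparency false in
lemma mulHom_tmul (D E : Mero.Divisor X) (U : X.Opens) (a : Γ(Mero.divMod D, U))
    (b : Γ(Mero.divMod E, U)) :
    ((mulHom D E).val.app (op U)).hom
      (SecTwist.tmul (Mero.divMod D) (Mero.divMod E) U a b) = mulSec D E U a b := by
  refine (descTensor_tmul _ _ _ (glueRel D E).hom U a b).trans ?_
  exact glueRel_mul D E U a b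

theorem divModι_mulHom (D E : Mero.Divisor X) (U : X.Opens) (t : Γ(Mero.divMod D, U))
    (t' : Γ(Mero.divMod E, U)) :
    (Mero.divModι (D * E)).app U
      ((mulHom D E).app U (SecTwist.tmul (Mero.divMod D) (Mero.divMod E) U t t')) =
      (Mero.divModι D).app U t * (Mero.divModι E).app U t' := by
  have h' : (mulHom D E).app U (SecTwist.tmul (Mero.divMod D) (Mero.divMod E) U t t') =
      mulSec D E U t t' := mulHom_tmul D E U t t'
  rw [h']
  rfl

set_option backward.isDefEq.respectTransparency false in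
theorem isIso_mulHom (D E : Mero.Divisor X) : IsIso (mulHom D E) := by
  refine isIso_descTensor _ _ _ _ (fun U x hx => ?_)
  obtain ⟨V, hVU, hxV, f, g, hf, hg⟩ := exists_local_units D E U x hx
  refine ⟨V, hVU, hxV, ?_⟩
  have h1 : Function.Surjective (fun r : Γ(X, V) => r • gen E g hg) :=
    (isGen_gen E g hg).self.2
  have h2 : Function.Bijective
      (fun s : Γ(Mero.divMod D, V) => (glueRel D E).mul V s (gen E g hg)) := by
    have he : (fun s : Γ(Mero.divMod D, V) => (glueRel D E).mul V s (gen E g hg)) =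
        fun s => mulSec D E V s (gen E g hg) := funext fun s => glueRel_mul D E V s _
    rw [he]
    constructor
    · intro s s' hss'
      refine Subtype.ext (funext fun z => ?_)
      have h3 := congrArg (fun t : Γ(Mero.divMod (D * E), V) => t.1 z) hss'
      have h4 : s.1 z * ((g⁻¹ : (Γ(Mero.kmod X, V))ˣ) : Γ(Mero.kmod X, V)).1 z =
          s'.1 z * ((g⁻¹ : (Γ(Mero.kmod X, V))ˣ) : Γ(Mero.kmod X, V)).1 z := h3
      have h5 := congrArg (fun t => t * (g : Γ(Mero.kmod X, V)).1 z) h4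
      have h6 := inv_mul_apply g z
      simp only [mul_assoc] at h5
      rw [h6, mul_one, mul_one] at h5
      exact h5
    · intro w
      have hcond : ∀ z : V, Mero.DivCond D z.1 (w.1 z * (g : Γ(Mero.kmod X, V)).1 z) := by
        intro z
        rw [divCond_iff D z.1 (unitAt f z) (hf z), unitAt_val]
        have h3 : (D * E).1 z.1 = QuotientGroup.mk (unitAt f z * unitAt g z) := by
          show D.1 z.1 * E.1 z.1 = _
          rw [hf z, hg z, germOf_eq, germOf_eq, QuotientGroup.mk_mul]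
        have h4 := (w.2.2 z) (unitAt f z * unitAt g z) h3
        rw [Units.val_mul, unitAt_val, unitAt_val] at h4
        have h5 : w.1 z * (g : Γ(Mero.kmod X, V)).1 z * (f : Γ(Mero.kmod X, V)).1 z =
            w.1 z * ((f : Γ(Mero.kmod X, V)).1 z * (g : Γ(Mero.kmod X, V)).1 z) := by ring
        rw [h5]
        exact h4
      refine ⟨⟨fun z => w.1 z * (g : Γ(Mero.kmod X, V)).1 z,
        ⟨Mero.kLoc_mul X V w.1 (g : Γ(Mero.kmod X, V)).1 w.2.1 (g : Γ(Mero.kmod X, V)).2,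
          hcond⟩⟩, ?_⟩
      refine Subtype.ext (funext fun z => ?_)
      show w.1 z * (g : Γ(Mero.kmod X, V)).1 z *
        ((g⁻¹ : (Γ(Mero.kmod X, V))ˣ) : Γ(Mero.kmod X, V)).1 z = w.1 z
      rw [mul_assoc, mul_inv_apply g z, mul_one]
  exact bijective_lift_of_generator_right
    (R := ↑((X.sheaf.obj ⋙ forget₂ CommRingCat RingCat).obj (op V)))
    (M := ↑((Mero.divMod D).val.obj (op V))) (N := ↑((Mero.divMod E).val.obj (op V)))
    (P := ↑(((PresheafOfModules.restrictScalars (𝟙 X.ringCatSheaf.obj)).obj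
      (Mero.divMod (D * E)).val).obj (op V)))
    ((glueRel D E).hom.app (op V)).hom (gen E g hg) h1 h2

end Mul

end Groth.Agent.H95.DivMod
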