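import Groth.Agent.H95.GenIso
import Groth.Agent.H95.DivMod

/-!
# An invertible module with a compatible family of local meromorphic coordinates is `O_X(D)`

`exists_divisor_iso`: let `L` have free generators `τ i` on the members `V i` of an open cover and
let `f i` be units of `Γ(V i, K_X)` with `f i = u • f j` whenever `τ j = u • τ i` (that is, the
`f i • τ i` glue to a regular meromorphic section of `L`).  Then `L ≅ O_X(D)` for the divisor `D`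
with local equations `f i`.
-/

set_option autoImplicit false
set_option linter.style.haveILetI false

universe u

open CategoryTheory AlgebraicGeometry TopologicalSpace Opposite

namespace Groth.Agent.H95.DivOfData

open Groth.Agent.H18.TensorGen (IsGen)
open Groth.Agent.H95.DivMod Groth.Agent.H95.GenIso

variable {X : Scheme.{u}}

lemma germOf_eq_germOf {V V' : X.Opens} (f : (Γ(Mero.kmod X, V))ˣ) (g : (Γ(Mero.kmod X, V'))ˣ)
    (y : X) (hy : y ∈ V) (hy' : y ∈ V') (w : (X.presheaf.stalk y)ˣ)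
    (h : (f : Γ(Mero.kmod X, V)).1 ⟨y, hy⟩ =
      algebraMap (X.presheaf.stalk y) (Mero.KStalk X y) (w : X.presheaf.stalk y) *
        (g : Γ(Mero.kmod X, V')).1 ⟨y, hy'⟩) :
    Mero.germOf f ⟨y, hy⟩ = Mero.germOf g ⟨y, hy'⟩ := by
  show (QuotientGroup.mk (unitAt f ⟨y, hy⟩) : Mero.Germ X y) =
    QuotientGroup.mk (unitAt g ⟨y, hy'⟩)
  have h1 : unitAt f ⟨y, hy⟩ = unitAt g ⟨y, hy'⟩ *
      Units.map (algebraMap (X.presheaf.stalk y) (Mero.KStalk X y)).toMonoidHom w := by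
    apply Units.ext
    show (f : Γ(Mero.kmod X, V)).1 ⟨y, hy⟩ = (g : Γ(Mero.kmod X, V')).1 ⟨y, hy'⟩ *
      algebraMap (X.presheaf.stalk y) (Mero.KStalk X y) (w : X.presheaf.stalk y)
    rw [mul_comm]
    exact h
  rw [h1]
  exact QuotientGroup.mk_mul_of_mem _ (MonoidHom.mem_range.mpr ⟨w, rfl⟩)

theorem exists_divisor_iso (L : X.Modules) {ι : Type*} (V : ι → X.Opens)
    (hcov : ∀ x : X, ∃ i, x ∈ V i)
    (τ : ∀ i, Γ(L, V i)) (hτ : ∀ i, IsGen L (V i) (τ i))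
    (f : ∀ i, (Γ(Mero.kmod X, V i))ˣ)
    (hcomp : ∀ (i j : ι) (W : X.Opens) (hi : W ≤ V i) (hj : W ≤ V j) (u : Γ(X, W)),
      L.presheaf.map (homOfLE hj).op (τ j) = u • L.presheaf.map (homOfLE hi).op (τ i) →
      ∀ z : W, (f i : Γ(Mero.kmod X, V i)).1 ⟨z.1, hi z.2⟩ =
        algebraMap (X.presheaf.stalk z.1) (Mero.KStalk X z.1) (X.presheaf.germ W z.1 z.2 u) *
          (f j : Γ(Mero.kmod X, V j)).1 ⟨z.1, hj z.2⟩) :
    ∃ D : Mero.Divisor X, Nonempty (L ≅ Mero.divMod D) := by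
  classical
  choose c hc using hcov
  have hgerm : ∀ (i j : ι) (y : X) (hyi : y ∈ V i) (hyj : y ∈ V j),
      Mero.germOf (f i) ⟨y, hyi⟩ = Mero.germOf (f j) ⟨y, hyj⟩ := by
    intro i j y hyi hyj
    obtain ⟨u, hu⟩ := ((hτ i) (V i ⊓ V j) inf_le_left).2
      (L.presheaf.map (homOfLE (inf_le_right : V i ⊓ V j ≤ V j)).op (τ j))
    obtain ⟨u', hu'⟩ := ((hτ j) (V i ⊓ V j) inf_le_right).2
      (L.presheaf.map (homOfLE (inf_le_left : V i ⊓ V j ≤ V i)).op (τ i))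
    have hu1 : u • L.presheaf.map (homOfLE (inf_le_left : V i ⊓ V j ≤ V i)).op (τ i) =
      L.presheaf.map (homOfLE (inf_le_right : V i ⊓ V j ≤ V j)).op (τ j) := hu
    have hu1' : u' • L.presheaf.map (homOfLE (inf_le_right : V i ⊓ V j ≤ V j)).op (τ j) =
      L.presheaf.map (homOfLE (inf_le_left : V i ⊓ V j ≤ V i)).op (τ i) := hu'
    have huu : u' * u = 1 := by
      apply ((hτ i) (V i ⊓ V j) inf_le_left).1
      show (u' * u) • L.presheaf.map (homOfLE (inf_le_left : V i ⊓ V j ≤ V i)).op (τ i) =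
        (1 : Γ(X, V i ⊓ V j)) • L.presheaf.map (homOfLE (inf_le_left : V i ⊓ V j ≤ V i)).op (τ i)
      rw [mul_smul, hu1, hu1', one_smul]
    have hy : y ∈ V i ⊓ V j := ⟨hyi, hyj⟩
    have hg : X.presheaf.germ (V i ⊓ V j) y hy u * X.presheaf.germ (V i ⊓ V j) y hy u' = 1 := by
      rw [← map_mul, mul_comm, huu, map_one]
    exact germOf_eq_germOf (f i) (f j) y hyi hyj (Units.mkOfMulEqOne _ _ hg)
      (hcomp i j (V i ⊓ V j) inf_le_left inf_le_right u hu1.symm ⟨y, hy⟩)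
  obtain ⟨D, hD⟩ : ∃ D : Mero.Divisor X, ∀ z : X, D.1 z = Mero.germOf (f (c z)) ⟨z, hc z⟩ :=
    ⟨⟨fun z => Mero.germOf (f (c z)) ⟨z, hc z⟩, fun z => ⟨V (c z), hc z, f (c z), fun y =>
      hgerm (c y.1) (c z) y.1 (hc y.1) y.2⟩⟩, fun z => rfl⟩
  have hf : ∀ (i : ι) (z : V i), D.1 z.1 = Mero.germOf (f i) z := fun i z =>
    (hD z.1).trans (hgerm (c z.1) i z.1 (hc z.1) z.2)
  refine ⟨D, nonempty_iso_of_gens (ν := fun i => gen D (f i) (hf i)) (fun x => ⟨c x, hc x⟩) hτ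
    (fun i => isGen_gen D (f i) (hf i)) ?_⟩
  intro i j W hi hj u hu
  refine Subtype.ext (funext fun z => ?_)
  rw [smul_res_gen_apply D (f i) (hf i) hi u z]
  have a1 := hcomp i j W hi hj u hu z
  have a2 : (((f j)⁻¹ : (Γ(Mero.kmod X, V j))ˣ) : Γ(Mero.kmod X, V j)).1 ⟨z.1, hj z.2⟩ *
      (f j : Γ(Mero.kmod X, V j)).1 ⟨z.1, hj z.2⟩ = 1 := inv_mul_apply (f j) ⟨z.1, hj z.2⟩
  have a3 : (f i : Γ(Mero.kmod X, V i)).1 ⟨z.1, hi z.2⟩ *
      (((f i)⁻¹ : (Γ(Mero.kmod X, V i))ˣ) : Γ(Mero.kmod X, V i)).1 ⟨z.1, hi z.2⟩ = 1 :=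
    mul_inv_apply (f i) ⟨z.1, hi z.2⟩
  show (((f j)⁻¹ : (Γ(Mero.kmod X, V j))ˣ) : Γ(Mero.kmod X, V j)).1 ⟨z.1, hj z.2⟩ =
    algebraMap (X.presheaf.stalk z.1) (Mero.KStalk X z.1) (X.presheaf.germ W z.1 z.2 u) *
      (((f i)⁻¹ : (Γ(Mero.kmod X, V i))ˣ) : Γ(Mero.kmod X, V i)).1 ⟨z.1, hi z.2⟩
  rw [a1] at a3
  calc (((f j)⁻¹ : (Γ(Mero.kmod X, V j))ˣ) : Γ(Mero.kmod X, V j)).1 ⟨z.1, hj z.2⟩
      = (((f j)⁻¹ : (Γ(Mero.kmod X, V j))ˣ) : Γ(Mero.kmod X, V j)).1 ⟨z.1, hj z.2⟩ *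
          (algebraMap (X.presheaf.stalk z.1) (Mero.KStalk X z.1)
            (X.presheaf.germ W z.1 z.2 u) * (f j : Γ(Mero.kmod X, V j)).1 ⟨z.1, hj z.2⟩ *
          (((f i)⁻¹ : (Γ(Mero.kmod X, V i))ˣ) : Γ(Mero.kmod X, V i)).1 ⟨z.1, hi z.2⟩) := by
        rw [a3, mul_one]
    _ = ((((f j)⁻¹ : (Γ(Mero.kmod X, V j))ˣ) : Γ(Mero.kmod X, V j)).1 ⟨z.1, hj z.2⟩ *
          (f j : Γ(Mero.kmod X, V j)).1 ⟨z.1, hj z.2⟩) *
          (algebraMap (X.presheaf.stalk z.1) (Mero.KStalk X z.1)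
            (X.presheaf.germ W z.1 z.2 u) *
          (((f i)⁻¹ : (Γ(Mero.kmod X, V i))ˣ) : Γ(Mero.kmod X, V i)).1 ⟨z.1, hi z.2⟩) := by
        ring
    _ = _ := by rw [a2, one_mul]

end Groth.Agent.H95.DivOfData
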