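import Groth.Agent.H95.DivOfData

/-!
# Divisor and isomorphism from local generator data, with the section formula exposed

`exists_iso_of_gens`: as `GenIso.nonempty_iso_of_gens`, but the isomorphism is returned together
with the relation `GRel` it satisfies (same coordinates in the generators).
`exists_divisor_iso'`: as `DivOfData.exists_divisor_iso`, returning the divisor with its germs and
the isomorphism with its `GRel` property.
-/

set_option autoImplicit false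
set_option linter.style.haveILetI false

universe u

open CategoryTheory AlgebraicGeometry TopologicalSpace Opposite

namespace Groth.Agent.H95.DivOfData2

open Groth.Agent.H18.TensorGen (IsGen)
open Groth.Agent.H95.DivMod Groth.Agent.H95.GenIso Groth.Agent.H95.DivOfData
open Groth.Agent.H8 (res_res res_smul ringRes_res section_eq_of_cover)

variable {X : Scheme.{u}}

theorem exists_iso_of_gens {M N : X.Modules} {ι : Type*} {V : ι → X.Opens}
    {μ : ∀ i, Γ(M, V i)} {ν : ∀ i, Γ(N, V i)} (hcov : ∀ x : X, ∃ i, x ∈ V i)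
    (hμ : ∀ i, IsGen M (V i) (μ i)) (hν : ∀ i, IsGen N (V i) (ν i))
    (hcomp : Comp M N V μ ν) :
    ∃ e : M ≅ N, ∀ (W : X.Opens) (s : Γ(M, W)), GRel M N V μ ν W s (e.hom.app W s) := by
  have hR := linRel_gRel hcov hμ hcomp
  have hR' := linRel_gRel hcov hν (comp_symm hμ hν hcomp)
  haveI : IsIso hR.hom := by
    rw [Groth.Agent.H95.ZClos.isIso_iff_app]
    intro W
    constructor
    · intro s s' hss
      rw [LinRel.hom_app, LinRel.hom_app] at hss
      have h1 := hR.map_spec W s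
      have h2 := hR.map_spec W s'
      rw [hss] at h1
      refine section_eq_of_cover M s s' (fun x hx => ?_)
      obtain ⟨i, hxi⟩ := hcov x
      obtain ⟨r, hr⟩ := ((hμ i) (W ⊓ V i) inf_le_right).2
        (M.presheaf.map (homOfLE (inf_le_left : W ⊓ V i ≤ W)).op s)
      obtain ⟨r', hr'⟩ := ((hμ i) (W ⊓ V i) inf_le_right).2
        (M.presheaf.map (homOfLE (inf_le_left : W ⊓ V i ≤ W)).op s')
      have hr1 : r • M.presheaf.map (homOfLE (inf_le_right : W ⊓ V i ≤ V i)).op (μ i) =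
        M.presheaf.map (homOfLE (inf_le_left : W ⊓ V i ≤ W)).op s := hr
      have hr1' : r' • M.presheaf.map (homOfLE (inf_le_right : W ⊓ V i ≤ V i)).op (μ i) =
        M.presheaf.map (homOfLE (inf_le_left : W ⊓ V i ≤ W)).op s' := hr'
      have e1 := h1 i _ inf_le_left inf_le_right r hr1.symm
      have e2 := h2 i _ inf_le_left inf_le_right r' hr1'.symm
      have e3 : r = r' := ((hν i) (W ⊓ V i) inf_le_right).1 (e1.symm.trans e2)
      exact ⟨W ⊓ V i, inf_le_left, ⟨hx, hxi⟩, by rw [← hr1, ← hr1', e3]⟩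
    · intro t
      refine ⟨hR'.map W t, ?_⟩
      rw [LinRel.hom_app]
      apply hR.map_eq
      intro i W' h hi r hr
      obtain ⟨r'', hr''⟩ := ((hν i) W' hi).2 (N.presheaf.map (homOfLE h).op t)
      have hr2 : r'' • N.presheaf.map (homOfLE hi).op (ν i) =
        N.presheaf.map (homOfLE h).op t := hr''
      have e1 := hR'.map_spec W t i W' h hi r'' hr2.symm
      have e2 : r = r'' := ((hμ i) W' hi).1 (hr.symm.trans e1)
      rw [e2]
      exact hr2.symm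
  refine ⟨asIso hR.hom, fun W s => ?_⟩
  show GRel M N V μ ν W s (hR.hom.app W s)
  rw [LinRel.hom_app]
  exact hR.map_spec W s

theorem exists_divisor_iso' (L : X.Modules) {ι : Type*} (V : ι → X.Opens)
    (hcov : ∀ x : X, ∃ i, x ∈ V i)
    (τ : ∀ i, Γ(L, V i)) (hτ : ∀ i, IsGen L (V i) (τ i))
    (f : ∀ i, (Γ(Mero.kmod X, V i))ˣ)
    (hcomp : ∀ (i j : ι) (W : X.Opens) (hi : W ≤ V i) (hj : W ≤ V j) (u : Γ(X, W)),
      L.presheaf.map (homOfLE hj).op (τ j) = u • L.presheaf.map (homOfLE hi).op (τ i) →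
      ∀ z : W, (f i : Γ(Mero.kmod X, V i)).1 ⟨z.1, hi z.2⟩ =
        algebraMap (X.presheaf.stalk z.1) (Mero.KStalk X z.1) (X.presheaf.germ W z.1 z.2 u) *
          (f j : Γ(Mero.kmod X, V j)).1 ⟨z.1, hj z.2⟩) :
    ∃ (D : Mero.Divisor X) (hf : ∀ (i : ι) (z : V i), D.1 z.1 = Mero.germOf (f i) z)
      (e : L ≅ Mero.divMod D), ∀ (W : X.Opens) (t : Γ(L, W)),
        GRel L (Mero.divMod D) V τ (fun i => gen D (f i) (hf i)) W t (e.hom.app W t) := by
  classical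
  choose c hc using hcov
  have hgerm : ∀ (i j : ι) (y : X) (hyi : y ∈ V i) (hyj : y ∈ V j),
      Mero.germOf (f i) ⟨y, hyi⟩ = Mero.germOf (f j) ⟨y, hyj⟩ := by
    intro i j y hyi hyj
    obtain ⟨u, hu⟩ := ((hτ i) (V i ⊓ V j) inf_le_left).2
      (L.presheaf.map (homOfLE (inf_le_right : V i ⊓ V j ≤ V j)).op (τ j))
    obtain ⟨u', hu'⟩ := ((hτ j) (V i ⊓ V j) inf_le_right).2
      (L.presheaf.map (homOfLE (inf_le_left : V i ⊓ V j ≤ V i)).op (τ i))
    have hu1 : u • L.presheaf.map (homOfLE (inf_le_left : V i ⊓ V j ≤ V i)).op (τ i) =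
      L.presheaf.map (homOfLE (inf_le_right : V i ⊓ V j ≤ V j)).op (τ j) := hu
    have hu1' : u' • L.presheaf.map (homOfLE (inf_le_right : V i ⊓ V j ≤ V j)).op (τ j) =
      L.presheaf.map (homOfLE (inf_le_left : V i ⊓ V j ≤ V i)).op (τ i) := hu'
    have huu : u' * u = 1 := by
      apply ((hτ i) (V i ⊓ V j) inf_le_left).1
      show (u' * u) • L.presheaf.map (homOfLE (inf_le_left : V i ⊓ V j ≤ V i)).op (τ i) =
        (1 : Γ(X, V i ⊓ V j)) • L.presheaf.map (homOfLE (inf_le_left : V i ⊓ V j ≤ V i)).op (τ i)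
      rw [mul_smul, hu1, hu1', one_smul]
    have hy : y ∈ V i ⊓ V j := ⟨hyi, hyj⟩
    have hg : X.presheaf.germ (V i ⊓ V j) y hy u * X.presheaf.germ (V i ⊓ V j) y hy u' = 1 := by
      rw [← map_mul, mul_comm, huu, map_one]
    exact germOf_eq_germOf (f i) (f j) y hyi hyj (Units.mkOfMulEqOne _ _ hg)
      (hcomp i j (V i ⊓ V j) inf_le_left inf_le_right u hu1.symm ⟨y, hy⟩)
  obtain ⟨D, hD⟩ : ∃ D : Mero.Divisor X, ∀ z : X, D.1 z = Mero.germOf (f (c z)) ⟨z, hc z⟩ :=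
    ⟨⟨fun z => Mero.germOf (f (c z)) ⟨z, hc z⟩, fun z => ⟨V (c z), hc z, f (c z), fun y =>
      hgerm (c y.1) (c z) y.1 (hc y.1) y.2⟩⟩, fun z => rfl⟩
  have hf : ∀ (i : ι) (z : V i), D.1 z.1 = Mero.germOf (f i) z := fun i z =>
    (hD z.1).trans (hgerm (c z.1) i z.1 (hc z.1) z.2)
  obtain ⟨e, he⟩ := exists_iso_of_gens (ν := fun i => gen D (f i) (hf i))
    (fun x => ⟨c x, hc x⟩) hτ (fun i => isGen_gen D (f i) (hf i)) (by
    intro i j W hi hj u hu
    refine Subtype.ext (funext fun z => ?_)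
    rw [smul_res_gen_apply D (f i) (hf i) hi u z]
    have a1 := hcomp i j W hi hj u hu z
    have a2 : (((f j)⁻¹ : (Γ(Mero.kmod X, V j))ˣ) : Γ(Mero.kmod X, V j)).1 ⟨z.1, hj z.2⟩ *
        (f j : Γ(Mero.kmod X, V j)).1 ⟨z.1, hj z.2⟩ = 1 := inv_mul_apply (f j) ⟨z.1, hj z.2⟩
    have a3 : (f i : Γ(Mero.kmod X, V i)).1 ⟨z.1, hi z.2⟩ *
        (((f i)⁻¹ : (Γ(Mero.kmod X, V i))ˣ) : Γ(Mero.kmod X, V i)).1 ⟨z.1, hi z.2⟩ = 1 :=
      mul_inv_apply (f i) ⟨z.1, hi z.2⟩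
    show (((f j)⁻¹ : (Γ(Mero.kmod X, V j))ˣ) : Γ(Mero.kmod X, V j)).1 ⟨z.1, hj z.2⟩ =
      algebraMap (X.presheaf.stalk z.1) (Mero.KStalk X z.1) (X.presheaf.germ W z.1 z.2 u) *
        (((f i)⁻¹ : (Γ(Mero.kmod X, V i))ˣ) : Γ(Mero.kmod X, V i)).1 ⟨z.1, hi z.2⟩
    rw [a1] at a3
    calc (((f j)⁻¹ : (Γ(Mero.kmod X, V j))ˣ) : Γ(Mero.kmod X, V j)).1 ⟨z.1, hj z.2⟩
        = (((f j)⁻¹ : (Γ(Mero.kmod X, V j))ˣ) : Γ(Mero.kmod X, V j)).1 ⟨z.1, hj z.2⟩ *
            (algebraMap (X.presheaf.stalk z.1) (Mero.KStalk X z.1)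
              (X.presheaf.germ W z.1 z.2 u) * (f j : Γ(Mero.kmod X, V j)).1 ⟨z.1, hj z.2⟩ *
            (((f i)⁻¹ : (Γ(Mero.kmod X, V i))ˣ) : Γ(Mero.kmod X, V i)).1 ⟨z.1, hi z.2⟩) := by
          rw [a3, mul_one]
      _ = ((((f j)⁻¹ : (Γ(Mero.kmod X, V j))ˣ) : Γ(Mero.kmod X, V j)).1 ⟨z.1, hj z.2⟩ *
            (f j : Γ(Mero.kmod X, V j)).1 ⟨z.1, hj z.2⟩) *
            (algebraMap (X.presheaf.stalk z.1) (Mero.KStalk X z.1)
              (X.presheaf.germ W z.1 z.2 u) *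
            (((f i)⁻¹ : (Γ(Mero.kmod X, V i))ˣ) : Γ(Mero.kmod X, V i)).1 ⟨z.1, hi z.2⟩) := by
          ring
      _ = _ := by rw [a2, one_mul])
  exact ⟨D, hf, e, he⟩

end Groth.Agent.H95.DivOfData2
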