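import Mathlib
import Groth.Prelude.Def_FEt
import Groth.Prelude.Def_RelSpec

/-!
# Equalizers of quasi-coherent algebras, sectionwise
-/

set_option autoImplicit false
universe u
open CategoryTheory CategoryTheory.Limits AlgebraicGeometry TopologicalSpace Opposite

namespace Groth.Agent.H95.FEtColim_QEQ

section Ring

/-- The localization of an equalizer of rings is the equalizer of the localizations. -/
theorem away_of_equalizer {E A B E' A' B' : Type u} [CommRing E] [CommRing A] [CommRing B]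
    [CommRing E'] [CommRing A'] [CommRing B']
    (ι : E →+* A) (φ ψ : A →+* B) (ι' : E' →+* A') (φ' ψ' : A' →+* B')
    (ρE : E →+* E') (ρA : A →+* A') (ρB : B →+* B')
    (h1 : ∀ x, ι' (ρE x) = ρA (ι x)) (h2 : ∀ x, φ' (ρA x) = ρB (φ x))
    (h3 : ∀ x, ψ' (ρA x) = ρB (ψ x))
    (hι : Function.Injective ι) (hι' : Function.Injective ι')
    (hc : ∀ x, φ (ι x) = ψ (ι x)) (hc' : ∀ x, φ' (ι' x) = ψ' (ι' x))
    (hE : ∀ a, φ a = ψ a → ∃ x, ι x = a)
    (e : E) (hu : IsUnit (ρE e))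
    (hA : @IsLocalization.Away A _ (ι e) A' _ ρA.toAlgebra)
    (hB : @IsLocalization.Away B _ (φ (ι e)) B' _ ρB.toAlgebra) :
    @IsLocalization.Away E _ e E' _ ρE.toAlgebra := by
  letI := ρE.toAlgebra
  letI := ρA.toAlgebra
  letI := ρB.toAlgebra
  haveI : IsLocalization.Away (ι e) A' := hA
  haveI : IsLocalization.Away (φ (ι e)) B' := hB
  refine (isLocalization_iff (Submonoid.powers e) E').mpr ⟨?_, ?_, ?_⟩
  · rintro ⟨_, n, rfl⟩
    show IsUnit (ρE (e ^ n))
    rw [map_pow]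
    exact hu.pow n
  · intro z
    obtain ⟨⟨a', ⟨_, n, rfl⟩⟩, hz⟩ := IsLocalization.surj (Submonoid.powers (ι e)) (ι' z)
    have hz' : ι' z * ρA (ι e ^ n) = ρA a' := hz
    have h4 : ρB (φ a') = ρB (ψ a') := by
      have e1 : φ' (ρA a') = ψ' (ρA a') := by
        rw [← hz', map_mul, map_mul, hc', h2, h3, ← map_pow, hc]
      rw [← h2, ← h3]
      exact e1
    obtain ⟨⟨_, k, rfl⟩, hk⟩ :=
      IsLocalization.exists_of_eq (M := Submonoid.powers (φ (ι e))) (S := B') h4
    have hk' : φ (ι e) ^ k * φ a' = φ (ι e) ^ k * ψ a' := hk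
    have h5 : φ (ι e ^ k * a') = ψ (ι e ^ k * a') := by
      rw [map_mul, map_mul, map_pow, map_pow, hk', hc]
    obtain ⟨y, hy⟩ := hE _ h5
    refine ⟨⟨y, ⟨e ^ (n + k), n + k, rfl⟩⟩, ?_⟩
    show z * ρE (e ^ (n + k)) = ρE y
    apply hι'
    rw [map_mul, h1, h1, hy, map_pow ι, pow_add, map_mul ρA, ← mul_assoc, hz', ← map_mul,
      mul_comm]
  · intro x y hxy
    have hxy' : ρE x = ρE y := hxy
    have h6 : ρA (ι x) = ρA (ι y) := by
      rw [← h1, ← h1, hxy']
    obtain ⟨⟨_, k, rfl⟩, hk⟩ :=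
      IsLocalization.exists_of_eq (M := Submonoid.powers (ι e)) (S := A') h6
    refine ⟨⟨e ^ k, k, rfl⟩, ?_⟩
    apply hι
    show ι (e ^ k * x) = ι (e ^ k * y)
    rw [map_mul, map_mul, map_pow]
    exact hk

/-- A limit fork in `CommRingCat` is the set-theoretic equalizer. -/
theorem fork_concrete {A B : CommRingCat.{u}} (f g : A ⟶ B) (s : Fork f g) (hs : IsLimit s) :
    Function.Injective s.ι.hom ∧ ∀ a, f.hom a = g.hom a → ∃ x, s.ι.hom x = a := by
  have he : (hs.conePointUniqueUpToIso (CommRingCat.equalizerForkIsLimit f g)).hom ≫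
      (CommRingCat.equalizerFork f g).ι = s.ι :=
    IsLimit.conePointUniqueUpToIso_hom_comp _ _ WalkingParallelPair.zero
  have he' : (hs.conePointUniqueUpToIso (CommRingCat.equalizerForkIsLimit f g)).inv ≫ s.ι =
      (CommRingCat.equalizerFork f g).ι := by
    rw [← he, Iso.inv_hom_id_assoc]
  constructor
  · intro x y hxy
    have h1 : ∀ z, s.ι.hom z = (CommRingCat.equalizerFork f g).ι.hom
        ((hs.conePointUniqueUpToIso (CommRingCat.equalizerForkIsLimit f g)).hom.hom z) := by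
      intro z
      rw [← he]
      rfl
    rw [h1, h1] at hxy
    have h2 : (hs.conePointUniqueUpToIso (CommRingCat.equalizerForkIsLimit f g)).hom.hom x =
        (hs.conePointUniqueUpToIso (CommRingCat.equalizerForkIsLimit f g)).hom.hom y :=
      Subtype.ext hxy
    exact (ConcreteCategory.bijective_of_isIso
      (hs.conePointUniqueUpToIso (CommRingCat.equalizerForkIsLimit f g)).hom).1 h2
  · intro a ha
    refine ⟨(hs.conePointUniqueUpToIso (CommRingCat.equalizerForkIsLimit f g)).inv.hom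
      (⟨a, ha⟩ : RingHom.eqLocus f.hom g.hom), ?_⟩
    have h3 := congrArg (fun m => m.hom (⟨a, ha⟩ : RingHom.eqLocus f.hom g.hom)) he'
    exact h3

end Ring

variable {S : Scheme.{u}}

/-- the underlying sheaf of a quasi-coherent algebra -/
noncomputable abbrev shf (A : RelSpec.QCAlg S) : TopCat.Sheaf CommRingCat.{u} S.carrier :=
  ⟨A.presheaf, A.isSheaf⟩

/-- the underlying map of sheaves of a homomorphism -/
noncomputable abbrev shfHom {A B : RelSpec.QCAlg S} (φ : A ⟶ B) : shf A ⟶ shf B :=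
  ObjectProperty.homMk φ.hom

/-- the structure sheaf -/
noncomputable abbrev shfS (S : Scheme.{u}) : TopCat.Sheaf CommRingCat.{u} S.carrier :=
  ⟨S.presheaf, S.sheaf.property⟩

/-- the structure map as a map of sheaves -/
noncomputable abbrev strHom (A : RelSpec.QCAlg S) : shfS S ⟶ shf A :=
  ObjectProperty.homMk A.str

theorem strHom_comm {A B : RelSpec.QCAlg S} (φ : A ⟶ B) : strHom A ≫ shfHom φ = strHom B := by
  apply Sheaf.hom_ext
  exact φ.comm

/-- the equalizer sheaf -/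
noncomputable def Es {A B : RelSpec.QCAlg S} (φ ψ : A ⟶ B) : TopCat.Sheaf CommRingCat.{u} S.carrier :=
  equalizer (shfHom φ) (shfHom ψ)

/-- the inclusion of the equalizer -/
noncomputable def ιs {A B : RelSpec.QCAlg S} (φ ψ : A ⟶ B) : Es φ ψ ⟶ shf A :=
  equalizer.ι (shfHom φ) (shfHom ψ)

theorem ιs_cond {A B : RelSpec.QCAlg S} (φ ψ : A ⟶ B) :
    (ιs φ ψ).hom ≫ φ.hom = (ιs φ ψ).hom ≫ ψ.hom :=
  congrArg (fun m => m.hom) (equalizer.condition (shfHom φ) (shfHom ψ))

/-- the structure map of the equalizer -/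
noncomputable def strE {A B : RelSpec.QCAlg S} (φ ψ : A ⟶ B) : shfS S ⟶ Es φ ψ :=
  equalizer.lift (strHom A) (by rw [strHom_comm, strHom_comm])

theorem strE_ι {A B : RelSpec.QCAlg S} (φ ψ : A ⟶ B) :
    (strE φ ψ).hom ≫ (ιs φ ψ).hom = A.str :=
  congrArg (fun m => m.hom) (equalizer.lift_ι (strHom A) (by rw [strHom_comm, strHom_comm]))

theorem sect {A B : RelSpec.QCAlg S} (φ ψ : A ⟶ B) (U : S.Opens) :
    Function.Injective ((ιs φ ψ).hom.app (op U)).hom ∧
      ∀ a, (φ.hom.app (op U)).hom a = (ψ.hom.app (op U)).hom a →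
        ∃ x, ((ιs φ ψ).hom.app (op U)).hom x = a := by
  have hl := isLimitForkMapOfIsLimit
    (sheafToPresheaf (Opens.grothendieckTopology S.carrier) CommRingCat.{u} ⋙
      (evaluation _ _).obj (op U))
    (equalizer.condition (shfHom φ) (shfHom ψ)) (equalizerIsEqualizer (shfHom φ) (shfHom ψ))
  exact fork_concrete _ _ _ hl

theorem sect_cond {A B : RelSpec.QCAlg S} (φ ψ : A ⟶ B) (U : S.Opens)
    (x : (Es φ ψ).obj.obj (op U)) :
    (φ.hom.app (op U)).hom (((ιs φ ψ).hom.app (op U)).hom x) =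
      (ψ.hom.app (op U)).hom (((ιs φ ψ).hom.app (op U)).hom x) :=
  congrArg (fun m => (m.app (op U)).hom x) (ιs_cond φ ψ)

theorem isQC_Es {A B : RelSpec.QCAlg S} (φ ψ : A ⟶ B) :
    RelSpec.IsQC (Es φ ψ).obj (strE φ ψ).hom := by
  intro U hU r
  have hstr : ∀ (V : S.Opens) (t : Γ(S, V)), ((ιs φ ψ).hom.app (op V)).hom
      (((strE φ ψ).hom.app (op V)).hom t) = (A.str.app (op V)).hom t := fun V t =>
    congrArg (fun m => (m.app (op V)).hom t) (strE_ι φ ψ)
  have hcomm : ∀ (V : S.Opens) (t : Γ(S, V)), (φ.hom.app (op V)).hom ((A.str.app (op V)).hom t) =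
      (B.str.app (op V)).hom t := fun V t =>
    congrArg (fun m => (m.app (op V)).hom t) φ.comm
  refine away_of_equalizer ((ιs φ ψ).hom.app (op U)).hom (φ.hom.app (op U)).hom
    (ψ.hom.app (op U)).hom ((ιs φ ψ).hom.app (op (S.basicOpen r))).hom
    (φ.hom.app (op (S.basicOpen r))).hom (ψ.hom.app (op (S.basicOpen r))).hom
    ((Es φ ψ).obj.map (homOfLE (S.basicOpen_le r)).op).hom
    (A.presheaf.map (homOfLE (S.basicOpen_le r)).op).hom
    (B.presheaf.map (homOfLE (S.basicOpen_le r)).op).hom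
    ?_ ?_ ?_ (sect φ ψ U).1 (sect φ ψ _).1 (sect_cond φ ψ U) (sect_cond φ ψ _) (sect φ ψ U).2
    (((strE φ ψ).hom.app (op U)).hom r) ?_ ?_ ?_
  · intro x
    exact congrArg (fun m => m.hom x)
      ((ιs φ ψ).hom.naturality (homOfLE (S.basicOpen_le r)).op)
  · intro x
    exact congrArg (fun m => m.hom x) (φ.hom.naturality (homOfLE (S.basicOpen_le r)).op)
  · intro x
    exact congrArg (fun m => m.hom x) (ψ.hom.naturality (homOfLE (S.basicOpen_le r)).op)
  · have h1 : ((Es φ ψ).obj.map (homOfLE (S.basicOpen_le r)).op).hom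
        (((strE φ ψ).hom.app (op U)).hom r) =
        ((strE φ ψ).hom.app (op (S.basicOpen r))).hom
          ((S.presheaf.map (homOfLE (S.basicOpen_le r)).op).hom r) :=
      (congrArg (fun m => m.hom r)
        ((strE φ ψ).hom.naturality (homOfLE (S.basicOpen_le r)).op)).symm
    rw [h1]
    exact (S.toRingedSpace.isUnit_res_basicOpen r).map _
  · rw [hstr]
    exact A.isQC U hU r
  · have h2 : (φ.hom.app (op U)).hom (((ιs φ ψ).hom.app (op U)).hom
        (((strE φ ψ).hom.app (op U)).hom r)) = (B.str.app (op U)).hom r :=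
      (congrArg (φ.hom.app (op U)).hom (hstr U r)).trans (hcomm U r)
    rw [h2]
    exact B.isQC U hU r

theorem exists_equalizer {S : Scheme.{u}} {A B : RelSpec.QCAlg S} (φ ψ : A ⟶ B) :
    ∃ (E : RelSpec.QCAlg S) (ι : E ⟶ A), ι ≫ φ = ι ≫ ψ ∧
      (∀ U : S.Opens, Function.Injective (ι.hom.app (op U)).hom) ∧
      (∀ (U : S.Opens) (a : A.presheaf.obj (op U)),
        (φ.hom.app (op U)).hom a = (ψ.hom.app (op U)).hom a →
          ∃ e, (ι.hom.app (op U)).hom e = a) := by
  refine ⟨⟨(Es φ ψ).obj, (Es φ ψ).property, (strE φ ψ).hom, isQC_Es φ ψ⟩,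
    ⟨(ιs φ ψ).hom, strE_ι φ ψ⟩, ?_, fun U => (sect φ ψ U).1, fun U => (sect φ ψ U).2⟩
  apply RelSpec.QCAlg.hom_ext
  exact ιs_cond φ ψ

end Groth.Agent.H95.FEtColim_QEQ
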