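import Mathlib
import Groth.Prelude.Def_FEt
import Groth.Prelude.Def_RelSpec

/-!
# The structure morphism of a relative spectrum is finite étale if the algebra is so on affines
-/

set_option autoImplicit false
universe u
open CategoryTheory CategoryTheory.Limits AlgebraicGeometry TopologicalSpace Opposite

namespace Groth.Agent.H95.FEtColim_QFET

variable {S : Scheme.{u}}

theorem isPullback_ι_π (E : RelSpec.QCAlg S) (U : S.Opens) (hU : IsAffineOpen U) :
    IsPullback (Spec.map (E.str.app (op U)) ≫ hU.isoSpec.inv) (E.ι U hU) U.ι E.π := by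
  have hcomm : E.ι U hU ≫ E.π = (Spec.map (E.str.app (op U)) ≫ hU.isoSpec.inv) ≫ U.ι := by
    rw [E.ι_π, Category.assoc, hU.isoSpec_inv_ι]
  have hrange : E.π ⁻¹ᵁ U.ι.opensRange = (E.ι U hU).opensRange := by
    rw [Scheme.Opens.opensRange_ι, E.π_preimage U hU]
  exact IsOpenImmersion.isPullback _ _ _ _ hcomm hrange

theorem of_spec (P : MorphismProperty Scheme.{u}) [IsZariskiLocalAtTarget P]
    (E : RelSpec.QCAlg S)
    (h : ∀ (U : S.Opens) (_ : IsAffineOpen U), P (Spec.map (E.str.app (op U)))) : P E.π := by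
  apply IsZariskiLocalAtTarget.of_openCover (P := P) (Scheme.AffineZariskiSite.directedCover S)
  intro i
  have hpb := isPullback_ι_π E i.1 i.2
  have h1 : hpb.flip.isoPullback.hom ≫ pullback.snd E.π i.1.ι =
      Spec.map (E.str.app (op i.1)) ≫ i.2.isoSpec.inv := hpb.flip.isoPullback_hom_snd
  have h2 : pullback.snd E.π i.1.ι =
      hpb.flip.isoPullback.inv ≫ (Spec.map (E.str.app (op i.1)) ≫ i.2.isoSpec.inv) :=
    (Iso.eq_inv_comp _).mpr h1
  show P (pullback.snd E.π i.1.ι)
  rw [h2, P.cancel_left_of_respectsIso, P.cancel_right_of_respectsIso]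
  exact h i.1 i.2

theorem isFinite_etale_π {S : Scheme.{u}} (E : RelSpec.QCAlg S)
    (h : ∀ U : S.Opens, IsAffineOpen U →
      (E.str.app (op U)).hom.Finite ∧ (E.str.app (op U)).hom.Etale) :
    IsFinite E.π ∧ Etale E.π := by
  constructor
  · apply of_spec @IsFinite E
    intro U hU
    rw [IsFinite.SpecMap_iff]
    exact (h U hU).1
  · apply of_spec @Etale E
    intro U hU
    rw [HasRingHomProperty.Spec_iff (P := @Etale)]
    exact (h U hU).2

end Groth.Agent.H95.FEtColim_QFET
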