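import Groth.Prelude.Def_W4c61motalbdualityCompl
import Mathlib.CategoryTheory.CofilteredSystem
import Mathlib.GroupTheory.Index

/-!
Helper for the completion along open subgroups of finite index: a compatible choice of
residues inside prescribed nonempty subsets exists (inverse limit of nonempty finite sets).
-/

set_option autoImplicit false

namespace Groth.Agent.H95

open W4c61motalbduality CategoryTheory

universe u

section

variable (G : Type u) [AddCommGroup G] [TopologicalSpace G]

/-- The open finite-index subgroups, ordered by reverse inclusion. -/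
def JJ : Type u := OpenFI G

instance instPreorderJJ : Preorder (JJ G) where
  le U V := OpenFI.toAddSubgroup V ≤ OpenFI.toAddSubgroup U
  le_refl _ := le_rfl
  le_trans _ _ _ h1 h2 := le_trans h2 h1

variable {G}

/-- Intersection of two open finite-index subgroups. -/
def openFIInf (U V : OpenFI G) : OpenFI G where
  toAddSubgroup := U.toAddSubgroup ⊓ V.toAddSubgroup
  isOpen' := by
    rw [AddSubgroup.coe_inf]
    exact U.isOpen'.inter V.isOpen'
  finiteIndex' := by
    haveI := U.finiteIndex'
    haveI := V.finiteIndex'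
    infer_instance

instance instIsDirectedJJ : IsDirectedOrder (JJ G) :=
  ⟨fun U V => ⟨openFIInf U V, (inf_le_left : U.toAddSubgroup ⊓ V.toAddSubgroup ≤ _),
    (inf_le_right : U.toAddSubgroup ⊓ V.toAddSubgroup ≤ _)⟩⟩

/-- The inverse system of the prescribed subsets. -/
def limFunctor (S : ∀ U : OpenFI G, Set (G ⧸ U.toAddSubgroup))
    (hS : ∀ (U V : OpenFI G) (h : U.toAddSubgroup ≤ V.toAddSubgroup) (y : G ⧸ U.toAddSubgroup),
      y ∈ S U → QuotientAddGroup.map U.toAddSubgroup V.toAddSubgroup (AddMonoidHom.id G) h y ∈ S V) :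
    (JJ G)ᵒᵖ ⥤ Type u where
  obj j := ↥(S (Opposite.unop j))
  map {j j'} f := ↾(fun y => ⟨QuotientAddGroup.map _ _ (AddMonoidHom.id G) (leOfHom f.unop) y.1,
    hS _ _ _ _ y.2⟩)
  map_id j := by
    ext y
    show QuotientAddGroup.map _ _ (AddMonoidHom.id G) _ y.1 = y.1
    exact QuotientAddGroup.map_id_apply _ _ _
  map_comp f g := by
    ext y
    show QuotientAddGroup.map _ _ (AddMonoidHom.id G) _ y.1 =
      QuotientAddGroup.map _ _ (AddMonoidHom.id G) _
        (QuotientAddGroup.map _ _ (AddMonoidHom.id G) _ y.1)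
    rw [QuotientAddGroup.map_map]
    rfl

/-- A compatible family of residues inside prescribed nonempty, transition-stable subsets. -/
theorem exists_ficompl_mem (S : ∀ U : OpenFI G, Set (G ⧸ U.toAddSubgroup))
    (hne : ∀ U, (S U).Nonempty)
    (hS : ∀ (U V : OpenFI G) (h : U.toAddSubgroup ≤ V.toAddSubgroup) (y : G ⧸ U.toAddSubgroup),
      y ∈ S U → QuotientAddGroup.map U.toAddSubgroup V.toAddSubgroup (AddMonoidHom.id G) h y ∈ S V) :
    ∃ y : FICompl G, ∀ U, y.1 U ∈ S U := by
  haveI : ∀ j : (JJ G)ᵒᵖ, Nonempty ((limFunctor S hS).obj j) := fun j =>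
    (hne (Opposite.unop j)).to_subtype
  haveI : ∀ j : (JJ G)ᵒᵖ, Finite ((limFunctor S hS).obj j) := fun j => by
    haveI := (Opposite.unop j : OpenFI G).finiteIndex'
    haveI : Finite (G ⧸ (Opposite.unop j : OpenFI G).toAddSubgroup) :=
      AddSubgroup.finite_quotient_of_finiteIndex
    exact Subtype.finite
  obtain ⟨s, hs⟩ := nonempty_sections_of_finite_inverse_system (limFunctor S hS)
  refine ⟨⟨fun U => (s (Opposite.op U)).1, ?_⟩, fun U => (s (Opposite.op U)).2⟩
  intro U V h
  have hle : @LE.le (JJ G) _ V U := h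
  have := hs (homOfLE hle).op
  exact congrArg Subtype.val this

end

end Groth.Agent.H95
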