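import Mathlib
import Groth.Prelude.Def_FlatMod2
import Groth.Agent.H8.FlatAffine

/-!
# Torsion-free sections give a flat stalk over a Dedekind local ring of the base
-/

set_option autoImplicit false
universe u
open CategoryTheory CategoryTheory.Limits AlgebraicGeometry TopologicalSpace Opposite TensorProduct

namespace Groth.Agent.H95.FlatQuot_ST

theorem isFlatOverAt_of_torsionFree {X Y : Scheme.{u}} (f : X ⟶ Y) (G : X.Modules) (x : X)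
    [IsDedekindDomain (Y.presheaf.stalk (f.base x))]
    (H : ∀ (V : Y.Opens) (_ : IsAffineOpen V) (_ : f.base x ∈ V) (U : X.Opens) (_ : x ∈ U)
      (hUV : U ≤ f ⁻¹ᵁ V) (a : Γ(Y, V)) (s : Γ(G, U)), a ≠ 0 → (f.appLE V U hUV a) • s = 0 → s = 0) :
    FlatMod.IsFlatOverAt f G x := by
  unfold FlatMod.IsFlatOverAt
  letI := FlatMod.moduleStalkOver f G x
  rw [IsDedekindDomain.flat_iff_torsion_eq_bot, eq_bot_iff]
  intro t ht
  rw [Submodule.mem_torsion_iff] at ht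
  obtain ⟨⟨r, hr⟩, hrt⟩ := ht
  rw [Submodule.mem_bot]
  have hr0 : r ≠ 0 := nonZeroDivisors.ne_zero hr
  have hrt' : (f.stalkMap x).hom r • t = 0 := hrt
  obtain ⟨V0, hV0, a0, ha0⟩ := TopCat.Presheaf.exists_germ_eq Y.presheaf r
  obtain ⟨V, hVaff, hfxV, hVV0⟩ :=
    exists_isAffineOpen_mem_and_subset (x := f.base x) (U := V0) hV0
  have hVV0' : V ≤ V0 := hVV0
  obtain ⟨a, ha⟩ : ∃ a : Γ(Y, V), a = Y.presheaf.map (homOfLE hVV0').op a0 := ⟨_, rfl⟩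
  have hga : Y.presheaf.germ V (f.base x) hfxV a = r := by
    rw [ha, TopCat.Presheaf.germ_res_apply]
    exact ha0
  have ha_ne : a ≠ 0 := by
    intro h0
    apply hr0
    rw [← hga, h0, map_zero]
  obtain ⟨U0, hU0, s0, hs0⟩ := TopCat.Presheaf.exists_germ_eq G.presheaf t
  have hxU1 : x ∈ U0 ⊓ f ⁻¹ᵁ V := ⟨hU0, hfxV⟩
  have hUV1 : U0 ⊓ f ⁻¹ᵁ V ≤ f ⁻¹ᵁ V := inf_le_right
  obtain ⟨s1, hs1⟩ : ∃ s1 : Γ(G, U0 ⊓ f ⁻¹ᵁ V),
      s1 = G.presheaf.map (homOfLE (inf_le_left : U0 ⊓ f ⁻¹ᵁ V ≤ U0)).op s0 := ⟨_, rfl⟩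
  have hgs1 : G.presheaf.germ (U0 ⊓ f ⁻¹ᵁ V) x hxU1 s1 = t := by
    rw [hs1, TopCat.Presheaf.germ_res_apply]
    exact hs0
  have hstalk : (f.stalkMap x).hom r =
      X.presheaf.germ (U0 ⊓ f ⁻¹ᵁ V) x hxU1 (f.appLE V (U0 ⊓ f ⁻¹ᵁ V) hUV1 a) := by
    have h1 := congrArg CommRingCat.Hom.hom (Groth.Agent.H8.germ_stalkMap_eq f hUV1 x hxU1)
    have h2 := congrFun (congrArg DFunLike.coe h1) a
    rw [← hga]
    exact h2
  have hzero : G.presheaf.germ (U0 ⊓ f ⁻¹ᵁ V) x hxU1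
      ((f.appLE V (U0 ⊓ f ⁻¹ᵁ V) hUV1 a) • s1) = 0 := by
    rw [Groth.Agent.H8.germ_smul, hgs1, ← hstalk]
    exact hrt'
  obtain ⟨W, hxW, iU, iV, hW⟩ := TopCat.Presheaf.germ_eq G.presheaf x hxU1 hxU1
    ((f.appLE V (U0 ⊓ f ⁻¹ᵁ V) hUV1 a) • s1) 0 (by rw [hzero, map_zero])
  have hWV : W ≤ f ⁻¹ᵁ V := iU.le.trans hUV1
  have h3 : (f.appLE V W hWV a) • G.presheaf.map iU.op s1 = 0 := by
    have h4 : X.presheaf.map iU.op (f.appLE V (U0 ⊓ f ⁻¹ᵁ V) hUV1 a) = f.appLE V W hWV a := by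
      have h5 := Scheme.Hom.appLE_map f hUV1 iU.op
      have h6 := congrFun (congrArg DFunLike.coe (congrArg CommRingCat.Hom.hom h5)) a
      exact h6
    rw [← h4, ← Scheme.Modules.map_smul, hW, map_zero]
  have h7 := H V hVaff hfxV W hxW hWV a (G.presheaf.map iU.op s1) ha_ne h3
  rw [← hgs1, ← TopCat.Presheaf.germ_res_apply G.presheaf iU x hxW s1, h7, map_zero]

end Groth.Agent.H95.FlatQuot_ST
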