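import Groth.Agent.H95.DivMod
import Groth.Agent.H95.ZClos

/-!
# Invertible fractional ideals

A sub-`O_X`-module `J ⊆ K_X` is invertible iff it is locally `O · f` with `f` a unit of `K_X`
(EGA IV 21.2.?): `isInvertible_of_locally_principal`, `locally_principal_of_isInvertible`.
-/

set_option autoImplicit false
set_option linter.style.haveILetI false

universe u

open CategoryTheory AlgebraicGeometry TopologicalSpace Opposite

noncomputable section

namespace Groth.Agent.H95.FracIdeal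

open Groth.Agent.H95.MeroDepth Groth.Agent.H95.MeroDense Groth.Agent.H95.DivMod

variable {X : Scheme.{u}}

lemma smul_kmod_apply {V : X.Opens} (r : Γ(X, V)) (t : Γ(Mero.kmod X, V)) (z : V) :
    (r • t).1 z = algebraMap (X.presheaf.stalk z.1) (Mero.KStalk X z.1)
      (X.presheaf.germ V z.1 z.2 r) * t.1 z := by
  have h1 : (r • t).1 z = X.presheaf.germ V z.1 z.2 r • t.1 z := rfl
  rw [h1, Algebra.smul_def]

lemma toK_mul_apply {V : X.Opens} (r : Γ(X, V)) (t : Γ(Mero.kmod X, V)) (z : V) :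
    (Mero.toK X V r * t).1 z = algebraMap (X.presheaf.stalk z.1) (Mero.KStalk X z.1)
      (X.presheaf.germ V z.1 z.2 r) * t.1 z := by
  have h1 : (Mero.toK X V r * t).1 z = (Mero.toK X V r).1 z * t.1 z := rfl
  rw [h1, Mero.toK_apply, kmk_one]

lemma smul_eq_toK_mul {V : X.Opens} (r : Γ(X, V)) (t : Γ(Mero.kmod X, V)) :
    r • t = Mero.toK X V r * t :=
  Subtype.ext (funext fun z => by rw [smul_kmod_apply, toK_mul_apply])

theorem isInvertible_of_locally_principal (J : X.Modules) (ι : J ⟶ Mero.kmod X) [Mono ι]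
    (h : ∀ x : X, ∃ (U : X.Opens) (_ : x ∈ U) (f : (Γ(Mero.kmod X, U))ˣ),
      ∀ (V : X.Opens) (hV : V ≤ U),
        Set.range ⇑(ι.val.app (Opposite.op V)) =
          {t : Γ(Mero.kmod X, V) | ∃ r : Γ(X, V),
            t = Mero.toK X V r *
              (Mero.kmod X).presheaf.map (homOfLE hV).op (f : Γ(Mero.kmod X, U))}) :
    PicF.IsInvertible J := by
  have hinj := (Groth.Agent.H95.ZClos.mono_iff_app ι).mp inferInstance
  refine Groth.Agent.H18.TensorGen.isInvertible_of_isGen _ (fun x => ?_)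
  obtain ⟨U, hxU, f, hf⟩ := h x
  have hmem : (f : Γ(Mero.kmod X, U)) ∈ Set.range ⇑(ι.val.app (Opposite.op U)) := by
    rw [hf U le_rfl]
    refine ⟨1, ?_⟩
    rw [map_one, one_mul]
    exact Subtype.ext (funext fun z => rfl)
  obtain ⟨μ, hμ⟩ := hmem
  have hμ' : ι.app U μ = (f : Γ(Mero.kmod X, U)) := hμ
  refine ⟨U, μ, hxU, ?_⟩
  intro V' hV'
  have hιres : ι.app V' (J.presheaf.map (homOfLE hV').op μ) =
      (Mero.kmod X).presheaf.map (homOfLE hV').op (f : Γ(Mero.kmod X, U)) := by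
    rw [Groth.Agent.H8.app_res, hμ']
  have hval : ∀ (r : Γ(X, V')) (z : V'),
      (ι.app V' (r • J.presheaf.map (homOfLE hV').op μ)).1 z =
        algebraMap (X.presheaf.stalk z.1) (Mero.KStalk X z.1) (X.presheaf.germ V' z.1 z.2 r) *
          (f : Γ(Mero.kmod X, U)).1 ⟨z.1, hV' z.2⟩ := by
    intro r z
    rw [Scheme.Modules.Hom.app_smul, hιres, smul_kmod_apply]
    rfl
  constructor
  · intro r r' hrr'
    have hrr : r • J.presheaf.map (homOfLE hV').op μ =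
        r' • J.presheaf.map (homOfLE hV').op μ := hrr'
    refine TopCat.Presheaf.section_ext X.sheaf V' r r' (fun z hz => ?_)
    show X.presheaf.germ V' z hz r = X.presheaf.germ V' z hz r'
    apply Mero.algebraMap_KStalk_injective z
    have h1 := hval r ⟨z, hz⟩
    rw [hrr, hval r' ⟨z, hz⟩] at h1
    have h2 := congrArg (fun t => t *
      ((f⁻¹ : (Γ(Mero.kmod X, U))ˣ) : Γ(Mero.kmod X, U)).1 ⟨z, hV' hz⟩) h1
    have h3 : (f : Γ(Mero.kmod X, U)).1 ⟨z, hV' hz⟩ *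
        ((f⁻¹ : (Γ(Mero.kmod X, U))ˣ) : Γ(Mero.kmod X, U)).1 ⟨z, hV' hz⟩ =
        (1 : Mero.KStalk X z) := mul_inv_apply f ⟨z, hV' hz⟩
    simp only [mul_assoc] at h2
    rw [h3, mul_one, mul_one] at h2
    exact h2.symm
  · intro m
    have hm : ι.app V' m ∈ Set.range ⇑(ι.val.app (Opposite.op V')) := ⟨m, rfl⟩
    rw [hf V' hV'] at hm
    obtain ⟨r, hr⟩ := hm
    refine ⟨r, ?_⟩
    show r • J.presheaf.map (homOfLE hV').op μ = m
    apply hinj V'
    refine Subtype.ext (funext fun z => ?_)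
    rw [hval r z, hr, toK_mul_apply]
    rfl

theorem locally_principal_of_isInvertible (J : X.Modules) (ι : J ⟶ Mero.kmod X) [Mono ι]
    (hJ : PicF.IsInvertible J) (x : X) :
    ∃ (U : X.Opens) (_ : x ∈ U) (f : (Γ(Mero.kmod X, U))ˣ),
      ∀ (V : X.Opens) (hV : V ≤ U),
        Set.range ⇑(ι.val.app (Opposite.op V)) =
          {t : Γ(Mero.kmod X, V) | ∃ r : Γ(X, V),
            t = Mero.toK X V r *
              (Mero.kmod X).presheaf.map (homOfLE hV).op (f : Γ(Mero.kmod X, U))} := by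
  have hinj := (Groth.Agent.H95.ZClos.mono_iff_app ι).mp inferInstance
  obtain ⟨V₀, τ, hxV₀, hτ⟩ := Groth.Agent.H18.TensorGen.exists_isGen hJ x
  obtain ⟨g, hg⟩ : ∃ g : Γ(Mero.kmod X, V₀), g = ι.app V₀ τ := ⟨_, rfl⟩
  obtain ⟨W, hxW, i, a, b, w⟩ := g.2 ⟨x, hxV₀⟩
  have hWV : W ≤ V₀ := i.le
  have hgz : ∀ z : W, g.1 ⟨z.1, hWV z.2⟩ =
      LocalizedModule.mk (X.presheaf.germ W z.1 z.2 a) (Mero.regGerm z b) := fun z => w z
  have hval : ∀ (V : X.Opens) (hV : V ≤ V₀) (r : Γ(X, V)) (z : V),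
      (ι.app V (r • J.presheaf.map (homOfLE hV).op τ)).1 z =
        algebraMap (X.presheaf.stalk z.1) (Mero.KStalk X z.1) (X.presheaf.germ V z.1 z.2 r) *
          g.1 ⟨z.1, hV z.2⟩ := by
    intro V hV r z
    rw [Scheme.Modules.Hom.app_smul, Groth.Agent.H8.app_res, ← hg, smul_kmod_apply]
    rfl
  have ha : a ∈ Mero.regSub X W := by
    intro y
    show X.presheaf.germ W y.1 y.2 a ∈ nonZeroDivisors (X.presheaf.stalk y.1)
    rw [mem_nonZeroDivisors_iff_right]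
    intro c₀ hc₀
    obtain ⟨W₁, hyW₁, c, rfl⟩ := X.presheaf.exists_germ_eq c₀
    have hyP : y.1 ∈ W₁ ⊓ W := ⟨hyW₁, y.2⟩
    have h0 : X.presheaf.germ (W₁ ⊓ W) y.1 hyP
        (X.presheaf.map (homOfLE (inf_le_left : W₁ ⊓ W ≤ W₁)).op c *
          X.presheaf.map (homOfLE (inf_le_right : W₁ ⊓ W ≤ W)).op a) =
        X.presheaf.germ (W₁ ⊓ W) y.1 hyP 0 := by
      rw [map_mul, TopCat.Presheaf.germ_res_apply, TopCat.Presheaf.germ_res_apply, map_zero]
      exact hc₀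
    obtain ⟨W₂, hyW₂, i₁, i₂, hres⟩ := X.presheaf.germ_eq y.1 hyP hyP _ _ h0
    have hW₂ : W₂ ≤ W₁ ⊓ W := i₁.le
    have hW₂V : W₂ ≤ V₀ := fun z hz => hWV (hW₂ hz).2
    obtain ⟨c', hc'⟩ : ∃ c' : Γ(X, W₂), c' = X.presheaf.map i₁.op
        (X.presheaf.map (homOfLE (inf_le_left : W₁ ⊓ W ≤ W₁)).op c) := ⟨_, rfl⟩
    have hgermc' : ∀ (z : X) (hz : z ∈ W₂), X.presheaf.germ W₂ z hz c' =
        X.presheaf.germ W₁ z (hW₂ hz).1 c := by
      intro z hz
      rw [hc', TopCat.Presheaf.germ_res_apply, TopCat.Presheaf.germ_res_apply]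
    have hca : ∀ (z : X) (hz : z ∈ W₂), X.presheaf.germ W₁ z (hW₂ hz).1 c *
        X.presheaf.germ W z (hW₂ hz).2 a = 0 := by
      intro z hz
      have h3 := congrArg (fun t => X.presheaf.germ W₂ z hz t) hres
      simp only [TopCat.Presheaf.germ_res_apply, map_mul, map_zero] at h3
      exact h3
    have hzero : c' • J.presheaf.map (homOfLE hW₂V).op τ = 0 := by
      apply hinj W₂
      rw [map_zero]
      refine Subtype.ext (funext fun z => ?_)
      rw [hval W₂ hW₂V c' z]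
      show _ = (0 : Mero.KStalk X z.1)
      rw [hgz ⟨z.1, (hW₂ z.2).2⟩, hgermc' z.1 z.2]
      have hunit : IsUnit (algebraMap (X.presheaf.stalk z.1) (Mero.KStalk X z.1)
          ((Mero.regGerm (⟨z.1, (hW₂ z.2).2⟩ : W) b : Mero.regStalk X z.1) :
            X.presheaf.stalk z.1)) :=
        IsLocalization.map_units (Mero.KStalk X z.1) (Mero.regGerm (⟨z.1, (hW₂ z.2).2⟩ : W) b)
      apply (hunit.mul_left_eq_zero).mp
      rw [mul_assoc, kmk_mul, ← map_mul, hca z.1 z.2, map_zero]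
    have hc'0 : c' = 0 := by
      apply (hτ W₂ hW₂V).1
      show c' • J.presheaf.map (homOfLE hW₂V).op τ =
        (0 : Γ(X, W₂)) • J.presheaf.map (homOfLE hW₂V).op τ
      rw [hzero, zero_smul]
    rw [← hgermc' y.1 hyW₂, hc'0, map_zero]
  obtain ⟨f₁, hf₁⟩ : ∃ f₁ : Γ(Mero.kmod X, W), ∀ z : W, f₁.1 z =
      LocalizedModule.mk (X.presheaf.germ W z.1 z.2 a) (Mero.regGerm z b) :=
    ⟨⟨fun z => LocalizedModule.mk (X.presheaf.germ W z.1 z.2 a) (Mero.regGerm z b),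
      fun z => ⟨W, z.2, 𝟙 _, a, b, fun y => rfl⟩⟩, fun z => rfl⟩
  obtain ⟨f₂, hf₂⟩ : ∃ f₂ : Γ(Mero.kmod X, W), ∀ z : W, f₂.1 z =
      LocalizedModule.mk (X.presheaf.germ W z.1 z.2 b.1) (Mero.regGerm z ⟨a, ha⟩) :=
    ⟨⟨fun z => LocalizedModule.mk (X.presheaf.germ W z.1 z.2 b.1) (Mero.regGerm z ⟨a, ha⟩),
      fun z => ⟨W, z.2, 𝟙 _, b.1, ⟨a, ha⟩, fun y => rfl⟩⟩, fun z => rfl⟩
  have h12 : f₁ * f₂ = 1 := by
    refine Subtype.ext (funext fun z => ?_)
    show f₁.1 z * f₂.1 z = 1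
    rw [hf₁, hf₂]
    have e : X.presheaf.germ W z.1 z.2 a * X.presheaf.germ W z.1 z.2 b.1 =
        ((Mero.regGerm z b * Mero.regGerm z ⟨a, ha⟩ : Mero.regStalk X z.1) :
          X.presheaf.stalk z.1) := mul_comm _ _
    exact LocalizedModule.mk_mul_mk.trans ((Mero.mk_congr e rfl).trans (Mero.mk_self_eq_one _))
  have hfg : ∀ (V : X.Opens) (hV : V ≤ W) (z : V),
      ((Mero.kmod X).presheaf.map (homOfLE hV).op f₁).1 z =
        g.1 ⟨z.1, hWV (hV z.2)⟩ := by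
    intro V hV z
    have h1 : ((Mero.kmod X).presheaf.map (homOfLE hV).op f₁).1 z = f₁.1 ⟨z.1, hV z.2⟩ := rfl
    rw [h1, hf₁, hgz ⟨z.1, hV z.2⟩]
  refine ⟨W, hxW, Units.mkOfMulEqOne f₁ f₂ h12, fun V hV => ?_⟩
  have hval' : ∀ (r : Γ(X, V)) (z : V),
      (ι.app V (r • J.presheaf.map (homOfLE (hV.trans hWV)).op τ)).1 z =
        (Mero.toK X V r * (Mero.kmod X).presheaf.map (homOfLE hV).op f₁).1 z := by
    intro r z
    rw [hval V (hV.trans hWV) r z, toK_mul_apply, hfg V hV z]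
  ext t
  constructor
  · rintro ⟨m, rfl⟩
    obtain ⟨r, hr⟩ := (hτ V (hV.trans hWV)).2 m
    have hr' : r • J.presheaf.map (homOfLE (hV.trans hWV)).op τ = m := hr
    refine ⟨r, ?_⟩
    show ι.app V m = Mero.toK X V r * (Mero.kmod X).presheaf.map (homOfLE hV).op f₁
    rw [← hr']
    exact Subtype.ext (funext fun z => hval' r z)
  · rintro ⟨r, rfl⟩
    refine ⟨r • J.presheaf.map (homOfLE (hV.trans hWV)).op τ, ?_⟩
    show ι.app V (r • J.presheaf.map (homOfLE (hV.trans hWV)).op τ) =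
      Mero.toK X V r * (Mero.kmod X).presheaf.map (homOfLE hV).op f₁
    exact Subtype.ext (funext fun z => hval' r z)

end Groth.Agent.H95.FracIdeal
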