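import Groth.Prelude.Def_W4c6eohyperellchar2Gc
import Mathlib.FieldTheory.Perfect
import Mathlib.Algebra.CharP.Two
import Mathlib.Algebra.BigOperators.Pi
import Mathlib.Algebra.Module.Submodule.Basic
import Mathlib.Tactic.Ring
import Mathlib.Tactic.FinCases
import Mathlib.LinearAlgebra.Pi
import Mathlib.LinearAlgebra.Prod

/-! Helper lemmas on the explicit module `GcMod c k` with its operators `F`, `V` (helper95). -/

set_option autoImplicit false
universe u

namespace Groth.Agent.H95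

open W4c6eohyperellchar2

section

variable (c : ℕ) (k : Type u) [Field k]

theorem coefX_X (n m : ℕ) :
    coefX (X c k n) m = if 1 ≤ m ∧ m ≤ c ∧ m = n then 1 else 0 := by
  unfold coefX X
  by_cases h : 1 ≤ m ∧ m ≤ c
  · rw [dif_pos h]
    have h1 : m - 1 + 1 = m := by omega
    simp only [h1]
    by_cases h2 : m = n
    · rw [if_pos h2, if_pos ⟨h.1, h.2, h2⟩]
    · rw [if_neg h2, if_neg (fun h3 => h2 h3.2.2)]
  · rw [dif_neg h, if_neg (fun h3 => h ⟨h3.1, h3.2.1⟩)]

theorem coefY_Y (n m : ℕ) :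
    coefY (Y c k n) m = if 1 ≤ m ∧ m ≤ c ∧ m = n then 1 else 0 := by
  unfold coefY Y
  by_cases h : 1 ≤ m ∧ m ≤ c
  · rw [dif_pos h]
    have h1 : m - 1 + 1 = m := by omega
    simp only [h1]
    by_cases h2 : m = n
    · rw [if_pos h2, if_pos ⟨h.1, h.2, h2⟩]
    · rw [if_neg h2, if_neg (fun h3 => h2 h3.2.2)]
  · rw [dif_neg h, if_neg (fun h3 => h ⟨h3.1, h3.2.1⟩)]

theorem coefY_X (n m : ℕ) : coefY (X c k n) m = 0 := by
  unfold coefY X
  split_ifs <;> rfl

theorem coefX_Y (n m : ℕ) : coefX (Y c k n) m = 0 := by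
  unfold coefX Y
  split_ifs <;> rfl

theorem X_eq_zero (n : ℕ) (h : n = 0 ∨ c < n) : X c k n = 0 := by
  unfold X
  ext i
  · have : i.val + 1 ≠ n := by have := i.2; omega
    simp [this]
  · rfl

theorem Y_eq_zero (n : ℕ) (h : n = 0 ∨ c < n) : Y c k n = 0 := by
  unfold Y
  ext i
  · rfl
  · have : i.val + 1 ≠ n := by have := i.2; omega
    simp [this]

theorem F_X_even (m : ℕ) (hm : 2 * m ≤ c) : F c k (X c k (2 * m)) = X c k m := by
  unfold F
  ext i
  · simp only [coefX_X]
    show (if 1 ≤ 2 * (i.val + 1) ∧ 2 * (i.val + 1) ≤ c ∧ 2 * (i.val + 1) = 2 * m then (1 : k) else 0) ^ 2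
      = (X c k m).1 i
    unfold X
    simp only
    by_cases h : i.val + 1 = m
    · rw [if_pos h, if_pos ⟨by omega, by omega, by omega⟩, one_pow]
    · rw [if_neg h, if_neg (fun h3 => h (by omega))]
      simp
  · simp only [coefX_X]
    show (if 1 ≤ 2 * (c - (i.val + 1)) + 1 ∧ 2 * (c - (i.val + 1)) + 1 ≤ c ∧
      2 * (c - (i.val + 1)) + 1 = 2 * m then (1 : k) else 0) ^ 2 = (X c k m).2 i
    rw [if_neg (fun h3 => by omega)]
    unfold X
    simp

theorem F_X_odd (q : ℕ) (hq : 2 * q + 1 ≤ c) : F c k (X c k (2 * q + 1)) = Y c k (c - q) := by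
  unfold F
  ext i
  · simp only [coefX_X]
    show (if 1 ≤ 2 * (i.val + 1) ∧ 2 * (i.val + 1) ≤ c ∧ 2 * (i.val + 1) = 2 * q + 1
      then (1 : k) else 0) ^ 2 = (Y c k (c - q)).1 i
    rw [if_neg (fun h3 => by omega)]
    unfold Y
    simp
  · simp only [coefX_X]
    show (if 1 ≤ 2 * (c - (i.val + 1)) + 1 ∧ 2 * (c - (i.val + 1)) + 1 ≤ c ∧
      2 * (c - (i.val + 1)) + 1 = 2 * q + 1 then (1 : k) else 0) ^ 2 = (Y c k (c - q)).2 i
    unfold Y
    simp only
    have hi := i.2
    by_cases h : i.val + 1 = c - q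
    · rw [if_pos h, if_pos ⟨by omega, by omega, by omega⟩, one_pow]
    · rw [if_neg h, if_neg (fun h3 => h (by omega))]
      simp

theorem F_zero : F c k 0 = 0 := by
  unfold F coefX
  ext i <;> simp

theorem coefX_F (v : GcMod c k) (j : ℕ) (hj : c < 2 * j) : coefX (F c k v) j = 0 := by
  by_cases h : 1 ≤ j ∧ j ≤ c
  · rw [coefX, dif_pos h]
    show coefX v (2 * (j - 1 + 1)) ^ 2 = 0
    have h2 : ¬ (1 ≤ 2 * (j - 1 + 1) ∧ 2 * (j - 1 + 1) ≤ c) := by omega
    rw [coefX, dif_neg h2]
    simp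
  · rw [coefX, dif_neg h]

theorem exists_coefX_linear (j : ℕ) :
    ∃ Φ : GcMod c k →ₗ[k] k, ∀ v, Φ v = coefX v j := by
  by_cases h : 1 ≤ j ∧ j ≤ c
  · refine ⟨(LinearMap.proj (⟨j - 1, by omega⟩ : Fin c)) ∘ₗ
      (LinearMap.fst k (Fin c → k) (Fin c → k)), ?_⟩
    intro v
    rw [coefX, dif_pos h]
    rfl
  · refine ⟨0, ?_⟩
    intro v
    rw [coefX, dif_neg h]
    rfl

end

section

variable (c : ℕ) (k : Type u) [Field k] [CharP k 2] [PerfectRing k 2]

theorem coefX_V (v : GcMod c k) (j : ℕ) : coefX (V c k v) j = 0 := by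
  by_cases h : 1 ≤ j ∧ j ≤ c
  · rw [coefX, dif_pos h]
    rfl
  · rw [coefX, dif_neg h]

theorem V_Y (m : ℕ) : V c k (Y c k m) = Y c k (2 * m) := by
  unfold V
  ext i
  · rfl
  · simp only [coefX_Y, coefY_Y, map_zero]
    show (if (i.val + 1) % 2 = 0 then (frobeniusEquiv k 2).symm
        (if 1 ≤ (i.val + 1) / 2 ∧ (i.val + 1) / 2 ≤ c ∧ (i.val + 1) / 2 = m then (1 : k) else 0)
      else 0) = (Y c k (2 * m)).2 i
    unfold Y
    simp only
    have hi := i.2
    by_cases h : i.val + 1 = 2 * m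
    · rw [if_pos h, if_pos (by omega), if_pos ⟨by omega, by omega, by omega⟩, map_one]
    · rw [if_neg h]
      by_cases h2 : (i.val + 1) % 2 = 0
      · rw [if_pos h2, if_neg (fun h3 => h (by omega)), map_zero]
      · rw [if_neg h2]

theorem V_X (j : ℕ) (hj : j ≤ c) : V c k (X c k j) = Y c k (2 * c - 2 * j + 1) := by
  unfold V
  ext i
  · rfl
  · simp only [coefX_X, coefY_X, map_zero]
    show (if (i.val + 1) % 2 = 0 then (0 : k) else (frobeniusEquiv k 2).symm
        (if 1 ≤ (2 * c - i.val) / 2 ∧ (2 * c - i.val) / 2 ≤ c ∧ (2 * c - i.val) / 2 = j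
          then (1 : k) else 0)) = (Y c k (2 * c - 2 * j + 1)).2 i
    unfold Y
    simp only
    have hi := i.2
    by_cases h : i.val + 1 = 2 * c - 2 * j + 1
    · rw [if_pos h, if_neg (by omega), if_pos ⟨by omega, by omega, by omega⟩, map_one]
    · rw [if_neg h]
      by_cases h2 : (i.val + 1) % 2 = 0
      · rw [if_pos h2]
      · rw [if_neg h2, if_neg (fun h3 => h (by omega)), map_zero]

theorem F_iterate_X (e l : ℕ) (h : 2 ^ e * l ≤ c) :
    (F c k)^[e] (X c k (2 ^ e * l)) = X c k l := by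
  induction e with
  | zero => simp
  | succ e ih =>
    rw [Function.iterate_succ_apply]
    have h1 : 2 ^ (e + 1) * l = 2 * (2 ^ e * l) := by ring
    rw [h1, F_X_even c k _ (by rw [← h1]; exact h)]
    exact ih (by rw [h1] at h; omega)

theorem V_iterate_Y (n m : ℕ) : (V c k)^[n] (Y c k m) = Y c k (2 ^ n * m) := by
  induction n generalizing m with
  | zero => simp
  | succ n ih =>
    rw [Function.iterate_succ_apply, V_Y, ih]
    congr 1
    ring

theorem add_self (v : GcMod c k) : v + v = 0 := by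
  ext i
  · exact CharTwo.add_self_eq_zero _
  · exact CharTwo.add_self_eq_zero _

theorem eq_sum (v : GcMod c k) :
    v = ∑ i : Fin c, (v.1 i • X c k (i.val + 1) + v.2 i • Y c k (i.val + 1)) := by
  classical
  ext j
  · rw [Prod.fst_sum, Finset.sum_apply]
    simp only [Prod.fst_add, Prod.smul_fst, Pi.add_apply, Pi.smul_apply, smul_eq_mul]
    unfold X Y
    simp only [Pi.zero_apply, mul_zero, add_zero]
    rw [Finset.sum_eq_single j]
    · simp
    · intro b _ hb
      have hne : ¬ (j.val = b.val) := fun h => hb (Fin.ext h.symm)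
      simp [hne]
    · intro h
      exact absurd (Finset.mem_univ j) h
  · rw [Prod.snd_sum, Finset.sum_apply]
    simp only [Prod.snd_add, Prod.smul_snd, Pi.add_apply, Pi.smul_apply, smul_eq_mul]
    unfold X Y
    simp only [Pi.zero_apply, mul_zero, zero_add]
    rw [Finset.sum_eq_single j]
    · simp
    · intro b _ hb
      have hne : ¬ (j.val = b.val) := fun h => hb (Fin.ext h.symm)
      simp [hne]
    · intro h
      exact absurd (Finset.mem_univ j) h

end

theorem eq_sum' (c : ℕ) (k : Type u) [Field k] (v : GcMod c k) :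
    v = ∑ i : Fin c, (v.1 i • X c k (i.val + 1) + v.2 i • Y c k (i.val + 1)) := by
  classical
  ext j
  · rw [Prod.fst_sum, Finset.sum_apply]
    simp only [Prod.fst_add, Prod.smul_fst, Pi.add_apply, Pi.smul_apply, smul_eq_mul]
    unfold X Y
    simp only [Pi.zero_apply, mul_zero, add_zero]
    rw [Finset.sum_eq_single j]
    · simp
    · intro b _ hb
      have hne : ¬ (j.val = b.val) := fun h => hb (Fin.ext h.symm)
      simp [hne]
    · intro h
      exact absurd (Finset.mem_univ j) h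
  · rw [Prod.snd_sum, Finset.sum_apply]
    simp only [Prod.snd_add, Prod.smul_snd, Pi.add_apply, Pi.smul_apply, smul_eq_mul]
    unfold X Y
    simp only [Pi.zero_apply, mul_zero, zero_add]
    rw [Finset.sum_eq_single j]
    · simp
    · intro b _ hb
      have hne : ¬ (j.val = b.val) := fun h => hb (Fin.ext h.symm)
      simp [hne]
    · intro h
      exact absurd (Finset.mem_univ j) h


end Groth.Agent.H95
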