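import Groth.Agent.H18.TensorGen
import Groth.Agent.H95.ZClos

/-!
# Gluing a morphism of modules from a local relation; modules with matching generators

* `LinRel M N R`: axioms on a relation "`t` is the image of `s`" making it the graph of a morphism
  `M ⟶ N` (`LinRel.hom`, `LinRel.hom_app`, `LinRel.map_spec`, `LinRel.map_eq`).
* `nonempty_iso_of_gens`: two modules with free generators on the members of an open cover, with
  the same transition functions, are isomorphic.
-/

set_option autoImplicit false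
set_option linter.style.haveILetI false

universe u

open CategoryTheory AlgebraicGeometry TopologicalSpace Opposite

noncomputable section

namespace Groth.Agent.H95.GenIso

open Groth.Agent.H8 (res_res res_smul ringRes_res section_eq_of_cover)
open Groth.Agent.H18.TensorGen (IsGen)

variable {X : Scheme.{u}}

/-- The axioms on a relation "`t` is the image of `s`". -/
structure LinRel (M N : X.Modules) (R : ∀ W : X.Opens, Γ(M, W) → Γ(N, W) → Prop) : Prop where
  unique : ∀ (W : X.Opens) (s : Γ(M, W)) (t t' : Γ(N, W)), R W s t → R W s t' → t = t'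
  res : ∀ {W W' : X.Opens} (hW' : W' ≤ W) (s : Γ(M, W)) (t : Γ(N, W)),
    R W s t → R W' (M.presheaf.map (homOfLE hW').op s) (N.presheaf.map (homOfLE hW').op t)
  of_local : ∀ (W : X.Opens) (s : Γ(M, W)) (t : Γ(N, W)),
    (∀ x ∈ W, ∃ (W' : X.Opens) (hW' : W' ≤ W), x ∈ W' ∧
      R W' (M.presheaf.map (homOfLE hW').op s) (N.presheaf.map (homOfLE hW').op t)) → R W s t
  exists_local : ∀ (W : X.Opens) (s : Γ(M, W)), ∀ x ∈ W,
    ∃ (W' : X.Opens) (hW' : W' ≤ W), x ∈ W' ∧
      ∃ t : Γ(N, W'), R W' (M.presheaf.map (homOfLE hW').op s) t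
  add : ∀ (W : X.Opens) (s s' : Γ(M, W)) (t t' : Γ(N, W)),
    R W s t → R W s' t' → R W (s + s') (t + t')
  smul : ∀ (W : X.Opens) (a : Γ(X, W)) (s : Γ(M, W)) (t : Γ(N, W)),
    R W s t → R W (a • s) (a • t)

namespace LinRel

variable {M N : X.Modules} {R : ∀ W : X.Opens, Γ(M, W) → Γ(N, W) → Prop}

theorem exists_map (hR : LinRel M N R) (W : X.Opens) (s : Γ(M, W)) :
    ∃ t : Γ(N, W), R W s t := by
  classical
  choose V hV hxV τ hτ using fun x : W => hR.exists_local W s x.1 x.2
  have hcompat : TopCat.Presheaf.IsCompatible N.presheaf V τ := by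
    intro x y
    change N.presheaf.map (homOfLE (inf_le_left : V x ⊓ V y ≤ V x)).op (τ x) =
      N.presheaf.map (homOfLE (inf_le_right : V x ⊓ V y ≤ V y)).op (τ y)
    have h1 := hR.res (inf_le_left : V x ⊓ V y ≤ V x) _ _ (hτ x)
    have h2 := hR.res (inf_le_right : V x ⊓ V y ≤ V y) _ _ (hτ y)
    rw [res_res M] at h1 h2
    exact hR.unique _ _ _ _ h1 h2
  have hcover : W ≤ iSup V := fun x hx => Opens.mem_iSup.mpr ⟨⟨x, hx⟩, hxV ⟨x, hx⟩⟩
  obtain ⟨t, ht, -⟩ := TopCat.Sheaf.existsUnique_gluing' (F := ⟨N.presheaf, N.isSheaf⟩)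
    V W (fun x => homOfLE (hV x)) hcover τ hcompat
  refine ⟨t, hR.of_local W s t fun x hx => ⟨V ⟨x, hx⟩, hV ⟨x, hx⟩, hxV ⟨x, hx⟩, ?_⟩⟩
  have h1 : N.presheaf.map (homOfLE (hV ⟨x, hx⟩)).op t = τ ⟨x, hx⟩ := ht ⟨x, hx⟩
  rw [h1]
  exact hτ ⟨x, hx⟩

/-- The map on sections determined by the relation. -/
def map (hR : LinRel M N R) (W : X.Opens) (s : Γ(M, W)) : Γ(N, W) :=
  (hR.exists_map W s).choose

theorem map_spec (hR : LinRel M N R) (W : X.Opens) (s : Γ(M, W)) :
    R W s (hR.map W s) := (hR.exists_map W s).choose_spec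

theorem map_eq (hR : LinRel M N R) {W : X.Opens} {s : Γ(M, W)} {t : Γ(N, W)}
    (H : R W s t) : hR.map W s = t :=
  hR.unique W s _ _ (hR.map_spec W s) H

theorem map_res (hR : LinRel M N R) {W W' : X.Opens} (hW' : W' ≤ W) (s : Γ(M, W)) :
    hR.map W' (M.presheaf.map (homOfLE hW').op s) =
      N.presheaf.map (homOfLE hW').op (hR.map W s) :=
  hR.map_eq (hR.res hW' s _ (hR.map_spec W s))

set_option backward.isDefEq.respectTransparency false in
/-- The morphism of modules determined by the relation. -/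
def hom (hR : LinRel M N R) : M ⟶ N :=
  ⟨PresheafOfModules.homMk
    { app := fun U => AddCommGrpCat.ofHom
        (AddMonoidHom.mk' (fun s : Γ(M, U.unop) => (hR.map U.unop s : Γ(N, U.unop)))
          (fun s s' => hR.map_eq (hR.add _ _ _ _ _ (hR.map_spec _ s) (hR.map_spec _ s'))))
      naturality := fun {U V} f => by
        ext s
        have hle : V.unop ≤ U.unop := f.unop.le
        have hf : f = (homOfLE hle).op := Quiver.Hom.unop_inj (Subsingleton.elim _ _)
        subst hf
        exact hR.map_res hle s }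
    (fun U r s => hR.map_eq (hR.smul _ r _ _ (hR.map_spec _ s)))⟩

set_option backward.isDefEq.respectTransparency false in
theorem hom_app (hR : LinRel M N R) (W : X.Opens) (s : Γ(M, W)) :
    hR.hom.app W s = hR.map W s := rfl

end LinRel

section Gens

variable (M N : X.Modules) {ι : Type*} (V : ι → X.Opens)
  (μ : ∀ i, Γ(M, V i)) (ν : ∀ i, Γ(N, V i))

/-- The relation: `s` and `t` have the same coordinates with respect to the generators. -/
def GRel : ∀ W : X.Opens, Γ(M, W) → Γ(N, W) → Prop := fun W s t =>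
  ∀ (i : ι) (W' : X.Opens) (h : W' ≤ W) (hi : W' ≤ V i) (r : Γ(X, W')),
    M.presheaf.map (homOfLE h).op s = r • M.presheaf.map (homOfLE hi).op (μ i) →
    N.presheaf.map (homOfLE h).op t = r • N.presheaf.map (homOfLE hi).op (ν i)

/-- The transition functions of `μ` are transition functions of `ν`. -/
def Comp : Prop :=
  ∀ (i j : ι) (W : X.Opens) (hi : W ≤ V i) (hj : W ≤ V j) (u : Γ(X, W)),
    M.presheaf.map (homOfLE hj).op (μ j) = u • M.presheaf.map (homOfLE hi).op (μ i) →
    N.presheaf.map (homOfLE hj).op (ν j) = u • N.presheaf.map (homOfLE hi).op (ν i)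

variable {M N V μ ν}

theorem comp_symm (hμ : ∀ i, IsGen M (V i) (μ i)) (hν : ∀ i, IsGen N (V i) (ν i))
    (h : Comp M N V μ ν) : Comp N M V ν μ := by
  intro i j W hi hj u hu
  obtain ⟨u', hu'⟩ := ((hμ i) W hi).2 (M.presheaf.map (homOfLE hj).op (μ j))
  have hu'' : u' • M.presheaf.map (homOfLE hi).op (μ i) =
      M.presheaf.map (homOfLE hj).op (μ j) := hu'
  have h1 := h i j W hi hj u' hu''.symm
  have h2 : u = u' := ((hν i) W hi).1 (hu.symm.trans h1)
  rw [h2]
  exact hu''.symm

theorem transition (hμ : ∀ i, IsGen M (V i) (μ i)) (h : Comp M N V μ ν)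
    (i j : ι) (W : X.Opens) (hi : W ≤ V i) (hj : W ≤ V j) (r r' : Γ(X, W))
    (hrr : r • M.presheaf.map (homOfLE hi).op (μ i) = r' • M.presheaf.map (homOfLE hj).op (μ j)) :
    r • N.presheaf.map (homOfLE hi).op (ν i) = r' • N.presheaf.map (homOfLE hj).op (ν j) := by
  obtain ⟨u, hu⟩ := ((hμ i) W hi).2 (M.presheaf.map (homOfLE hj).op (μ j))
  have hu' : u • M.presheaf.map (homOfLE hi).op (μ i) =
      M.presheaf.map (homOfLE hj).op (μ j) := hu
  have h1 := h i j W hi hj u hu'.symm
  have h2 : r = r' * u := by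
    apply ((hμ i) W hi).1
    show r • M.presheaf.map (homOfLE hi).op (μ i) =
      (r' * u) • M.presheaf.map (homOfLE hi).op (μ i)
    rw [hrr, mul_smul, hu']
  rw [h1, h2, mul_smul]

theorem linRel_gRel (hcov : ∀ x : X, ∃ i, x ∈ V i) (hμ : ∀ i, IsGen M (V i) (μ i))
    (hcomp : Comp M N V μ ν) : LinRel M N (GRel M N V μ ν) where
  unique W s t t' h1 h2 := by
    refine section_eq_of_cover N t t' (fun x hx => ?_)
    obtain ⟨i, hxi⟩ := hcov x
    obtain ⟨r, hr⟩ := ((hμ i) (W ⊓ V i) inf_le_right).2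
      (M.presheaf.map (homOfLE (inf_le_left : W ⊓ V i ≤ W)).op s)
    have hr' : r • M.presheaf.map (homOfLE (inf_le_right : W ⊓ V i ≤ V i)).op (μ i) =
      M.presheaf.map (homOfLE (inf_le_left : W ⊓ V i ≤ W)).op s := hr
    exact ⟨W ⊓ V i, inf_le_left, ⟨hx, hxi⟩,
      (h1 i _ inf_le_left inf_le_right r hr'.symm).trans
        (h2 i _ inf_le_left inf_le_right r hr'.symm).symm⟩
  res {W W₁} hW₁ s t h := by
    intro i W' h' hi r hr
    rw [res_res M] at hr
    rw [res_res N]
    exact h i W' (h'.trans hW₁) hi r hr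
  of_local W s t hloc := by
    intro i W' h' hi r hr
    refine section_eq_of_cover N _ _ (fun z hz => ?_)
    obtain ⟨W₁, hW₁, hzW₁, hR₁⟩ := hloc z (h' hz)
    have e1 := congrArg
      (fun q => M.presheaf.map (homOfLE (inf_le_left : W' ⊓ W₁ ≤ W')).op q) hr
    simp only [] at e1
    rw [res_res M, res_smul M, res_res M] at e1
    have e2 := hR₁ i (W' ⊓ W₁) inf_le_right (inf_le_left.trans hi)
      (X.presheaf.map (homOfLE (inf_le_left : W' ⊓ W₁ ≤ W')).op r) (by
        rw [res_res M]
        exact e1)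
    rw [res_res N] at e2
    refine ⟨W' ⊓ W₁, inf_le_left, ⟨hz, hzW₁⟩, ?_⟩
    rw [res_res N, res_smul N, res_res N]
    exact e2
  exists_local W s x hx := by
    obtain ⟨i, hxi⟩ := hcov x
    obtain ⟨r, hr⟩ := ((hμ i) (W ⊓ V i) inf_le_right).2
      (M.presheaf.map (homOfLE (inf_le_left : W ⊓ V i ≤ W)).op s)
    have hr' : r • M.presheaf.map (homOfLE (inf_le_right : W ⊓ V i ≤ V i)).op (μ i) =
      M.presheaf.map (homOfLE (inf_le_left : W ⊓ V i ≤ W)).op s := hr
    refine ⟨W ⊓ V i, inf_le_left, ⟨hx, hxi⟩,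
      r • N.presheaf.map (homOfLE (inf_le_right : W ⊓ V i ≤ V i)).op (ν i), ?_⟩
    intro j W' h' hj r' hr''
    rw [res_smul N, res_res N]
    refine transition hμ hcomp i j W' (h'.trans inf_le_right) hj _ r' ?_
    have e1 := congrArg (fun q => M.presheaf.map (homOfLE h').op q) hr'
    simp only [] at e1
    rw [res_smul M, res_res M] at e1
    exact e1.trans hr''
  add W s s' t t' h1 h2 := by
    intro i W' h' hi r hr
    obtain ⟨r₁, hr₁⟩ := ((hμ i) W' hi).2 (M.presheaf.map (homOfLE h').op s)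
    obtain ⟨r₂, hr₂⟩ := ((hμ i) W' hi).2 (M.presheaf.map (homOfLE h').op s')
    have hr₁' : r₁ • M.presheaf.map (homOfLE hi).op (μ i) =
      M.presheaf.map (homOfLE h').op s := hr₁
    have hr₂' : r₂ • M.presheaf.map (homOfLE hi).op (μ i) =
      M.presheaf.map (homOfLE h').op s' := hr₂
    have hrr : r = r₁ + r₂ := by
      apply ((hμ i) W' hi).1
      show r • M.presheaf.map (homOfLE hi).op (μ i) =
        (r₁ + r₂) • M.presheaf.map (homOfLE hi).op (μ i)
      rw [add_smul, hr₁', hr₂', ← hr, map_add]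
    rw [map_add, h1 i W' h' hi r₁ hr₁'.symm, h2 i W' h' hi r₂ hr₂'.symm, ← add_smul, hrr]
  smul W a s t h := by
    intro i W' h' hi r hr
    obtain ⟨r₁, hr₁⟩ := ((hμ i) W' hi).2 (M.presheaf.map (homOfLE h').op s)
    have hr₁' : r₁ • M.presheaf.map (homOfLE hi).op (μ i) =
      M.presheaf.map (homOfLE h').op s := hr₁
    have hrr : r = X.presheaf.map (homOfLE h').op a * r₁ := by
      apply ((hμ i) W' hi).1
      show r • M.presheaf.map (homOfLE hi).op (μ i) =
        (X.presheaf.map (homOfLE h').op a * r₁) • M.presheaf.map (homOfLE hi).op (μ i)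
      rw [mul_smul, hr₁', ← hr, res_smul M]
    rw [res_smul N, h i W' h' hi r₁ hr₁'.symm, smul_smul, hrr]

/-- Two modules with free generators on the members of an open cover and the same transition
functions are isomorphic. -/
theorem nonempty_iso_of_gens (hcov : ∀ x : X, ∃ i, x ∈ V i)
    (hμ : ∀ i, IsGen M (V i) (μ i)) (hν : ∀ i, IsGen N (V i) (ν i))
    (hcomp : Comp M N V μ ν) : Nonempty (M ≅ N) := by
  have hR := linRel_gRel hcov hμ hcomp
  have hR' := linRel_gRel hcov hν (comp_symm hμ hν hcomp)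
  haveI : IsIso hR.hom := by
    rw [Groth.Agent.H95.ZClos.isIso_iff_app]
    intro W
    constructor
    · intro s s' hss
      rw [LinRel.hom_app, LinRel.hom_app] at hss
      have h1 := hR.map_spec W s
      have h2 := hR.map_spec W s'
      rw [hss] at h1
      refine section_eq_of_cover M s s' (fun x hx => ?_)
      obtain ⟨i, hxi⟩ := hcov x
      obtain ⟨r, hr⟩ := ((hμ i) (W ⊓ V i) inf_le_right).2
        (M.presheaf.map (homOfLE (inf_le_left : W ⊓ V i ≤ W)).op s)
      obtain ⟨r', hr'⟩ := ((hμ i) (W ⊓ V i) inf_le_right).2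
        (M.presheaf.map (homOfLE (inf_le_left : W ⊓ V i ≤ W)).op s')
      have hr1 : r • M.presheaf.map (homOfLE (inf_le_right : W ⊓ V i ≤ V i)).op (μ i) =
        M.presheaf.map (homOfLE (inf_le_left : W ⊓ V i ≤ W)).op s := hr
      have hr1' : r' • M.presheaf.map (homOfLE (inf_le_right : W ⊓ V i ≤ V i)).op (μ i) =
        M.presheaf.map (homOfLE (inf_le_left : W ⊓ V i ≤ W)).op s' := hr'
      have e1 := h1 i _ inf_le_left inf_le_right r hr1.symm
      have e2 := h2 i _ inf_le_left inf_le_right r' hr1'.symm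
      have e3 : r = r' := ((hν i) (W ⊓ V i) inf_le_right).1 (e1.symm.trans e2)
      exact ⟨W ⊓ V i, inf_le_left, ⟨hx, hxi⟩, by rw [← hr1, ← hr1', e3]⟩
    · intro t
      refine ⟨hR'.map W t, ?_⟩
      rw [LinRel.hom_app]
      apply hR.map_eq
      intro i W' h hi r hr
      obtain ⟨r'', hr''⟩ := ((hν i) W' hi).2 (N.presheaf.map (homOfLE h).op t)
      have hr2 : r'' • N.presheaf.map (homOfLE hi).op (ν i) =
        N.presheaf.map (homOfLE h).op t := hr''
      have e1 := hR'.map_spec W t i W' h hi r'' hr2.symm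
      have e2 : r = r'' := ((hμ i) W' hi).1 (hr.symm.trans e1)
      rw [e2]
      exact hr2.symm
  exact ⟨asIso hR.hom⟩

end Gens

end Groth.Agent.H95.GenIso
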