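import Groth.Agent.S17726
import Mathlib.AlgebraicGeometry.IdealSheaf.Basic
import Mathlib.AlgebraicGeometry.Noetherian

/-!
# Local study of ideal sheaves (`Scheme.IdealSheafData`) through stalks

* `map_germ_eq`: the ideal of `O_{X,y}` generated by `I(U)` does not depend on the affine open
  `U ∋ y`.
* `germ_mem_nonZeroDivisors`, `not_isUnit_germ_of_mem_support`, `ideal_eq_top_of_disjoint`.
* `prop_of_mem`: at a point of `Supp D ∪ Supp E` (locally principal, regular generators), any two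
  local relations `D^m = E^n`, `D^m' = E^n'` are proportional.
* `prop_trans`: transitivity of proportionality of non-zero pairs.
-/

set_option autoImplicit false
set_option linter.style.haveILetI false

universe u

open CategoryTheory AlgebraicGeometry TopologicalSpace

namespace Groth.Agent.H95.IdealSheafLocal

variable {X : Scheme.{u}}

lemma map_germ_eq_of_le (I : X.IdealSheafData) {U V : X.affineOpens} (h : V ≤ U) (y : X)
    (hy : y ∈ V.1) :
    Ideal.map (X.presheaf.germ V.1 y hy).hom (I.ideal V) =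
      Ideal.map (X.presheaf.germ U.1 y (h hy)).hom (I.ideal U) := by
  rw [← I.map_ideal h, Ideal.map_map, ← CommRingCat.hom_comp]
  have e : X.presheaf.map (homOfLE h).op ≫ X.presheaf.germ V.1 y hy =
      X.presheaf.germ U.1 y (h hy) :=
    X.presheaf.germ_res (homOfLE (show V.1 ≤ U.1 from h)) y hy
  rw [e]

lemma map_germ_eq (I : X.IdealSheafData) (U U' : X.affineOpens) (y : X) (hy : y ∈ U.1)
    (hy' : y ∈ U'.1) :
    Ideal.map (X.presheaf.germ U.1 y hy).hom (I.ideal U) =
      Ideal.map (X.presheaf.germ U'.1 y hy').hom (I.ideal U') := by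
  obtain ⟨V, hV0, hyV, hVle⟩ := Opens.isBasis_iff_nbhd.mp X.isBasis_affineOpens
    (show y ∈ U.1 ⊓ U'.1 from ⟨hy, hy'⟩)
  have hV : IsAffineOpen V := hV0
  have h1 := map_germ_eq_of_le I (U := U) (V := ⟨V, hV⟩) (le_inf_iff.mp hVle).1 y hyV
  have h2 := map_germ_eq_of_le I (U := U') (V := ⟨V, hV⟩) (le_inf_iff.mp hVle).2 y hyV
  exact h1.symm.trans h2

lemma germ_mem_nonZeroDivisors {U : X.affineOpens} (y : X) (hy : y ∈ U.1) (g : Γ(X, U))
    (hg : g ∈ nonZeroDivisors Γ(X, U)) :
    (X.presheaf.germ U.1 y hy).hom g ∈ nonZeroDivisors (X.presheaf.stalk y) := by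
  letI := X.presheaf.algebra_section_stalk ⟨y, hy⟩
  haveI := IsAffineOpen.isLocalization_stalk U.2 ⟨y, hy⟩
  exact IsLocalization.map_nonZeroDivisors_le (U.2.primeIdealOf ⟨y, hy⟩).asIdeal.primeCompl
    (X.presheaf.stalk y)
    (Submonoid.mem_map_of_mem (algebraMap Γ(X, U) (X.presheaf.stalk y)) hg)

lemma not_isUnit_germ_of_mem_support (I : X.IdealSheafData) {U : X.affineOpens} (y : X)
    (hy : y ∈ U.1) (hyI : y ∈ I.support) (g : Γ(X, U)) (hg : g ∈ I.ideal U) :
    ¬ IsUnit ((X.presheaf.germ U.1 y hy).hom g) := by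
  rw [Scheme.IdealSheafData.mem_support_iff_of_mem hy, Scheme.mem_zeroLocus_iff] at hyI
  have h1 := hyI g hg
  rwa [Scheme.mem_basicOpen X g y hy] at h1

lemma ideal_eq_top_of_disjoint (I : X.IdealSheafData) (U : X.affineOpens)
    (h : (I.support : Set X) ∩ U = ∅) : I.ideal U = ⊤ := by
  have h1 := I.coe_support_inter U
  rw [← U.2.fromSpec_image_zeroLocus] at h1
  have h2 : U.2.fromSpec '' PrimeSpectrum.zeroLocus (I.ideal U : Set Γ(X, U)) = ∅ := by
    rw [← h1]
    exact h
  exact PrimeSpectrum.zeroLocus_empty_iff_eq_top.mp (Set.image_eq_empty.mp h2)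

lemma prop_trans {m n m' n' m'' n'' : ℕ} (hne : (m', n') ≠ (0, 0)) (h1 : m * n' = m' * n)
    (h2 : m' * n'' = m'' * n') : m * n'' = m'' * n := by
  rcases Nat.eq_zero_or_pos m' with hm' | hm'
  · subst hm'
    have hn' : n' ≠ 0 := fun h0 => hne (by rw [h0])
    simp only [zero_mul] at h1 h2
    have hm : m = 0 := by
      rcases Nat.mul_eq_zero.mp h1 with h | h
      · exact h
      · exact absurd h hn'
    have hm'' : m'' = 0 := by
      rcases Nat.mul_eq_zero.mp h2.symm with h | h
      · exact h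
      · exact absurd h hn'
    rw [hm, hm'', zero_mul, zero_mul]
  · apply Nat.eq_of_mul_eq_mul_left hm'
    calc m' * (m * n'') = m * (m' * n'') := by ring
      _ = m * (m'' * n') := by rw [h2]
      _ = m'' * (m * n') := by ring
      _ = m'' * (m' * n) := by rw [h1]
      _ = m' * (m'' * n) := by ring

/-- Two local relations `D^m = E^n` and `D^m' = E^n'` near a point of `Supp D ∪ Supp E` are
proportional. -/
lemma prop_of_mem (D E : X.IdealSheafData)
    (hD : ∀ x : X, ∃ U : X.affineOpens, x ∈ (U : X.Opens) ∧ ∃ g : Γ(X, U),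
      g ∈ nonZeroDivisors Γ(X, U) ∧ D.ideal U = Ideal.span {g})
    (hE : ∀ x : X, ∃ U : X.affineOpens, x ∈ (U : X.Opens) ∧ ∃ g : Γ(X, U),
      g ∈ nonZeroDivisors Γ(X, U) ∧ E.ideal U = Ideal.span {g})
    (y : X) (hy : y ∈ (D.support : Set X) ∪ (E.support : Set X))
    (U U' : X.affineOpens) (hyU : y ∈ U.1) (hyU' : y ∈ U'.1) (m n m' n' : ℕ)
    (h : D.ideal U ^ m = E.ideal U ^ n) (h' : D.ideal U' ^ m' = E.ideal U' ^ n') :
    m * n' = m' * n := by
  obtain ⟨UD, hyUD, gD, hgD, hDg⟩ := hD y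
  obtain ⟨UE, hyUE, gE, hgE, hEg⟩ := hE y
  have ha := germ_mem_nonZeroDivisors y hyUD gD hgD
  have hb := germ_mem_nonZeroDivisors y hyUE gE hgE
  have hDs : ∀ (V : X.affineOpens) (hyV : y ∈ V.1),
      Ideal.map (X.presheaf.germ V.1 y hyV).hom (D.ideal V) =
        Ideal.span {(X.presheaf.germ UD.1 y hyUD).hom gD} := by
    intro V hyV
    rw [map_germ_eq D V UD y hyV hyUD, hDg, Ideal.map_span, Set.image_singleton]
  have hEs : ∀ (V : X.affineOpens) (hyV : y ∈ V.1),
      Ideal.map (X.presheaf.germ V.1 y hyV).hom (E.ideal V) =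
        Ideal.span {(X.presheaf.germ UE.1 y hyUE).hom gE} := by
    intro V hyV
    rw [map_germ_eq E V UE y hyV hyUE, hEg, Ideal.map_span, Set.image_singleton]
  have key : ∀ (V : X.affineOpens) (hyV : y ∈ V.1) (k l : ℕ),
      D.ideal V ^ k = E.ideal V ^ l →
      Ideal.span {((X.presheaf.germ UD.1 y hyUD).hom gD) ^ k} =
        Ideal.span {((X.presheaf.germ UE.1 y hyUE).hom gE) ^ l} := by
    intro V hyV k l hkl
    have h1 := congrArg (Ideal.map (X.presheaf.germ V.1 y hyV).hom) hkl
    rw [Ideal.map_pow, Ideal.map_pow, hDs V hyV, hEs V hyV, Ideal.span_singleton_pow,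
      Ideal.span_singleton_pow] at h1
    exact h1
  have hnu : ¬ (IsUnit ((X.presheaf.germ UE.1 y hyUE).hom gE) ∧
      IsUnit ((X.presheaf.germ UD.1 y hyUD).hom gD)) := by
    rintro ⟨huE, huD⟩
    rcases hy with hyD | hyE
    · exact not_isUnit_germ_of_mem_support D y hyUD hyD gD
        (by rw [hDg]; exact Ideal.mem_span_singleton_self _) huD
    · exact not_isUnit_germ_of_mem_support E y hyUE hyE gE
        (by rw [hEg]; exact Ideal.mem_span_singleton_self _) huE
  exact Groth.Agent.S17726.result (X.presheaf.stalk y) _ _ hb ha hnu m n m' n'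
    (key U hyU m n h) (key U' hyU' m' n' h')

end Groth.Agent.H95.IdealSheafLocal
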