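import Groth.Agent.H95.ReducedGeneric

/-!
# Meromorphic functions on reduced schemes with locally finitely many irreducible components

* `LocFin X`: every point has an open neighbourhood containing finitely many generic points.
* `locFin_of_components`: follows from local finiteness of the set of irreducible components.
* `exists_local_mero'`, `exists_mero_of_generic'`: meromorphic functions with prescribed values at
  the generic points (local finiteness version of `ReducedGeneric.exists_mero_of_generic`).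
* `exists_unit_of_generic`: the same for units.
-/

set_option autoImplicit false
set_option linter.style.haveILetI false

universe u

open CategoryTheory AlgebraicGeometry TopologicalSpace Opposite

namespace Groth.Agent.H95.LocFinGeneric

open Groth.Agent.H8 Groth.Agent.H95.MeroDepth Groth.Agent.H95.MeroDense
open Groth.Agent.H95.StalkPrimes Groth.Agent.H95.DivMod Groth.Agent.H95.ReducedGeneric

variable {X : Scheme.{u}}

/-- Every point has an open neighbourhood containing only finitely many generic points of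
irreducible components. -/
def LocFin (X : Scheme.{u}) : Prop :=
  ∀ x : X, ∃ W : X.Opens, x ∈ W ∧ {ξ : X | ξ ∈ W ∧ IsGenPt ξ}.Finite

lemma locFin_of_components
    (hX : ∀ x : X, ∃ W : X.Opens, x ∈ W ∧
      {Z : Set X | Z ∈ irreducibleComponents X ∧ (Z ∩ (W : Set X)).Nonempty}.Finite) :
    LocFin X := by
  intro x
  obtain ⟨W, hxW, hfin⟩ := hX x
  refine ⟨W, hxW, ?_⟩
  refine Set.Finite.of_injOn (f := fun ξ : X => closure ({ξ} : Set X)) ?_ ?_ hfin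
  · intro ξ hξ
    exact ⟨hξ.2, ⟨ξ, subset_closure rfl, hξ.1⟩⟩
  · intro ξ _ ξ' _ h
    have h' : closure ({ξ} : Set X) = closure ({ξ'} : Set X) := h
    have h1 : ξ' ⤳ ξ := by
      rw [specializes_iff_mem_closure, ← h']
      exact subset_closure rfl
    have h2 : ξ ⤳ ξ' := by
      rw [specializes_iff_mem_closure, h']
      exact subset_closure rfl
    exact (h2.antisymm h1).eq

section Reduced

variable [IsReduced X]

/-- Local existence of a meromorphic function with prescribed values at the generic points. -/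
lemma exists_local_mero' {W : X.Opens} (hfinW : {ξ : X | ξ ∈ W ∧ IsGenPt ξ}.Finite)
    (hW : IsAffineOpen W) (k : ∀ ξ : X, Mero.KStalk X ξ) :
    ∃ s : Γ(Mero.kmod X, W), ∀ (ξ : X) (hξ : ξ ∈ W), IsGenPt ξ → s.1 ⟨ξ, hξ⟩ = k ξ := by
  classical
  obtain ⟨S, hS⟩ : ∃ S : Set X, S = {ξ : X | ξ ∈ W ∧ IsGenPt ξ} := ⟨_, rfl⟩
  have hSfin : S.Finite := by
    rw [hS]
    exact hfinW
  haveI : Fintype ↥S := hSfin.fintype
  have hmemS : ∀ ξ : X, ξ ∈ S ↔ (ξ ∈ W ∧ IsGenPt ξ) := fun ξ => by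
    rw [hS]
    exact Iff.rfl
  have hSW : ∀ ξ : S, ξ.1 ∈ W := fun ξ => ((hmemS ξ.1).mp ξ.2).1
  have hSgen : ∀ ξ : S, IsGenPt ξ.1 := fun ξ => ((hmemS ξ.1).mp ξ.2).2
  have hκ : ∀ ξ : S, ∃ (a s : Γ(X, W)), IsUnit (X.presheaf.germ W ξ.1 (hSW ξ) s) ∧
      k ξ.1 * algebraMap (X.presheaf.stalk ξ.1) (Mero.KStalk X ξ.1)
        (X.presheaf.germ W ξ.1 (hSW ξ) s) =
      algebraMap (X.presheaf.stalk ξ.1) (Mero.KStalk X ξ.1)
        (X.presheaf.germ W ξ.1 (hSW ξ) a) := by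
    intro ξ
    obtain ⟨κ, hκ⟩ := (algebraMap_bijective_generic (hSgen ξ)).2 (k ξ.1)
    letI := X.presheaf.algebra_section_stalk ⟨ξ.1, hSW ξ⟩
    haveI := hW.isLocalization_stalk ⟨ξ.1, hSW ξ⟩
    obtain ⟨⟨a, s⟩, has⟩ :=
      IsLocalization.surj (hW.primeIdealOf ⟨ξ.1, hSW ξ⟩).asIdeal.primeCompl κ
    refine ⟨a, s.1, IsLocalization.map_units (X.presheaf.stalk ξ.1) s, ?_⟩
    rw [← hκ, ← map_mul]
    exact congrArg _ has
  have hc : ∀ ξ η : S, ξ ≠ η → ∃ c : Γ(X, W),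
      X.presheaf.germ W η.1 (hSW η) c = 0 ∧ IsUnit (X.presheaf.germ W ξ.1 (hSW ξ) c) := by
    intro ξ η hne
    have hnle : ¬ (hW.primeIdealOf ⟨η.1, hSW η⟩).asIdeal ≤
        (hW.primeIdealOf ⟨ξ.1, hSW ξ⟩).asIdeal := by
      intro hle
      have h1 := pointOfPrime_specializes hW (hW.primeIdealOf ⟨η.1, hSW η⟩).asIdeal ξ.1
        (hSW ξ) hle
      rw [pointOfPrime_primeIdealOf hW η.1 (hSW η)] at h1
      exact hne (Subtype.ext (eq_of_specializes_generic (hSgen ξ) h1).symm)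
    obtain ⟨c, hcη, hcξ⟩ := SetLike.not_le_iff_exists.mp hnle
    refine ⟨c, ?_, ?_⟩
    · have hnu : ¬ IsUnit (X.presheaf.germ W η.1 (hSW η) c) := by
        intro hu
        have h2 : η.1 ∈ X.basicOpen c := (Scheme.mem_basicOpen X c η.1 (hSW η)).mpr hu
        exact (mem_basicOpen_iff_notMem_primeIdealOf hW η.1 (hSW η) c).mp h2 hcη
      have h3 : X.presheaf.germ W η.1 (hSW η) c ∈
          IsLocalRing.maximalIdeal (X.presheaf.stalk η.1) :=
        (IsLocalRing.mem_maximalIdeal _).mpr hnu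
      rw [maximalIdeal_eq_bot (hSgen η)] at h3
      exact (Ideal.mem_bot).mp h3
    · have h2 : ξ.1 ∈ X.basicOpen c :=
        (mem_basicOpen_iff_notMem_primeIdealOf hW ξ.1 (hSW ξ) c).mpr hcξ
      exact (Scheme.mem_basicOpen X c ξ.1 (hSW ξ)).mp h2
  choose a s hsu has using hκ
  choose c hc0 hcu using hc
  obtain ⟨e, he⟩ : ∃ e : S → Γ(X, W), ∀ ξ, e ξ =
      ∏ η : S, (if h : ξ = η then (1 : Γ(X, W)) else c ξ η h) := ⟨_, fun _ => rfl⟩
  have he_unit : ∀ ξ : S, IsUnit (X.presheaf.germ W ξ.1 (hSW ξ) (e ξ)) := by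
    intro ξ
    rw [he, map_prod]
    apply Finset.prod_induction _ IsUnit (fun _ _ => IsUnit.mul) isUnit_one
    intro η _
    by_cases h : ξ = η
    · simp only [dif_pos h, map_one, isUnit_one]
    · simp only [dif_neg h]
      exact hcu ξ η h
  have he_zero : ∀ ξ η : S, ξ ≠ η → X.presheaf.germ W η.1 (hSW η) (e ξ) = 0 := by
    intro ξ η hne
    rw [he, map_prod]
    refine Finset.prod_eq_zero (Finset.mem_univ η) ?_
    simp only [dif_neg hne]
    exact hc0 ξ η hne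
  obtain ⟨b, hb⟩ : ∃ b : Γ(X, W), b = ∑ ξ : S, e ξ * s ξ := ⟨_, rfl⟩
  obtain ⟨a', ha'⟩ : ∃ a' : Γ(X, W), a' = ∑ ξ : S, e ξ * a ξ := ⟨_, rfl⟩
  have hb_germ : ∀ η : S, X.presheaf.germ W η.1 (hSW η) b =
      X.presheaf.germ W η.1 (hSW η) (e η) * X.presheaf.germ W η.1 (hSW η) (s η) := by
    intro η
    rw [hb, map_sum, Finset.sum_eq_single η]
    · rw [map_mul]
    · intro ξ _ hne
      rw [map_mul, he_zero ξ η hne, zero_mul]
    · intro h
      exact absurd (Finset.mem_univ η) h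
  have ha_germ : ∀ η : S, X.presheaf.germ W η.1 (hSW η) a' =
      X.presheaf.germ W η.1 (hSW η) (e η) * X.presheaf.germ W η.1 (hSW η) (a η) := by
    intro η
    rw [ha', map_sum, Finset.sum_eq_single η]
    · rw [map_mul]
    · intro ξ _ hne
      rw [map_mul, he_zero ξ η hne, zero_mul]
    · intro h
      exact absurd (Finset.mem_univ η) h
  have hbreg : b ∈ Mero.regSub X W := by
    apply mem_regSub_of_isUnit_generic
    intro ξ hξ hgen
    have hξS : ξ ∈ S := by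
      rw [hS]
      exact ⟨hξ, hgen⟩
    have h1 := hb_germ ⟨ξ, hξS⟩
    have h2 : IsUnit (X.presheaf.germ W ξ hξ b) := by
      rw [h1]
      exact (he_unit ⟨ξ, hξS⟩).mul (hsu ⟨ξ, hξS⟩)
    exact h2
  refine ⟨⟨fun y => LocalizedModule.mk (X.presheaf.germ W y.1 y.2 a')
    (Mero.regGerm y ⟨b, hbreg⟩), fun y => ⟨W, y.2, 𝟙 _, a', ⟨b, hbreg⟩, fun _ => rfl⟩⟩, ?_⟩
  intro ξ hξ hgen
  have hξS : ξ ∈ S := by
    rw [hS]
    exact ⟨hξ, hgen⟩
  show LocalizedModule.mk (X.presheaf.germ W ξ hξ a')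
    (Mero.regGerm (⟨ξ, hξ⟩ : W) ⟨b, hbreg⟩) = k ξ
  have hunit : IsUnit (algebraMap (X.presheaf.stalk ξ) (Mero.KStalk X ξ)
      ((Mero.regGerm (⟨ξ, hξ⟩ : W) ⟨b, hbreg⟩ : Mero.regStalk X ξ) : X.presheaf.stalk ξ)) :=
    IsLocalization.map_units (Mero.KStalk X ξ) (Mero.regGerm (⟨ξ, hξ⟩ : W) ⟨b, hbreg⟩)
  apply (IsUnit.mul_left_inj hunit).mp
  rw [kmk_mul]
  show algebraMap (X.presheaf.stalk ξ) (Mero.KStalk X ξ) (X.presheaf.germ W ξ hξ a') =
    k ξ * algebraMap (X.presheaf.stalk ξ) (Mero.KStalk X ξ) (X.presheaf.germ W ξ hξ b)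
  have h1 := ha_germ ⟨ξ, hξS⟩
  have h2 := hb_germ ⟨ξ, hξS⟩
  have h3 := has ⟨ξ, hξS⟩
  have h1' : X.presheaf.germ W ξ hξ a' = X.presheaf.germ W ξ hξ (e ⟨ξ, hξS⟩) *
      X.presheaf.germ W ξ hξ (a ⟨ξ, hξS⟩) := h1
  have h2' : X.presheaf.germ W ξ hξ b = X.presheaf.germ W ξ hξ (e ⟨ξ, hξS⟩) *
      X.presheaf.germ W ξ hξ (s ⟨ξ, hξS⟩) := h2
  have h3' : k ξ * algebraMap (X.presheaf.stalk ξ) (Mero.KStalk X ξ)
      (X.presheaf.germ W ξ hξ (s ⟨ξ, hξS⟩)) =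
      algebraMap (X.presheaf.stalk ξ) (Mero.KStalk X ξ)
        (X.presheaf.germ W ξ hξ (a ⟨ξ, hξS⟩)) := h3
  rw [h1', h2', map_mul, map_mul, mul_left_comm, h3']

/-- Existence of a meromorphic function with prescribed values at the generic points. -/
lemma exists_mero_of_generic' (hlf : LocFin X) (U : X.Opens)
    (k : ∀ ξ : X, Mero.KStalk X ξ) :
    ∃ s : Γ(Mero.kmod X, U), ∀ (ξ : X) (hξ : ξ ∈ U), IsGenPt ξ → s.1 ⟨ξ, hξ⟩ = k ξ := by
  have hloc : ∀ z : U, ∃ (W : X.Opens) (_ : z.1 ∈ W) (_ : W ≤ U) (s : Γ(Mero.kmod X, W)),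
      ∀ (ξ : X) (hξ : ξ ∈ W), IsGenPt ξ → s.1 ⟨ξ, hξ⟩ = k ξ := by
    intro z
    obtain ⟨W₀, hzW₀, hfin₀⟩ := hlf z.1
    obtain ⟨W, hW0, hzW, hWU⟩ := Opens.isBasis_iff_nbhd.mp X.isBasis_affineOpens
      (show z.1 ∈ U ⊓ W₀ from ⟨z.2, hzW₀⟩)
    have hW : IsAffineOpen W := hW0
    have hfinW : {ξ : X | ξ ∈ W ∧ IsGenPt ξ}.Finite :=
      hfin₀.subset (fun ξ h => ⟨(hWU h.1).2, h.2⟩)
    obtain ⟨s, hs⟩ := exists_local_mero' hfinW hW k
    exact ⟨W, hzW, fun y hy => (hWU hy).1, s, hs⟩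
  choose W hzW hWU s hs using hloc
  have key : ∀ (z z' : U) (y : X) (hy : y ∈ W z) (hy' : y ∈ W z'),
      (s z).1 ⟨y, hy⟩ = (s z').1 ⟨y, hy'⟩ := by
    intro z z' y hy hy'
    have h1 : (Mero.kmod X).presheaf.map (homOfLE (inf_le_left : W z ⊓ W z' ≤ W z)).op (s z) =
        (Mero.kmod X).presheaf.map (homOfLE (inf_le_right : W z ⊓ W z' ≤ W z')).op (s z') := by
      apply kmod_ext_of_generic
      intro ξ hξ hgen
      show (s z).1 ⟨ξ, hξ.1⟩ = (s z').1 ⟨ξ, hξ.2⟩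
      rw [hs z ξ hξ.1 hgen, hs z' ξ hξ.2 hgen]
    have h2 := congrArg (fun t : Γ(Mero.kmod X, W z ⊓ W z') => t.1 ⟨y, ⟨hy, hy'⟩⟩) h1
    exact h2
  obtain ⟨sfun, hsfun⟩ : ∃ sfun : ∀ z : U, Mero.KStalk X z.1,
      ∀ z : U, sfun z = (s z).1 ⟨z.1, hzW z⟩ := ⟨_, fun _ => rfl⟩
  have hpred : (Mero.kLoc X).pred sfun := by
    refine (Mero.kLoc X).locality sfun (fun z => ⟨W z, hzW z, homOfLE (hWU z), ?_⟩)
    have e : (fun y : W z => sfun ⟨y.1, hWU z y.2⟩) = (s z).1 := by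
      funext y
      rw [hsfun]
      exact key ⟨y.1, hWU z y.2⟩ z y.1 (hzW _) y.2
    exact e ▸ (s z).2
  refine ⟨⟨sfun, hpred⟩, ?_⟩
  intro ξ hξ hgen
  show sfun ⟨ξ, hξ⟩ = k ξ
  rw [hsfun]
  exact hs ⟨ξ, hξ⟩ ξ (hzW _) hgen

/-- A unit meromorphic function with prescribed unit values at the generic points. -/
lemma exists_unit_of_generic (hlf : LocFin X) (U : X.Opens)
    (k : ∀ ξ : X, (Mero.KStalk X ξ)ˣ) :
    ∃ f : (Γ(Mero.kmod X, U))ˣ, ∀ (ξ : X) (hξ : ξ ∈ U), IsGenPt ξ →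
      (f : Γ(Mero.kmod X, U)).1 ⟨ξ, hξ⟩ = (k ξ : Mero.KStalk X ξ) := by
  obtain ⟨s, hs⟩ := exists_mero_of_generic' hlf U (fun ξ => (k ξ : Mero.KStalk X ξ))
  obtain ⟨s', hs'⟩ := exists_mero_of_generic' hlf U
    (fun ξ => (((k ξ)⁻¹ : (Mero.KStalk X ξ)ˣ) : Mero.KStalk X ξ))
  have h1 : s * s' = 1 := by
    apply kmod_ext_of_generic
    intro ξ hξ hgen
    show s.1 ⟨ξ, hξ⟩ * s'.1 ⟨ξ, hξ⟩ = 1
    rw [hs ξ hξ hgen, hs' ξ hξ hgen]
    exact Units.mul_inv (k ξ)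
  exact ⟨Units.mkOfMulEqOne s s' h1, hs⟩

end Reduced

end Groth.Agent.H95.LocFinGeneric
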