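import Groth.Agent.H95.DivOfData
import Groth.Agent.H95.LocFinGeneric

/-!
# Local meromorphic coordinates of invertible modules and regular meromorphic sections

* `Compat L V τ f`: generators `τ i` of `L` on `V i` and units `f i` of `Γ(V i, K_X)` such that
  the `f i • τ i` glue to a meromorphic section (the hypothesis of `DivOfData.exists_divisor_iso`).
* `exists_data_of_locFin`: such data exist on a reduced scheme with locally finitely many
  irreducible components.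
* `hasRegularMero_of_data`: such data give a regular meromorphic section of `L`.
* `locFin_of_compact_finite`.
-/

set_option autoImplicit false
set_option linter.style.haveILetI false

universe u

open CategoryTheory AlgebraicGeometry TopologicalSpace Opposite

namespace Groth.Agent.H95.MeroData

open Groth.Agent.H8 (res_res res_smul ringRes_res)
open Groth.Agent.H18.TensorGen (IsGen exists_isGen)
open Groth.Agent.H95.MeroDepth Groth.Agent.H95.MeroDense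
open Groth.Agent.H95.DivMod Groth.Agent.H95.ReducedGeneric Groth.Agent.H95.LocFinGeneric
open Groth.Agent.H95.DivOfData

variable {X : Scheme.{u}}

/-- Compatibility of local meromorphic coordinates with the transition functions of `L`. -/
def Compat (L : X.Modules) {ι : Type*} (V : ι → X.Opens) (τ : ∀ i, Γ(L, V i))
    (f : ∀ i, (Γ(Mero.kmod X, V i))ˣ) : Prop :=
  ∀ (i j : ι) (W : X.Opens) (hi : W ≤ V i) (hj : W ≤ V j) (u : Γ(X, W)),
    L.presheaf.map (homOfLE hj).op (τ j) = u • L.presheaf.map (homOfLE hi).op (τ i) →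
    ∀ z : W, (f i : Γ(Mero.kmod X, V i)).1 ⟨z.1, hi z.2⟩ =
      algebraMap (X.presheaf.stalk z.1) (Mero.KStalk X z.1) (X.presheaf.germ W z.1 z.2 u) *
        (f j : Γ(Mero.kmod X, V j)).1 ⟨z.1, hj z.2⟩

lemma isUnit_of_gens {X : Scheme.{u}} {L : X.Modules} {W : X.Opens} {α β : Γ(L, W)}
    (hα : IsGen L W α) (hβ : IsGen L W β) (u : Γ(X, W)) (h : β = u • α) : IsUnit u := by
  obtain ⟨u', hu'⟩ := hβ.self.2 α
  have hu1 : u' • β = α := hu'
  have huu : u' * u = 1 := by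
    apply hα.self.1
    show (u' * u) • α = (1 : Γ(X, W)) • α
    rw [mul_smul, ← h, hu1, one_smul]
  exact ⟨⟨u, u', by rw [mul_comm]; exact huu, huu⟩, rfl⟩

lemma germ_transition {X : Scheme.{u}} (L : X.Modules) {V₁ V₂ V₃ : X.Opens} (τ₁ : Γ(L, V₁))
    (hτ₁ : IsGen L V₁ τ₁) (τ₂ : Γ(L, V₂)) (τ₃ : Γ(L, V₃))
    (u₁ : Γ(X, V₁ ⊓ V₃))
    (hu₁ : L.presheaf.map (homOfLE (inf_le_right : V₁ ⊓ V₃ ≤ V₃)).op τ₃ =
      u₁ • L.presheaf.map (homOfLE (inf_le_left : V₁ ⊓ V₃ ≤ V₁)).op τ₁)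
    (u₂ : Γ(X, V₂ ⊓ V₃))
    (hu₂ : L.presheaf.map (homOfLE (inf_le_right : V₂ ⊓ V₃ ≤ V₃)).op τ₃ =
      u₂ • L.presheaf.map (homOfLE (inf_le_left : V₂ ⊓ V₃ ≤ V₂)).op τ₂)
    (W : X.Opens) (h1 : W ≤ V₁) (h2 : W ≤ V₂) (w : Γ(X, W))
    (hw : L.presheaf.map (homOfLE h2).op τ₂ = w • L.presheaf.map (homOfLE h1).op τ₁)
    (ξ : X) (hξW : ξ ∈ W) (hξ3 : ξ ∈ V₃) (hξ13 : ξ ∈ V₁ ⊓ V₃) (hξ23 : ξ ∈ V₂ ⊓ V₃) :
    X.presheaf.germ (V₁ ⊓ V₃) ξ hξ13 u₁ =
      X.presheaf.germ W ξ hξW w * X.presheaf.germ (V₂ ⊓ V₃) ξ hξ23 u₂ := by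
  have k1 : W ⊓ V₃ ≤ V₁ ⊓ V₃ := inf_le_inf_right V₃ h1
  have k2 : W ⊓ V₃ ≤ V₂ ⊓ V₃ := inf_le_inf_right V₃ h2
  have k3 : W ⊓ V₃ ≤ W := inf_le_left
  have hξ' : ξ ∈ W ⊓ V₃ := Opens.mem_inf.mpr ⟨hξW, hξ3⟩
  have e1 := congrArg (fun q => L.presheaf.map (homOfLE k1).op q) hu₁
  have e2 := congrArg (fun q => L.presheaf.map (homOfLE k2).op q) hu₂
  have e3 := congrArg (fun q => L.presheaf.map (homOfLE k3).op q) hw
  simp only [] at e1 e2 e3
  rw [res_res L, res_smul L, res_res L] at e1 e2 e3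
  have e4 : X.presheaf.map (homOfLE k1).op u₁ =
      X.presheaf.map (homOfLE k2).op u₂ * X.presheaf.map (homOfLE k3).op w := by
    apply (hτ₁ (W ⊓ V₃) (k1.trans inf_le_left)).1
    show X.presheaf.map (homOfLE k1).op u₁ •
        L.presheaf.map (homOfLE (k1.trans inf_le_left)).op τ₁ =
      (X.presheaf.map (homOfLE k2).op u₂ * X.presheaf.map (homOfLE k3).op w) •
        L.presheaf.map (homOfLE (k1.trans inf_le_left)).op τ₁
    rw [mul_smul]
    exact e1.symm.trans (e2.trans (congrArg (fun q => X.presheaf.map (homOfLE k2).op u₂ • q) e3))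
  have e5 := congrArg (fun q => X.presheaf.germ (W ⊓ V₃) ξ hξ' q) e4
  simp only [map_mul] at e5
  rw [TopCat.Presheaf.germ_res_apply X.presheaf (homOfLE k1) ξ hξ' u₁,
    TopCat.Presheaf.germ_res_apply X.presheaf (homOfLE k2) ξ hξ' u₂,
    TopCat.Presheaf.germ_res_apply X.presheaf (homOfLE k3) ξ hξ' w] at e5
  rw [e5, mul_comm]

/-- On a reduced scheme with locally finitely many generic points every invertible module has
compatible local meromorphic coordinates. -/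
theorem exists_data_of_locFin [IsReduced X] (hlf : LocFin X) (L : X.Modules)
    (hL : PicF.IsInvertible L) :
    ∃ (V : X → X.Opens) (τ : ∀ x, Γ(L, V x)) (f : ∀ x, (Γ(Mero.kmod X, V x))ˣ),
      (∀ x, x ∈ V x) ∧ (∀ x, IsGen L (V x) (τ x)) ∧ Compat L V τ f := by
  classical
  choose V τ hxV hτ using fun x : X => exists_isGen hL x
  have hu : ∀ x ξ : X, ∃ u : Γ(X, V x ⊓ V ξ),
      L.presheaf.map (homOfLE (inf_le_right : V x ⊓ V ξ ≤ V ξ)).op (τ ξ) =
        u • L.presheaf.map (homOfLE (inf_le_left : V x ⊓ V ξ ≤ V x)).op (τ x) := by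
    intro x ξ
    obtain ⟨u, hu⟩ := ((hτ x) (V x ⊓ V ξ) inf_le_left).2
      (L.presheaf.map (homOfLE (inf_le_right : V x ⊓ V ξ ≤ V ξ)).op (τ ξ))
    exact ⟨u, hu.symm⟩
  choose u hu using hu
  have huunit : ∀ x ξ : X, IsUnit (u x ξ) := fun x ξ =>
    isUnit_of_gens ((hτ x).res inf_le_left) ((hτ ξ).res inf_le_right) (u x ξ) (hu x ξ)
  have hmem : ∀ (x ξ : X), ξ ∈ V x → ξ ∈ V x ⊓ V ξ := fun x ξ hξ =>
    Opens.mem_inf.mpr ⟨hξ, hxV ξ⟩
  have hgu : ∀ (x ξ : X) (hξ : ξ ∈ V x),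
      IsUnit (X.presheaf.germ (V x ⊓ V ξ) ξ (hmem x ξ hξ) (u x ξ)) := fun x ξ hξ =>
    (huunit x ξ).map (X.presheaf.germ (V x ⊓ V ξ) ξ (hmem x ξ hξ)).hom
  obtain ⟨k, hk⟩ : ∃ k : ∀ x ξ : X, (Mero.KStalk X ξ)ˣ, ∀ (x ξ : X) (hξ : ξ ∈ V x),
      ((k x ξ : (Mero.KStalk X ξ)ˣ) : Mero.KStalk X ξ) =
        algebraMap (X.presheaf.stalk ξ) (Mero.KStalk X ξ)
          (X.presheaf.germ (V x ⊓ V ξ) ξ (hmem x ξ hξ) (u x ξ)) := by
    refine ⟨fun x ξ => if hξ : ξ ∈ V x then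
      Units.map (algebraMap (X.presheaf.stalk ξ) (Mero.KStalk X ξ)).toMonoidHom (hgu x ξ hξ).unit
      else 1, fun x ξ hξ => ?_⟩
    beta_reduce
    rw [dif_pos hξ]
    rfl
  choose f hf using fun x : X => exists_unit_of_generic hlf (V x) (k x)
  refine ⟨V, τ, f, hxV, hτ, ?_⟩
  intro x y W hi hj w hw z
  have h12 : ((Mero.kmod X).presheaf.map (homOfLE hi).op (f x : Γ(Mero.kmod X, V x)) :
      Γ(Mero.kmod X, W)) = Mero.toK X W w *
      ((Mero.kmod X).presheaf.map (homOfLE hj).op (f y : Γ(Mero.kmod X, V y)) :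
        Γ(Mero.kmod X, W)) := by
    apply kmod_ext_of_generic
    intro ξ hξ hgen
    show (f x : Γ(Mero.kmod X, V x)).1 ⟨ξ, hi hξ⟩ =
      (Mero.toK X W w).1 ⟨ξ, hξ⟩ * (f y : Γ(Mero.kmod X, V y)).1 ⟨ξ, hj hξ⟩
    rw [hf x ξ (hi hξ) hgen, hf y ξ (hj hξ) hgen, hk x ξ (hi hξ), hk y ξ (hj hξ)]
    show algebraMap (X.presheaf.stalk ξ) (Mero.KStalk X ξ)
        (X.presheaf.germ (V x ⊓ V ξ) ξ (hmem x ξ (hi hξ)) (u x ξ)) =
      (LocalizedModule.mk (X.presheaf.germ W ξ hξ w) 1 : Mero.KStalk X ξ) *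
        algebraMap (X.presheaf.stalk ξ) (Mero.KStalk X ξ)
          (X.presheaf.germ (V y ⊓ V ξ) ξ (hmem y ξ (hj hξ)) (u y ξ))
    rw [kmk_one, ← map_mul,
      germ_transition L (τ x) (hτ x) (τ y) (τ ξ) (u x ξ) (hu x ξ) (u y ξ) (hu y ξ) W hi hj w hw
        ξ hξ (hxV ξ) (hmem x ξ (hi hξ)) (hmem y ξ (hj hξ))]
  have h3 := congrArg (fun t : Γ(Mero.kmod X, W) => t.1 z) h12
  have h4 : (f x : Γ(Mero.kmod X, V x)).1 ⟨z.1, hi z.2⟩ =
      (Mero.toK X W w).1 z * (f y : Γ(Mero.kmod X, V y)).1 ⟨z.1, hj z.2⟩ := h3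
  rw [h4, Mero.toK_apply, kmk_one]

section Stalk

lemma kmk_smul_mk {L : X.Modules} (x : X) (α : X.presheaf.stalk x) (β : Mero.regStalk X x)
    (t : L.presheaf.stalk x) (s : Mero.regStalk X x) :
    (LocalizedModule.mk α β : Mero.KStalk X x) • (LocalizedModule.mk t s : Mero.MStalk L x) =
      LocalizedModule.mk (α • t) (β * s) :=
  LocalizedModule.mk_smul_mk α t β s

lemma algebraMap_smul_mk {L : X.Modules} (x : X) (r : X.presheaf.stalk x)
    (t : L.presheaf.stalk x) (s : Mero.regStalk X x) :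
    algebraMap (X.presheaf.stalk x) (Mero.KStalk X x) r •
      (LocalizedModule.mk t s : Mero.MStalk L x) = LocalizedModule.mk (r • t) s := by
  rw [← kmk_one, kmk_smul_mk, one_mul]

lemma mk_eq_zero_iff' {L : X.Modules} (x : X) (m : L.presheaf.stalk x)
    (s : Mero.regStalk X x) :
    (LocalizedModule.mk m s : Mero.MStalk L x) = 0 ↔
      ∃ c : X.presheaf.stalk x, c ∈ Mero.regStalk X x ∧ c • m = 0 := by
  constructor
  · intro h
    obtain ⟨w, hw⟩ := LocalizedModule.mk_eq.mp (h.trans (LocalizedModule.zero_mk s).symm)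
    refine ⟨((w * s : Mero.regStalk X x) : X.presheaf.stalk x), (w * s).2, ?_⟩
    simp only [smul_zero] at hw
    rw [Submonoid.coe_mul, mul_smul]
    exact hw
  · rintro ⟨c, hc, h⟩
    refine (LocalizedModule.mk_eq.mpr ⟨⟨c, hc⟩, ?_⟩).trans (LocalizedModule.zero_mk s)
    simp only [smul_zero]
    show c • ((s : X.presheaf.stalk x) • m) = 0
    rw [smul_comm, h, smul_zero]

/-- The germ of a free generator is a free generator of the stalk (injectivity). -/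
lemma germ_smul_eq_zero {L : X.Modules} {V : X.Opens} {τ : Γ(L, V)} (hτ : IsGen L V τ) (z : X)
    (hz : z ∈ V) (r : X.presheaf.stalk z) (h : r • L.presheaf.germ V z hz τ = 0) : r = 0 := by
  obtain ⟨W₁, hzW₁, ρ, rfl⟩ := X.presheaf.exists_germ_eq r
  have hzW : z ∈ W₁ ⊓ V := Opens.mem_inf.mpr ⟨hzW₁, hz⟩
  have h0 : L.presheaf.germ (W₁ ⊓ V) z hzW
      (X.presheaf.map (homOfLE (inf_le_left : W₁ ⊓ V ≤ W₁)).op ρ •
        L.presheaf.map (homOfLE (inf_le_right : W₁ ⊓ V ≤ V)).op τ) =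
      L.presheaf.germ (W₁ ⊓ V) z hzW 0 := by
    rw [Mero.germ_smul,
      TopCat.Presheaf.germ_res_apply X.presheaf (homOfLE inf_le_left) z hzW ρ,
      TopCat.Presheaf.germ_res_apply L.presheaf (homOfLE inf_le_right) z hzW τ, h, map_zero]
  obtain ⟨W', hzW', hW'0, hle, hle', hres⟩ :=
    TopCat.Presheaf.germ_eq_of_isBasis X.isBasis_affineOpens L.presheaf z hzW hzW h0
  rw [map_zero, res_smul L, res_res L] at hres
  have h2 : X.presheaf.map (homOfLE hle).op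
      (X.presheaf.map (homOfLE (inf_le_left : W₁ ⊓ V ≤ W₁)).op ρ) = 0 := by
    apply (hτ W' (hle.trans inf_le_right)).1
    show X.presheaf.map (homOfLE hle).op
        (X.presheaf.map (homOfLE (inf_le_left : W₁ ⊓ V ≤ W₁)).op ρ) •
        L.presheaf.map (homOfLE (hle.trans inf_le_right)).op τ =
      (0 : Γ(X, W')) • L.presheaf.map (homOfLE (hle.trans inf_le_right)).op τ
    rw [zero_smul]
    exact hres
  rw [← TopCat.Presheaf.germ_res_apply X.presheaf (homOfLE (inf_le_left : W₁ ⊓ V ≤ W₁)) z hzW ρ,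
    ← TopCat.Presheaf.germ_res_apply X.presheaf (homOfLE hle) z hzW'
      (X.presheaf.map (homOfLE (inf_le_left : W₁ ⊓ V ≤ W₁)).op ρ), h2, map_zero]

end Stalk

/-- Compatible local meromorphic coordinates give a regular meromorphic section. -/
theorem hasRegularMero_of_data (L : X.Modules) {ι : Type*} (V : ι → X.Opens)
    (hcov : ∀ x : X, ∃ i, x ∈ V i) (τ : ∀ i, Γ(L, V i)) (hτ : ∀ i, IsGen L (V i) (τ i))
    (f : ∀ i, (Γ(Mero.kmod X, V i))ˣ) (hcomp : Compat L V τ f) : Mero.HasRegularMero L := by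
  classical
  choose c hc using hcov
  have F1 : ∀ (i j : ι) (z : X) (hzi : z ∈ V i) (hzj : z ∈ V j),
      (f i : Γ(Mero.kmod X, V i)).1 ⟨z, hzi⟩ •
        (LocalizedModule.mk (L.presheaf.germ (V i) z hzi (τ i)) 1 : Mero.MStalk L z) =
      (f j : Γ(Mero.kmod X, V j)).1 ⟨z, hzj⟩ •
        (LocalizedModule.mk (L.presheaf.germ (V j) z hzj (τ j)) 1 : Mero.MStalk L z) := by
    intro i j z hzi hzj
    have hz : z ∈ V i ⊓ V j := Opens.mem_inf.mpr ⟨hzi, hzj⟩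
    obtain ⟨u, hu⟩ := ((hτ i) (V i ⊓ V j) inf_le_left).2
      (L.presheaf.map (homOfLE (inf_le_right : V i ⊓ V j ≤ V j)).op (τ j))
    have hu1 : u • L.presheaf.map (homOfLE (inf_le_left : V i ⊓ V j ≤ V i)).op (τ i) =
      L.presheaf.map (homOfLE (inf_le_right : V i ⊓ V j ≤ V j)).op (τ j) := hu
    have a1 : (f i : Γ(Mero.kmod X, V i)).1 ⟨z, hzi⟩ =
        algebraMap (X.presheaf.stalk z) (Mero.KStalk X z)
          (X.presheaf.germ (V i ⊓ V j) z hz u) * (f j : Γ(Mero.kmod X, V j)).1 ⟨z, hzj⟩ :=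
      hcomp i j (V i ⊓ V j) inf_le_left inf_le_right u hu1.symm ⟨z, hz⟩
    have a2 : L.presheaf.germ (V j) z hzj (τ j) =
        X.presheaf.germ (V i ⊓ V j) z hz u • L.presheaf.germ (V i) z hzi (τ i) := by
      rw [← TopCat.Presheaf.germ_res_apply L.presheaf
          (homOfLE (inf_le_right : V i ⊓ V j ≤ V j)) z hz (τ j), ← hu1, Mero.germ_smul,
        TopCat.Presheaf.germ_res_apply L.presheaf
          (homOfLE (inf_le_left : V i ⊓ V j ≤ V i)) z hz (τ i)]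
    rw [a1, a2, ← algebraMap_smul_mk, mul_comm, mul_smul]
  obtain ⟨sfun, hsfun⟩ : ∃ sfun : ∀ z : (⊤ : X.Opens), Mero.MStalk L z.1,
      ∀ z : (⊤ : X.Opens), sfun z =
        (f (c z.1) : Γ(Mero.kmod X, V (c z.1))).1 ⟨z.1, hc z.1⟩ •
          (LocalizedModule.mk (L.presheaf.germ (V (c z.1)) z.1 (hc z.1) (τ (c z.1))) 1 :
            Mero.MStalk L z.1) := ⟨_, fun _ => rfl⟩
  have hpred : (Mero.mLoc L).pred sfun := by
    intro z
    obtain ⟨W, hzW, i₀, a, b, w⟩ := (f (c z.1) : Γ(Mero.kmod X, V (c z.1))).2 ⟨z.1, hc z.1⟩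
    refine ⟨W, hzW, homOfLE le_top, a • L.presheaf.map i₀.op (τ (c z.1)), b, fun y => ?_⟩
    show sfun ⟨y.1, Opens.mem_top y.1⟩ = _
    rw [hsfun]
    show (f (c y.1) : Γ(Mero.kmod X, V (c y.1))).1 ⟨y.1, hc y.1⟩ •
        (LocalizedModule.mk (L.presheaf.germ (V (c y.1)) y.1 (hc y.1) (τ (c y.1))) 1 :
          Mero.MStalk L y.1) = _
    rw [F1 (c y.1) (c z.1) y.1 (hc y.1) (i₀.le y.2)]
    have w' : (f (c z.1) : Γ(Mero.kmod X, V (c z.1))).1 ⟨y.1, i₀.le y.2⟩ =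
        LocalizedModule.mk (X.presheaf.germ W y.1 y.2 a) (Mero.regGerm y b) := w y
    rw [w', kmk_smul_mk]
    refine Mero.mk_congr ?_ ?_
    · rw [Mero.germ_smul, TopCat.Presheaf.germ_res_apply L.presheaf i₀ y.1 y.2 (τ (c z.1))]
    · rw [Submonoid.coe_mul, OneMemClass.coe_one, mul_one]
  refine ⟨⟨sfun, hpred⟩, fun x q hq => ?_⟩
  have hq' : q • sfun ⟨x, Opens.mem_top x⟩ = 0 := hq
  rw [hsfun, ← mul_smul] at hq'
  have hφ : (f (c x) : Γ(Mero.kmod X, V (c x))).1 ⟨x, hc x⟩ *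
      (((f (c x))⁻¹ : (Γ(Mero.kmod X, V (c x)))ˣ) : Γ(Mero.kmod X, V (c x))).1 ⟨x, hc x⟩ = 1 :=
    mul_inv_apply (f (c x)) ⟨x, hc x⟩
  obtain ⟨α, β, hαβ⟩ := IsLocalization.exists_mk'_eq (Mero.regStalk X x)
    (q * (f (c x) : Γ(Mero.kmod X, V (c x))).1 ⟨x, hc x⟩)
  rw [← kmk_eq] at hαβ
  rw [← hαβ] at hq'
  have hq'' : (LocalizedModule.mk (α • L.presheaf.germ (V (c x)) x (hc x) (τ (c x))) (β * 1) :
      Mero.MStalk L x) = 0 := (kmk_smul_mk x α β _ 1).symm.trans hq'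
  obtain ⟨c', hc', h0⟩ := (mk_eq_zero_iff' x _ _).mp hq''
  have h1 : (c' * α) • L.presheaf.germ (V (c x)) x (hc x) (τ (c x)) = 0 := by
    rw [mul_smul]
    exact h0
  have h2 : c' * α = 0 := germ_smul_eq_zero (hτ (c x)) x (hc x) _ h1
  have h3 : α = 0 :=
    (mem_nonZeroDivisors_iff_right.mp (Mero.regStalk_le_nonZeroDivisors x hc')) α
      (by rw [mul_comm]; exact h2)
  have h4 : q * (f (c x) : Γ(Mero.kmod X, V (c x))).1 ⟨x, hc x⟩ = 0 := by
    rw [← hαβ, h3]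
    exact LocalizedModule.zero_mk β
  calc q = q * ((f (c x) : Γ(Mero.kmod X, V (c x))).1 ⟨x, hc x⟩ *
        (((f (c x))⁻¹ : (Γ(Mero.kmod X, V (c x)))ˣ) : Γ(Mero.kmod X, V (c x))).1 ⟨x, hc x⟩) := by
          rw [hφ, mul_one]
    _ = (q * (f (c x) : Γ(Mero.kmod X, V (c x))).1 ⟨x, hc x⟩) *
        (((f (c x))⁻¹ : (Γ(Mero.kmod X, V (c x)))ˣ) : Γ(Mero.kmod X, V (c x))).1 ⟨x, hc x⟩ :=
          (mul_assoc _ _ _).symm
    _ = 0 := by rw [h4, zero_mul]

/-- Finitely many irreducible components of quasi-compact opens give local finiteness of the set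
of generic points. -/
lemma locFin_of_compact_finite
    (hfin : ∀ U : X.Opens, IsCompact (U : Set X) →
      (irreducibleComponents ↥(U : Scheme.{u})).Finite) : LocFin X := by
  classical
  intro x
  obtain ⟨W, hW0, hxW, -⟩ := Opens.isBasis_iff_nbhd.mp X.isBasis_affineOpens
    (show x ∈ (⊤ : X.Opens) from trivial)
  have hW : IsAffineOpen W := hW0
  refine ⟨W, hxW, ?_⟩
  have hfW := hfin W hW.isCompact
  have key : ∀ (ξ ξ' : X) (hξ : ξ ∈ W) (hξ' : ξ' ∈ W), IsGenPt ξ →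
      (⟨ξ', hξ'⟩ : ↥(W : Scheme.{u})) ∈ irreducibleComponent (⟨ξ, hξ⟩ : ↥(W : Scheme.{u})) →
      ξ ⤳ ξ' := by
    intro ξ ξ' hξ hξ' hgen hmem
    have hirr : IsIrreducible (irreducibleComponent (⟨ξ, hξ⟩ : ↥(W : Scheme.{u}))) :=
      isIrreducible_irreducibleComponent
    have hT : IsIrreducible ((fun y : ↥(W : Scheme.{u}) => (y.1 : X)) ''
        irreducibleComponent (⟨ξ, hξ⟩ : ↥(W : Scheme.{u}))) :=
      hirr.image _ continuous_subtype_val.continuousOn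
    have h1 : closure ({ξ} : Set X) ⊆ closure ((fun y : ↥(W : Scheme.{u}) => (y.1 : X)) ''
        irreducibleComponent (⟨ξ, hξ⟩ : ↥(W : Scheme.{u}))) :=
      closure_mono (Set.singleton_subset_iff.mpr ⟨⟨ξ, hξ⟩, mem_irreducibleComponent, rfl⟩)
    have h2 := hgen.2 hT.closure h1
    rw [specializes_iff_mem_closure]
    exact h2 (subset_closure ⟨⟨ξ', hξ'⟩, hmem, rfl⟩)
  refine Set.Finite.of_injOn (f := fun ξ : X => if h : ξ ∈ W then
    irreducibleComponent (⟨ξ, h⟩ : ↥(W : Scheme.{u})) else ∅) ?_ ?_ hfW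
  · intro ξ hξ
    show (if h : ξ ∈ W then irreducibleComponent (⟨ξ, h⟩ : ↥(W : Scheme.{u})) else ∅) ∈ _
    rw [dif_pos hξ.1]
    exact irreducibleComponent_mem_irreducibleComponents _
  · intro ξ₁ h₁ ξ₂ h₂ heq
    have heq' : irreducibleComponent (⟨ξ₁, h₁.1⟩ : ↥(W : Scheme.{u})) =
        irreducibleComponent (⟨ξ₂, h₂.1⟩ : ↥(W : Scheme.{u})) := by
      have h := heq
      simp only [dif_pos h₁.1, dif_pos h₂.1] at h
      exact h
    have s1 : ξ₁ ⤳ ξ₂ := key ξ₁ ξ₂ h₁.1 h₂.1 h₁.2 (by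
      rw [heq']
      exact mem_irreducibleComponent)
    have s2 : ξ₂ ⤳ ξ₁ := key ξ₂ ξ₁ h₂.1 h₁.1 h₂.2 (by
      rw [← heq']
      exact mem_irreducibleComponent)
    exact (s1.antisymm s2).eq

end Groth.Agent.H95.MeroData
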