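import Groth.Agent.H95.MeroDepth
import Mathlib.RingTheory.Ideal.AssociatedPrime.Finiteness
import Mathlib.Topology.Sober

/-!
# Meromorphic functions and schematically dense opens

* `eq_zero_of_germ_eq_zero_on_basicOpen`: a section vanishing on `D(c)` with `c` regular is zero.
* `germ_mul_eq_of_basicOpen`: two fractions agreeing on `D(c₁) ∩ D(c₂)` agree on `W₁ ∩ W₂`.
* ring lemmas: an ideal with zero annihilator contains a nonzerodivisor (Noetherian rings; reduced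
  rings with finitely many minimal primes).
* `finite_minimalPrimes_of_finite_components`.
* `exists_local_frac`, `exists_kmod_section`: a function on a schematically dense open `V ⊆ U`
  extends to a meromorphic function on `U` (EGA IV 20.2.11).
* `isOpen_domain`, `domain_dense`: the domain of definition of a meromorphic function is open and
  schematically dense.
-/

set_option autoImplicit false
set_option linter.style.haveILetI false

universe u

open CategoryTheory AlgebraicGeometry TopologicalSpace Opposite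

namespace Groth.Agent.H95.MeroDense

open Groth.Agent.H8 Groth.Agent.H95.MeroDepth

section Alg

lemma exists_mem_nonZeroDivisors_of_noetherian {A : Type u} [CommRing A] [IsNoetherianRing A]
    (I : Ideal A) (hI : ∀ c : A, (∀ a ∈ I, a * c = 0) → c = 0) :
    ∃ b ∈ I, b ∈ nonZeroDivisors A := by
  by_contra hcon
  push Not at hcon
  have hdis : Disjoint (I : Set A) (nonZeroDivisors A : Set A) :=
    Set.disjoint_left.mpr (fun b hb hb' => hcon b hb hb')
  have hlt := Ideal.bot_lt_annihilator_of_disjoint_nonZeroDivisors hdis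
  obtain ⟨c, hc, hc0⟩ := SetLike.exists_of_lt hlt
  apply hc0
  rw [Ideal.mem_bot]
  apply hI
  intro a ha
  have h1 := Module.mem_annihilator.mp hc ⟨a, ha⟩
  have h2 : c * a = 0 := congrArg Subtype.val h1
  rw [mul_comm]
  exact h2

lemma eq_zero_of_mem_sInf_minimalPrimes {A : Type u} [CommRing A] [IsReduced A] (x : A)
    (hx : ∀ p ∈ minimalPrimes A, x ∈ p) : x = 0 := by
  have h1 : x ∈ sInf (⊥ : Ideal A).minimalPrimes := by
    rw [Ideal.mem_sInf]
    intro p hp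
    exact hx p hp
  have h2 : x ∈ (⊥ : Ideal A).radical := by
    rw [← Ideal.sInf_minimalPrimes]
    exact h1
  obtain ⟨n, hn⟩ := h2
  have h3 : x ^ n = 0 := (Ideal.mem_bot).mp hn
  exact (IsNilpotent.eq_zero ⟨n, h3⟩)

lemma exists_mem_nonZeroDivisors_of_reduced {A : Type u} [CommRing A] [IsReduced A]
    (hfin : (minimalPrimes A).Finite) (I : Ideal A)
    (hI : ∀ c : A, (∀ a ∈ I, a * c = 0) → c = 0) : ∃ b ∈ I, b ∈ nonZeroDivisors A := by
  classical
  by_contra hcon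
  push Not at hcon
  have hsub : (I : Set A) ⊆ ⋃ p ∈ minimalPrimes A, ((id p : Ideal A) : Set A) := by
    intro b hb
    have hbz := hcon b hb
    rw [mem_nonZeroDivisors_iff_right] at hbz
    push Not at hbz
    obtain ⟨x, hxb, hx0⟩ := hbz
    have hex : ∃ p ∈ minimalPrimes A, x ∉ p := by
      by_contra hall
      push Not at hall
      exact hx0 (eq_zero_of_mem_sInf_minimalPrimes x hall)
    obtain ⟨p, hp, hxp⟩ := hex
    have hbp : b ∈ p := by
      have h1 : x * b ∈ p := by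
        rw [hxb]
        exact p.zero_mem
      exact (hp.1.1.mem_or_mem h1).resolve_left hxp
    exact Set.mem_biUnion hp hbp
  obtain ⟨p, hp, hIp⟩ := (Ideal.subset_union_prime_finite hfin (f := id) ⊥ ⊥
    (fun q hq _ _ => hq.1.1)).mp hsub
  have hIp' : I ≤ p := hIp
  have hothers : ¬ ((hfin.toFinset.erase p).inf id ≤ p) := by
    intro hle
    obtain ⟨p', hp', hp'le⟩ := (hp.1.1.inf_le').mp hle
    rw [Finset.mem_erase, Set.Finite.mem_toFinset] at hp'
    have hp'le' : p' ≤ p := hp'le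
    exact hp'.1 (le_antisymm hp'le' (hp.2 ⟨hp'.2.1.1, bot_le⟩ hp'le'))
  obtain ⟨c, hc, hcp⟩ := SetLike.not_le_iff_exists.mp hothers
  have hc' : ∀ p' ∈ minimalPrimes A, p' ≠ p → c ∈ p' := by
    intro p' hp' hne
    have h1 : (hfin.toFinset.erase p).inf id ≤ id p' :=
      Finset.inf_le (by
        rw [Finset.mem_erase, Set.Finite.mem_toFinset]
        exact ⟨hne, hp'⟩)
    exact h1 hc
  have hc0 : c = 0 := by
    apply hI
    intro a ha
    apply eq_zero_of_mem_sInf_minimalPrimes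
    intro p' hp'
    by_cases hpp : p' = p
    · rw [hpp]
      exact p.mul_mem_right c (hIp' ha)
    · exact p'.mul_mem_left a (hc' p' hp' hpp)
  exact hcp (hc0 ▸ p.zero_mem)

end Alg

variable {X : Scheme.{u}}

lemma kmk_eq_kmk {x : X} (m m' : X.presheaf.stalk x) (s s' : Mero.regStalk X x)
    (h : m * (s' : X.presheaf.stalk x) = m' * (s : X.presheaf.stalk x)) :
    (LocalizedModule.mk m s : Mero.KStalk X x) = LocalizedModule.mk m' s' := by
  rw [LocalizedModule.mk_eq]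
  refine ⟨1, ?_⟩
  rw [one_smul, one_smul, Submonoid.smul_def, Submonoid.smul_def, smul_eq_mul, smul_eq_mul]
  linear_combination h

lemma eq_zero_of_germ_eq_zero_on_basicOpen {W : X.Opens} (c : Γ(X, W))
    (hc : c ∈ Mero.regSub X W) (h : Γ(X, W))
    (hh : ∀ (y : X) (hy : y ∈ W), y ∈ X.basicOpen c → X.presheaf.germ W y hy h = 0) : h = 0 := by
  refine TopCat.Presheaf.section_ext X.sheaf W h 0 (fun z hz => ?_)
  show X.presheaf.germ W z hz h = X.presheaf.germ W z hz 0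
  rw [map_zero]
  obtain ⟨W', hW'0, hzW', hW'W⟩ := Opens.isBasis_iff_nbhd.mp X.isBasis_affineOpens hz
  have hW' : IsAffineOpen W' := hW'0
  obtain ⟨c', hc'⟩ : ∃ c' : Γ(X, W'), c' = X.presheaf.map (homOfLE hW'W).op c := ⟨_, rfl⟩
  obtain ⟨h', hh'⟩ : ∃ h' : Γ(X, W'), h' = X.presheaf.map (homOfLE hW'W).op h := ⟨_, rfl⟩
  have H : X.presheaf.map (homOfLE (X.basicOpen_le c')).op h' = 0 := by
    refine TopCat.Presheaf.section_ext X.sheaf (X.basicOpen c') _ 0 (fun y hy => ?_)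
    have hyW' : y ∈ W' := X.basicOpen_le c' hy
    have hyW : y ∈ W := hW'W hyW'
    show X.presheaf.germ (X.basicOpen c') y hy
      (X.presheaf.map (homOfLE (X.basicOpen_le c')).op h') =
        X.presheaf.germ (X.basicOpen c') y hy 0
    rw [TopCat.Presheaf.germ_res_apply, map_zero, hh', TopCat.Presheaf.germ_res_apply]
    apply hh y hyW
    rw [Scheme.mem_basicOpen X c y hyW]
    have h1 := (Scheme.mem_basicOpen X c' y hyW').mp hy
    rwa [hc', TopCat.Presheaf.germ_res_apply] at h1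
  haveI := hW'.isLocalization_basicOpen c'
  have H' : algebraMap Γ(X, W') Γ(X, X.basicOpen c') h' =
      algebraMap Γ(X, W') Γ(X, X.basicOpen c') 0 := by
    rw [map_zero]
    exact H
  obtain ⟨⟨_, n, rfl⟩, e⟩ :=
    (IsLocalization.eq_iff_exists (Submonoid.powers c') Γ(X, X.basicOpen c')).mp H'
  have e' : c' ^ n * h' = 0 := by simpa using e
  have e2 : X.presheaf.germ W' z hzW' (c' ^ n * h') = X.presheaf.germ W' z hzW' 0 :=
    congrArg _ e'
  rw [map_mul, map_pow, map_zero, hc', hh', TopCat.Presheaf.germ_res_apply,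
    TopCat.Presheaf.germ_res_apply] at e2
  have hnz : X.presheaf.germ W z hz c ^ n ∈ nonZeroDivisors (X.presheaf.stalk z) :=
    pow_mem (hc ⟨z, hz⟩) n
  exact (mul_left_mem_nonZeroDivisors_eq_zero_iff hnz).mp e2

lemma germ_mul_eq_of_basicOpen {W₁ W₂ : X.Opens} (a₁ b₁ c₁ : Γ(X, W₁))
    (hc₁ : c₁ ∈ Mero.regSub X W₁) (a₂ b₂ c₂ : Γ(X, W₂)) (hc₂ : c₂ ∈ Mero.regSub X W₂)
    (H : ∀ (z : X) (hz₁ : z ∈ W₁) (hz₂ : z ∈ W₂), z ∈ X.basicOpen c₁ → z ∈ X.basicOpen c₂ →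
      X.presheaf.germ W₁ z hz₁ a₁ * X.presheaf.germ W₂ z hz₂ b₂ =
        X.presheaf.germ W₂ z hz₂ a₂ * X.presheaf.germ W₁ z hz₁ b₁)
    (y : X) (hy₁ : y ∈ W₁) (hy₂ : y ∈ W₂) :
    X.presheaf.germ W₁ y hy₁ a₁ * X.presheaf.germ W₂ y hy₂ b₂ =
      X.presheaf.germ W₂ y hy₂ a₂ * X.presheaf.germ W₁ y hy₁ b₁ := by
  obtain ⟨h, hh⟩ : ∃ h : Γ(X, W₁ ⊓ W₂), h =
      X.presheaf.map (homOfLE (inf_le_left : W₁ ⊓ W₂ ≤ W₁)).op a₁ *
        X.presheaf.map (homOfLE (inf_le_right : W₁ ⊓ W₂ ≤ W₂)).op b₂ -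
      X.presheaf.map (homOfLE (inf_le_right : W₁ ⊓ W₂ ≤ W₂)).op a₂ *
        X.presheaf.map (homOfLE (inf_le_left : W₁ ⊓ W₂ ≤ W₁)).op b₁ := ⟨_, rfl⟩
  have hgerm : ∀ (z : X) (hz : z ∈ W₁ ⊓ W₂), X.presheaf.germ (W₁ ⊓ W₂) z hz h =
      X.presheaf.germ W₁ z hz.1 a₁ * X.presheaf.germ W₂ z hz.2 b₂ -
        X.presheaf.germ W₂ z hz.2 a₂ * X.presheaf.germ W₁ z hz.1 b₁ := by
    intro z hz
    rw [hh, map_sub, map_mul, map_mul]
    simp only [TopCat.Presheaf.germ_res_apply]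
  obtain ⟨C, hC⟩ : ∃ C : Γ(X, W₁ ⊓ W₂), C =
      X.presheaf.map (homOfLE (inf_le_left : W₁ ⊓ W₂ ≤ W₁)).op c₁ *
        X.presheaf.map (homOfLE (inf_le_right : W₁ ⊓ W₂ ≤ W₂)).op c₂ := ⟨_, rfl⟩
  have hCreg : C ∈ Mero.regSub X (W₁ ⊓ W₂) := by
    rw [hC]
    exact Submonoid.mul_mem _ (Mero.regSub_res _ hc₁) (Mero.regSub_res _ hc₂)
  have h0 : h = 0 := by
    apply eq_zero_of_germ_eq_zero_on_basicOpen C hCreg h
    intro z hz hzC
    rw [hgerm z hz, sub_eq_zero]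
    have hu : IsUnit (X.presheaf.germ (W₁ ⊓ W₂) z hz C) :=
      (Scheme.mem_basicOpen X C z hz).mp hzC
    rw [hC, map_mul, TopCat.Presheaf.germ_res_apply, TopCat.Presheaf.germ_res_apply] at hu
    apply H z hz.1 hz.2
    · exact (Scheme.mem_basicOpen X c₁ z hz.1).mpr (isUnit_of_mul_isUnit_left hu)
    · exact (Scheme.mem_basicOpen X c₂ z hz.2).mpr (isUnit_of_mul_isUnit_right hu)
  have h1 := hgerm y ⟨hy₁, hy₂⟩
  rw [h0, map_zero] at h1
  exact sub_eq_zero.mp h1.symm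

/-- The ideal of functions on `W` whose non-vanishing locus lies in `V`. -/
def idealOfLE (W V : X.Opens) : Ideal Γ(X, W) where
  carrier := {a | X.basicOpen a ≤ V}
  zero_mem' := by
    show X.basicOpen (0 : Γ(X, W)) ≤ V
    rw [Scheme.basicOpen_zero]
    exact bot_le
  add_mem' := fun {a b} ha hb => le_trans (X.basicOpen_add_le a b) (sup_le ha hb)
  smul_mem' := fun r a ha => by
    show X.basicOpen (r * a) ≤ V
    rw [Scheme.basicOpen_mul]
    exact le_trans inf_le_right ha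

lemma mem_idealOfLE {W V : X.Opens} (a : Γ(X, W)) : a ∈ idealOfLE W V ↔ X.basicOpen a ≤ V :=
  Iff.rfl

lemma finite_minimalPrimes_of_finite_components {W W₀ : X.Opens} (hW : IsAffineOpen W)
    (hWW₀ : W ≤ W₀)
    (hfin : {Z : Set X | Z ∈ irreducibleComponents X ∧ (Z ∩ (W₀ : Set X)).Nonempty}.Finite) :
    (minimalPrimes Γ(X, W)).Finite := by
  classical
  have hmemW : ∀ 𝔭 : PrimeSpectrum Γ(X, W), hW.fromSpec 𝔭 ∈ W := by
    intro 𝔭
    have h1 : hW.fromSpec 𝔭 ∈ Set.range hW.fromSpec := ⟨𝔭, rfl⟩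
    rw [hW.range_fromSpec] at h1
    exact h1
  have hS : {𝔭 : PrimeSpectrum Γ(X, W) | 𝔭.asIdeal ∈ minimalPrimes Γ(X, W)}.Finite := by
    refine Set.Finite.of_injOn
      (f := fun 𝔭 : PrimeSpectrum Γ(X, W) => closure ({hW.fromSpec 𝔭} : Set X)) ?_ ?_ hfin
    · intro 𝔭 h𝔭
      have hηW := hmemW 𝔭
      refine ⟨⟨isIrreducible_singleton.closure, ?_⟩,
        ⟨hW.fromSpec 𝔭, subset_closure rfl, hWW₀ hηW⟩⟩
      intro Z hZ hle
      obtain ⟨ζ, hζ⟩ := QuasiSober.sober hZ.closure isClosed_closure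
      have hηZ : hW.fromSpec 𝔭 ∈ closure Z := subset_closure (hle (subset_closure rfl))
      have hspec : ζ ⤳ hW.fromSpec 𝔭 := by
        rw [specializes_iff_mem_closure, hζ.def]
        exact hηZ
      have hζW : ζ ∈ W := hspec.mem_open W.2 hηW
      have hle2 : (hW.primeIdealOf ⟨ζ, hζW⟩).asIdeal ≤ 𝔭.asIdeal := by
        intro t ht
        by_contra htp
        have h𝔭eq : hW.primeIdealOf ⟨hW.fromSpec 𝔭, hηW⟩ = 𝔭 :=
          hW.fromSpec.isOpenEmbedding.injective (hW.fromSpec_primeIdealOf ⟨_, hηW⟩)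
        have h1 : hW.fromSpec 𝔭 ∈ X.basicOpen t := by
          rw [mem_basicOpen_iff_notMem_primeIdealOf hW _ hηW t, h𝔭eq]
          exact htp
        have h2 : ζ ∈ X.basicOpen t := hspec.mem_open (X.basicOpen t).2 h1
        exact (mem_basicOpen_iff_notMem_primeIdealOf hW ζ hζW t).mp h2 ht
      have heq : (hW.primeIdealOf ⟨ζ, hζW⟩).asIdeal = 𝔭.asIdeal :=
        le_antisymm hle2 (h𝔭.2 ⟨(hW.primeIdealOf ⟨ζ, hζW⟩).2, bot_le⟩ hle2)
      have hζη : ζ = hW.fromSpec 𝔭 := by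
        have h1 : hW.fromSpec (hW.primeIdealOf ⟨ζ, hζW⟩) = ζ :=
          hW.fromSpec_primeIdealOf ⟨ζ, hζW⟩
        have h2 : hW.primeIdealOf ⟨ζ, hζW⟩ = 𝔭 := PrimeSpectrum.ext heq
        rw [← h1, h2]
      calc Z ⊆ closure Z := subset_closure
        _ = closure {ζ} := hζ.def.symm
        _ = closure {hW.fromSpec 𝔭} := by rw [hζη]
    · intro 𝔭 _ 𝔮 _ heq
      have heq' : closure ({hW.fromSpec 𝔭} : Set X) = closure ({hW.fromSpec 𝔮} : Set X) := heq
      have h1 : hW.fromSpec 𝔮 ⤳ hW.fromSpec 𝔭 := by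
        rw [specializes_iff_mem_closure, ← heq']
        exact subset_closure rfl
      have h2 : hW.fromSpec 𝔭 ⤳ hW.fromSpec 𝔮 := by
        rw [specializes_iff_mem_closure, heq']
        exact subset_closure rfl
      exact hW.fromSpec.isOpenEmbedding.injective (h2.antisymm h1).eq
  refine (hS.image PrimeSpectrum.asIdeal).subset ?_
  intro p hp
  exact ⟨⟨p, hp.1.1⟩, hp, rfl⟩

/-- Local extension of a function on a schematically dense open as a fraction. -/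
lemma exists_local_frac
    (hX : IsLocallyNoetherian X ∨ (IsReduced X ∧ ∀ x : X, ∃ W : X.Opens, x ∈ W ∧
      {Z : Set X | Z ∈ irreducibleComponents X ∧ (Z ∩ (W : Set X)).Nonempty}.Finite))
    (U V : X.Opens)
    (hV : ∀ W : X.Opens, W ≤ U →
      Function.Injective ⇑(X.presheaf.map (homOfLE (inf_le_left : W ⊓ V ≤ W)).op))
    (g : Γ(X, V)) (x : X) (hx : x ∈ U) :
    ∃ (W : X.Opens) (a b c : Γ(X, W)), x ∈ W ∧ W ≤ U ∧ b ∈ Mero.regSub X W ∧
      c ∈ Mero.regSub X W ∧ ∃ hcV : X.basicOpen c ≤ V,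
        ∀ (y : X) (hyW : y ∈ W) (hyc : y ∈ X.basicOpen c),
          X.presheaf.germ W y hyW a =
            X.presheaf.germ V y (hcV hyc) g * X.presheaf.germ W y hyW b := by
  obtain ⟨W₀, hxW₀, hW₀⟩ : ∃ W₀ : X.Opens, x ∈ W₀ ∧ (IsLocallyNoetherian X ∨ (IsReduced X ∧
      {Z : Set X | Z ∈ irreducibleComponents X ∧ (Z ∩ (W₀ : Set X)).Nonempty}.Finite)) := by
    rcases hX with hN | ⟨hR, hfin⟩
    · exact ⟨⊤, trivial, Or.inl hN⟩
    · obtain ⟨W₀, hxW₀, hW₀⟩ := hfin x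
      exact ⟨W₀, hxW₀, Or.inr ⟨hR, hW₀⟩⟩
  obtain ⟨W, hW0, hxW, hWle⟩ := Opens.isBasis_iff_nbhd.mp X.isBasis_affineOpens
    (show x ∈ U ⊓ W₀ from ⟨hx, hxW₀⟩)
  have hW : IsAffineOpen W := hW0
  have hWU : W ≤ U := le_trans hWle inf_le_left
  have hWW₀ : W ≤ W₀ := le_trans hWle inf_le_right
  have hdense : ∀ c : Γ(X, W), (∀ a ∈ idealOfLE W V, a * c = 0) → c = 0 := by
    intro c hc
    apply hV W hWU
    rw [map_zero]
    refine TopCat.Presheaf.section_ext X.sheaf (W ⊓ V) _ 0 (fun y hy => ?_)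
    show X.presheaf.germ (W ⊓ V) y hy
      (X.presheaf.map (homOfLE (inf_le_left : W ⊓ V ≤ W)).op c) =
        X.presheaf.germ (W ⊓ V) y hy 0
    rw [TopCat.Presheaf.germ_res_apply, map_zero]
    obtain ⟨a, haV, hya⟩ := hW.exists_basicOpen_le (V := V) ⟨y, hy.2⟩ hy.1
    have h1 : X.presheaf.germ W y hy.1 a * X.presheaf.germ W y hy.1 c = 0 := by
      rw [← map_mul, hc a haV, map_zero]
    have hu : IsUnit (X.presheaf.germ W y hy.1 a) := (Scheme.mem_basicOpen X a y hy.1).mp hya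
    exact hu.mul_right_eq_zero.mp h1
  obtain ⟨b₀, hb₀I, hb₀nz⟩ : ∃ b₀ ∈ idealOfLE W V, b₀ ∈ nonZeroDivisors Γ(X, W) := by
    rcases hW₀ with hN | ⟨hR, hfin⟩
    · haveI := hN
      haveI : IsNoetherianRing Γ(X, W) := IsLocallyNoetherian.component_noetherian ⟨W, hW⟩
      exact exists_mem_nonZeroDivisors_of_noetherian _ hdense
    · haveI := hR
      haveI : _root_.IsReduced Γ(X, W) := inferInstance
      exact exists_mem_nonZeroDivisors_of_reduced
        (finite_minimalPrimes_of_finite_components hW hWW₀ hfin) _ hdense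
  have hb₀reg : b₀ ∈ Mero.regSub X W := by
    rw [Groth.Agent.S12513.result X W hW]
    exact hb₀nz
  have hb₀V : X.basicOpen b₀ ≤ V := hb₀I
  haveI := hW.isLocalization_basicOpen b₀
  obtain ⟨⟨a, ⟨_, n, rfl⟩⟩, ha⟩ := IsLocalization.surj (Submonoid.powers b₀)
    (X.presheaf.map (homOfLE hb₀V).op g)
  refine ⟨W, a * b₀, b₀ ^ (n + 1), b₀, hxW, hWU, pow_mem hb₀reg _, hb₀reg, hb₀V, ?_⟩
  intro y hyW hyc
  have ha' : X.presheaf.map (homOfLE hb₀V).op g *
      X.presheaf.map (homOfLE (X.basicOpen_le b₀)).op (b₀ ^ n) =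
        X.presheaf.map (homOfLE (X.basicOpen_le b₀)).op a := ha
  have h1 := congrArg (fun t => X.presheaf.germ (X.basicOpen b₀) y hyc t) ha'
  simp only [map_mul, TopCat.Presheaf.germ_res_apply] at h1
  have h2 : X.presheaf.germ V y (hb₀V hyc) g * X.presheaf.germ W y hyW (b₀ ^ n) =
      X.presheaf.germ W y hyW a := h1
  rw [map_mul, ← h2, map_pow, map_pow, pow_succ]
  ring

/-- A function on a schematically dense open `V ⊆ U` is the restriction of a meromorphic function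
on `U`. -/
theorem exists_kmod_section
    (hX : IsLocallyNoetherian X ∨ (IsReduced X ∧ ∀ x : X, ∃ W : X.Opens, x ∈ W ∧
      {Z : Set X | Z ∈ irreducibleComponents X ∧ (Z ∩ (W : Set X)).Nonempty}.Finite))
    (U V : X.Opens) (hVU : V ≤ U)
    (hV : ∀ W : X.Opens, W ≤ U →
      Function.Injective ⇑(X.presheaf.map (homOfLE (inf_le_left : W ⊓ V ≤ W)).op))
    (g : Γ(X, V)) :
    ∃ s : Γ(Mero.kmod X, U), (Mero.kmod X).presheaf.map (homOfLE hVU).op s = Mero.toK X V g := by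
  choose W a b c hxW hWU hb hc hcV hP using exists_local_frac hX U V hV g
  have hK : ∀ (x x' : X) (hx : x ∈ U) (hx' : x' ∈ U) (y : X) (hy : y ∈ W x hx)
      (hy' : y ∈ W x' hx'),
      X.presheaf.germ (W x hx) y hy (a x hx) * X.presheaf.germ (W x' hx') y hy' (b x' hx') =
        X.presheaf.germ (W x' hx') y hy' (a x' hx') *
          X.presheaf.germ (W x hx) y hy (b x hx) := by
    intro x x' hx hx' y hy hy'
    refine germ_mul_eq_of_basicOpen (a x hx) (b x hx) (c x hx) (hc x hx) (a x' hx') (b x' hx')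
      (c x' hx') (hc x' hx') ?_ y hy hy'
    intro z hz hz' hzc hzc'
    rw [hP x hx z hz hzc, hP x' hx' z hz' hzc']
    ring
  obtain ⟨sfun, hsfun⟩ : ∃ sfun : ∀ x : U, Mero.KStalk X x.1, ∀ x : U, sfun x =
      LocalizedModule.mk (X.presheaf.germ (W x.1 x.2) x.1 (hxW x.1 x.2) (a x.1 x.2))
        (Mero.regGerm (⟨x.1, hxW x.1 x.2⟩ : W x.1 x.2) ⟨b x.1 x.2, hb x.1 x.2⟩) :=
    ⟨_, fun _ => rfl⟩
  have hpred : (Mero.kLoc X).pred sfun := by
    intro x
    refine ⟨W x.1 x.2, hxW x.1 x.2, homOfLE (hWU x.1 x.2), a x.1 x.2,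
      ⟨b x.1 x.2, hb x.1 x.2⟩, fun y => ?_⟩
    show sfun ⟨y.1, hWU x.1 x.2 y.2⟩ = _
    rw [hsfun]
    apply kmk_eq_kmk
    exact hK y.1 x.1 (hWU x.1 x.2 y.2) x.2 y.1 (hxW _ _) y.2
  refine ⟨⟨sfun, hpred⟩, ?_⟩
  apply Subtype.ext
  funext y
  show sfun ⟨y.1, hVU y.2⟩ = LocalizedModule.mk (X.presheaf.germ V y.1 y.2 g) 1
  rw [hsfun]
  apply kmk_eq_kmk
  have h1 := germ_mul_eq_of_basicOpen (a y.1 (hVU y.2)) (b y.1 (hVU y.2)) (c y.1 (hVU y.2))
    (hc y.1 (hVU y.2)) g (1 : Γ(X, V)) (1 : Γ(X, V)) (Submonoid.one_mem _) (by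
      intro z hz hz' hzc _
      rw [map_one, mul_one, hP y.1 (hVU y.2) z hz hzc]) y.1 (hxW y.1 (hVU y.2)) y.2
  rw [map_one] at h1
  exact h1

section Domain

lemma mem_range_of_isUnit_germ {y : X} (α : X.presheaf.stalk y) (β : Mero.regStalk X y)
    (hu : IsUnit (β : X.presheaf.stalk y)) :
    (LocalizedModule.mk α β : Mero.KStalk X y) ∈
      (algebraMap (X.presheaf.stalk y) (Mero.KStalk X y)).range := by
  obtain ⟨u, hu'⟩ := hu
  refine ⟨α * ↑u⁻¹, ?_⟩
  have h1 := kmk_mul y α β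
  rw [map_mul, ← h1, ← hu', mul_assoc, ← map_mul, Units.mul_inv, map_one, mul_one]

lemma isOpen_domain (f : Γ(Mero.kmod X, ⊤)) :
    IsOpen {x : X | f.1 ⟨x, Opens.mem_top x⟩ ∈
      (algebraMap (X.presheaf.stalk x) (Mero.KStalk X x)).range} := by
  rw [isOpen_iff_forall_mem_open]
  rintro x ⟨r₀, hr₀⟩
  obtain ⟨W, hxW, i, a, b, w⟩ := f.2 ⟨x, Opens.mem_top x⟩
  obtain ⟨W₁, hxW₁, r, rfl⟩ := X.presheaf.exists_germ_eq r₀
  have hfx : f.1 ⟨x, Opens.mem_top x⟩ = LocalizedModule.mk (X.presheaf.germ W x hxW a)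
      (Mero.regGerm ⟨x, hxW⟩ b) := w ⟨x, hxW⟩
  have heq : X.presheaf.germ W₁ x hxW₁ r * X.presheaf.germ W x hxW b.1 =
      X.presheaf.germ W x hxW a := by
    apply Mero.algebraMap_KStalk_injective x
    rw [map_mul, hr₀, hfx]
    exact kmk_mul x _ _
  have hxP : x ∈ W₁ ⊓ W := ⟨hxW₁, hxW⟩
  have heq' : X.presheaf.germ (W₁ ⊓ W) x hxP
      (X.presheaf.map (homOfLE (inf_le_left : W₁ ⊓ W ≤ W₁)).op r *
        X.presheaf.map (homOfLE (inf_le_right : W₁ ⊓ W ≤ W)).op b.1) =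
      X.presheaf.germ (W₁ ⊓ W) x hxP
        (X.presheaf.map (homOfLE (inf_le_right : W₁ ⊓ W ≤ W)).op a) := by
    rw [map_mul, TopCat.Presheaf.germ_res_apply, TopCat.Presheaf.germ_res_apply,
      TopCat.Presheaf.germ_res_apply]
    exact heq
  obtain ⟨W₃, hxW₃, i₁, i₂, hres⟩ := X.presheaf.germ_eq x hxP hxP _ _ heq'
  refine ⟨(W₃ : Set X), ?_, W₃.2, hxW₃⟩
  intro y hyW₃
  have hyP : y ∈ W₁ ⊓ W := i₁.le hyW₃
  have hy_eq : X.presheaf.germ W₁ y hyP.1 r * X.presheaf.germ W y hyP.2 b.1 =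
      X.presheaf.germ W y hyP.2 a := by
    have h3 := congrArg (fun t => X.presheaf.germ W₃ y hyW₃ t) hres
    simp only [TopCat.Presheaf.germ_res_apply, map_mul] at h3
    exact h3
  have hfy : f.1 ⟨y, Opens.mem_top y⟩ = LocalizedModule.mk (X.presheaf.germ W y hyP.2 a)
      (Mero.regGerm ⟨y, hyP.2⟩ b) := w ⟨y, hyP.2⟩
  show f.1 ⟨y, Opens.mem_top y⟩ ∈
    (algebraMap (X.presheaf.stalk y) (Mero.KStalk X y)).range
  refine ⟨X.presheaf.germ W₁ y hyP.1 r, ?_⟩
  have hunit : IsUnit (algebraMap (X.presheaf.stalk y) (Mero.KStalk X y)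
      (X.presheaf.germ W y hyP.2 b.1)) :=
    IsLocalization.map_units (Mero.KStalk X y) (Mero.regGerm ⟨y, hyP.2⟩ b)
  apply (IsUnit.mul_left_inj hunit).mp
  rw [← map_mul, hy_eq, hfy]
  exact (kmk_mul y _ _).symm

lemma domain_dense (f : Γ(Mero.kmod X, ⊤)) (D : X.Opens)
    (hD : ∀ x : X, x ∈ D ↔ f.1 ⟨x, Opens.mem_top x⟩ ∈
      (algebraMap (X.presheaf.stalk x) (Mero.KStalk X x)).range)
    (V : X.Opens) (h : Γ(X, V))
    (hh : X.presheaf.map (homOfLE (inf_le_left : V ⊓ D ≤ V)).op h = 0) : h = 0 := by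
  refine TopCat.Presheaf.section_ext X.sheaf V h 0 (fun x hxV => ?_)
  show X.presheaf.germ V x hxV h = X.presheaf.germ V x hxV 0
  rw [map_zero]
  obtain ⟨W, hxW, i, a, b, w⟩ := f.2 ⟨x, Opens.mem_top x⟩
  have hres0 : X.presheaf.map (homOfLE (inf_le_right : W ⊓ V ≤ V)).op h = 0 := by
    apply eq_zero_of_germ_eq_zero_on_basicOpen
      (X.presheaf.map (homOfLE (inf_le_left : W ⊓ V ≤ W)).op b.1) (Mero.regSub_res _ b.2)
    intro y hy hyb
    rw [TopCat.Presheaf.germ_res_apply]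
    have hub : IsUnit (X.presheaf.germ W y hy.1 b.1) := by
      have h1 := (Scheme.mem_basicOpen X _ y hy).mp hyb
      rwa [TopCat.Presheaf.germ_res_apply] at h1
    have hyD : y ∈ D := by
      rw [hD]
      have hfy : f.1 ⟨y, Opens.mem_top y⟩ = LocalizedModule.mk (X.presheaf.germ W y hy.1 a)
          (Mero.regGerm ⟨y, hy.1⟩ b) := w ⟨y, hy.1⟩
      rw [hfy]
      exact mem_range_of_isUnit_germ _ _ hub
    have h1 := congrArg (fun t => X.presheaf.germ (V ⊓ D) y ⟨hy.2, hyD⟩ t) hh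
    simp only [TopCat.Presheaf.germ_res_apply, map_zero] at h1
    exact h1
  have h2 := congrArg (fun t => X.presheaf.germ (W ⊓ V) x ⟨hxW, hxV⟩ t) hres0
  simp only [TopCat.Presheaf.germ_res_apply, map_zero] at h2
  exact h2

end Domain

end Groth.Agent.H95.MeroDense
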