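import Groth.Prelude.Def_MeroDiv
import Groth.Agent.H15.DepthOne
import Groth.Agent.H8.AssPoints
import Groth.Agent.S12513
import Mathlib.AlgebraicGeometry.Noetherian

/-!
# Divisors (in the sense of `Mero`) and points of depth one

* `exists_prime_depth_one`: Noetherian ring `B`, `b` regular, `a ∈ B`: below every prime containing
  `(bB : a)` there is a prime `p ⊇ (bB : a)` with `depth B_p = 1`.
* `regStalk_of_mul`: the stalk monoids `S_x` are saturated.
* `exists_depth_one_not_isEffectiveAt`: a divisor that is not effective at `x` is not effective at a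
  generization of `x` of depth one.
* `isEffective_of_depth_one`, `eq_one_of_depth_one`.
-/

set_option autoImplicit false
set_option linter.style.haveILetI false

universe u

open CategoryTheory AlgebraicGeometry TopologicalSpace Opposite IsLocalRing
open scoped Pointwise

namespace Groth.Agent.H95.MeroDepth

open Groth.Agent.H15.DepthOne Groth.Agent.H8

section Alg

variable (B : Type u) [CommRing B] [IsNoetherianRing B]

theorem exists_prime_depth_one (a b : B) (hb : b ∈ nonZeroDivisors B) (q : Ideal B) [q.IsPrime]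
    (hq : ∀ s : B, s * a ∈ Ideal.span {b} → s ∈ q) :
    ∃ p : Ideal B, ∃ _ : p.IsPrime, p ≤ q ∧ (∀ s : B, s * a ∈ Ideal.span {b} → s ∈ p) ∧
      ∀ (A : Type u) [CommRing A] [Algebra B A] [IsLocalization.AtPrime A p] [IsLocalRing A],
        LocCoh.depth A A = 1 := by
  let I : Ideal B := Submodule.colon (Ideal.span {b}) {a}
  have hI : ∀ s : B, s ∈ I ↔ s * a ∈ Ideal.span {b} := by
    intro s
    rw [Submodule.mem_colon_singleton, smul_eq_mul]
  have hIq : I ≤ q := fun s hs => hq s ((hI s).mp hs)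
  obtain ⟨p, hpmin, hpq⟩ := Ideal.exists_minimalPrimes_le hIq
  have hpprime : p.IsPrime := hpmin.1.1
  have hIp : I ≤ p := hpmin.1.2
  refine ⟨p, hpprime, hpq, fun s hs => hIp ((hI s).mpr hs), ?_⟩
  intro A _ _ _ _
  have : IsNoetherianRing A := IsLocalization.isNoetherianRing p.primeCompl A inferInstance
  set ψ := algebraMap B A with hψdef
  have hmax : p.map ψ = maximalIdeal A := IsLocalization.AtPrime.map_eq_maximalIdeal p A
  have hcomap : (maximalIdeal A).comap ψ = p := IsLocalization.AtPrime.under_maximalIdeal A p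
  let IA : Ideal A := Submodule.colon (ψ b • (⊤ : Submodule A A)) {ψ a}
  have hIA : ∀ c : A, c ∈ IA ↔ c • ψ a ∈ ψ b • (⊤ : Submodule A A) := fun c =>
    Submodule.mem_colon_singleton
  -- IA is proper
  have hIAtop : (1 : A) ∉ IA := by
    intro h1
    rw [hIA, one_smul, mem_smul_top_iff] at h1
    obtain ⟨c', hc'⟩ := h1
    obtain ⟨c, s, hcs⟩ := IsLocalization.exists_mk'_eq p.primeCompl c'
    have h2 : c' * ψ s = ψ c := by rw [← hcs]; exact IsLocalization.mk'_spec A c s
    have h3 : ψ ((s : B) * a) = ψ (c * b) := by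
      rw [map_mul, map_mul, ← h2, ← hc', smul_eq_mul]; ring
    obtain ⟨t, ht⟩ := (IsLocalization.eq_iff_exists p.primeCompl A).mp h3
    have hsI : (t : B) * (s : B) ∈ I := by
      rw [hI, Ideal.mem_span_singleton']
      refine ⟨t * c, ?_⟩
      rw [mul_assoc, mul_assoc]
      exact ht.symm
    exact (Submonoid.mul_mem _ t.2 s.2) (hIp hsI)
  -- the maximal ideal is the radical of IA
  have hrad : maximalIdeal A ≤ IA.radical := by
    rw [Ideal.radical_eq_sInf]
    apply le_sInf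
    rintro P ⟨hIAP, hP⟩
    have hPle : P ≤ maximalIdeal A := le_maximalIdeal hP.ne_top
    have h1 : I ≤ P.comap ψ := by
      intro s hs
      rw [Ideal.mem_comap]
      apply hIAP
      rw [hIA, mem_smul_top_iff]
      rw [Submodule.mem_colon_singleton, smul_eq_mul, Ideal.mem_span_singleton'] at hs
      obtain ⟨c, hc⟩ := hs
      refine ⟨ψ c, ?_⟩
      rw [smul_eq_mul, smul_eq_mul, ← map_mul, ← map_mul, mul_comm b c, hc]
    have h2 : P.comap ψ ≤ p := by
      rw [← hcomap]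
      exact Ideal.comap_mono hPle
    have h3 : p ≤ P.comap ψ := hpmin.2 ⟨Ideal.comap_isPrime ψ P, h1⟩ h2
    rw [← hmax]
    exact Ideal.map_le_iff_le_comap.mpr h3
  obtain ⟨n, hn⟩ := Ideal.exists_pow_le_of_le_radical_of_fg hrad
    (isNoetherian_def.mp inferInstance _)
  classical
  let n₀ := Nat.find (⟨n, hn⟩ : ∃ k, (maximalIdeal A) ^ k ≤ IA)
  have hn₀ : (maximalIdeal A) ^ n₀ ≤ IA := Nat.find_spec (⟨n, hn⟩ : ∃ k, (maximalIdeal A) ^ k ≤ IA)
  have hn₀pos : n₀ ≠ 0 := by
    intro h0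
    rw [h0, pow_zero, Ideal.one_eq_top] at hn₀
    exact hIAtop (hn₀ trivial)
  obtain ⟨k, hk⟩ := Nat.exists_eq_succ_of_ne_zero hn₀pos
  have hknot : ¬ (maximalIdeal A) ^ k ≤ IA :=
    Nat.find_min (⟨n, hn⟩ : ∃ k, (maximalIdeal A) ^ k ≤ IA) (by omega)
  obtain ⟨c, hck, hcIA⟩ := SetLike.not_le_iff_exists.mp hknot
  -- b is in the maximal ideal
  have hbm : ψ b ∈ maximalIdeal A := by
    by_contra hbn
    have hunit : IsUnit (ψ b) := by
      by_contra hnu
      exact hbn ((mem_maximalIdeal _).mpr hnu)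
    apply hIAtop
    rw [hIA, one_smul, mem_smul_top_iff]
    obtain ⟨u, hu⟩ := hunit
    refine ⟨↑u⁻¹ * ψ a, ?_⟩
    rw [smul_eq_mul, ← hu, ← mul_assoc, Units.mul_inv, one_mul]
  have hbreg : IsSMulRegular A (ψ b) := by
    have h1 : ψ b ∈ nonZeroDivisors A :=
      IsLocalization.map_nonZeroDivisors_le p.primeCompl A (Submonoid.mem_map_of_mem _ hb)
    intro c d hcd
    have hcd' : ψ b * c = ψ b * d := hcd
    have h2 : (c - d) * ψ b = 0 := by
      rw [sub_mul, mul_comm c, mul_comm d, hcd', sub_self]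
    exact sub_eq_zero.mp ((mul_right_mem_nonZeroDivisors_eq_zero_iff h1).mp h2)
  apply depth_eq_one A (ψ b) hbm hbreg
  refine ⟨c • ψ a, fun h => hcIA ((hIA c).mpr h), ?_⟩
  intro t ht
  rw [smul_smul]
  apply (hIA (t * c)).mp
  apply hn₀
  rw [hk, pow_succ']
  exact Ideal.mul_mem_mul ht hck

end Alg

section Geom

variable {X : Scheme.{u}}

lemma kmk_eq (x : X) (α : X.presheaf.stalk x) (β : Mero.regStalk X x) :
    (LocalizedModule.mk α β : Mero.KStalk X x) = IsLocalization.mk' (Mero.KStalk X x) α β :=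
  Localization.mk_eq_mk'_apply α β

lemma kmk_mul (x : X) (α : X.presheaf.stalk x) (β : Mero.regStalk X x) :
    (LocalizedModule.mk α β : Mero.KStalk X x) *
      algebraMap (X.presheaf.stalk x) (Mero.KStalk X x) (β : X.presheaf.stalk x) =
      algebraMap (X.presheaf.stalk x) (Mero.KStalk X x) α := by
  rw [kmk_eq]
  exact IsLocalization.mk'_spec _ α β

/-- The stalk monoids `S_y` are saturated. -/
theorem regStalk_of_mul (y : X) (c a' : X.presheaf.stalk y) (h : c * a' ∈ Mero.regStalk X y) :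
    c ∈ Mero.regStalk X y := by
  obtain ⟨W, hyW, β, hβ, hβy⟩ := h
  obtain ⟨W₁, hyW₁, γ, rfl⟩ := X.presheaf.exists_germ_eq c
  obtain ⟨W₂, hyW₂, α, rfl⟩ := X.presheaf.exists_germ_eq a'
  have hyP : y ∈ W₁ ⊓ W₂ := ⟨hyW₁, hyW₂⟩
  have h1 : X.presheaf.germ (W₁ ⊓ W₂) y hyP
      (X.presheaf.map (homOfLE (inf_le_left : W₁ ⊓ W₂ ≤ W₁)).op γ *
        X.presheaf.map (homOfLE (inf_le_right : W₁ ⊓ W₂ ≤ W₂)).op α) =
      X.presheaf.germ W y hyW β := by
    rw [map_mul, TopCat.Presheaf.germ_res_apply, TopCat.Presheaf.germ_res_apply]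
    exact hβy.symm
  obtain ⟨W₄, hyW₄, iU, iV, h2⟩ := TopCat.Presheaf.germ_eq X.presheaf y hyP hyW _ _ h1
  refine ⟨W₄, hyW₄,
    X.presheaf.map iU.op (X.presheaf.map (homOfLE (inf_le_left : W₁ ⊓ W₂ ≤ W₁)).op γ), ?_, ?_⟩
  · intro z
    have hz : X.presheaf.germ W₄ z.1 z.2
        (X.presheaf.map iU.op (X.presheaf.map (homOfLE (inf_le_left : W₁ ⊓ W₂ ≤ W₁)).op γ)) *
        X.presheaf.germ W₄ z.1 z.2
        (X.presheaf.map iU.op (X.presheaf.map (homOfLE (inf_le_right : W₁ ⊓ W₂ ≤ W₂)).op α)) ∈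
        nonZeroDivisors (X.presheaf.stalk z.1) := by
      rw [← map_mul, ← map_mul, h2]
      exact Mero.regSub_res iV hβ z
    exact (mul_mem_nonZeroDivisors.mp hz).1
  · rw [TopCat.Presheaf.germ_res_apply, TopCat.Presheaf.germ_res_apply]

/-- Local normal form of a divisor: near `x` the germs are the classes of one fraction `a / b`. -/
theorem exists_local_frac (D : Mero.Divisor X) (x : X) :
    ∃ (V : X.Opens) (_ : x ∈ V) (a : Γ(X, V)) (b : Mero.regSub X V),
      ∀ y : V, ∃ g : (Mero.KStalk X y.1)ˣ, D.1 y.1 = QuotientGroup.mk g ∧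
        (g : Mero.KStalk X y.1) =
          LocalizedModule.mk (X.presheaf.germ V y.1 y.2 a) (Mero.regGerm y b) := by
  obtain ⟨U, hxU, f, hf⟩ := D.2 x
  obtain ⟨V, hxV, i, a, b, w⟩ := (f : Γ(Mero.kmod X, U)).2 ⟨x, hxU⟩
  refine ⟨V, hxV, a, b, fun y =>
    ⟨Units.map (Mero.evalK X U ⟨y.1, i.le y.2⟩).toMonoidHom f, hf ⟨y.1, i.le y.2⟩, ?_⟩⟩
  exact w y

theorem exists_mul_eq_of_isEffectiveAt (D : Mero.Divisor X) (y : X) (g : (Mero.KStalk X y)ˣ)
    (hg : D.1 y = QuotientGroup.mk g) (α : X.presheaf.stalk y) (β : Mero.regStalk X y)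
    (hgα : (g : Mero.KStalk X y) = LocalizedModule.mk α β) (h : Mero.IsEffectiveAt D y) :
    ∃ c : X.presheaf.stalk y, α = c * β := by
  obtain ⟨s, hs⟩ := h
  rw [hg] at hs
  have h1 : g⁻¹ * (IsLocalization.map_units (Mero.KStalk X y) s).unit ∈ Mero.stalkUnits X y :=
    QuotientGroup.eq.1 hs
  obtain ⟨v, hv⟩ := h1
  have h2 : algebraMap (X.presheaf.stalk y) (Mero.KStalk X y) (v : X.presheaf.stalk y) =
      ((g⁻¹ : (Mero.KStalk X y)ˣ) : Mero.KStalk X y) *
        algebraMap (X.presheaf.stalk y) (Mero.KStalk X y) (s : X.presheaf.stalk y) := by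
    have h2' := congrArg Units.val hv
    rw [Units.val_mul] at h2'
    exact h2'
  have h3 : (g : Mero.KStalk X y) *
      algebraMap (X.presheaf.stalk y) (Mero.KStalk X y) (v : X.presheaf.stalk y) =
      algebraMap (X.presheaf.stalk y) (Mero.KStalk X y) (s : X.presheaf.stalk y) := by
    rw [h2, ← mul_assoc, ← Units.val_mul, mul_inv_cancel, Units.val_one, one_mul]
  have h4 : α * (v : X.presheaf.stalk y) = (s : X.presheaf.stalk y) * (β : X.presheaf.stalk y) := by
    apply Mero.algebraMap_KStalk_injective y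
    rw [map_mul, map_mul, ← kmk_mul y α β, ← hgα, ← h3]
    ring
  refine ⟨(s : X.presheaf.stalk y) * ((v⁻¹ : (X.presheaf.stalk y)ˣ) : X.presheaf.stalk y), ?_⟩
  calc α = α * ((v : X.presheaf.stalk y) * ((v⁻¹ : (X.presheaf.stalk y)ˣ) : X.presheaf.stalk y)) := by
        rw [Units.mul_inv, mul_one]
    _ = (α * (v : X.presheaf.stalk y)) * ((v⁻¹ : (X.presheaf.stalk y)ˣ) : X.presheaf.stalk y) := by
        ring
    _ = _ := by rw [h4]; ring

theorem isEffectiveAt_of_mul_eq (D : Mero.Divisor X) (y : X) (g : (Mero.KStalk X y)ˣ)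
    (hg : D.1 y = QuotientGroup.mk g) (α : X.presheaf.stalk y) (β : Mero.regStalk X y)
    (hgα : (g : Mero.KStalk X y) = LocalizedModule.mk α β) (c : X.presheaf.stalk y)
    (hc : α = c * β) : Mero.IsEffectiveAt D y := by
  have h1 : (g : Mero.KStalk X y) = algebraMap (X.presheaf.stalk y) (Mero.KStalk X y) c := by
    rw [hgα, kmk_eq, IsLocalization.mk'_eq_iff_eq_mul, hc, map_mul]
  obtain ⟨⟨α', β'⟩, h2⟩ := IsLocalization.surj (Mero.regStalk X y)
    ((g⁻¹ : (Mero.KStalk X y)ˣ) : Mero.KStalk X y)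
  have h3 : c * α' = (β' : X.presheaf.stalk y) := by
    apply Mero.algebraMap_KStalk_injective y
    have h2' : ((g⁻¹ : (Mero.KStalk X y)ˣ) : Mero.KStalk X y) *
        algebraMap (X.presheaf.stalk y) (Mero.KStalk X y) (β' : X.presheaf.stalk y) =
        algebraMap (X.presheaf.stalk y) (Mero.KStalk X y) α' := h2
    rw [map_mul, ← h1, ← h2', ← mul_assoc, ← Units.val_mul, mul_inv_cancel, Units.val_one, one_mul]
  have hcreg : c ∈ Mero.regStalk X y := by
    apply regStalk_of_mul y c α'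
    rw [h3]
    exact β'.2
  refine ⟨⟨c, hcreg⟩, ?_⟩
  rw [hg]
  exact congrArg _ (Units.ext h1)

/-- A divisor which is not effective at `x` is not effective at some generization of `x` whose
local ring has depth one. -/
theorem exists_depth_one_not_isEffectiveAt [IsLocallyNoetherian X] (D : Mero.Divisor X) (x : X)
    (hx : ¬ Mero.IsEffectiveAt D x) :
    ∃ z : X, z ⤳ x ∧ LocCoh.depth (X.presheaf.stalk z) (X.presheaf.stalk z) = 1 ∧
      ¬ Mero.IsEffectiveAt D z := by
  obtain ⟨V, hxV, a, b, hV⟩ := exists_local_frac D x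
  obtain ⟨W, hW, hxW, hWV⟩ := Opens.isBasis_iff_nbhd.mp X.isBasis_affineOpens hxV
  haveI : IsNoetherianRing Γ(X, W) := IsLocallyNoetherian.component_noetherian ⟨W, hW⟩
  obtain ⟨a', ha'⟩ : ∃ a' : Γ(X, W), a' = X.presheaf.map (homOfLE hWV).op a := ⟨_, rfl⟩
  obtain ⟨b', hb'⟩ : ∃ b' : Γ(X, W), b' = X.presheaf.map (homOfLE hWV).op b.1 := ⟨_, rfl⟩
  have hb'reg : b' ∈ Mero.regSub X W := by
    rw [hb']
    exact Mero.regSub_res (homOfLE hWV) b.2
  have hb'nzd : b' ∈ nonZeroDivisors Γ(X, W) := by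
    rw [← Groth.Agent.S12513.result X W hW]
    exact hb'reg
  have hga : ∀ (y : X) (hy : y ∈ W),
      X.presheaf.germ W y hy a' = X.presheaf.germ V y (hWV hy) a := by
    intro y hy
    rw [ha']
    exact TopCat.Presheaf.germ_res_apply X.presheaf (homOfLE hWV) y hy a
  have hgb : ∀ (y : X) (hy : y ∈ W),
      X.presheaf.germ W y hy b' = X.presheaf.germ V y (hWV hy) b.1 := by
    intro y hy
    rw [hb']
    exact TopCat.Presheaf.germ_res_apply X.presheaf (homOfLE hWV) y hy b.1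
  have hiff : ∀ (y : X) (hy : y ∈ W), Mero.IsEffectiveAt D y ↔ ∃ c : X.presheaf.stalk y,
      X.presheaf.germ W y hy a' = c * X.presheaf.germ W y hy b' := by
    intro y hy
    obtain ⟨g, hg, hgα⟩ := hV ⟨y, hWV hy⟩
    rw [hga y hy, hgb y hy]
    constructor
    · intro he
      exact exists_mul_eq_of_isEffectiveAt D y g hg _ (Mero.regGerm ⟨y, hWV hy⟩ b) hgα he
    · rintro ⟨c, hc⟩
      exact isEffectiveAt_of_mul_eq D y g hg _ (Mero.regGerm ⟨y, hWV hy⟩ b) hgα c hc
  have hq : ∀ s : Γ(X, W), s * a' ∈ Ideal.span {b'} →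
      s ∈ (hW.primeIdealOf ⟨x, hxW⟩).asIdeal := by
    intro s hs
    by_contra hsq
    apply hx
    rw [hiff x hxW]
    rw [Ideal.mem_span_singleton'] at hs
    obtain ⟨e, he⟩ := hs
    have hunit : IsUnit (X.presheaf.germ W x hxW s) := by
      rw [← Scheme.mem_basicOpen _ _ _ hxW, mem_basicOpen_iff_notMem_primeIdealOf hW x hxW s]
      exact hsq
    obtain ⟨u, hu⟩ := hunit
    refine ⟨↑u⁻¹ * X.presheaf.germ W x hxW e, ?_⟩
    have h1 : X.presheaf.germ W x hxW s * X.presheaf.germ W x hxW a' =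
        X.presheaf.germ W x hxW e * X.presheaf.germ W x hxW b' := by
      rw [← map_mul, ← map_mul, he]
    calc X.presheaf.germ W x hxW a' = ↑u⁻¹ * (↑u * X.presheaf.germ W x hxW a') := by
          rw [← mul_assoc, Units.inv_mul, one_mul]
      _ = ↑u⁻¹ * (X.presheaf.germ W x hxW e * X.presheaf.germ W x hxW b') := by rw [hu, h1]
      _ = _ := by ring
  obtain ⟨p, hp, hpq, hpI, hdepth⟩ :=
    exists_prime_depth_one Γ(X, W) a' b' hb'nzd (hW.primeIdealOf ⟨x, hxW⟩).asIdeal hq
  haveI := hp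
  obtain ⟨z, hzdef⟩ : ∃ z : X, z = pointOfPrime hW p := ⟨_, rfl⟩
  have hzW : z ∈ W := hzdef ▸ pointOfPrime_mem hW p
  have hpz : hW.primeIdealOf ⟨z, hzW⟩ = ⟨p, hp⟩ := by
    subst hzdef
    exact primeIdealOf_pointOfPrime hW p
  letI algz : Algebra Γ(X, W) (X.presheaf.stalk z) :=
    TopCat.Presheaf.algebra_section_stalk X.presheaf ⟨z, hzW⟩
  haveI hlocz : IsLocalization.AtPrime (X.presheaf.stalk z) p := by
    have h := hW.isLocalization_stalk ⟨z, hzW⟩
    rw [hpz] at h
    exact h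
  have hdz := hdepth (X.presheaf.stalk z)
  refine ⟨z, ?_, hdz, ?_⟩
  · rw [hzdef]
    exact pointOfPrime_specializes hW p x hxW hpq
  · intro hez
    obtain ⟨c, hc⟩ := (hiff z hzW).mp hez
    obtain ⟨⟨γ, s⟩, hγs⟩ := IsLocalization.surj p.primeCompl c
    have hγs' : c * algebraMap Γ(X, W) (X.presheaf.stalk z) (s : Γ(X, W)) =
        algebraMap Γ(X, W) (X.presheaf.stalk z) γ := hγs
    have hc' : algebraMap Γ(X, W) (X.presheaf.stalk z) a' =
        c * algebraMap Γ(X, W) (X.presheaf.stalk z) b' := hc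
    have h5 : algebraMap Γ(X, W) (X.presheaf.stalk z) ((s : Γ(X, W)) * a') =
        algebraMap Γ(X, W) (X.presheaf.stalk z) (γ * b') := by
      rw [map_mul, map_mul, ← hγs', hc']
      ring
    obtain ⟨t, ht⟩ := (IsLocalization.eq_iff_exists p.primeCompl (X.presheaf.stalk z)).mp h5
    have hmem : (t : Γ(X, W)) * (s : Γ(X, W)) ∈ p := by
      apply hpI
      rw [Ideal.mem_span_singleton']
      refine ⟨t * γ, ?_⟩
      rw [mul_assoc, mul_assoc]
      exact ht.symm
    exact (Submonoid.mul_mem _ t.2 s.2) hmem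

theorem isEffective_of_depth_one [IsLocallyNoetherian X] (D : Mero.Divisor X)
    (h : ∀ x : X, LocCoh.depth (X.presheaf.stalk x) (X.presheaf.stalk x) = 1 →
      Mero.IsEffectiveAt D x) : Mero.IsEffective D := by
  intro x
  by_contra hx
  obtain ⟨z, -, hdz, hz⟩ := exists_depth_one_not_isEffectiveAt D x hx
  exact hz (h z hdz)

theorem isEffectiveAt_of_eq_one (D : Mero.Divisor X) (x : X) (h : D.1 x = 1) :
    Mero.IsEffectiveAt D x := by
  refine ⟨1, ?_⟩
  rw [h]
  have h1 : (IsLocalization.map_units (Mero.KStalk X x) (1 : Mero.regStalk X x)).unit = 1 :=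
    Units.ext (by rw [IsUnit.unit_spec, OneMemClass.coe_one, map_one, Units.val_one])
  rw [h1]
  exact (QuotientGroup.mk_one _).symm

/-- If `D` and `D⁻¹` are both effective at `x` then the germ of `D` at `x` is trivial. -/
theorem germ_eq_one_of_isEffectiveAt (D : Mero.Divisor X) (x : X) (h1 : Mero.IsEffectiveAt D x)
    (h2 : Mero.IsEffectiveAt D⁻¹ x) : D.1 x = 1 := by
  obtain ⟨s, hs⟩ := h1
  obtain ⟨s', hs'⟩ := h2
  have h3 : (D⁻¹).1 x = (D.1 x)⁻¹ := rfl
  rw [h3, hs, ← QuotientGroup.mk_inv] at hs'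
  obtain ⟨v, hv⟩ := QuotientGroup.eq.1 hs'
  have h5 : algebraMap (X.presheaf.stalk x) (Mero.KStalk X x) (v : X.presheaf.stalk x) =
      algebraMap (X.presheaf.stalk x) (Mero.KStalk X x)
        ((s : X.presheaf.stalk x) * (s' : X.presheaf.stalk x)) := by
    have h5' := congrArg Units.val hv
    rw [inv_inv, Units.val_mul] at h5'
    rw [map_mul]
    exact h5'
  have h6 : (v : X.presheaf.stalk x) = s * s' := Mero.algebraMap_KStalk_injective x h5
  have hsu : IsUnit (s : X.presheaf.stalk x) :=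
    isUnit_of_mul_isUnit_left (y := (s' : X.presheaf.stalk x)) (by rw [← h6]; exact v.isUnit)
  rw [hs, QuotientGroup.eq_one_iff]
  obtain ⟨w, hw⟩ := hsu
  refine ⟨w, Units.ext ?_⟩
  show algebraMap (X.presheaf.stalk x) (Mero.KStalk X x) (w : X.presheaf.stalk x) =
    algebraMap (X.presheaf.stalk x) (Mero.KStalk X x) (s : X.presheaf.stalk x)
  rw [hw]

theorem eq_one_of_depth_one [IsLocallyNoetherian X] (D : Mero.Divisor X)
    (h : ∀ x : X, LocCoh.depth (X.presheaf.stalk x) (X.presheaf.stalk x) = 1 → D.1 x = 1) :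
    D = 1 := by
  have hD : Mero.IsEffective D :=
    isEffective_of_depth_one D (fun x hx => isEffectiveAt_of_eq_one D x (h x hx))
  have hD' : Mero.IsEffective D⁻¹ :=
    isEffective_of_depth_one D⁻¹ (fun x hx => isEffectiveAt_of_eq_one D⁻¹ x (by
      show (D.1 x)⁻¹ = 1
      rw [h x hx, inv_one]))
  apply Subtype.ext
  funext x
  exact germ_eq_one_of_isEffectiveAt D x (hD x) (hD' x)

/-- A maximal point of the support of a divisor has depth one. -/
theorem depth_eq_one_of_maximal [IsLocallyNoetherian X] (D : Mero.Divisor X) (x : X)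
    (hx : x ∈ Mero.supp D) (hmax : ∀ z : X, z ∈ Mero.supp D → z ⤳ x → z = x) :
    LocCoh.depth (X.presheaf.stalk x) (X.presheaf.stalk x) = 1 := by
  by_cases h1 : Mero.IsEffectiveAt D x
  · have h2 : ¬ Mero.IsEffectiveAt D⁻¹ x := fun h2 => hx (germ_eq_one_of_isEffectiveAt D x h1 h2)
    obtain ⟨z, hzx, hdz, hz⟩ := exists_depth_one_not_isEffectiveAt D⁻¹ x h2
    have hzs : z ∈ Mero.supp D := by
      intro hz1
      apply hz
      apply isEffectiveAt_of_eq_one
      show (D.1 z)⁻¹ = 1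
      rw [hz1, inv_one]
    rw [← hmax z hzs hzx]
    exact hdz
  · obtain ⟨z, hzx, hdz, hz⟩ := exists_depth_one_not_isEffectiveAt D x h1
    have hzs : z ∈ Mero.supp D := fun hz1 => hz (isEffectiveAt_of_eq_one D z hz1)
    rw [← hmax z hzs hzx]
    exact hdz

/-- Below every point of the support of a divisor there is a point of depth one. -/
theorem exists_depth_one_of_mem_supp [IsLocallyNoetherian X] (D : Mero.Divisor X) (x : X)
    (hx : x ∈ Mero.supp D) :
    ∃ z : X, z ⤳ x ∧ LocCoh.depth (X.presheaf.stalk z) (X.presheaf.stalk z) = 1 := by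
  by_cases h1 : Mero.IsEffectiveAt D x
  · have h2 : ¬ Mero.IsEffectiveAt D⁻¹ x := fun h2 => hx (germ_eq_one_of_isEffectiveAt D x h1 h2)
    obtain ⟨z, hzx, hdz, -⟩ := exists_depth_one_not_isEffectiveAt D⁻¹ x h2
    exact ⟨z, hzx, hdz⟩
  · obtain ⟨z, hzx, hdz, -⟩ := exists_depth_one_not_isEffectiveAt D x h1
    exact ⟨z, hzx, hdz⟩

end Geom

end Groth.Agent.H95.MeroDepth
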