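import Groth.Agent.H95.GcLib
import Mathlib.LinearAlgebra.Span.Basic
import Mathlib.LinearAlgebra.Dimension.Constructions
import Mathlib.LinearAlgebra.Dimension.Free
import Mathlib.LinearAlgebra.FiniteDimensional.Defs
import Mathlib.LinearAlgebra.Pi
import Mathlib.Data.Fintype.Fin
import Mathlib.Data.Fintype.Card
import Mathlib.Tactic.Abel

/-! Helper lemmas on the filtration `Nfil` and the operators `NF`, `NV` (helper95). -/

set_option autoImplicit false
universe u

namespace Groth.Agent.H95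

open W4c6eohyperellchar2

section

variable (c : ℕ) (k : Type u) [Field k]

/-- Coordinate description of `Nfil`. -/
def NfilP (i : ℕ) (v : GcMod c k) : Prop :=
  (∀ j : Fin c, min i c < j.val + 1 → v.2 j = 0) ∧ (∀ j : Fin c, j.val + 1 ≤ 2 * c - i → v.1 j = 0)

theorem X_fst (n : ℕ) (j : Fin c) : (X c k n).1 j = if j.val + 1 = n then 1 else 0 := rfl
theorem X_snd (n : ℕ) (j : Fin c) : (X c k n).2 j = 0 := rfl
theorem Y_fst (n : ℕ) (j : Fin c) : (Y c k n).1 j = 0 := rfl
theorem Y_snd (n : ℕ) (j : Fin c) : (Y c k n).2 j = if j.val + 1 = n then 1 else 0 := rfl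

theorem mem_Nfil_iff (i : ℕ) (v : GcMod c k) : v ∈ Nfil c k i ↔ NfilP c k i v := by
  constructor
  · intro hv
    unfold Nfil at hv
    induction hv using Submodule.span_induction with
    | mem x hx =>
      rcases hx with ⟨n, hn, rfl⟩ | ⟨n, hn, rfl⟩
      · refine ⟨fun j hj => ?_, fun j _ => rfl⟩
        rw [Y_snd, if_neg]
        have := hn.2
        omega
      · refine ⟨fun j _ => rfl, fun j hj => ?_⟩
        rw [X_fst, if_neg]
        have := hn.1
        omega
    | zero => exact ⟨fun _ _ => rfl, fun _ _ => rfl⟩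
    | add x y _ _ hx hy =>
      refine ⟨fun j hj => ?_, fun j hj => ?_⟩
      · show x.2 j + y.2 j = 0
        rw [hx.1 j hj, hy.1 j hj, add_zero]
      · show x.1 j + y.1 j = 0
        rw [hx.2 j hj, hy.2 j hj, add_zero]
    | smul t x _ hx =>
      refine ⟨fun j hj => ?_, fun j hj => ?_⟩
      · show t * x.2 j = 0
        rw [hx.1 j hj, mul_zero]
      · show t * x.1 j = 0
        rw [hx.2 j hj, mul_zero]
  · rintro ⟨h1, h2⟩
    rw [eq_sum' c k v]
    refine Submodule.sum_mem _ (fun j _ => Submodule.add_mem _ ?_ ?_)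
    · by_cases hj : j.val + 1 ≤ 2 * c - i
      · rw [h2 j hj, zero_smul]
        exact Submodule.zero_mem _
      · refine Submodule.smul_mem _ _ (Submodule.subset_span (Or.inr ⟨j.val + 1, ⟨by omega, ?_⟩, rfl⟩))
        have := j.2
        omega
    · by_cases hj : min i c < j.val + 1
      · rw [h1 j hj, zero_smul]
        exact Submodule.zero_mem _
      · refine Submodule.smul_mem _ _ (Submodule.subset_span (Or.inl ⟨j.val + 1, ⟨by omega, by omega⟩, rfl⟩))

/-- Index type of the `σ`-coordinates that are free in `Nfil c k i`. -/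
abbrev SX (c i : ℕ) : Type := {j : Fin c // ¬ (j.val < 2 * c - i)}
/-- Index type of the `λ`-coordinates that are free in `Nfil c k i`. -/
abbrev SY (c i : ℕ) : Type := {j : Fin c // j.val < min i c}

theorem finrank_Nfil (i : ℕ) (hi : i ≤ 2 * c) : Module.finrank k (Nfil c k i) = i := by
  let ψ : ((SX c i → k) × (SY c i → k)) →ₗ[k] GcMod c k :=
    LinearMap.prodMap (Function.ExtendByZero.linearMap k (Subtype.val : SX c i → Fin c))
      (Function.ExtendByZero.linearMap k (Subtype.val : SY c i → Fin c))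
  have hψ1 : ∀ f g j, (ψ (f, g)).1 j = Function.extend (Subtype.val : SX c i → Fin c) f 0 j :=
    fun f g j => rfl
  have hψ2 : ∀ f g j, (ψ (f, g)).2 j = Function.extend (Subtype.val : SY c i → Fin c) g 0 j :=
    fun f g j => rfl
  have hinj : Function.Injective ψ := by
    rintro ⟨f1, g1⟩ ⟨f2, g2⟩ hpq
    have h1 : Function.extend (Subtype.val : SX c i → Fin c) f1 0
        = Function.extend (Subtype.val : SX c i → Fin c) f2 0 := congrArg Prod.fst hpq
    have h2 : Function.extend (Subtype.val : SY c i → Fin c) g1 0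
        = Function.extend (Subtype.val : SY c i → Fin c) g2 0 := congrArg Prod.snd hpq
    have e1 : f1 = f2 := by
      funext s
      have := congrFun h1 s.1
      rwa [Subtype.val_injective.extend_apply, Subtype.val_injective.extend_apply] at this
    have e2 : g1 = g2 := by
      funext s
      have := congrFun h2 s.1
      rwa [Subtype.val_injective.extend_apply, Subtype.val_injective.extend_apply] at this
    rw [e1, e2]
  have hrange : LinearMap.range ψ = Nfil c k i := by
    ext v
    rw [mem_Nfil_iff]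
    constructor
    · rintro ⟨⟨f, g⟩, rfl⟩
      refine ⟨fun j hj => ?_, fun j hj => ?_⟩
      · rw [hψ2, Function.extend_apply']
        · rfl
        · rintro ⟨s, hs⟩
          have h2 : s.1.val < min i c := s.2
          have h3 : s.1.val = j.val := congrArg Fin.val hs
          omega
      · rw [hψ1, Function.extend_apply']
        · rfl
        · rintro ⟨s, hs⟩
          have h2 : ¬ (s.1.val < 2 * c - i) := s.2
          have h3 : s.1.val = j.val := congrArg Fin.val hs
          omega
    · rintro ⟨h1, h2⟩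
      refine ⟨(fun s => v.1 s.1, fun s => v.2 s.1), ?_⟩
      ext j
      · rw [hψ1]
        by_cases hj : j.val < 2 * c - i
        · rw [Function.extend_apply', h2 j (by omega)]
          · rfl
          · rintro ⟨s, hs⟩
            have h2 : ¬ (s.1.val < 2 * c - i) := s.2
            have h3 : s.1.val = j.val := congrArg Fin.val hs
            omega
        · exact Subtype.val_injective.extend_apply _ _ (⟨j, hj⟩ : SX c i)
      · rw [hψ2]
        by_cases hj : j.val < min i c
        · exact Subtype.val_injective.extend_apply _ _ (⟨j, hj⟩ : SY c i)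
        · rw [Function.extend_apply', h1 j (by omega)]
          · rfl
          · rintro ⟨s, hs⟩
            have h2 : s.1.val < min i c := s.2
            have h3 : s.1.val = j.val := congrArg Fin.val hs
            omega
  have h1 : Fintype.card (SX c i) = c - min c (2 * c - i) := by
    show Fintype.card {j : Fin c // ¬ (j.val < 2 * c - i)} = _
    rw [Fintype.card_subtype_compl, Fintype.card_fin, Fintype.card_subtype, Fin.card_filter_val_lt]
  have h2 : Fintype.card (SY c i) = min c (min i c) := by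
    show Fintype.card {j : Fin c // j.val < min i c} = _
    rw [Fintype.card_subtype, Fin.card_filter_val_lt]
  rw [← hrange, LinearMap.finrank_range_of_inj hinj, Module.finrank_prod,
    Module.finrank_fintype_fun_eq_card, Module.finrank_fintype_fun_eq_card, h1, h2]
  omega

theorem NfilP_add (i : ℕ) {v w : GcMod c k} (hv : NfilP c k i v) (hw : NfilP c k i w) :
    NfilP c k i (v + w) :=
  ⟨fun j hj => by
      show v.2 j + w.2 j = 0
      rw [hv.1 j hj, hw.1 j hj, add_zero],
   fun j hj => by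
      show v.1 j + w.1 j = 0
      rw [hv.2 j hj, hw.2 j hj, add_zero]⟩

theorem coefY_mk (g f : Fin c → k) (n : ℕ) (h : 1 ≤ n ∧ n ≤ c) :
    coefY ((g, f) : GcMod c k) n = f ⟨n - 1, by omega⟩ := by
  unfold coefY
  exact dif_pos h

theorem coefY_mk_of_lt (g f : Fin c → k) (n : ℕ) (h : c < n) :
    coefY ((g, f) : GcMod c k) n = 0 := by
  unfold coefY
  exact dif_neg (by omega)

theorem coefY_mk_zero (g : Fin c → k) (n : ℕ) :
    coefY ((g, (0 : Fin c → k)) : GcMod c k) n = 0 := by
  unfold coefY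
  split_ifs <;> rfl

theorem coefY_add (v w : GcMod c k) (n : ℕ) : coefY (v + w) n = coefY v n + coefY w n := by
  unfold coefY
  split_ifs
  · rfl
  · rw [add_zero]

variable (a : ℕ → k)

theorem NF_fst (v : GcMod c k) (m : ℕ) (hm : m < c) :
    (NF c k a v).1 ⟨m, hm⟩ = if (m + 1) % 2 = 0 then coefX v ((m + 1) / 2) ^ 2 else 0 := rfl

theorem NF_snd (v : GcMod c k) (m : ℕ) (hm : m < c) :
    (NF c k a v).2 ⟨m, hm⟩ = if (m + 1) % 2 = 1 then
      Finset.univ.sum (fun j : Fin c =>
        if c < 2 * (j.val + 1) ∧ (j.val + 1) + m / 2 ≤ c then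
          v.1 j ^ 2 * a ((j.val + 1) + m / 2) else 0)
    else 0 := rfl

theorem NF_mem (i : ℕ) (hi : i ≤ 2 * c) (v : GcMod c k)
    (hv : NfilP c k (c + (i + 1) / 2) v) : NfilP c k i (NF c k a v) := by
  refine ⟨fun m hm => ?_, fun m hm => ?_⟩
  · obtain ⟨m, hmc⟩ := m
    have hm' : min i c < m + 1 := hm
    rw [NF_snd]
    by_cases hodd : (m + 1) % 2 = 1
    · rw [if_pos hodd]
      refine Finset.sum_eq_zero (fun j _ => ?_)
      by_cases h : c < 2 * (j.val + 1) ∧ (j.val + 1) + m / 2 ≤ c
      · rw [if_pos h, hv.2 j (by omega), zero_pow two_ne_zero, zero_mul]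
      · rw [if_neg h]
    · rw [if_neg hodd]
  · obtain ⟨m, hmc⟩ := m
    have hm' : m + 1 ≤ 2 * c - i := hm
    rw [NF_fst]
    by_cases hev : (m + 1) % 2 = 0
    · rw [if_pos hev]
      have h0 : coefX v ((m + 1) / 2) = 0 := by
        unfold coefX
        split_ifs with h
        · exact hv.2 ⟨(m + 1) / 2 - 1, by omega⟩
            (show ((m + 1) / 2 - 1) + 1 ≤ 2 * c - (c + (i + 1) / 2) by omega)
        · rfl
      rw [h0, zero_pow two_ne_zero]
    · rw [if_neg hev]

theorem NF_preimage (ha : a c ≠ 0) (i : ℕ) (hi : i ≤ 2 * c) (v : GcMod c k)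
    (hNF : NfilP c k i (NF c k a v)) : NfilP c k (c + (i + 1) / 2) v := by
  refine ⟨fun j hj => ?_, ?_⟩
  · exfalso
    have := j.2
    omega
  · have key : ∀ n : ℕ, ∀ hn : n < c, n + 1 ≤ 2 * c - (c + (i + 1) / 2) → v.1 ⟨n, hn⟩ = 0 := by
      intro n
      induction n using Nat.strong_induction_on with
      | _ n IH =>
        intro hn hle
        by_cases h2 : 2 * (n + 1) ≤ c
        · have h := hNF.2 ⟨2 * n + 1, by omega⟩ (show (2 * n + 1) + 1 ≤ 2 * c - i by omega)
          rw [NF_fst, if_pos (show (2 * n + 1 + 1) % 2 = 0 by omega)] at h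
          have e : coefX v ((2 * n + 1 + 1) / 2) = v.1 ⟨n, hn⟩ := by
            unfold coefX
            rw [dif_pos (show 1 ≤ (2 * n + 1 + 1) / 2 ∧ (2 * n + 1 + 1) / 2 ≤ c by omega)]
            exact congrArg v.1 (Fin.ext (show (2 * n + 1 + 1) / 2 - 1 = n by omega))
          rw [e] at h
          exact (pow_eq_zero_iff two_ne_zero).mp h
        · have h := hNF.1 ⟨2 * (c - (n + 1)), by omega⟩
            (show min i c < 2 * (c - (n + 1)) + 1 by omega)
          rw [NF_snd, if_pos (show (2 * (c - (n + 1)) + 1) % 2 = 1 by omega),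
            Finset.sum_eq_single (⟨n, hn⟩ : Fin c)] at h
          · have h' : (if c < 2 * (n + 1) ∧ (n + 1) + 2 * (c - (n + 1)) / 2 ≤ c then
                v.1 ⟨n, hn⟩ ^ 2 * a ((n + 1) + 2 * (c - (n + 1)) / 2) else 0) = 0 := h
            rw [if_pos (show c < 2 * (n + 1) ∧ (n + 1) + 2 * (c - (n + 1)) / 2 ≤ c from
              ⟨by omega, by omega⟩),
              show (n + 1) + 2 * (c - (n + 1)) / 2 = c by omega] at h'
            rcases mul_eq_zero.mp h' with h'' | h''
            · exact (pow_eq_zero_iff two_ne_zero).mp h''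
            · exact absurd h'' ha
          · intro j _ hj
            by_cases hc : c < 2 * (j.val + 1) ∧ (j.val + 1) + 2 * (c - (n + 1)) / 2 ≤ c
            · rw [if_pos hc]
              have hjn : j.val < n := by
                have : j.val ≠ n := fun h => hj (Fin.ext h)
                omega
              have hz : v.1 j = 0 := IH j.val hjn j.2 (by omega)
              rw [hz, zero_pow two_ne_zero, zero_mul]
            · rw [if_neg hc]
          · intro h
            exact absurd (Finset.mem_univ _) h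
    intro j hj
    exact key j.val j.2 hj

end

section

variable (c : ℕ) (k : Type u) [Field k] [CharP k 2] [PerfectRing k 2] (a : ℕ → k)

theorem NV_snd (v : GcMod c k) (m : ℕ) (hm : m < c) : (NV c k a v).2 ⟨m, hm⟩ =
    (frobeniusEquiv k 2).symm (coefY v (2 * (m + 1))) +
      Finset.univ.sum (fun j : Fin c =>
        if (j.val + 1) % 2 = 1 ∧ (m + 1) + j.val / 2 ≤ c then
          (frobeniusEquiv k 2).symm (v.1 j * a ((m + 1) + j.val / 2)) else 0) := rfl

theorem NV_add (v w : GcMod c k) : NV c k a (v + w) = NV c k a v + NV c k a w := by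
  ext m
  · show (0 : k) = 0 + 0
    rw [add_zero]
  · obtain ⟨m, hm⟩ := m
    show (NV c k a (v + w)).2 ⟨m, hm⟩ = (NV c k a v).2 ⟨m, hm⟩ + (NV c k a w).2 ⟨m, hm⟩
    rw [NV_snd, NV_snd, NV_snd, coefY_add, map_add]
    have hterm : ∀ j : Fin c, (if (j.val + 1) % 2 = 1 ∧ (m + 1) + j.val / 2 ≤ c then
          (frobeniusEquiv k 2).symm ((v + w).1 j * a ((m + 1) + j.val / 2)) else 0) =
        (if (j.val + 1) % 2 = 1 ∧ (m + 1) + j.val / 2 ≤ c then
          (frobeniusEquiv k 2).symm (v.1 j * a ((m + 1) + j.val / 2)) else 0) +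
        (if (j.val + 1) % 2 = 1 ∧ (m + 1) + j.val / 2 ≤ c then
          (frobeniusEquiv k 2).symm (w.1 j * a ((m + 1) + j.val / 2)) else 0) := by
      intro j
      by_cases h : (j.val + 1) % 2 = 1 ∧ (m + 1) + j.val / 2 ≤ c
      · rw [if_pos h, if_pos h, if_pos h, Prod.fst_add, Pi.add_apply, add_mul, map_add]
      · rw [if_neg h, if_neg h, if_neg h, add_zero]
    rw [Finset.sum_congr rfl (fun j _ => hterm j), Finset.sum_add_distrib]
    abel

theorem NV_inr (f : Fin c → k) (m : ℕ) (hm : m < c) :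
    (NV c k a (((0 : Fin c → k), f) : GcMod c k)).2 ⟨m, hm⟩ =
      (frobeniusEquiv k 2).symm (coefY (((0 : Fin c → k), f) : GcMod c k) (2 * (m + 1))) := by
  rw [NV_snd]
  have hterm : ∀ j : Fin c, (if (j.val + 1) % 2 = 1 ∧ (m + 1) + j.val / 2 ≤ c then
      (frobeniusEquiv k 2).symm ((((0 : Fin c → k), f) : GcMod c k).1 j *
        a ((m + 1) + j.val / 2)) else 0) = 0 := by
    intro j
    by_cases h : (j.val + 1) % 2 = 1 ∧ (m + 1) + j.val / 2 ≤ c
    · rw [if_pos h]
      show (frobeniusEquiv k 2).symm ((0 : k) * a ((m + 1) + j.val / 2)) = 0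
      rw [zero_mul, map_zero]
    · rw [if_neg h]
  rw [Finset.sum_congr rfl (fun j _ => hterm j), Finset.sum_const_zero, add_zero]

theorem NV_inl (g : Fin c → k) (m : ℕ) (hm : m < c) :
    (NV c k a ((g, (0 : Fin c → k)) : GcMod c k)).2 ⟨m, hm⟩ =
      Finset.univ.sum (fun j : Fin c =>
        if (j.val + 1) % 2 = 1 ∧ (m + 1) + j.val / 2 ≤ c then
          (frobeniusEquiv k 2).symm (g j * a ((m + 1) + j.val / 2)) else 0) := by
  rw [NV_snd, coefY_mk_zero, map_zero, zero_add]

theorem NV_zero : NV c k a 0 = 0 := by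
  ext m
  · rfl
  · obtain ⟨m, hm⟩ := m
    show (NV c k a (((0 : Fin c → k), (0 : Fin c → k)) : GcMod c k)).2 ⟨m, hm⟩ = 0
    rw [NV_inr, coefY_mk_zero, map_zero]

theorem NV_single (J : ℕ) (hJ : J < c) (s : k) (m : ℕ) (hm : m < c) :
    (NV c k a ((fun j : Fin c => if j.val = J then s else 0, (0 : Fin c → k)) : GcMod c k)).2
        ⟨m, hm⟩ =
      if (J + 1) % 2 = 1 ∧ (m + 1) + J / 2 ≤ c then
        (frobeniusEquiv k 2).symm (s * a ((m + 1) + J / 2)) else 0 := by
  rw [NV_inl, Finset.sum_eq_single (⟨J, hJ⟩ : Fin c)]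
  · show (if (J + 1) % 2 = 1 ∧ (m + 1) + J / 2 ≤ c then
      (frobeniusEquiv k 2).symm ((if J = J then s else 0) * a ((m + 1) + J / 2)) else 0) = _
    rw [if_pos (rfl : J = J)]
  · intro j _ hj
    have hne : ¬ (j.val = J) := fun h => hj (Fin.ext h)
    simp only [if_neg hne, zero_mul, map_zero, ite_self]
  · intro h
    exact absurd (Finset.mem_univ _) h

theorem NV_mem (i : ℕ) (hi : i ≤ 2 * c) (v : GcMod c k) (hv : NfilP c k i v) :
    NfilP c k (i / 2) (NV c k a v) := by
  refine ⟨fun m hm => ?_, fun _ _ => rfl⟩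
  obtain ⟨m, hmc⟩ := m
  have hm' : min (i / 2) c < m + 1 := hm
  rw [NV_snd]
  have h1 : coefY v (2 * (m + 1)) = 0 := by
    unfold coefY
    split_ifs with h
    · exact hv.1 ⟨2 * (m + 1) - 1, by omega⟩ (show min i c < (2 * (m + 1) - 1) + 1 by omega)
    · rfl
  rw [h1, map_zero, zero_add]
  refine Finset.sum_eq_zero (fun j _ => ?_)
  by_cases h : (j.val + 1) % 2 = 1 ∧ (m + 1) + j.val / 2 ≤ c
  · rw [if_pos h, hv.2 j (by omega), zero_mul, map_zero]
  · rw [if_neg h]

theorem NV_surj_step (i t : ℕ) (ht : t < c)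
    (IH : ∀ w : GcMod c k, NfilP c k t w → ∃ v : GcMod c k, NfilP c k i v ∧ NV c k a v = w)
    (w : GcMod c k) (hw : NfilP c k (t + 1) w) (v₀ : GcMod c k) (hv₀ : NfilP c k i v₀)
    (h1 : ∀ (m' : ℕ) (hm' : m' < c), t < m' → (NV c k a v₀).2 ⟨m', hm'⟩ = 0)
    (h2 : (NV c k a v₀).2 ⟨t, ht⟩ = w.2 ⟨t, ht⟩) :
    ∃ v : GcMod c k, NfilP c k i v ∧ NV c k a v = w := by
  have hw' : NfilP c k t (w - NV c k a v₀) := by
    refine ⟨fun j hj => ?_, fun j hj => ?_⟩
    · obtain ⟨j, hjc⟩ := j
      have hj' : min t c < j + 1 := hj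
      show w.2 ⟨j, hjc⟩ - (NV c k a v₀).2 ⟨j, hjc⟩ = 0
      by_cases hjt : j = t
      · subst hjt
        rw [h2, sub_self]
      · rw [h1 j hjc (by omega), hw.1 ⟨j, hjc⟩ (show min (t + 1) c < j + 1 by omega), sub_zero]
    · show w.1 j - (0 : k) = 0
      rw [hw.2 j (by have := j.2; omega), sub_zero]
  obtain ⟨v₁, hv₁, hNV⟩ := IH _ hw'
  refine ⟨v₀ + v₁, NfilP_add c k i hv₀ hv₁, ?_⟩
  rw [NV_add, hNV]
  abel

theorem NV_surj (ha : a c ≠ 0) (i : ℕ) (hi : i ≤ 2 * c) : ∀ t : ℕ, t ≤ i / 2 →
    ∀ w : GcMod c k, NfilP c k t w → ∃ v : GcMod c k, NfilP c k i v ∧ NV c k a v = w := by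
  intro t
  induction t with
  | zero =>
    intro _ w hw
    refine ⟨0, ⟨fun _ _ => rfl, fun _ _ => rfl⟩, ?_⟩
    rw [NV_zero]
    ext j
    · exact (hw.2 j (by have := j.2; omega)).symm
    · exact (hw.1 j (by omega)).symm
  | succ t IH =>
    intro ht w hw
    have htc : t < c := by omega
    have IH' := IH (by omega)
    by_cases hc : 2 * (t + 1) ≤ c
    · refine NV_surj_step c k a i t htc IH' w hw
        ((0 : Fin c → k), fun j : Fin c => if j.val + 1 = 2 * (t + 1) then (w.2 ⟨t, htc⟩) ^ 2 else 0)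
        ⟨fun j hj => ?_, fun _ _ => rfl⟩ (fun m' hm' htm => ?_) ?_
      · show (if j.val + 1 = 2 * (t + 1) then (w.2 ⟨t, htc⟩) ^ 2 else 0) = 0
        rw [if_neg]
        omega
      · rw [NV_inr]
        by_cases h : 2 * (m' + 1) ≤ c
        · rw [coefY_mk c k _ _ (2 * (m' + 1)) ⟨by omega, h⟩]
          show (frobeniusEquiv k 2).symm
            (if (2 * (m' + 1) - 1) + 1 = 2 * (t + 1) then (w.2 ⟨t, htc⟩) ^ 2 else 0) = 0
          rw [if_neg (by omega), map_zero]
        · rw [coefY_mk_of_lt c k _ _ _ (by omega), map_zero]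
      · rw [NV_inr, coefY_mk c k _ _ (2 * (t + 1)) ⟨by omega, hc⟩]
        show (frobeniusEquiv k 2).symm
          (if (2 * (t + 1) - 1) + 1 = 2 * (t + 1) then (w.2 ⟨t, htc⟩) ^ 2 else 0) = w.2 ⟨t, htc⟩
        rw [if_pos (by omega), frobeniusEquiv_symm_pow]
    · have hJ : 2 * (c - (t + 1)) < c := by omega
      refine NV_surj_step c k a i t htc IH' w hw
        (fun j : Fin c => if j.val = 2 * (c - (t + 1)) then (w.2 ⟨t, htc⟩) ^ 2 * (a c)⁻¹ else 0,
          (0 : Fin c → k))
        ⟨fun _ _ => rfl, fun j hj => ?_⟩ (fun m' hm' htm => ?_) ?_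
      · show (if j.val = 2 * (c - (t + 1)) then (w.2 ⟨t, htc⟩) ^ 2 * (a c)⁻¹ else 0) = 0
        rw [if_neg]
        omega
      · rw [NV_single c k a (2 * (c - (t + 1))) hJ, if_neg]
        omega
      · rw [NV_single c k a (2 * (c - (t + 1))) hJ,
          if_pos (show (2 * (c - (t + 1)) + 1) % 2 = 1 ∧ (t + 1) + 2 * (c - (t + 1)) / 2 ≤ c from
            ⟨by omega, by omega⟩),
          show (t + 1) + 2 * (c - (t + 1)) / 2 = c by omega, inv_mul_cancel_right₀ ha,
          frobeniusEquiv_symm_pow]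

end

end Groth.Agent.H95
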