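import Groth.Agent.H95.MeroData
import Groth.Agent.H8.AssPoints2
import Groth.Agent.S12513
import Mathlib.RingTheory.Ideal.AssociatedPrime.Localization
import Mathlib.RingTheory.Ideal.AssociatedPrime.Finiteness

/-!
# Meromorphic functions on locally Noetherian schemes and associated points

* `IsAssPt x`: the maximal ideal of `O_{X,x}` is an associated prime of `O_{X,x}`.
* `isAssPt_iff`: on a Noetherian affine open these are the associated primes of the ring.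
* `eq_zero_of_assPt`, `mem_regSub_of_isUnit_assPt`, `kmod_ext_of_assPt`: sections, regular sections
  and meromorphic functions are controlled by the associated points.
* `NoEmb X`: no embedded associated points; then `exists_mero_of_assPt`, `exists_unit_of_assPt`,
  `exists_data_of_noEmb` (compatible local meromorphic coordinates for invertible modules).
-/

set_option autoImplicit false
set_option linter.style.haveILetI false

universe u

open CategoryTheory AlgebraicGeometry TopologicalSpace Opposite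

namespace Groth.Agent.H95.NoethMero

open Groth.Agent.H8 (res_res res_smul ringRes_res pointOfPrime pointOfPrime_mem
  primeIdealOf_pointOfPrime pointOfPrime_primeIdealOf pointOfPrime_specializes
  comap_le_primeIdealOf eq_maximalIdeal_of_pointOfPrime_eq mem_basicOpen_iff_notMem_primeIdealOf)
open Groth.Agent.H18.TensorGen (IsGen exists_isGen)
open Groth.Agent.H95.MeroDepth Groth.Agent.H95.MeroDense
open Groth.Agent.H95.DivMod
open Groth.Agent.H95.MeroData (Compat isUnit_of_gens germ_transition)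

variable {X : Scheme.{u}}

/-- `x` is an associated point of the structure sheaf (ring-theoretic form). -/
def IsAssPt (x : X) : Prop :=
  IsAssociatedPrime (IsLocalRing.maximalIdeal (X.presheaf.stalk x)) (X.presheaf.stalk x)

/-- No embedded associated points. -/
def NoEmb (X : Scheme.{u}) : Prop :=
  ∀ x : X, IsAssPt x → ∀ y : X, IsAssPt y → y ⤳ x → y = x

lemma isAssPt_iff {W : X.Opens} (hW : IsAffineOpen W) [IsNoetherianRing Γ(X, W)] (x : X)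
    (hxW : x ∈ W) :
    IsAssPt x ↔ (hW.primeIdealOf ⟨x, hxW⟩).asIdeal ∈ associatedPrimes Γ(X, W) Γ(X, W) := by
  letI := X.presheaf.algebra_section_stalk ⟨x, hxW⟩
  haveI := hW.isLocalization_stalk ⟨x, hxW⟩
  have hcomap : (IsLocalRing.maximalIdeal (X.presheaf.stalk x)).comap
      (algebraMap Γ(X, W) (X.presheaf.stalk x)) = (hW.primeIdealOf ⟨x, hxW⟩).asIdeal :=
    IsLocalization.AtPrime.comap_maximalIdeal _ _
  haveI : IsLocalizedModule (hW.primeIdealOf ⟨x, hxW⟩).asIdeal.primeCompl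
      (Algebra.linearMap Γ(X, W) (X.presheaf.stalk x)) :=
    isLocalizedModule_iff_isLocalization.mpr inferInstance
  have h :=
    Module.associatedPrimes.preimage_comap_associatedPrimes_eq_associatedPrimes_of_isLocalizedModule
      (hW.primeIdealOf ⟨x, hxW⟩).asIdeal.primeCompl (X.presheaf.stalk x)
      (Algebra.linearMap Γ(X, W) (X.presheaf.stalk x))
  have h2 : IsLocalRing.maximalIdeal (X.presheaf.stalk x) ∈
      associatedPrimes (X.presheaf.stalk x) (X.presheaf.stalk x) ↔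
      (IsLocalRing.maximalIdeal (X.presheaf.stalk x)).comap
        (algebraMap Γ(X, W) (X.presheaf.stalk x)) ∈ associatedPrimes Γ(X, W) Γ(X, W) := by
    rw [← h]
    exact Iff.rfl
  rw [hcomap] at h2
  exact h2

/-- The point of an associated prime of a Noetherian affine open is an associated point. -/
lemma isAssPt_pointOfPrime {W : X.Opens} (hW : IsAffineOpen W) [IsNoetherianRing Γ(X, W)]
    (P : Ideal Γ(X, W)) [hPprime : P.IsPrime] (hP : P ∈ associatedPrimes Γ(X, W) Γ(X, W)) :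
    IsAssPt (pointOfPrime hW P) := by
  rw [isAssPt_iff hW _ (pointOfPrime_mem hW P), primeIdealOf_pointOfPrime hW]
  exact hP

section Noeth

variable [IsLocallyNoetherian X]

lemma eq_zero_of_assPt {W : X.Opens} (t : Γ(X, W))
    (h : ∀ (ξ : X) (hξ : ξ ∈ W), IsAssPt ξ → X.presheaf.germ W ξ hξ t = 0) : t = 0 := by
  refine TopCat.Presheaf.section_ext X.sheaf W t 0 (fun y hy => ?_)
  show X.presheaf.germ W y hy t = X.presheaf.germ W y hy 0
  rw [map_zero]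
  obtain ⟨W', hW'0, hyW', hW'W⟩ := Opens.isBasis_iff_nbhd.mp X.isBasis_affineOpens hy
  have hW' : IsAffineOpen W' := hW'0
  haveI : IsNoetherianRing Γ(X, W') := IsLocallyNoetherian.component_noetherian ⟨W', hW'⟩
  obtain ⟨t', ht'⟩ : ∃ t' : Γ(X, W'), t' = X.presheaf.map (homOfLE hW'W).op t := ⟨_, rfl⟩
  have ht'0 : t' = 0 := by
    by_contra hne
    obtain ⟨P, hP, hle⟩ := exists_le_isAssociatedPrime_of_isNoetherianRing Γ(X, W') t' hne
    haveI hPprime : P.IsPrime := hP.isPrime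
    have hξW' := pointOfPrime_mem hW' P
    have hξass : IsAssPt (pointOfPrime hW' P) := isAssPt_pointOfPrime hW' P hP
    have hg0 : X.presheaf.germ W' (pointOfPrime hW' P) hξW' t' = 0 := by
      rw [ht', TopCat.Presheaf.germ_res_apply X.presheaf (homOfLE hW'W) _ hξW' t]
      exact h _ (hW'W hξW') hξass
    letI := X.presheaf.algebra_section_stalk ⟨pointOfPrime hW' P, hξW'⟩
    haveI := hW'.isLocalization_stalk ⟨pointOfPrime hW' P, hξW'⟩
    have hg0' : algebraMap Γ(X, W') (X.presheaf.stalk (pointOfPrime hW' P)) t' = 0 := hg0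
    obtain ⟨⟨c, hcn⟩, hm⟩ := (IsLocalization.map_eq_zero_iff
      (hW'.primeIdealOf ⟨pointOfPrime hW' P, hξW'⟩).asIdeal.primeCompl
      (X.presheaf.stalk (pointOfPrime hW' P)) t').mp hg0'
    have hm' : c * t' = 0 := hm
    have hcP : c ∈ P := hle ((Submodule.mem_colon_singleton).mpr ((Submodule.mem_bot _).mpr hm'))
    have hcn' : c ∉ (hW'.primeIdealOf ⟨pointOfPrime hW' P, hξW'⟩).asIdeal := hcn
    rw [primeIdealOf_pointOfPrime hW' P] at hcn'
    exact hcn' hcP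
  rw [← TopCat.Presheaf.germ_res_apply X.presheaf (homOfLE hW'W) y hyW' t, ← ht', ht'0, map_zero]

lemma mem_regSub_of_isUnit_assPt {W : X.Opens} (t : Γ(X, W))
    (h : ∀ (ξ : X) (hξ : ξ ∈ W), IsAssPt ξ → IsUnit (X.presheaf.germ W ξ hξ t)) :
    t ∈ Mero.regSub X W := by
  intro y
  obtain ⟨W', hW'0, hyW', hW'W⟩ := Opens.isBasis_iff_nbhd.mp X.isBasis_affineOpens y.2
  have hW' : IsAffineOpen W' := hW'0
  haveI : IsNoetherianRing Γ(X, W') := IsLocallyNoetherian.component_noetherian ⟨W', hW'⟩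
  obtain ⟨t', ht'⟩ : ∃ t' : Γ(X, W'), t' = X.presheaf.map (homOfLE hW'W).op t := ⟨_, rfl⟩
  have ht'reg : t' ∈ nonZeroDivisors Γ(X, W') := by
    by_contra hnot
    have h1 : t' ∈ (⋃ p ∈ associatedPrimes Γ(X, W') Γ(X, W'), (p : Set Γ(X, W'))) := by
      rw [biUnion_associatedPrimes_eq_compl_nonZeroDivisors]
      exact hnot
    obtain ⟨P, hP, htP⟩ := Set.mem_iUnion₂.mp h1
    haveI hPprime : P.IsPrime := IsAssociatedPrime.isPrime hP
    have hξW' := pointOfPrime_mem hW' P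
    have hξass : IsAssPt (pointOfPrime hW' P) := isAssPt_pointOfPrime hW' P hP
    have hu : IsUnit (X.presheaf.germ W' (pointOfPrime hW' P) hξW' t') := by
      rw [ht', TopCat.Presheaf.germ_res_apply X.presheaf (homOfLE hW'W) _ hξW' t]
      exact h _ (hW'W hξW') hξass
    have hb : pointOfPrime hW' P ∈ X.basicOpen t' := (Scheme.mem_basicOpen X t' _ hξW').mpr hu
    have hn : t' ∉ (hW'.primeIdealOf ⟨pointOfPrime hW' P, hξW'⟩).asIdeal :=
      (mem_basicOpen_iff_notMem_primeIdealOf hW' _ hξW' t').mp hb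
    rw [primeIdealOf_pointOfPrime hW' P] at hn
    exact hn htP
  have ht'reg' : t' ∈ Mero.regSub X W' := by
    rw [Groth.Agent.S12513.result X W' hW']
    exact ht'reg
  have h2 := ht'reg' ⟨y.1, hyW'⟩
  have h3 : X.presheaf.germ W' y.1 hyW' t' = X.presheaf.germ W y.1 y.2 t := by
    rw [ht', TopCat.Presheaf.germ_res_apply X.presheaf (homOfLE hW'W) y.1 hyW' t]
  show X.presheaf.germ W y.1 y.2 t ∈ nonZeroDivisors (X.presheaf.stalk y.1)
  rw [← h3]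
  exact h2

/-- Two meromorphic functions with the same values at the associated points are equal. -/
lemma kmod_ext_of_assPt {U : X.Opens} (s s' : Γ(Mero.kmod X, U))
    (h : ∀ (ξ : X) (hξ : ξ ∈ U), IsAssPt ξ → s.1 ⟨ξ, hξ⟩ = s'.1 ⟨ξ, hξ⟩) : s = s' := by
  refine Subtype.ext (funext fun z => ?_)
  obtain ⟨W, hzW, i, a, b, w⟩ := s.2 z
  obtain ⟨W', hzW', i', a', b', w'⟩ := s'.2 z
  have hzP : z.1 ∈ W ⊓ W' := ⟨hzW, hzW'⟩
  obtain ⟨t, ht⟩ : ∃ t : Γ(X, W ⊓ W'), t =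
      X.presheaf.map (homOfLE (inf_le_left : W ⊓ W' ≤ W)).op a *
        X.presheaf.map (homOfLE (inf_le_right : W ⊓ W' ≤ W')).op b'.1 -
      X.presheaf.map (homOfLE (inf_le_right : W ⊓ W' ≤ W')).op a' *
        X.presheaf.map (homOfLE (inf_le_left : W ⊓ W' ≤ W)).op b.1 := ⟨_, rfl⟩
  have hgermt : ∀ (y : X) (hy : y ∈ W ⊓ W'), X.presheaf.germ (W ⊓ W') y hy t =
      X.presheaf.germ W y hy.1 a * X.presheaf.germ W' y hy.2 b'.1 -
        X.presheaf.germ W' y hy.2 a' * X.presheaf.germ W y hy.1 b.1 := by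
    intro y hy
    rw [ht, map_sub, map_mul, map_mul, TopCat.Presheaf.germ_res_apply,
      TopCat.Presheaf.germ_res_apply, TopCat.Presheaf.germ_res_apply,
      TopCat.Presheaf.germ_res_apply]
  have ht0 : t = 0 := by
    apply eq_zero_of_assPt
    intro ξ hξ hgen
    rw [hgermt ξ hξ, sub_eq_zero]
    have e1 : s.1 ⟨ξ, i.le hξ.1⟩ = LocalizedModule.mk (X.presheaf.germ W ξ hξ.1 a)
        (Mero.regGerm ⟨ξ, hξ.1⟩ b) := w ⟨ξ, hξ.1⟩
    have e2 : s'.1 ⟨ξ, i'.le hξ.2⟩ = LocalizedModule.mk (X.presheaf.germ W' ξ hξ.2 a')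
        (Mero.regGerm ⟨ξ, hξ.2⟩ b') := w' ⟨ξ, hξ.2⟩
    have e3 : s.1 ⟨ξ, i.le hξ.1⟩ = s'.1 ⟨ξ, i'.le hξ.2⟩ := h ξ (i.le hξ.1) hgen
    have k1 := kmk_mul ξ (X.presheaf.germ W ξ hξ.1 a) (Mero.regGerm ⟨ξ, hξ.1⟩ b)
    have k2 := kmk_mul ξ (X.presheaf.germ W' ξ hξ.2 a') (Mero.regGerm ⟨ξ, hξ.2⟩ b')
    rw [← e1] at k1
    rw [← e2, ← e3] at k2
    apply Mero.algebraMap_KStalk_injective ξ
    rw [map_mul, map_mul, ← k1, ← k2]
    ring
  have hz_eq : X.presheaf.germ W z.1 hzW a * X.presheaf.germ W' z.1 hzW' b'.1 =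
      X.presheaf.germ W' z.1 hzW' a' * X.presheaf.germ W z.1 hzW b.1 := by
    have h1 := hgermt z.1 hzP
    rw [ht0, map_zero] at h1
    exact (sub_eq_zero.mp h1.symm)
  have e1 : s.1 z = LocalizedModule.mk (X.presheaf.germ W z.1 hzW a)
      (Mero.regGerm ⟨z.1, hzW⟩ b) := w ⟨z.1, hzW⟩
  have e2 : s'.1 z = LocalizedModule.mk (X.presheaf.germ W' z.1 hzW' a')
      (Mero.regGerm ⟨z.1, hzW'⟩ b') := w' ⟨z.1, hzW'⟩
  rw [e1, e2]
  exact kmk_eq_kmk _ _ _ _ hz_eq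

lemma finite_assPt {W : X.Opens} (hW : IsAffineOpen W) :
    {ξ : X | ξ ∈ W ∧ IsAssPt ξ}.Finite := by
  classical
  haveI : IsNoetherianRing Γ(X, W) := IsLocallyNoetherian.component_noetherian ⟨W, hW⟩
  refine Set.Finite.of_injOn (f := fun ξ : X => if h : ξ ∈ W then
    (hW.primeIdealOf ⟨ξ, h⟩).asIdeal else ⊥) ?_ ?_ (associatedPrimes.finite Γ(X, W) Γ(X, W))
  · intro ξ hξ
    show (if h : ξ ∈ W then (hW.primeIdealOf ⟨ξ, h⟩).asIdeal else ⊥) ∈ _
    rw [dif_pos hξ.1]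
    exact (isAssPt_iff hW ξ hξ.1).mp hξ.2
  · intro ξ₁ h₁ ξ₂ h₂ heq
    have heq' : (hW.primeIdealOf ⟨ξ₁, h₁.1⟩).asIdeal = (hW.primeIdealOf ⟨ξ₂, h₂.1⟩).asIdeal := by
      have h := heq
      simp only [dif_pos h₁.1, dif_pos h₂.1] at h
      exact h
    have h3 : hW.primeIdealOf ⟨ξ₁, h₁.1⟩ = hW.primeIdealOf ⟨ξ₂, h₂.1⟩ := PrimeSpectrum.ext heq'
    have h4 := congrArg (fun P => hW.fromSpec P) h3
    simp only [hW.fromSpec_primeIdealOf] at h4
    exact h4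

/-- Under `NoEmb`, the maximal ideal at an associated point is the only prime of the local ring. -/
lemma maximalIdeal_le_of_isPrime (hne : NoEmb X) {η : X} (hη : IsAssPt η)
    (Q : Ideal (X.presheaf.stalk η)) [hQ : Q.IsPrime] :
    IsLocalRing.maximalIdeal (X.presheaf.stalk η) ≤ Q := by
  obtain ⟨W, hW0, hηW, -⟩ := Opens.isBasis_iff_nbhd.mp X.isBasis_affineOpens
    (show η ∈ (⊤ : X.Opens) from trivial)
  have hW : IsAffineOpen W := hW0
  haveI : IsNoetherianRing Γ(X, W) := IsLocallyNoetherian.component_noetherian ⟨W, hW⟩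
  obtain ⟨Q₀, hQ₀min, hQ₀le⟩ := Ideal.exists_minimalPrimes_le (show (⊥ : Ideal _) ≤ Q from bot_le)
  haveI hQ₀prime : Q₀.IsPrime := hQ₀min.1.1
  have hQ₀ass : Q₀ ∈ associatedPrimes (X.presheaf.stalk η) (X.presheaf.stalk η) := by
    apply Module.associatedPrimes.minimalPrimes_annihilator_subset_associatedPrimes
      (X.presheaf.stalk η) (X.presheaf.stalk η)
    rw [Module.annihilator_eq_bot.mpr inferInstance]
    exact hQ₀min
  letI := X.presheaf.algebra_section_stalk ⟨η, hηW⟩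
  haveI := hW.isLocalization_stalk ⟨η, hηW⟩
  haveI : IsLocalizedModule (hW.primeIdealOf ⟨η, hηW⟩).asIdeal.primeCompl
      (Algebra.linearMap Γ(X, W) (X.presheaf.stalk η)) :=
    isLocalizedModule_iff_isLocalization.mpr inferInstance
  have hq₀ass : Q₀.comap (algebraMap Γ(X, W) (X.presheaf.stalk η)) ∈
      associatedPrimes Γ(X, W) Γ(X, W) := by
    have h :=
      Module.associatedPrimes.preimage_comap_associatedPrimes_eq_associatedPrimes_of_isLocalizedModule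
        (hW.primeIdealOf ⟨η, hηW⟩).asIdeal.primeCompl (X.presheaf.stalk η)
        (Algebra.linearMap Γ(X, W) (X.presheaf.stalk η))
    rw [← h] at hQ₀ass
    exact hQ₀ass
  haveI hq₀prime : (Q₀.comap (X.presheaf.germ W η hηW).hom).IsPrime := Ideal.comap_isPrime _ Q₀
  have hzass : IsAssPt (pointOfPrime hW (Q₀.comap (X.presheaf.germ W η hηW).hom)) :=
    isAssPt_pointOfPrime hW _ hq₀ass
  have hspec := pointOfPrime_specializes hW (Q₀.comap (X.presheaf.germ W η hηW).hom) η hηW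
    (comap_le_primeIdealOf hW η hηW Q₀)
  have hz := hne η hη _ hzass hspec
  have hQ₀eq := eq_maximalIdeal_of_pointOfPrime_eq hW η hηW Q₀ hz
  rw [← hQ₀eq]
  exact hQ₀le

lemma isNilpotent_of_mem_maximalIdeal (hne : NoEmb X) {η : X} (hη : IsAssPt η)
    (a : X.presheaf.stalk η) (ha : a ∈ IsLocalRing.maximalIdeal (X.presheaf.stalk η)) :
    IsNilpotent a := by
  rw [nilpotent_iff_mem_prime]
  intro Q hQ
  haveI := hQ
  exact maximalIdeal_le_of_isPrime hne hη Q ha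

/-- Local existence of a meromorphic function with prescribed (integral) values at the
associated points. -/
lemma exists_local_mero_assPt (hne : NoEmb X) {W : X.Opens}
    (hW : IsAffineOpen W) (k : ∀ ξ : X, Mero.KStalk X ξ)
    (hk : ∀ ξ : X, ∃ κ : X.presheaf.stalk ξ,
      algebraMap (X.presheaf.stalk ξ) (Mero.KStalk X ξ) κ = k ξ) :
    ∃ s : Γ(Mero.kmod X, W), ∀ (ξ : X) (hξ : ξ ∈ W), IsAssPt ξ → s.1 ⟨ξ, hξ⟩ = k ξ := by
  classical
  obtain ⟨S, hS⟩ : ∃ S : Set X, S = {ξ : X | ξ ∈ W ∧ IsAssPt ξ} := ⟨_, rfl⟩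
  have hSfin : S.Finite := by
    rw [hS]
    exact finite_assPt hW
  haveI : Fintype ↥S := hSfin.fintype
  have hmemS : ∀ ξ : X, ξ ∈ S ↔ (ξ ∈ W ∧ IsAssPt ξ) := fun ξ => by
    rw [hS]
    exact Iff.rfl
  have hSW : ∀ ξ : S, ξ.1 ∈ W := fun ξ => ((hmemS ξ.1).mp ξ.2).1
  have hSass : ∀ ξ : S, IsAssPt ξ.1 := fun ξ => ((hmemS ξ.1).mp ξ.2).2
  have hκ : ∀ ξ : S, ∃ (a s : Γ(X, W)), IsUnit (X.presheaf.germ W ξ.1 (hSW ξ) s) ∧
      k ξ.1 * algebraMap (X.presheaf.stalk ξ.1) (Mero.KStalk X ξ.1)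
        (X.presheaf.germ W ξ.1 (hSW ξ) s) =
      algebraMap (X.presheaf.stalk ξ.1) (Mero.KStalk X ξ.1)
        (X.presheaf.germ W ξ.1 (hSW ξ) a) := by
    intro ξ
    obtain ⟨κ, hκ⟩ := hk ξ.1
    letI := X.presheaf.algebra_section_stalk ⟨ξ.1, hSW ξ⟩
    haveI := hW.isLocalization_stalk ⟨ξ.1, hSW ξ⟩
    obtain ⟨⟨a, s⟩, has⟩ :=
      IsLocalization.surj (hW.primeIdealOf ⟨ξ.1, hSW ξ⟩).asIdeal.primeCompl κ
    refine ⟨a, s.1, IsLocalization.map_units (X.presheaf.stalk ξ.1) s, ?_⟩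
    rw [← hκ, ← map_mul]
    exact congrArg _ has
  have hc : ∀ ξ η : S, ξ ≠ η → ∃ c : Γ(X, W),
      X.presheaf.germ W η.1 (hSW η) c = 0 ∧ IsUnit (X.presheaf.germ W ξ.1 (hSW ξ) c) := by
    intro ξ η hneq
    have hnle : ¬ (hW.primeIdealOf ⟨η.1, hSW η⟩).asIdeal ≤
        (hW.primeIdealOf ⟨ξ.1, hSW ξ⟩).asIdeal := by
      intro hle
      have h1 := pointOfPrime_specializes hW (hW.primeIdealOf ⟨η.1, hSW η⟩).asIdeal ξ.1
        (hSW ξ) hle
      rw [pointOfPrime_primeIdealOf hW η.1 (hSW η)] at h1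
      exact hneq (Subtype.ext (hne ξ.1 (hSass ξ) η.1 (hSass η) h1).symm)
    obtain ⟨c₀, hcη, hcξ⟩ := SetLike.not_le_iff_exists.mp hnle
    have hnu : ¬ IsUnit (X.presheaf.germ W η.1 (hSW η) c₀) := by
      intro hu
      have h2 : η.1 ∈ X.basicOpen c₀ := (Scheme.mem_basicOpen X c₀ η.1 (hSW η)).mpr hu
      exact (mem_basicOpen_iff_notMem_primeIdealOf hW η.1 (hSW η) c₀).mp h2 hcη
    have h3 : X.presheaf.germ W η.1 (hSW η) c₀ ∈
        IsLocalRing.maximalIdeal (X.presheaf.stalk η.1) :=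
      (IsLocalRing.mem_maximalIdeal _).mpr hnu
    obtain ⟨N, hN⟩ := isNilpotent_of_mem_maximalIdeal hne (hSass η) _ h3
    refine ⟨c₀ ^ N, ?_, ?_⟩
    · rw [map_pow, hN]
    · rw [map_pow]
      have h2 : ξ.1 ∈ X.basicOpen c₀ :=
        (mem_basicOpen_iff_notMem_primeIdealOf hW ξ.1 (hSW ξ) c₀).mpr hcξ
      exact ((Scheme.mem_basicOpen X c₀ ξ.1 (hSW ξ)).mp h2).pow N
  choose a s hsu has using hκ
  choose c hc0 hcu using hc
  obtain ⟨e, he⟩ : ∃ e : S → Γ(X, W), ∀ ξ, e ξ =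
      ∏ η : S, (if h : ξ = η then (1 : Γ(X, W)) else c ξ η h) := ⟨_, fun _ => rfl⟩
  have he_unit : ∀ ξ : S, IsUnit (X.presheaf.germ W ξ.1 (hSW ξ) (e ξ)) := by
    intro ξ
    rw [he, map_prod]
    apply Finset.prod_induction _ IsUnit (fun _ _ => IsUnit.mul) isUnit_one
    intro η _
    by_cases h : ξ = η
    · simp only [dif_pos h, map_one, isUnit_one]
    · simp only [dif_neg h]
      exact hcu ξ η h
  have he_zero : ∀ ξ η : S, ξ ≠ η → X.presheaf.germ W η.1 (hSW η) (e ξ) = 0 := by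
    intro ξ η hne
    rw [he, map_prod]
    refine Finset.prod_eq_zero (Finset.mem_univ η) ?_
    simp only [dif_neg hne]
    exact hc0 ξ η hne
  obtain ⟨b, hb⟩ : ∃ b : Γ(X, W), b = ∑ ξ : S, e ξ * s ξ := ⟨_, rfl⟩
  obtain ⟨a', ha'⟩ : ∃ a' : Γ(X, W), a' = ∑ ξ : S, e ξ * a ξ := ⟨_, rfl⟩
  have hb_germ : ∀ η : S, X.presheaf.germ W η.1 (hSW η) b =
      X.presheaf.germ W η.1 (hSW η) (e η) * X.presheaf.germ W η.1 (hSW η) (s η) := by
    intro η
    rw [hb, map_sum, Finset.sum_eq_single η]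
    · rw [map_mul]
    · intro ξ _ hne
      rw [map_mul, he_zero ξ η hne, zero_mul]
    · intro h
      exact absurd (Finset.mem_univ η) h
  have ha_germ : ∀ η : S, X.presheaf.germ W η.1 (hSW η) a' =
      X.presheaf.germ W η.1 (hSW η) (e η) * X.presheaf.germ W η.1 (hSW η) (a η) := by
    intro η
    rw [ha', map_sum, Finset.sum_eq_single η]
    · rw [map_mul]
    · intro ξ _ hne
      rw [map_mul, he_zero ξ η hne, zero_mul]
    · intro h
      exact absurd (Finset.mem_univ η) h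
  have hbreg : b ∈ Mero.regSub X W := by
    apply mem_regSub_of_isUnit_assPt
    intro ξ hξ hgen
    have hξS : ξ ∈ S := by
      rw [hS]
      exact ⟨hξ, hgen⟩
    have h1 := hb_germ ⟨ξ, hξS⟩
    have h2 : IsUnit (X.presheaf.germ W ξ hξ b) := by
      rw [h1]
      exact (he_unit ⟨ξ, hξS⟩).mul (hsu ⟨ξ, hξS⟩)
    exact h2
  refine ⟨⟨fun y => LocalizedModule.mk (X.presheaf.germ W y.1 y.2 a')
    (Mero.regGerm y ⟨b, hbreg⟩), fun y => ⟨W, y.2, 𝟙 _, a', ⟨b, hbreg⟩, fun _ => rfl⟩⟩, ?_⟩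
  intro ξ hξ hgen
  have hξS : ξ ∈ S := by
    rw [hS]
    exact ⟨hξ, hgen⟩
  show LocalizedModule.mk (X.presheaf.germ W ξ hξ a')
    (Mero.regGerm (⟨ξ, hξ⟩ : W) ⟨b, hbreg⟩) = k ξ
  have hunit : IsUnit (algebraMap (X.presheaf.stalk ξ) (Mero.KStalk X ξ)
      ((Mero.regGerm (⟨ξ, hξ⟩ : W) ⟨b, hbreg⟩ : Mero.regStalk X ξ) : X.presheaf.stalk ξ)) :=
    IsLocalization.map_units (Mero.KStalk X ξ) (Mero.regGerm (⟨ξ, hξ⟩ : W) ⟨b, hbreg⟩)
  apply (IsUnit.mul_left_inj hunit).mp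
  rw [kmk_mul]
  show algebraMap (X.presheaf.stalk ξ) (Mero.KStalk X ξ) (X.presheaf.germ W ξ hξ a') =
    k ξ * algebraMap (X.presheaf.stalk ξ) (Mero.KStalk X ξ) (X.presheaf.germ W ξ hξ b)
  have h1 := ha_germ ⟨ξ, hξS⟩
  have h2 := hb_germ ⟨ξ, hξS⟩
  have h3 := has ⟨ξ, hξS⟩
  have h1' : X.presheaf.germ W ξ hξ a' = X.presheaf.germ W ξ hξ (e ⟨ξ, hξS⟩) *
      X.presheaf.germ W ξ hξ (a ⟨ξ, hξS⟩) := h1
  have h2' : X.presheaf.germ W ξ hξ b = X.presheaf.germ W ξ hξ (e ⟨ξ, hξS⟩) *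
      X.presheaf.germ W ξ hξ (s ⟨ξ, hξS⟩) := h2
  have h3' : k ξ * algebraMap (X.presheaf.stalk ξ) (Mero.KStalk X ξ)
      (X.presheaf.germ W ξ hξ (s ⟨ξ, hξS⟩)) =
      algebraMap (X.presheaf.stalk ξ) (Mero.KStalk X ξ)
        (X.presheaf.germ W ξ hξ (a ⟨ξ, hξS⟩)) := h3
  rw [h1', h2', map_mul, map_mul, mul_left_comm, h3']

/-- Existence of a meromorphic function with prescribed (integral) values at the associated
points. -/
lemma exists_mero_of_assPt (hne : NoEmb X) (U : X.Opens)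
    (k : ∀ ξ : X, Mero.KStalk X ξ)
    (hk : ∀ ξ : X, ∃ κ : X.presheaf.stalk ξ,
      algebraMap (X.presheaf.stalk ξ) (Mero.KStalk X ξ) κ = k ξ) :
    ∃ s : Γ(Mero.kmod X, U), ∀ (ξ : X) (hξ : ξ ∈ U), IsAssPt ξ → s.1 ⟨ξ, hξ⟩ = k ξ := by
  have hloc : ∀ z : U, ∃ (W : X.Opens) (_ : z.1 ∈ W) (_ : W ≤ U) (s : Γ(Mero.kmod X, W)),
      ∀ (ξ : X) (hξ : ξ ∈ W), IsAssPt ξ → s.1 ⟨ξ, hξ⟩ = k ξ := by
    intro z
    obtain ⟨W, hW0, hzW, hWU⟩ := Opens.isBasis_iff_nbhd.mp X.isBasis_affineOpens z.2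
    have hW : IsAffineOpen W := hW0
    obtain ⟨s, hs⟩ := exists_local_mero_assPt hne hW k hk
    exact ⟨W, hzW, hWU, s, hs⟩
  choose W hzW hWU s hs using hloc
  have key : ∀ (z z' : U) (y : X) (hy : y ∈ W z) (hy' : y ∈ W z'),
      (s z).1 ⟨y, hy⟩ = (s z').1 ⟨y, hy'⟩ := by
    intro z z' y hy hy'
    have h1 : (Mero.kmod X).presheaf.map (homOfLE (inf_le_left : W z ⊓ W z' ≤ W z)).op (s z) =
        (Mero.kmod X).presheaf.map (homOfLE (inf_le_right : W z ⊓ W z' ≤ W z')).op (s z') := by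
      apply kmod_ext_of_assPt
      intro ξ hξ hgen
      show (s z).1 ⟨ξ, hξ.1⟩ = (s z').1 ⟨ξ, hξ.2⟩
      rw [hs z ξ hξ.1 hgen, hs z' ξ hξ.2 hgen]
    have h2 := congrArg (fun t : Γ(Mero.kmod X, W z ⊓ W z') => t.1 ⟨y, ⟨hy, hy'⟩⟩) h1
    exact h2
  obtain ⟨sfun, hsfun⟩ : ∃ sfun : ∀ z : U, Mero.KStalk X z.1,
      ∀ z : U, sfun z = (s z).1 ⟨z.1, hzW z⟩ := ⟨_, fun _ => rfl⟩
  have hpred : (Mero.kLoc X).pred sfun := by
    refine (Mero.kLoc X).locality sfun (fun z => ⟨W z, hzW z, homOfLE (hWU z), ?_⟩)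
    have e : (fun y : W z => sfun ⟨y.1, hWU z y.2⟩) = (s z).1 := by
      funext y
      rw [hsfun]
      exact key ⟨y.1, hWU z y.2⟩ z y.1 (hzW _) y.2
    exact e ▸ (s z).2
  refine ⟨⟨sfun, hpred⟩, ?_⟩
  intro ξ hξ hgen
  show sfun ⟨ξ, hξ⟩ = k ξ
  rw [hsfun]
  exact hs ⟨ξ, hξ⟩ ξ (hzW _) hgen

/-- A unit meromorphic function with prescribed unit (integral) values at the associated
points. -/
lemma exists_unit_of_assPt (hne : NoEmb X) (U : X.Opens)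
    (k : ∀ ξ : X, (X.presheaf.stalk ξ)ˣ) :
    ∃ f : (Γ(Mero.kmod X, U))ˣ, ∀ (ξ : X) (hξ : ξ ∈ U), IsAssPt ξ →
      (f : Γ(Mero.kmod X, U)).1 ⟨ξ, hξ⟩ =
        algebraMap (X.presheaf.stalk ξ) (Mero.KStalk X ξ) ((k ξ : (X.presheaf.stalk ξ)ˣ) :
          X.presheaf.stalk ξ) := by
  obtain ⟨s, hs⟩ : ∃ s : Γ(Mero.kmod X, U), ∀ (ξ : X) (hξ : ξ ∈ U), IsAssPt ξ →
      s.1 ⟨ξ, hξ⟩ = algebraMap (X.presheaf.stalk ξ) (Mero.KStalk X ξ)
        ((k ξ : (X.presheaf.stalk ξ)ˣ) : X.presheaf.stalk ξ) :=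
    exists_mero_of_assPt hne U
      (fun ξ => algebraMap (X.presheaf.stalk ξ) (Mero.KStalk X ξ)
        ((k ξ : (X.presheaf.stalk ξ)ˣ) : X.presheaf.stalk ξ))
      (fun ξ => ⟨_, rfl⟩)
  obtain ⟨s', hs'⟩ : ∃ s' : Γ(Mero.kmod X, U), ∀ (ξ : X) (hξ : ξ ∈ U), IsAssPt ξ →
      s'.1 ⟨ξ, hξ⟩ = algebraMap (X.presheaf.stalk ξ) (Mero.KStalk X ξ)
        (((k ξ)⁻¹ : (X.presheaf.stalk ξ)ˣ) : X.presheaf.stalk ξ) :=
    exists_mero_of_assPt hne U
      (fun ξ => algebraMap (X.presheaf.stalk ξ) (Mero.KStalk X ξ)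
        (((k ξ)⁻¹ : (X.presheaf.stalk ξ)ˣ) : X.presheaf.stalk ξ))
      (fun ξ => ⟨_, rfl⟩)
  have h1 : s * s' = 1 := by
    apply kmod_ext_of_assPt
    intro ξ hξ hass
    show s.1 ⟨ξ, hξ⟩ * s'.1 ⟨ξ, hξ⟩ = 1
    rw [hs ξ hξ hass, hs' ξ hξ hass, ← map_mul, Units.mul_inv, map_one]
  exact ⟨Units.mkOfMulEqOne s s' h1, hs⟩

/-- On a locally Noetherian scheme without embedded points every invertible module has
compatible local meromorphic coordinates. -/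
theorem exists_data_of_noEmb (hne : NoEmb X) (L : X.Modules)
    (hL : PicF.IsInvertible L) :
    ∃ (V : X → X.Opens) (τ : ∀ x, Γ(L, V x)) (f : ∀ x, (Γ(Mero.kmod X, V x))ˣ),
      (∀ x, x ∈ V x) ∧ (∀ x, IsGen L (V x) (τ x)) ∧ Compat L V τ f := by
  classical
  choose V τ hxV hτ using fun x : X => exists_isGen hL x
  have hu : ∀ x ξ : X, ∃ u : Γ(X, V x ⊓ V ξ),
      L.presheaf.map (homOfLE (inf_le_right : V x ⊓ V ξ ≤ V ξ)).op (τ ξ) =
        u • L.presheaf.map (homOfLE (inf_le_left : V x ⊓ V ξ ≤ V x)).op (τ x) := by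
    intro x ξ
    obtain ⟨u, hu⟩ := ((hτ x) (V x ⊓ V ξ) inf_le_left).2
      (L.presheaf.map (homOfLE (inf_le_right : V x ⊓ V ξ ≤ V ξ)).op (τ ξ))
    exact ⟨u, hu.symm⟩
  choose u hu using hu
  have huunit : ∀ x ξ : X, IsUnit (u x ξ) := fun x ξ =>
    isUnit_of_gens ((hτ x).res inf_le_left) ((hτ ξ).res inf_le_right) (u x ξ) (hu x ξ)
  have hmem : ∀ (x ξ : X), ξ ∈ V x → ξ ∈ V x ⊓ V ξ := fun x ξ hξ =>
    Opens.mem_inf.mpr ⟨hξ, hxV ξ⟩
  have hgu : ∀ (x ξ : X) (hξ : ξ ∈ V x),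
      IsUnit (X.presheaf.germ (V x ⊓ V ξ) ξ (hmem x ξ hξ) (u x ξ)) := fun x ξ hξ =>
    (huunit x ξ).map (X.presheaf.germ (V x ⊓ V ξ) ξ (hmem x ξ hξ)).hom
  obtain ⟨k, hk⟩ : ∃ k : ∀ x ξ : X, (X.presheaf.stalk ξ)ˣ, ∀ (x ξ : X) (hξ : ξ ∈ V x),
      ((k x ξ : (X.presheaf.stalk ξ)ˣ) : X.presheaf.stalk ξ) =
        X.presheaf.germ (V x ⊓ V ξ) ξ (hmem x ξ hξ) (u x ξ) := by
    refine ⟨fun x ξ => if hξ : ξ ∈ V x then (hgu x ξ hξ).unit else 1, fun x ξ hξ => ?_⟩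
    beta_reduce
    rw [dif_pos hξ]
    rfl
  choose f hf using fun x : X => exists_unit_of_assPt hne (V x) (k x)
  refine ⟨V, τ, f, hxV, hτ, ?_⟩
  intro x y W hi hj w hw z
  have h12 : ((Mero.kmod X).presheaf.map (homOfLE hi).op (f x : Γ(Mero.kmod X, V x)) :
      Γ(Mero.kmod X, W)) = Mero.toK X W w *
      ((Mero.kmod X).presheaf.map (homOfLE hj).op (f y : Γ(Mero.kmod X, V y)) :
        Γ(Mero.kmod X, W)) := by
    apply kmod_ext_of_assPt
    intro ξ hξ hgen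
    show (f x : Γ(Mero.kmod X, V x)).1 ⟨ξ, hi hξ⟩ =
      (Mero.toK X W w).1 ⟨ξ, hξ⟩ * (f y : Γ(Mero.kmod X, V y)).1 ⟨ξ, hj hξ⟩
    rw [hf x ξ (hi hξ) hgen, hf y ξ (hj hξ) hgen, hk x ξ (hi hξ), hk y ξ (hj hξ)]
    show algebraMap (X.presheaf.stalk ξ) (Mero.KStalk X ξ)
        (X.presheaf.germ (V x ⊓ V ξ) ξ (hmem x ξ (hi hξ)) (u x ξ)) =
      (LocalizedModule.mk (X.presheaf.germ W ξ hξ w) 1 : Mero.KStalk X ξ) *
        algebraMap (X.presheaf.stalk ξ) (Mero.KStalk X ξ)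
          (X.presheaf.germ (V y ⊓ V ξ) ξ (hmem y ξ (hj hξ)) (u y ξ))
    rw [kmk_one, ← map_mul,
      germ_transition L (τ x) (hτ x) (τ y) (τ ξ) (u x ξ) (hu x ξ) (u y ξ) (hu y ξ) W hi hj w hw
        ξ hξ (hxV ξ) (hmem x ξ (hi hξ)) (hmem y ξ (hj hξ))]
  have h3 := congrArg (fun t : Γ(Mero.kmod X, W) => t.1 z) h12
  have h4 : (f x : Γ(Mero.kmod X, V x)).1 ⟨z.1, hi z.2⟩ =
      (Mero.toK X W w).1 z * (f y : Γ(Mero.kmod X, V y)).1 ⟨z.1, hj z.2⟩ := h3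
  rw [h4, Mero.toK_apply, kmk_one]

end Noeth

end Groth.Agent.H95.NoethMero
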