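import Groth.Agent.H97.OrdOpen

/-!
# Order of vanishing along morphisms inducing isomorphisms of local rings

For `j : V ⟶ X` a morphism of integral locally Noetherian schemes mapping the generic point to the
generic point and inducing isomorphisms on all stalks (e.g. `Spec O_{X,x} ⟶ X`):
`ffEquiv j : X.functionField ≃+* V.functionField`, `coheight_eq`, and
`ord_ffEquiv : Scheme.ord (ffEquiv j f) v = Scheme.ord f (j v)`.
-/

set_option autoImplicit false
set_option linter.style.haveILetI false

universe u

open CategoryTheory AlgebraicGeometry TopologicalSpace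

namespace Groth.Agent.H95.OrdLocIso

open Groth.Agent.H97.OrdOpen (ordFrac_transport)

variable {V X : Scheme.{u}} [IsIntegral V] [IsIntegral X] (j : V ⟶ X)
  (hiso : ∀ v : V, IsIso (j.stalkMap v)) (hgen : j (genericPoint V) = genericPoint X)

/-- The comparison map of function fields. -/
noncomputable def ffHom : X.functionField ⟶ V.functionField :=
  X.presheaf.stalkSpecializes (specializes_of_eq hgen) ≫ j.stalkMap (genericPoint V)

include hiso in
theorem isIso_ffHom : IsIso (ffHom j hgen) := by
  haveI : IsIso (X.presheaf.stalkSpecializes (specializes_of_eq hgen)) :=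
    ⟨⟨X.presheaf.stalkSpecializes (specializes_of_eq hgen.symm), by simp, by simp⟩⟩
  haveI := hiso (genericPoint V)
  unfold ffHom
  infer_instance

/-- The isomorphism of function fields. -/
noncomputable def ffEquiv : X.functionField ≃+* V.functionField :=
  haveI := isIso_ffHom j hiso hgen
  RingEquiv.ofBijective (ffHom j hgen).hom (ConcreteCategory.bijective_of_isIso (ffHom j hgen))

/-- The isomorphism of stalks. -/
noncomputable def stalkEquiv (v : V) : X.presheaf.stalk (j v) ≃+* V.presheaf.stalk v :=
  haveI := hiso v
  RingEquiv.ofBijective (j.stalkMap v).hom (ConcreteCategory.bijective_of_isIso (j.stalkMap v))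

theorem ffEquiv_algebraMap (v : V) (r : X.presheaf.stalk (j v)) :
    ffEquiv j hiso hgen (algebraMap (X.presheaf.stalk (j v)) X.functionField r) =
      algebraMap (V.presheaf.stalk v) V.functionField (stalkEquiv j hiso v r) := by
  have hv : genericPoint V ⤳ v := (genericPoint_spec V).specializes (Set.mem_univ v)
  have hX : genericPoint X ⤳ j v := (genericPoint_spec X).specializes (Set.mem_univ _)
  have h1 : (X.presheaf.stalkSpecializes (specializes_of_eq hgen)).hom
      ((X.presheaf.stalkSpecializes hX).hom r) =
      (X.presheaf.stalkSpecializes (j.base.hom.map_specializes hv)).hom r :=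
    TopCat.Presheaf.stalkSpecializes_comp_apply X.presheaf (specializes_of_eq hgen) hX r
  have h2 := Scheme.Hom.stalkSpecializes_stalkMap_apply j (genericPoint V) v hv r
  exact (congrArg (j.stalkMap (genericPoint V)).hom h1).trans h2

include hiso in
theorem coheight_eq (v : V) : Order.coheight (j v) = Order.coheight v := by
  have h1 := ringKrullDim_stalk_eq_coheight (j v)
  have h2 := ringKrullDim_stalk_eq_coheight v
  have h3 := ringKrullDim_eq_of_ringEquiv (stalkEquiv j hiso v)
  rw [h1, h2] at h3
  exact WithBot.coe_injective h3

variable [IsLocallyNoetherian V] [IsLocallyNoetherian X]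

theorem ord_ffEquiv (f : X.functionField) (v : V) :
    Scheme.ord (ffEquiv j hiso hgen f) v = Scheme.ord f (j v) := by
  have hco : Order.coheight (j v) = Order.coheight v := coheight_eq j hiso v
  by_cases hv : Order.coheight v = 1
  · have hjv : Order.coheight (j v) = 1 := hco.trans hv
    by_cases hf : f = 0
    · subst hf; simp
    · have hf' : ffEquiv j hiso hgen f ≠ 0 :=
        (EmbeddingLike.map_ne_zero_iff (f := ffEquiv j hiso hgen)).mpr hf
      rw [Scheme.ord_eq_iff hv hf']
      have h2 := (Scheme.ord_eq_iff hjv hf (n := Scheme.ord f (j v))).mp rfl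
      rw [← h2]
      haveI : Ring.KrullDimLE 1 (V.presheaf.stalk v) := krullDimLE_of_coheight_le hv.le
      haveI : Ring.KrullDimLE 1 (X.presheaf.stalk (j v)) := krullDimLE_of_coheight_le hjv.le
      exact ordFrac_transport (stalkEquiv j hiso v) (ffEquiv j hiso hgen)
        (ffEquiv_algebraMap j hiso hgen v) f
  · rw [Scheme.ord_eq_zero_of_coheight_neq_one hv,
      Scheme.ord_eq_zero_of_coheight_neq_one (by rw [hco]; exact hv)]

end Groth.Agent.H95.OrdLocIso
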