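import Groth.Agent.H95.TfaeDiv
import Groth.Agent.H95.OrdLocIso
import Groth.Agent.H89.LocImm11
import Groth.Prelude.Def_ParaF

/-!
# Locally principal cycles and parafactorial local rings

On a normal locally Noetherian integral scheme, a codimension one cycle which is principal at the
points of a set `S` is principal at every point, provided the local rings of dimension at least two
at the points none of whose specializations lies in `S` are parafactorial.
-/

set_option autoImplicit false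
set_option linter.style.haveILetI false

universe u

open CategoryTheory CategoryTheory.Limits AlgebraicGeometry TopologicalSpace Opposite IsLocalRing
  CDiv

namespace Groth.Agent.H95.ParaFPrincipal

open Groth.Agent.H18.TensorGen (IsGen isGen_one exists_isGen isInvertible_of_isGen)
open Groth.Agent.H95.SecOrd
open Groth.Agent.H95.RefGen
open Groth.Agent.H95.RefIso
open Groth.Agent.H95.RefGroup
open Groth.Agent.H95.WeilSheaf
open Groth.Agent.H95.WeilFactorial
open Groth.Agent.H95.TfaeDiv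
open Groth.Agent.H15.CDivLib

/-! ### restriction of a module with local generators -/

theorem isInvertible_restrict_of_gens {X : Scheme.{u}} (M : X.Modules) (U : X.Opens)
    (hgen : ∀ y : X, y ∈ U → ∃ (V : X.Opens) (τ : Γ(M, V)), y ∈ V ∧ IsGen M V τ) :
    PicF.IsInvertible (M.restrict U.ι) := by
  refine isInvertible_of_isGen _ (fun y' => ?_)
  have hyU : U.ι y' ∈ U := by
    have h1 : U.ι y' ∈ U.ι.opensRange := ⟨y', rfl⟩
    rwa [Scheme.Opens.opensRange_ι] at h1
  obtain ⟨V, τ, hyV, hτ⟩ := hgen (U.ι y') hyU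
  have hτ' := hτ.res (inf_le_left : V ⊓ U ≤ V)
  obtain ⟨W, hW⟩ := Groth.Agent.H22.GenLocus.exists_eq_image (inf_le_right : V ⊓ U ≤ U)
  have hex : ∃ μ : Γ(M, U.ι ''ᵁ W), IsGen M (U.ι ''ᵁ W) μ := by
    rw [← hW]
    exact ⟨_, hτ'⟩
  obtain ⟨μ, hμ⟩ := hex
  refine ⟨W, Groth.Agent.H18.RestrictTensor.toRes U.ι _ μ, ?_,
    Groth.Agent.H18.RestrictTensor.isGen_restrict U.ι _ hμ⟩
  have h2 : U.ι y' ∈ U.ι ''ᵁ W := by
    rw [← hW]
    exact ⟨hyV, hyU⟩
  obtain ⟨w, hwW, hw⟩ := h2
  have h3 : w = y' := U.ι.isOpenEmbedding.injective hw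
  exact h3 ▸ hwW

/-! ### the punctured spectrum of a parafactorial local ring -/

section Punct

variable (A : CommRingCat.{u}) [IsLocalRing A]

/-- the closed point as a closed subset -/
noncomputable abbrev cl : Closeds (Spec A) :=
  ⟨{IsLocalRing.closedPoint A}, IsLocalRing.isClosed_singleton_closedPoint A⟩

/-- the punctured spectrum -/
noncomputable abbrev punct : (Spec A).Opens := ⊤ ⊓ (cl A).compl

lemma mem_punct (y : Spec A) : y ∈ punct A ↔ y ≠ IsLocalRing.closedPoint A := by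
  constructor
  · rintro ⟨-, h⟩ e
    exact h e
  · intro h
    exact ⟨trivial, h⟩

theorem picTrivial_punct (hpar : ParaF.IsParafactorialLocalRing A)
    (L₀ : ((punct A : (Spec A).Opens) : Scheme.{u}).Modules) (hL₀ : PicF.IsInvertible L₀) :
    Nonempty (L₀ ≅ Coh.structureModule ((punct A : (Spec A).Opens) : Scheme.{u})) := by
  have hpar' : ParaF.InvRestrictEquiv
      ((Spec A).homOfLE (inf_le_left : (⊤ : (Spec A).Opens) ⊓ (cl A).compl ≤ ⊤)) := hpar ⊤
  obtain ⟨L, hL, ⟨e⟩⟩ := hpar'.2 L₀ hL₀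
  have hcp : IsLocalRing.closedPoint A ∈ (⊤ : (Spec A).Opens).ι.opensRange := by
    rw [Scheme.Opens.opensRange_ι]
    trivial
  obtain ⟨t₀, ht₀⟩ := hcp
  obtain ⟨V, τ, ht₀V, hτ⟩ := exists_isGen hL t₀
  have hVtop : V = ⊤ := by
    rw [eq_top_iff]
    intro t _
    have h1 : (⊤ : (Spec A).Opens).ι t ⤳ (⊤ : (Spec A).Opens).ι t₀ := by
      rw [ht₀]
      exact IsLocalRing.specializes_closedPoint _
    have h2 : t ⤳ t₀ :=
      ((⊤ : (Spec A).Opens).ι.isOpenEmbedding.isInducing.specializes_iff).mp h1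
    exact h2.mem_open V.2 ht₀V
  subst hVtop
  have h1 := hτ.res (le_top : ((Spec A).homOfLE
    (inf_le_left : (⊤ : (Spec A).Opens) ⊓ (cl A).compl ≤ ⊤)) ''ᵁ ⊤ ≤ ⊤)
  have h2 := Groth.Agent.H18.RestrictTensor.isGen_restrict
    ((Spec A).homOfLE (inf_le_left : (⊤ : (Spec A).Opens) ⊓ (cl A).compl ≤ ⊤)) L h1
  obtain ⟨e2⟩ := Groth.Agent.H18.RestrictUnit.nonempty_iso_unit_of_global _ _
    (fun W => h2 W le_top)
  exact ⟨e.symm ≪≫ e2⟩

end Punct

/-! ### orders of regular functions on an affine scheme -/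

section SpecOrd

variable (R : CommRingCat.{u}) [IsDomain R] [IsNoetherianRing R]

theorem ord_iota_nonneg (hX : Pi1.IsNormalScheme (Spec R)) (y : Spec R)
    (hy : Order.coheight y = 1) (a : R) (ha : a ≠ 0) :
    0 ≤ Scheme.ord (algebraMap R (Spec R).functionField a) y := by
  have hne : algebraMap R (Spec R).functionField a ≠ 0 := fun h0 =>
    ha (IsFractionRing.injective R (Spec R).functionField (by rw [h0, map_zero]))
  have h := (Groth.Agent.S2876.zero_le_ord_iff hX y hy (Units.mk0 _ hne)).mpr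
    ⟨StructureSheaf.toStalk R y a, (Groth.Agent.H95.AffSpaceOrd.iota_eq R y a).symm⟩
  rwa [Units.val_mk0] at h

set_option backward.isDefEq.respectTransparency.types false in
theorem one_le_ord_iota (hX : Pi1.IsNormalScheme (Spec R)) (y : Spec R)
    (hy : Order.coheight y = 1) (a : R) (ha : a ≠ 0) (hay : a ∈ PrimeSpectrum.asIdeal y) :
    1 ≤ Scheme.ord (algebraMap R (Spec R).functionField a) y := by
  have h0 := ord_iota_nonneg R hX y hy a ha
  have hne : algebraMap R (Spec R).functionField a ≠ 0 := fun h0 =>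
    ha (IsFractionRing.injective R (Spec R).functionField (by rw [h0, map_zero]))
  letI : Algebra R ((Spec R).presheaf.stalk y) := StructureSheaf.stalkAlgebra R y
  haveI : (PrimeSpectrum.asIdeal y).IsPrime := PrimeSpectrum.isPrime y
  haveI : IsLocalization.AtPrime ((Spec R).presheaf.stalk y) (PrimeSpectrum.asIdeal y) :=
    StructureSheaf.IsLocalization.to_stalk R y
  have hnu : ¬ IsUnit (StructureSheaf.toStalk R y a) := fun hu =>
    ((IsLocalization.AtPrime.isUnit_to_map_iff ((Spec R).presheaf.stalk y)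
      (PrimeSpectrum.asIdeal y) a).mp hu) hay
  have hs0 : StructureSheaf.toStalk R y a ≠ 0 := by
    intro hz
    apply hne
    rw [Groth.Agent.H95.AffSpaceOrd.iota_eq R y a, hz]
    exact map_zero _
  have h1 := Groth.Agent.H95.AffSpaceOrd.ord_ne_zero_of_not_isUnit y hy _ hs0 hnu
  rw [← Groth.Agent.H95.AffSpaceOrd.iota_eq R y a] at h1
  omega

end SpecOrd

/-! ### the local statement -/

section Local

variable (A : CommRingCat.{u}) [IsDomain A] [IsNoetherianRing A] [IsLocalRing A]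

theorem principal_on_local (hX : Pi1.IsNormalScheme (Spec A))
    (hdim : ∀ z : Spec A, Order.coheight z ≤ 1 → z ≠ IsLocalRing.closedPoint A)
    (hpic : ∀ L₀ : ((punct A : (Spec A).Opens) : Scheme.{u}).Modules, PicF.IsInvertible L₀ →
      Nonempty (L₀ ≅ Coh.structureModule ((punct A : (Spec A).Opens) : Scheme.{u})))
    (E : Spec A → ℕ) (hfinE : {y | E y ≠ 0}.Finite)
    (hE1 : ∀ y : Spec A, Order.coheight y ≠ 1 → E y = 0)
    (hloc : ∀ y : Spec A, y ≠ IsLocalRing.closedPoint A → ∃ f : KUnits (Spec A),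
      ∀ z : Spec A, z ⤳ y → Order.coheight z = 1 →
        Scheme.ord (f : (Spec A).functionField) z = (E z : ℤ)) :
    ∃ f : (Spec A).functionField, f ≠ 0 ∧
      ∀ z : Spec A, Order.coheight z = 1 → Scheme.ord f z = (E z : ℤ) := by
  have hfin : LocFin E := fun x => ⟨⊤, trivial, hfinE.subset (fun w hw => hw.2)⟩
  have hgen : ∀ y : Spec A, y ∈ punct A →
      ∃ (V : (Spec A).Opens) (τ : Γ(ClSub.idealMod (wJ E hfin), V)),
        y ∈ V ∧ IsGen (ClSub.idealMod (wJ E hfin)) V τ := by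
    intro y hy
    obtain ⟨f, hf⟩ := hloc y ((mem_punct A y).mp hy)
    exact exists_isGen_wJ_of_function hX hfin hE1 y f hf
  have hinvU := isInvertible_restrict_of_gens (ClSub.idealMod (wJ E hfin)) (punct A) hgen
  obtain ⟨e⟩ := hpic _ hinvU
  obtain ⟨σ, hσ⟩ :=
    Groth.Agent.H22.GenLocus.exists_generator (ClSub.idealMod (wJ E hfin)) (punct A) e
  have hσ' : IsGen (ClSub.idealMod (wJ E hfin)) (punct A) σ := hσ
  have hcodimU : ∀ z : Spec A, Order.coheight z = 1 → z ∈ punct A :=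
    fun z hz => (mem_punct A z).mpr (hdim z hz.le)
  have hηU : genericPoint (Spec A) ∈ punct A := by
    refine (mem_punct A _).mpr (hdim _ ?_)
    have h0 : Order.coheight (genericPoint (Spec A)) = 0 := Order.coheight_top (Spec A)
    rw [h0]
    exact bot_le
  refine ⟨(Spec A).presheaf.germ (punct A) (genericPoint (Spec A)) hηU
    (inc (wJ E hfin) (punct A) σ), ?_, ?_⟩
  · have hne := inc_ne_zero_of_isGen (wJ E hfin) hσ' ⟨⟨genericPoint (Spec A), hηU⟩⟩
    intro h0
    exact hne (germ_injective_of_isIntegral (Spec A) (genericPoint (Spec A)) hηU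
      (h0.trans (map_zero _).symm))
  · intro z hz1
    exact ord_gen hX hfin hE1 z hz1 hσ' (hcodimU z hz1) hηU

end Local

/-! ### the global statement -/

section Main

variable {X : Scheme.{u}} [IsIntegral X] [IsLocallyNoetherian X]

/-- `Z` is principal at `x`. -/
def PrincAt (Z : X → ℤ) (x : X) : Prop :=
  ∃ f : X.functionField, f ≠ 0 ∧
    ∀ x' : X, Order.coheight x' = 1 → x' ⤳ x → Z x' = Scheme.ord f x'

theorem princAt_of_dim_le_one (hX : Pi1.IsNormalScheme X) (Z : X → ℤ) (x : X)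
    (hx : Order.coheight x ≤ 1) : PrincAt Z x := by
  by_cases h1 : Order.coheight x = 1
  · haveI := Groth.Agent.S2876.isDVR_of_coheight_one hX x h1
    obtain ⟨ϖ, hϖ⟩ := IsDiscreteValuationRing.exists_irreducible (X.presheaf.stalk x)
    have hm : maximalIdeal (X.presheaf.stalk x) = Ideal.span {ϖ} :=
      (IsDiscreteValuationRing.irreducible_iff_uniformizer ϖ).mp hϖ
    have hp0 : algebraMap (X.presheaf.stalk x) X.functionField ϖ ≠ 0 := by
      intro h0
      exact hϖ.ne_zero (IsFractionRing.injective (X.presheaf.stalk x) X.functionField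
        (by rw [h0, map_zero]))
    have hp1 : Scheme.ord (algebraMap (X.presheaf.stalk x) X.functionField ϖ) x = 1 :=
      Groth.Agent.H95.AffSpaceOrd.ord_of_uniformizer_stalk x h1 ϖ hϖ.ne_zero hm
    refine ⟨algebraMap (X.presheaf.stalk x) X.functionField ϖ ^ Z x, zpow_ne_zero _ hp0,
      fun x' hx' hx'x => ?_⟩
    have e : x = x' := eq_of_specializes_coheight_one hx'x hx' h1
    rw [← e, Groth.Agent.H95.AffSpaceOrd.ord_zpow' x hp0, hp1, mul_one]
  · refine ⟨1, one_ne_zero, fun x' hx' hx'x => ?_⟩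
    exfalso
    have h0 : Order.coheight x = 0 := Order.lt_one_iff.mp (lt_of_le_of_ne hx h1)
    have hle : x ≤ x' := hx'x
    have h2 := Order.coheight_anti hle
    rw [hx', h0] at h2
    exact (Order.one_le_iff_pos.mp h2 |>.ne') rfl

theorem isIso_stalkMap_fromSpecStalk (x : X) (y : Spec (X.presheaf.stalk x)) :
    IsIso ((X.fromSpecStalk x).stalkMap y) :=
  Groth.Agent.H89.LocImmLib.isIso_stalkMap _
    (Groth.Agent.H89.LocImmLib.isLocImmersion_fromSpecStalk X x).1 y

theorem fromSpecStalk_generic (x : X) :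
    (X.fromSpecStalk x) (genericPoint (Spec (X.presheaf.stalk x))) = genericPoint X := by
  have h1 : genericPoint X ∈ Set.range (X.fromSpecStalk x) := by
    rw [Scheme.range_fromSpecStalk]
    exact genericPoint_specializes x
  obtain ⟨y₀, hy₀⟩ := h1
  have h2 : (X.fromSpecStalk x) (genericPoint (Spec (X.presheaf.stalk x))) ⤳ genericPoint X := by
    rw [← hy₀]
    exact (genericPoint_specializes y₀).map (X.fromSpecStalk x).continuous
  exact ((genericPoint_specializes _).antisymm h2).eq.symm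

theorem normal_spec_stalk (hX : Pi1.IsNormalScheme X) (x : X) :
    Pi1.IsNormalScheme (Spec (X.presheaf.stalk x)) := by
  intro y
  obtain ⟨h1, h2⟩ := hX ((X.fromSpecStalk x) y)
  have e : X.presheaf.stalk ((X.fromSpecStalk x) y) ≃+*
      (Spec (X.presheaf.stalk x)).presheaf.stalk y :=
    Groth.Agent.H95.OrdLocIso.stalkEquiv (X.fromSpecStalk x) (isIso_stalkMap_fromSpecStalk x) y
  exact ⟨e.symm.toMulEquiv.isDomain _, IsIntegrallyClosed.of_equiv e⟩

theorem princAt_of_parafactorial (hX : Pi1.IsNormalScheme X) (Z : X → ℤ)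
    (hZ : ∀ x : X, Order.coheight x ≠ 1 → Z x = 0)
    (hZfin : ∀ x : X, ∃ W : X.Opens, x ∈ W ∧ {z : X | z ∈ W ∧ Z z ≠ 0}.Finite) (x : X)
    (hparx : ParaF.IsParafactorialLocalRing (X.presheaf.stalk x))
    (hd : 1 < Order.coheight x)
    (IH : ∀ y : X, y ⤳ x → y ≠ x → PrincAt Z y) : PrincAt Z x := by
  classical
  have hiso := isIso_stalkMap_fromSpecStalk x
  have hgenφ := fromSpecStalk_generic x
  have hXY := normal_spec_stalk hX x
  have hφc : ∀ y : Spec (X.presheaf.stalk x),
      Order.coheight ((X.fromSpecStalk x) y) = Order.coheight y :=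
    fun y => Groth.Agent.H95.OrdLocIso.coheight_eq _ hiso y
  have hφinj : Function.Injective (X.fromSpecStalk x) :=
    (X.fromSpecStalk x).isEmbedding.injective
  have hφspec : ∀ y : Spec (X.presheaf.stalk x), (X.fromSpecStalk x) y ⤳ x := fun y => by
    have h1 : (X.fromSpecStalk x) y ∈ Set.range (X.fromSpecStalk x) := ⟨y, rfl⟩
    rw [Scheme.range_fromSpecStalk] at h1
    exact h1
  have hφsurj : ∀ x' : X, x' ⤳ x → ∃ y : Spec (X.presheaf.stalk x),
      (X.fromSpecStalk x) y = x' := fun x' h => by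
    have h1 : x' ∈ Set.range (X.fromSpecStalk x) := by
      rw [Scheme.range_fromSpecStalk]
      exact h
    exact h1
  have hφcp : (X.fromSpecStalk x) (IsLocalRing.closedPoint (X.presheaf.stalk x)) = x :=
    Scheme.fromSpecStalk_closedPoint
  -- finiteness
  obtain ⟨W, hxW, hWf⟩ := hZfin x
  have hZYfin : {y : Spec (X.presheaf.stalk x) | Z ((X.fromSpecStalk x) y) ≠ 0}.Finite := by
    refine (hWf.preimage (hφinj.injOn)).subset (fun y hy => ?_)
    exact ⟨(hφspec y).mem_open W.2 hxW, hy⟩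
  have hco1 : ∀ y : Spec (X.presheaf.stalk x), Z ((X.fromSpecStalk x) y) ≠ 0 →
      Order.coheight y = 1 := by
    intro y hy
    by_contra hne
    exact hy (hZ _ (by rw [hφc]; exact hne))
  -- auxiliary elements
  have hex : ∀ y : Spec (X.presheaf.stalk x), Order.coheight y = 1 →
      ∃ a : X.presheaf.stalk x, a ≠ 0 ∧ a ∈ PrimeSpectrum.asIdeal y := by
    intro y hy1
    have hne : PrimeSpectrum.asIdeal y ≠ ⊥ := by
      intro hb
      have h1 : y = genericPoint (Spec (X.presheaf.stalk x)) := by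
        rw [genericPoint_eq_bot_of_affine]
        exact PrimeSpectrum.ext hb
      rw [h1] at hy1
      have h0 : Order.coheight (genericPoint (Spec (X.presheaf.stalk x))) = 0 :=
        Order.coheight_top (Spec (X.presheaf.stalk x))
      rw [h0] at hy1
      exact zero_ne_one hy1
    obtain ⟨a, ha, ha0⟩ := Submodule.exists_mem_ne_zero_of_ne_bot hne
    exact ⟨a, ha0, ha⟩
  obtain ⟨aa, haa⟩ : ∃ aa : Spec (X.presheaf.stalk x) → X.presheaf.stalk x,
      ∀ y, Order.coheight y = 1 → aa y ≠ 0 ∧ aa y ∈ PrimeSpectrum.asIdeal y := by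
    refine ⟨fun y => if hy : Order.coheight y = 1 then (hex y hy).choose else 1, fun y hy => ?_⟩
    simp only [dif_pos hy]
    exact (hex y hy).choose_spec
  obtain ⟨Sm, hSm⟩ : ∃ Sm : Finset (Spec (X.presheaf.stalk x)),
      Sm = hZYfin.toFinset.filter (fun y => Z ((X.fromSpecStalk x) y) < 0) := ⟨_, rfl⟩
  have hSm1 : ∀ y ∈ Sm, Order.coheight y = 1 := by
    intro y hy
    rw [hSm, Finset.mem_filter] at hy
    exact hco1 y (hZYfin.mem_toFinset.mp hy.1)
  have hSmmem : ∀ y : Spec (X.presheaf.stalk x), Z ((X.fromSpecStalk x) y) < 0 → y ∈ Sm := by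
    intro y hy
    rw [hSm, Finset.mem_filter]
    exact ⟨hZYfin.mem_toFinset.mpr (ne_of_lt hy), hy⟩
  obtain ⟨a, ha⟩ : ∃ a : X.presheaf.stalk x, a = ∏ y ∈ Sm, aa y := ⟨_, rfl⟩
  have ha0 : a ≠ 0 := by
    rw [ha]
    exact Finset.prod_ne_zero_iff.mpr (fun y hy => (haa y (hSm1 y hy)).1)
  have hamem : ∀ y ∈ Sm, a ∈ PrimeSpectrum.asIdeal y := by
    intro y hy
    rw [ha]
    exact Ideal.mem_of_dvd _ (Finset.dvd_prod_of_mem aa hy) (haa y (hSm1 y hy)).2
  obtain ⟨N, hN⟩ : ∃ N : ℕ, N = ∑ y ∈ Sm, (-(Z ((X.fromSpecStalk x) y))).toNat := ⟨_, rfl⟩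
  obtain ⟨ιa, hιa⟩ : ∃ ιa : (Spec (X.presheaf.stalk x)).functionField,
      ιa = algebraMap (X.presheaf.stalk x) (Spec (X.presheaf.stalk x)).functionField a :=
    ⟨_, rfl⟩
  have hιa0 : ιa ≠ 0 := by
    rw [hιa]
    intro h0
    exact ha0 (IsFractionRing.injective (X.presheaf.stalk x)
      (Spec (X.presheaf.stalk x)).functionField (by rw [h0, map_zero]))
  have hord0 : ∀ z : Spec (X.presheaf.stalk x), Order.coheight z = 1 →
      0 ≤ Scheme.ord ιa z := by
    intro z hz
    rw [hιa]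
    exact ord_iota_nonneg (X.presheaf.stalk x) hXY z hz a ha0
  have hord1 : ∀ z ∈ Sm, 1 ≤ Scheme.ord ιa z := by
    intro z hz
    rw [hιa]
    exact one_le_ord_iota (X.presheaf.stalk x) hXY z (hSm1 z hz) a ha0 (hamem z hz)
  have hEnn : ∀ z : Spec (X.presheaf.stalk x), Order.coheight z = 1 →
      0 ≤ Z ((X.fromSpecStalk x) z) + (N : ℤ) * Scheme.ord ιa z := by
    intro z hz
    by_cases hneg : Z ((X.fromSpecStalk x) z) < 0
    · have hzS := hSmmem z hneg
      have h1 : (-(Z ((X.fromSpecStalk x) z))).toNat ≤ N := by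
        rw [hN]
        exact Finset.single_le_sum
          (f := fun y => (-(Z ((X.fromSpecStalk x) y))).toNat) (fun _ _ => Nat.zero_le _) hzS
      have h2 : -(Z ((X.fromSpecStalk x) z)) ≤ ((-(Z ((X.fromSpecStalk x) z))).toNat : ℤ) :=
        Int.self_le_toNat _
      have h3 : -(Z ((X.fromSpecStalk x) z)) ≤ (N : ℤ) := h2.trans (by exact_mod_cast h1)
      have h4 := hord1 z hzS
      have h5 : (N : ℤ) * 1 ≤ (N : ℤ) * Scheme.ord ιa z :=
        mul_le_mul_of_nonneg_left h4 (Int.natCast_nonneg N)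
      linarith
    · have h1 := mul_nonneg (Int.natCast_nonneg N) (hord0 z hz)
      linarith [not_lt.mp hneg]
  obtain ⟨E, hE⟩ : ∃ E : Spec (X.presheaf.stalk x) → ℕ, ∀ z, E z =
      (Z ((X.fromSpecStalk x) z) + (N : ℤ) * Scheme.ord ιa z).toNat := ⟨_, fun _ => rfl⟩
  have hEcast : ∀ z : Spec (X.presheaf.stalk x), Order.coheight z = 1 →
      ((E z : ℕ) : ℤ) = Z ((X.fromSpecStalk x) z) + (N : ℤ) * Scheme.ord ιa z := by
    intro z hz
    rw [hE]
    exact Int.toNat_of_nonneg (hEnn z hz)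
  have hE1 : ∀ y : Spec (X.presheaf.stalk x), Order.coheight y ≠ 1 → E y = 0 := by
    intro y hy
    rw [hE, hZ _ (by rw [hφc]; exact hy), Scheme.ord_eq_zero_of_coheight_neq_one hy]
    simp
  have hfinE : {y | E y ≠ 0}.Finite := by
    have hf2 := Groth.Agent.H95.AffSpaceOrd.finite_ord_ne_zero_spec (X.presheaf.stalk x) ιa hιa0
    refine (hZYfin.union hf2).subset (fun y hy => ?_)
    have hy' : E y ≠ 0 := hy
    have hy1 : Order.coheight y = 1 := by
      by_contra hne
      exact hy' (hE1 y hne)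
    by_cases hZy : Z ((X.fromSpecStalk x) y) = 0
    · right
      refine ⟨hy1, fun h0 => hy' ?_⟩
      rw [hE, hZy, h0]
      simp
    · left
      exact hZy
  have hdim : ∀ z : Spec (X.presheaf.stalk x), Order.coheight z ≤ 1 →
      z ≠ IsLocalRing.closedPoint (X.presheaf.stalk x) := by
    intro z hz e
    rw [e, ← hφc, hφcp] at hz
    exact absurd hd (not_lt.mpr hz)
  have hloc : ∀ y : Spec (X.presheaf.stalk x),
      y ≠ IsLocalRing.closedPoint (X.presheaf.stalk x) →
      ∃ f : KUnits (Spec (X.presheaf.stalk x)),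
        ∀ z : Spec (X.presheaf.stalk x), z ⤳ y → Order.coheight z = 1 →
          Scheme.ord (f : (Spec (X.presheaf.stalk x)).functionField) z = (E z : ℤ) := by
    intro y hy
    have hyx : (X.fromSpecStalk x) y ≠ x := fun e => hy (hφinj (e.trans hφcp.symm))
    obtain ⟨fX, hfX0, hfX⟩ := IH _ (hφspec y) hyx
    have h1 : Groth.Agent.H95.OrdLocIso.ffEquiv (X.fromSpecStalk x) hiso hgenφ fX ≠ 0 :=
      (EmbeddingLike.map_ne_zero_iff
        (f := Groth.Agent.H95.OrdLocIso.ffEquiv (X.fromSpecStalk x) hiso hgenφ)).mpr hfX0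
    have h2 : ιa ^ N ≠ 0 := pow_ne_zero _ hιa0
    refine ⟨Units.mk0 _ (mul_ne_zero h1 h2), fun z hzy hz1 => ?_⟩
    rw [Units.val_mk0, Scheme.ord_mul h1 h2, Groth.Agent.H95.OrdLocIso.ord_ffEquiv,
      Groth.Agent.H95.AffSpaceOrd.ord_pow' z hιa0,
      ← hfX _ ((hφc z).trans hz1) (hzy.map (X.fromSpecStalk x).continuous), hEcast z hz1]
  obtain ⟨fY, hfY0, hfY⟩ := principal_on_local (X.presheaf.stalk x) hXY hdim
    (picTrivial_punct (X.presheaf.stalk x) hparx) E hfinE hE1 hloc
  have hg0 : fY / ιa ^ N ≠ 0 := div_ne_zero hfY0 (pow_ne_zero _ hιa0)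
  refine ⟨(Groth.Agent.H95.OrdLocIso.ffEquiv (X.fromSpecStalk x) hiso hgenφ).symm
    (fY / ιa ^ N), ?_, fun x' hx' hx'x => ?_⟩
  · exact (EmbeddingLike.map_ne_zero_iff
      (f := (Groth.Agent.H95.OrdLocIso.ffEquiv (X.fromSpecStalk x) hiso hgenφ).symm)).mpr hg0
  · obtain ⟨z, rfl⟩ := hφsurj x' hx'x
    have hz1 : Order.coheight z = 1 := (hφc z).symm.trans hx'
    rw [← Groth.Agent.H95.OrdLocIso.ord_ffEquiv (X.fromSpecStalk x) hiso hgenφ,
      RingEquiv.apply_symm_apply,
      Groth.Agent.H95.AffSpaceOrd.ord_div' z hfY0 (pow_ne_zero _ hιa0), hfY z hz1,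
      Groth.Agent.H95.AffSpaceOrd.ord_pow' z hιa0, hEcast z hz1]
    ring

theorem main (hX : Pi1.IsNormalScheme X) (S : Set X)
    (hpar : ∀ x : X, closure {x} ∩ S = ∅ →
      (2 : WithBot ℕ∞) ≤ ringKrullDim (X.presheaf.stalk x) →
        ParaF.IsParafactorialLocalRing (X.presheaf.stalk x))
    (Z : X → ℤ) (hZ : ∀ x : X, Order.coheight x ≠ 1 → Z x = 0)
    (hZfin : ∀ x : X, ∃ W : X.Opens, x ∈ W ∧ {z : X | z ∈ W ∧ Z z ≠ 0}.Finite)
    (hS : ∀ s : X, s ∈ S → PrincAt Z s) (x : X) : PrincAt Z x := by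
  classical
  have hcofin : ∀ x : X, Order.coheight x ≠ ⊤ := by
    intro x h
    have h1 := ringKrullDim_stalk_eq_coheight x
    rw [h] at h1
    exact ringKrullDim_ne_top h1
  suffices H : ∀ n : ℕ, ∀ x : X, Order.coheight x = n → PrincAt Z x by
    obtain ⟨n, hn⟩ := ENat.ne_top_iff_exists.mp (hcofin x)
    exact H n x hn.symm
  intro n
  induction n using Nat.strong_induction_on with
  | _ n ih =>
  intro x hxn
  have IH : ∀ y : X, y ⤳ x → y ≠ x → PrincAt Z y := by
    intro y hyx hne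
    have hle : x ≤ y := hyx
    have hlt : x < y := lt_of_le_not_ge hle (fun hge => hne ((hyx.antisymm hge).eq))
    have h1 := Order.coheight_add_one_le hlt
    obtain ⟨m, hm⟩ := ENat.ne_top_iff_exists.mp (hcofin y)
    rw [hxn, ← hm] at h1
    have hmn : m + 1 ≤ n := by exact_mod_cast h1
    exact ih m hmn y hm.symm
  by_cases hcS : (closure {x} ∩ S).Nonempty
  · obtain ⟨s, hsx, hsS⟩ := hcS
    obtain ⟨f, hf0, hf⟩ := hS s hsS
    exact ⟨f, hf0, fun x' hx' hx'x =>
      hf x' hx' (hx'x.trans (specializes_iff_mem_closure.mpr hsx))⟩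
  have hcS' : closure {x} ∩ S = ∅ := Set.not_nonempty_iff_eq_empty.mp hcS
  by_cases hd : Order.coheight x ≤ 1
  · exact princAt_of_dim_le_one hX Z x hd
  have hd' : 1 < Order.coheight x := not_le.mp hd
  have hd2 : (2 : WithBot ℕ∞) ≤ ringKrullDim (X.presheaf.stalk x) := by
    rw [ringKrullDim_stalk_eq_coheight]
    have h2 : (2 : ℕ∞) ≤ Order.coheight x := by
      have h3 := Order.add_one_le_of_lt hd'
      rwa [one_add_one_eq_two] at h3
    exact WithBot.coe_le_coe.mpr h2
  exact princAt_of_parafactorial hX Z hZ hZfin x (hpar x hcS' hd2) hd' IH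

end Main

end Groth.Agent.H95.ParaFPrincipal
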