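import Mathlib

/-!
# An open immersion into an affine scheme with closed range inducing an isomorphism on global
sections is an isomorphism
-/

set_option autoImplicit false
universe u
open CategoryTheory CategoryTheory.Limits AlgebraicGeometry

namespace Groth.Agent.H95.QAffFIN

theorem isIso_of_isClosed_range {X Z : Scheme.{u}} [IsAffine Z] (j : X ⟶ Z) [IsOpenImmersion j]
    [IsIso j.appTop] (h : IsClosed (Set.range j)) : IsIso j := by
  haveI : CompactSpace X := by
    have hemb : Topology.IsClosedEmbedding j := ⟨j.isOpenEmbedding.isEmbedding, h⟩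
    exact hemb.compactSpace
  have hbij := (ConcreteCategory.isIso_iff_bijective j.appTop).mp inferInstance
  have hsurj : Function.Surjective j := by
    intro z
    by_contra hz
    have hzV : z ∈ (⟨(Set.range j)ᶜ, h.isOpen_compl⟩ : Z.Opens) := hz
    obtain ⟨f, hfV, hzf⟩ := (isAffineOpen_top Z).exists_basicOpen_le
      (V := (⟨(Set.range j)ᶜ, h.isOpen_compl⟩ : Z.Opens)) ⟨z, hzV⟩ trivial
    have h1 : X.basicOpen (j.appTop f) = ⊥ := by
      rw [← Scheme.preimage_basicOpen_top, eq_bot_iff]
      intro x hx
      have h2 : j x ∉ Set.range j := hfV hx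
      exact absurd ⟨x, rfl⟩ h2
    have h2 : IsNilpotent (j.appTop f) := (Scheme.isNilpotent_iff_basicOpen_eq_bot _).mpr h1
    obtain ⟨n, hn⟩ := h2
    have h3 : f ^ n = 0 := by
      apply hbij.1
      rw [map_pow, map_zero]
      exact hn
    have h5 : Z.basicOpen f = ⊥ := (Scheme.isNilpotent_iff_basicOpen_eq_bot f).mp ⟨n, h3⟩
    rw [h5] at hzf
    simp at hzf
  haveI : Epi j.base := (TopCat.epi_iff_surjective _).mpr hsurj
  exact IsOpenImmersion.isIso j

end Groth.Agent.H95.QAffFIN
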