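import Groth.Agent.H95.DivMod
import Groth.Agent.H95.StalkPrimes

/-!
# Generic points of irreducible components of reduced schemes and meromorphic functions

* `IsGenPt x`: the closure of `x` is an irreducible component.
* `exists_generic_generization`, `eq_of_specializes_generic`.
* reduced case: `maximalIdeal_eq_bot`, `isField_stalk`, `algebraMap_bijective_generic`.
* `eq_zero_of_generic`, `mem_regSub_of_isUnit_generic`, `kmod_ext_of_generic`.
* `exists_local_mero`, `exists_mero_of_generic`: meromorphic functions with prescribed values at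
  the (finitely many) generic points.
-/

set_option autoImplicit false
set_option linter.style.haveILetI false

universe u

open CategoryTheory AlgebraicGeometry TopologicalSpace Opposite

namespace Groth.Agent.H95.ReducedGeneric

open Groth.Agent.H8 Groth.Agent.H95.MeroDepth Groth.Agent.H95.MeroDense
open Groth.Agent.H95.StalkPrimes Groth.Agent.H95.DivMod

variable {X : Scheme.{u}}

/-- `x` is the generic point of an irreducible component. -/
def IsGenPt (x : X) : Prop := closure ({x} : Set X) ∈ irreducibleComponents X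

lemma exists_generic_generization (ζ : X) : ∃ ξ : X, ξ ⤳ ζ ∧ IsGenPt ξ := by
  have hirr : IsIrreducible (irreducibleComponent ζ) := isIrreducible_irreducibleComponent
  have hcl : IsClosed (irreducibleComponent ζ) := isClosed_irreducibleComponent
  obtain ⟨ξ, hξ⟩ := QuasiSober.sober hirr hcl
  refine ⟨ξ, ?_, ?_⟩
  · rw [specializes_iff_mem_closure, hξ.def]
    exact mem_irreducibleComponent
  · show closure ({ξ} : Set X) ∈ irreducibleComponents X
    rw [hξ.def]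
    exact irreducibleComponent_mem_irreducibleComponents ζ

lemma eq_of_specializes_generic {x z : X} (hx : IsGenPt x) (hz : z ⤳ x) : z = x := by
  have h1 : closure ({x} : Set X) ⊆ closure {z} :=
    closure_minimal (Set.singleton_subset_iff.mpr (specializes_iff_mem_closure.mp hz))
      isClosed_closure
  have h2 : closure ({z} : Set X) ⊆ closure {x} := hx.2 (isIrreducible_singleton.closure) h1
  have h3 : x ⤳ z := by
    rw [specializes_iff_mem_closure]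
    exact h2 (subset_closure rfl)
  exact (hz.antisymm h3).eq

lemma finite_isGenPt (hfin : (irreducibleComponents X).Finite) : {ξ : X | IsGenPt ξ}.Finite := by
  refine Set.Finite.of_injOn (f := fun ξ : X => closure ({ξ} : Set X)) (fun ξ hξ => hξ) ?_ hfin
  intro ξ _ ξ' _ h
  have h' : closure ({ξ} : Set X) = closure ({ξ'} : Set X) := h
  have h1 : ξ' ⤳ ξ := by
    rw [specializes_iff_mem_closure, ← h']
    exact subset_closure rfl
  have h2 : ξ ⤳ ξ' := by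
    rw [specializes_iff_mem_closure, h']
    exact subset_closure rfl
  exact (h2.antisymm h1).eq

section Reduced

variable [IsReduced X]

lemma maximalIdeal_eq_bot {x : X} (hx : IsGenPt x) :
    IsLocalRing.maximalIdeal (X.presheaf.stalk x) = ⊥ := by
  rw [eq_bot_iff]
  intro a ha
  have hnil : IsNilpotent a := by
    rw [nilpotent_iff_mem_prime]
    intro Q hQ
    haveI := hQ
    obtain ⟨z, hz, hzQ⟩ := exists_generization x Q
    have hzx := eq_of_specializes_generic hx hz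
    subst hzx
    have hrefl : X.presheaf.stalkSpecializes hz = 𝟙 _ := X.presheaf.stalkSpecializes_refl z
    rw [hrefl] at hzQ
    rw [← hzQ]
    exact ha
  rw [Ideal.mem_bot]
  exact hnil.eq_zero

lemma isUnit_of_ne_zero_generic {x : X} (hx : IsGenPt x) {a : X.presheaf.stalk x} (ha : a ≠ 0) :
    IsUnit a := by
  apply IsLocalRing.notMem_maximalIdeal.mp
  rw [maximalIdeal_eq_bot hx, Ideal.mem_bot]
  exact ha

lemma isField_stalk {x : X} (hx : IsGenPt x) : IsField (X.presheaf.stalk x) :=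
  IsLocalRing.isField_iff_maximalIdeal_eq.mpr (maximalIdeal_eq_bot hx)

lemma algebraMap_bijective_generic {x : X} (hx : IsGenPt x) :
    Function.Bijective (algebraMap (X.presheaf.stalk x) (Mero.KStalk X x)) := by
  refine ⟨Mero.algebraMap_KStalk_injective x, ?_⟩
  intro t
  obtain ⟨α, β, rfl⟩ := IsLocalization.exists_mk'_eq (Mero.regStalk X x) t
  rw [← kmk_eq]
  exact mem_range_of_isUnit_germ α β (isUnit_of_ne_zero_generic hx
    (nonZeroDivisors.ne_zero (Mero.regStalk_le_nonZeroDivisors x β.2)))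

lemma eq_zero_of_generic {W : X.Opens} (t : Γ(X, W))
    (h : ∀ (ξ : X) (hξ : ξ ∈ W), IsGenPt ξ → X.presheaf.germ W ξ hξ t = 0) : t = 0 := by
  rw [← basicOpen_eq_bot_iff]
  by_contra hne
  obtain ⟨y, hy⟩ := (Opens.ne_bot_iff_nonempty _).mp hne
  obtain ⟨ξ, hξy, hξgen⟩ := exists_generic_generization y
  have hξb : ξ ∈ X.basicOpen t := hξy.mem_open (X.basicOpen t).2 hy
  have hξW : ξ ∈ W := X.basicOpen_le t hξb
  have hu : IsUnit (X.presheaf.germ W ξ hξW t) := (Scheme.mem_basicOpen X t ξ hξW).mp hξb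
  rw [h ξ hξW hξgen] at hu
  exact not_isUnit_zero hu

omit [IsReduced X] in
lemma exists_generic_of_minimalPrime (y : X) (P : Ideal (X.presheaf.stalk y))
    (hP : P ∈ minimalPrimes (X.presheaf.stalk y)) :
    ∃ (ξ : X) (hξy : ξ ⤳ y), IsGenPt ξ ∧
      P ≤ (IsLocalRing.maximalIdeal (X.presheaf.stalk ξ)).comap
        (X.presheaf.stalkSpecializes hξy).hom := by
  haveI hPprime : P.IsPrime := hP.1.1
  obtain ⟨ζ, hζx, hζP⟩ := exists_generization y P
  obtain ⟨ξ, hξζ, hξgen⟩ := exists_generic_generization ζ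
  have hξx : ξ ⤳ y := hξζ.trans hζx
  refine ⟨ξ, hξx, hξgen, ?_⟩
  have hle : (IsLocalRing.maximalIdeal (X.presheaf.stalk ξ)).comap
      (X.presheaf.stalkSpecializes hξx).hom ≤ P := by
    rw [← hζP]
    intro a ha
    obtain ⟨V, hxV, α, rfl⟩ := X.presheaf.exists_germ_eq a
    have ha' : (X.presheaf.stalkSpecializes hξx).hom (X.presheaf.germ V y hxV α) ∈
        IsLocalRing.maximalIdeal (X.presheaf.stalk ξ) := ha
    have e1 : (X.presheaf.stalkSpecializes hξx).hom (X.presheaf.germ V y hxV α) =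
        X.presheaf.germ V ξ (hξx.mem_open V.2 hxV) α :=
      TopCat.Presheaf.germ_stalkSpecializes_apply X.presheaf hxV hξx α
    rw [e1] at ha'
    show (X.presheaf.stalkSpecializes hζx).hom (X.presheaf.germ V y hxV α) ∈
        IsLocalRing.maximalIdeal (X.presheaf.stalk ζ)
    have e2 : (X.presheaf.stalkSpecializes hζx).hom (X.presheaf.germ V y hxV α) =
        X.presheaf.germ V ζ (hζx.mem_open V.2 hxV) α :=
      TopCat.Presheaf.germ_stalkSpecializes_apply X.presheaf hxV hζx α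
    rw [e2]
    by_contra hnot
    have hu : IsUnit (X.presheaf.germ V ζ (hζx.mem_open V.2 hxV) α) :=
      IsLocalRing.notMem_maximalIdeal.mp hnot
    have hu2 := hu.map (X.presheaf.stalkSpecializes hξζ).hom
    have e3 : (X.presheaf.stalkSpecializes hξζ).hom
        (X.presheaf.germ V ζ (hζx.mem_open V.2 hxV) α) =
        X.presheaf.germ V ξ (hξx.mem_open V.2 hxV) α :=
      TopCat.Presheaf.germ_stalkSpecializes_apply X.presheaf (hζx.mem_open V.2 hxV) hξζ α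
    rw [e3] at hu2
    exact (IsLocalRing.mem_maximalIdeal _).mp ha' hu2
  exact hP.2 ⟨Ideal.comap_isPrime _ _, bot_le⟩ hle

lemma mem_regSub_of_isUnit_generic {W : X.Opens} (t : Γ(X, W))
    (h : ∀ (ξ : X) (hξ : ξ ∈ W), IsGenPt ξ → IsUnit (X.presheaf.germ W ξ hξ t)) :
    t ∈ Mero.regSub X W := by
  intro y
  show X.presheaf.germ W y.1 y.2 t ∈ nonZeroDivisors (X.presheaf.stalk y.1)
  rw [mem_nonZeroDivisors_iff_right]
  intro c hc
  apply eq_zero_of_mem_sInf_minimalPrimes c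
  intro P hP
  haveI hPprime : P.IsPrime := hP.1.1
  obtain ⟨ξ, hξy, hξgen, hPle⟩ := exists_generic_of_minimalPrime y.1 P hP
  have hξW : ξ ∈ W := hξy.mem_open W.2 y.2
  have hnotP : X.presheaf.germ W y.1 y.2 t ∉ P := by
    intro hmem
    have h2 : (X.presheaf.stalkSpecializes hξy).hom (X.presheaf.germ W y.1 y.2 t) ∈
        IsLocalRing.maximalIdeal (X.presheaf.stalk ξ) := hPle hmem
    have e1 : (X.presheaf.stalkSpecializes hξy).hom (X.presheaf.germ W y.1 y.2 t) =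
        X.presheaf.germ W ξ hξW t :=
      TopCat.Presheaf.germ_stalkSpecializes_apply X.presheaf y.2 hξy t
    rw [e1] at h2
    exact (IsLocalRing.mem_maximalIdeal _).mp h2 (h ξ hξW hξgen)
  have hcP : c * X.presheaf.germ W y.1 y.2 t ∈ P := by
    rw [hc]
    exact P.zero_mem
  exact (hPprime.mem_or_mem hcP).resolve_right hnotP

/-- Two meromorphic functions with the same values at the generic points are equal. -/
lemma kmod_ext_of_generic {U : X.Opens} (s s' : Γ(Mero.kmod X, U))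
    (h : ∀ (ξ : X) (hξ : ξ ∈ U), IsGenPt ξ → s.1 ⟨ξ, hξ⟩ = s'.1 ⟨ξ, hξ⟩) : s = s' := by
  refine Subtype.ext (funext fun z => ?_)
  obtain ⟨W, hzW, i, a, b, w⟩ := s.2 z
  obtain ⟨W', hzW', i', a', b', w'⟩ := s'.2 z
  have hzP : z.1 ∈ W ⊓ W' := ⟨hzW, hzW'⟩
  obtain ⟨t, ht⟩ : ∃ t : Γ(X, W ⊓ W'), t =
      X.presheaf.map (homOfLE (inf_le_left : W ⊓ W' ≤ W)).op a *
        X.presheaf.map (homOfLE (inf_le_right : W ⊓ W' ≤ W')).op b'.1 -
      X.presheaf.map (homOfLE (inf_le_right : W ⊓ W' ≤ W')).op a' *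
        X.presheaf.map (homOfLE (inf_le_left : W ⊓ W' ≤ W)).op b.1 := ⟨_, rfl⟩
  have hgermt : ∀ (y : X) (hy : y ∈ W ⊓ W'), X.presheaf.germ (W ⊓ W') y hy t =
      X.presheaf.germ W y hy.1 a * X.presheaf.germ W' y hy.2 b'.1 -
        X.presheaf.germ W' y hy.2 a' * X.presheaf.germ W y hy.1 b.1 := by
    intro y hy
    rw [ht, map_sub, map_mul, map_mul, TopCat.Presheaf.germ_res_apply,
      TopCat.Presheaf.germ_res_apply, TopCat.Presheaf.germ_res_apply,
      TopCat.Presheaf.germ_res_apply]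
  have ht0 : t = 0 := by
    apply eq_zero_of_generic
    intro ξ hξ hgen
    rw [hgermt ξ hξ, sub_eq_zero]
    have e1 : s.1 ⟨ξ, i.le hξ.1⟩ = LocalizedModule.mk (X.presheaf.germ W ξ hξ.1 a)
        (Mero.regGerm ⟨ξ, hξ.1⟩ b) := w ⟨ξ, hξ.1⟩
    have e2 : s'.1 ⟨ξ, i'.le hξ.2⟩ = LocalizedModule.mk (X.presheaf.germ W' ξ hξ.2 a')
        (Mero.regGerm ⟨ξ, hξ.2⟩ b') := w' ⟨ξ, hξ.2⟩
    have e3 : s.1 ⟨ξ, i.le hξ.1⟩ = s'.1 ⟨ξ, i'.le hξ.2⟩ := h ξ (i.le hξ.1) hgen
    have k1 := kmk_mul ξ (X.presheaf.germ W ξ hξ.1 a) (Mero.regGerm ⟨ξ, hξ.1⟩ b)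
    have k2 := kmk_mul ξ (X.presheaf.germ W' ξ hξ.2 a') (Mero.regGerm ⟨ξ, hξ.2⟩ b')
    rw [← e1] at k1
    rw [← e2, ← e3] at k2
    apply Mero.algebraMap_KStalk_injective ξ
    rw [map_mul, map_mul, ← k1, ← k2]
    ring
  have hz_eq : X.presheaf.germ W z.1 hzW a * X.presheaf.germ W' z.1 hzW' b'.1 =
      X.presheaf.germ W' z.1 hzW' a' * X.presheaf.germ W z.1 hzW b.1 := by
    have h1 := hgermt z.1 hzP
    rw [ht0, map_zero] at h1
    exact (sub_eq_zero.mp h1.symm)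
  have e1 : s.1 z = LocalizedModule.mk (X.presheaf.germ W z.1 hzW a)
      (Mero.regGerm ⟨z.1, hzW⟩ b) := w ⟨z.1, hzW⟩
  have e2 : s'.1 z = LocalizedModule.mk (X.presheaf.germ W' z.1 hzW' a')
      (Mero.regGerm ⟨z.1, hzW'⟩ b') := w' ⟨z.1, hzW'⟩
  rw [e1, e2]
  exact kmk_eq_kmk _ _ _ _ hz_eq

/-- Local existence of a meromorphic function with prescribed values at the generic points. -/
lemma exists_local_mero (hgenfin : {ξ : X | IsGenPt ξ}.Finite) {W : X.Opens}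
    (hW : IsAffineOpen W) (k : ∀ ξ : X, Mero.KStalk X ξ) :
    ∃ s : Γ(Mero.kmod X, W), ∀ (ξ : X) (hξ : ξ ∈ W), IsGenPt ξ → s.1 ⟨ξ, hξ⟩ = k ξ := by
  classical
  obtain ⟨S, hS⟩ : ∃ S : Set X, S = {ξ : X | ξ ∈ W ∧ IsGenPt ξ} := ⟨_, rfl⟩
  have hSfin : S.Finite := by
    rw [hS]
    exact hgenfin.subset (fun ξ h => h.2)
  haveI : Fintype ↥S := hSfin.fintype
  have hmemS : ∀ ξ : X, ξ ∈ S ↔ (ξ ∈ W ∧ IsGenPt ξ) := fun ξ => by
    rw [hS]
    exact Iff.rfl
  have hSW : ∀ ξ : S, ξ.1 ∈ W := fun ξ => ((hmemS ξ.1).mp ξ.2).1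
  have hSgen : ∀ ξ : S, IsGenPt ξ.1 := fun ξ => ((hmemS ξ.1).mp ξ.2).2
  have hκ : ∀ ξ : S, ∃ (a s : Γ(X, W)), IsUnit (X.presheaf.germ W ξ.1 (hSW ξ) s) ∧
      k ξ.1 * algebraMap (X.presheaf.stalk ξ.1) (Mero.KStalk X ξ.1)
        (X.presheaf.germ W ξ.1 (hSW ξ) s) =
      algebraMap (X.presheaf.stalk ξ.1) (Mero.KStalk X ξ.1)
        (X.presheaf.germ W ξ.1 (hSW ξ) a) := by
    intro ξ
    obtain ⟨κ, hκ⟩ := (algebraMap_bijective_generic (hSgen ξ)).2 (k ξ.1)
    letI := X.presheaf.algebra_section_stalk ⟨ξ.1, hSW ξ⟩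
    haveI := hW.isLocalization_stalk ⟨ξ.1, hSW ξ⟩
    obtain ⟨⟨a, s⟩, has⟩ :=
      IsLocalization.surj (hW.primeIdealOf ⟨ξ.1, hSW ξ⟩).asIdeal.primeCompl κ
    refine ⟨a, s.1, IsLocalization.map_units (X.presheaf.stalk ξ.1) s, ?_⟩
    rw [← hκ, ← map_mul]
    exact congrArg _ has
  have hc : ∀ ξ η : S, ξ ≠ η → ∃ c : Γ(X, W),
      X.presheaf.germ W η.1 (hSW η) c = 0 ∧ IsUnit (X.presheaf.germ W ξ.1 (hSW ξ) c) := by
    intro ξ η hne
    have hnle : ¬ (hW.primeIdealOf ⟨η.1, hSW η⟩).asIdeal ≤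
        (hW.primeIdealOf ⟨ξ.1, hSW ξ⟩).asIdeal := by
      intro hle
      have h1 := pointOfPrime_specializes hW (hW.primeIdealOf ⟨η.1, hSW η⟩).asIdeal ξ.1
        (hSW ξ) hle
      rw [pointOfPrime_primeIdealOf hW η.1 (hSW η)] at h1
      exact hne (Subtype.ext (eq_of_specializes_generic (hSgen ξ) h1).symm)
    obtain ⟨c, hcη, hcξ⟩ := SetLike.not_le_iff_exists.mp hnle
    refine ⟨c, ?_, ?_⟩
    · have hnu : ¬ IsUnit (X.presheaf.germ W η.1 (hSW η) c) := by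
        intro hu
        have h2 : η.1 ∈ X.basicOpen c := (Scheme.mem_basicOpen X c η.1 (hSW η)).mpr hu
        exact (mem_basicOpen_iff_notMem_primeIdealOf hW η.1 (hSW η) c).mp h2 hcη
      have h3 : X.presheaf.germ W η.1 (hSW η) c ∈
          IsLocalRing.maximalIdeal (X.presheaf.stalk η.1) :=
        (IsLocalRing.mem_maximalIdeal _).mpr hnu
      rw [maximalIdeal_eq_bot (hSgen η)] at h3
      exact (Ideal.mem_bot).mp h3
    · have h2 : ξ.1 ∈ X.basicOpen c :=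
        (mem_basicOpen_iff_notMem_primeIdealOf hW ξ.1 (hSW ξ) c).mpr hcξ
      exact (Scheme.mem_basicOpen X c ξ.1 (hSW ξ)).mp h2
  choose a s hsu has using hκ
  choose c hc0 hcu using hc
  obtain ⟨e, he⟩ : ∃ e : S → Γ(X, W), ∀ ξ, e ξ =
      ∏ η : S, (if h : ξ = η then (1 : Γ(X, W)) else c ξ η h) := ⟨_, fun _ => rfl⟩
  have he_unit : ∀ ξ : S, IsUnit (X.presheaf.germ W ξ.1 (hSW ξ) (e ξ)) := by
    intro ξ
    rw [he, map_prod]
    apply Finset.prod_induction _ IsUnit (fun _ _ => IsUnit.mul) isUnit_one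
    intro η _
    by_cases h : ξ = η
    · simp only [dif_pos h, map_one, isUnit_one]
    · simp only [dif_neg h]
      exact hcu ξ η h
  have he_zero : ∀ ξ η : S, ξ ≠ η → X.presheaf.germ W η.1 (hSW η) (e ξ) = 0 := by
    intro ξ η hne
    rw [he, map_prod]
    refine Finset.prod_eq_zero (Finset.mem_univ η) ?_
    simp only [dif_neg hne]
    exact hc0 ξ η hne
  obtain ⟨b, hb⟩ : ∃ b : Γ(X, W), b = ∑ ξ : S, e ξ * s ξ := ⟨_, rfl⟩
  obtain ⟨a', ha'⟩ : ∃ a' : Γ(X, W), a' = ∑ ξ : S, e ξ * a ξ := ⟨_, rfl⟩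
  have hb_germ : ∀ η : S, X.presheaf.germ W η.1 (hSW η) b =
      X.presheaf.germ W η.1 (hSW η) (e η) * X.presheaf.germ W η.1 (hSW η) (s η) := by
    intro η
    rw [hb, map_sum, Finset.sum_eq_single η]
    · rw [map_mul]
    · intro ξ _ hne
      rw [map_mul, he_zero ξ η hne, zero_mul]
    · intro h
      exact absurd (Finset.mem_univ η) h
  have ha_germ : ∀ η : S, X.presheaf.germ W η.1 (hSW η) a' =
      X.presheaf.germ W η.1 (hSW η) (e η) * X.presheaf.germ W η.1 (hSW η) (a η) := by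
    intro η
    rw [ha', map_sum, Finset.sum_eq_single η]
    · rw [map_mul]
    · intro ξ _ hne
      rw [map_mul, he_zero ξ η hne, zero_mul]
    · intro h
      exact absurd (Finset.mem_univ η) h
  have hbreg : b ∈ Mero.regSub X W := by
    apply mem_regSub_of_isUnit_generic
    intro ξ hξ hgen
    have hξS : ξ ∈ S := by
      rw [hS]
      exact ⟨hξ, hgen⟩
    have h1 := hb_germ ⟨ξ, hξS⟩
    have h2 : IsUnit (X.presheaf.germ W ξ hξ b) := by
      rw [h1]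
      exact (he_unit ⟨ξ, hξS⟩).mul (hsu ⟨ξ, hξS⟩)
    exact h2
  refine ⟨⟨fun y => LocalizedModule.mk (X.presheaf.germ W y.1 y.2 a')
    (Mero.regGerm y ⟨b, hbreg⟩), fun y => ⟨W, y.2, 𝟙 _, a', ⟨b, hbreg⟩, fun _ => rfl⟩⟩, ?_⟩
  intro ξ hξ hgen
  have hξS : ξ ∈ S := by
    rw [hS]
    exact ⟨hξ, hgen⟩
  show LocalizedModule.mk (X.presheaf.germ W ξ hξ a')
    (Mero.regGerm (⟨ξ, hξ⟩ : W) ⟨b, hbreg⟩) = k ξ
  have hunit : IsUnit (algebraMap (X.presheaf.stalk ξ) (Mero.KStalk X ξ)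
      ((Mero.regGerm (⟨ξ, hξ⟩ : W) ⟨b, hbreg⟩ : Mero.regStalk X ξ) : X.presheaf.stalk ξ)) :=
    IsLocalization.map_units (Mero.KStalk X ξ) (Mero.regGerm (⟨ξ, hξ⟩ : W) ⟨b, hbreg⟩)
  apply (IsUnit.mul_left_inj hunit).mp
  rw [kmk_mul]
  show algebraMap (X.presheaf.stalk ξ) (Mero.KStalk X ξ) (X.presheaf.germ W ξ hξ a') =
    k ξ * algebraMap (X.presheaf.stalk ξ) (Mero.KStalk X ξ) (X.presheaf.germ W ξ hξ b)
  have h1 := ha_germ ⟨ξ, hξS⟩
  have h2 := hb_germ ⟨ξ, hξS⟩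
  have h3 := has ⟨ξ, hξS⟩
  have h1' : X.presheaf.germ W ξ hξ a' = X.presheaf.germ W ξ hξ (e ⟨ξ, hξS⟩) *
      X.presheaf.germ W ξ hξ (a ⟨ξ, hξS⟩) := h1
  have h2' : X.presheaf.germ W ξ hξ b = X.presheaf.germ W ξ hξ (e ⟨ξ, hξS⟩) *
      X.presheaf.germ W ξ hξ (s ⟨ξ, hξS⟩) := h2
  have h3' : k ξ * algebraMap (X.presheaf.stalk ξ) (Mero.KStalk X ξ)
      (X.presheaf.germ W ξ hξ (s ⟨ξ, hξS⟩)) =
      algebraMap (X.presheaf.stalk ξ) (Mero.KStalk X ξ)
        (X.presheaf.germ W ξ hξ (a ⟨ξ, hξS⟩)) := h3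
  rw [h1', h2', map_mul, map_mul, mul_left_comm, h3']

/-- Existence of a meromorphic function with prescribed values at the generic points. -/
lemma exists_mero_of_generic (hgenfin : {ξ : X | IsGenPt ξ}.Finite) (U : X.Opens)
    (k : ∀ ξ : X, Mero.KStalk X ξ) :
    ∃ s : Γ(Mero.kmod X, U), ∀ (ξ : X) (hξ : ξ ∈ U), IsGenPt ξ → s.1 ⟨ξ, hξ⟩ = k ξ := by
  have hloc : ∀ z : U, ∃ (W : X.Opens) (_ : z.1 ∈ W) (_ : W ≤ U) (s : Γ(Mero.kmod X, W)),
      ∀ (ξ : X) (hξ : ξ ∈ W), IsGenPt ξ → s.1 ⟨ξ, hξ⟩ = k ξ := by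
    intro z
    obtain ⟨W, hW0, hzW, hWU⟩ := Opens.isBasis_iff_nbhd.mp X.isBasis_affineOpens z.2
    have hW : IsAffineOpen W := hW0
    obtain ⟨s, hs⟩ := exists_local_mero hgenfin hW k
    exact ⟨W, hzW, hWU, s, hs⟩
  choose W hzW hWU s hs using hloc
  have key : ∀ (z z' : U) (y : X) (hy : y ∈ W z) (hy' : y ∈ W z'),
      (s z).1 ⟨y, hy⟩ = (s z').1 ⟨y, hy'⟩ := by
    intro z z' y hy hy'
    have h1 : (Mero.kmod X).presheaf.map (homOfLE (inf_le_left : W z ⊓ W z' ≤ W z)).op (s z) =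
        (Mero.kmod X).presheaf.map (homOfLE (inf_le_right : W z ⊓ W z' ≤ W z')).op (s z') := by
      apply kmod_ext_of_generic
      intro ξ hξ hgen
      show (s z).1 ⟨ξ, hξ.1⟩ = (s z').1 ⟨ξ, hξ.2⟩
      rw [hs z ξ hξ.1 hgen, hs z' ξ hξ.2 hgen]
    have h2 := congrArg (fun t : Γ(Mero.kmod X, W z ⊓ W z') => t.1 ⟨y, ⟨hy, hy'⟩⟩) h1
    exact h2
  obtain ⟨sfun, hsfun⟩ : ∃ sfun : ∀ z : U, Mero.KStalk X z.1,
      ∀ z : U, sfun z = (s z).1 ⟨z.1, hzW z⟩ := ⟨_, fun _ => rfl⟩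
  have hpred : (Mero.kLoc X).pred sfun := by
    refine (Mero.kLoc X).locality sfun (fun z => ⟨W z, hzW z, homOfLE (hWU z), ?_⟩)
    have e : (fun y : W z => sfun ⟨y.1, hWU z y.2⟩) = (s z).1 := by
      funext y
      rw [hsfun]
      exact key ⟨y.1, hWU z y.2⟩ z y.1 (hzW _) y.2
    exact e ▸ (s z).2
  refine ⟨⟨sfun, hpred⟩, ?_⟩
  intro ξ hξ hgen
  show sfun ⟨ξ, hξ⟩ = k ξ
  rw [hsfun]
  exact hs ⟨ξ, hξ⟩ ξ (hzW _) hgen

end Reduced

end Groth.Agent.H95.ReducedGeneric
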