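import Groth.Agent.H95.SecOrd
import Groth.Agent.H95.AssGen
import Groth.Agent.H18.TensorGen
import Groth.Agent.H17.HomSh
import Groth.Agent.H17.RankOneSheaf
import Groth.Agent.H17.ReflSheaf
import Groth.Agent.H17.NormalRefl

/-!
# Free generators of rank one reflexive modules near points of codimension at most one

* `FreeAt L t`: the element `t` freely generates the stalk of `L`.
* `isGen_of_forall_freeAt`: a section freely generating all stalks over `V` is a generator
  (`H18.TensorGen.IsGen`).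
* `exists_nbhd_freeAt`: for a coherent module on a locally Noetherian scheme, a free generator of
  one stalk spreads out to a neighbourhood.
* `exists_isGen_of_dim_lt_two`: a rank one coherent reflexive module on a normal integral locally
  Noetherian scheme has a generator near every point `x` with `dim O_x < 2`.
* `isGen_homSh`, `isGen_bidual`: generators of the sheaf Hom and of the reflexive hull.
-/

set_option autoImplicit false
set_option linter.style.haveILetI false

universe u

open CategoryTheory AlgebraicGeometry TopologicalSpace Opposite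

namespace Groth.Agent.H95.RefGen

open Groth.Agent.H8 (mem_basicOpen_iff_notMem_primeIdealOf)
open Groth.Agent.H18.TensorGen (IsGen isGen_one isGen_tm)
open Groth.Agent.H95.AssGen (GenAt genAt_of_isGen)
open Groth.Agent.H95.MeroData (germ_smul_eq_zero)
open Groth.Agent.H17.HomSh (section_ext_germ fwd germ_fwd)

section Algebra

/-- A finite torsion-free module over a PID in which any two elements are linearly dependent and
which is nonzero has a free generator. -/
theorem exists_free_gen {R M : Type*} [CommRing R] [IsDomain R] [IsPrincipalIdealRing R]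
    [AddCommGroup M] [Module R M] [Module.Finite R M] [Module.IsTorsionFree R M] [Nontrivial M]
    (h : ∀ m m' : M, ∃ α β : R, (α ≠ 0 ∨ β ≠ 0) ∧ α • m = β • m') :
    ∃ t : M, Function.Bijective (fun r : R => r • t) := by
  classical
  haveI : Module.Free R M := Module.free_of_finite_type_torsion_free'
  let b := Module.Free.chooseBasis R M
  haveI : Nonempty (Module.Free.ChooseBasisIndex R M) := b.index_nonempty
  have hsub : ∀ i j : Module.Free.ChooseBasisIndex R M, i = j := by
    intro i j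
    by_contra hij
    obtain ⟨α, β, hne, hrel⟩ := h (b i) (b j)
    have h1 := congrArg b.repr hrel
    rw [map_smul, map_smul, b.repr_self, b.repr_self] at h1
    have hi := DFunLike.congr_fun h1 i
    have hj := DFunLike.congr_fun h1 j
    rw [Finsupp.smul_apply, Finsupp.smul_apply, Finsupp.single_eq_same,
      Finsupp.single_eq_of_ne hij, smul_eq_mul, smul_eq_mul, mul_one, mul_zero] at hi
    rw [Finsupp.smul_apply, Finsupp.smul_apply, Finsupp.single_eq_same,
      Finsupp.single_eq_of_ne (Ne.symm hij), smul_eq_mul, smul_eq_mul, mul_one, mul_zero] at hj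
    rcases hne with hα | hβ
    · exact hα hi
    · exact hβ hj.symm
  obtain ⟨i₀⟩ := ‹Nonempty (Module.Free.ChooseBasisIndex R M)›
  refine ⟨b i₀, fun r r' hrr => ?_, fun v => ?_⟩
  · have hrr' : r • b i₀ = r' • b i₀ := hrr
    have h1 := congrArg b.repr hrr'
    rw [map_smul, map_smul, b.repr_self] at h1
    have hi := DFunLike.congr_fun h1 i₀
    rw [Finsupp.smul_apply, Finsupp.smul_apply, Finsupp.single_eq_same, smul_eq_mul,
      smul_eq_mul, mul_one, mul_one] at hi
    exact hi
  · refine ⟨b.repr v i₀, ?_⟩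
    show b.repr v i₀ • b i₀ = v
    apply b.repr.injective
    rw [map_smul, b.repr_self]
    ext i
    rw [hsub i i₀, Finsupp.smul_apply, Finsupp.single_eq_same, smul_eq_mul, mul_one]

end Algebra

variable {X : Scheme.{u}}

/-- `t` freely generates the stalk `L_z`. -/
def FreeAt (L : X.Modules) {z : X} (t : L.presheaf.stalk z) : Prop :=
  Function.Bijective (fun r : X.presheaf.stalk z => r • t)

lemma FreeAt.eq_zero {L : X.Modules} {z : X} {t : L.presheaf.stalk z} (ht : FreeAt L t)
    (c : X.presheaf.stalk z) (hc : c • t = 0) : c = 0 := by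
  apply ht.1
  show c • t = (0 : X.presheaf.stalk z) • t
  rw [hc, zero_smul]

lemma freeAt_of_forall {L : X.Modules} {z : X} {t : L.presheaf.stalk z}
    (h0 : ∀ c : X.presheaf.stalk z, c • t = 0 → c = 0)
    (h1 : ∀ t' : L.presheaf.stalk z, ∃ c : X.presheaf.stalk z, c • t = t') : FreeAt L t := by
  refine ⟨fun r r' hrr => ?_, h1⟩
  have hrr' : r • t = r' • t := hrr
  have : (r - r') • t = 0 := by rw [sub_smul, hrr', sub_self]
  exact sub_eq_zero.mp (h0 _ this)

lemma freeAt_smul_of_isUnit {L : X.Modules} {z : X} {t : L.presheaf.stalk z}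
    {u : X.presheaf.stalk z} (hu : IsUnit u) (ht : FreeAt L t) : FreeAt L (u • t) := by
  refine freeAt_of_forall (fun c hc => ?_) (fun t' => ?_)
  · rw [← mul_smul] at hc
    have := ht.eq_zero _ hc
    exact (hu.mul_left_eq_zero).mp this
  · obtain ⟨c, hc⟩ := ht.2 t'
    have hc' : c • t = t' := hc
    refine ⟨c * ↑hu.unit⁻¹, ?_⟩
    rw [← mul_smul, mul_assoc, IsUnit.val_inv_mul, mul_one]
    exact hc'

lemma freeAt_of_isGen {L : X.Modules} {V : X.Opens} {τ : Γ(L, V)} (hτ : IsGen L V τ) (z : X)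
    (hz : z ∈ V) : FreeAt L (L.presheaf.germ V z hz τ) := by
  refine freeAt_of_forall (fun c hc => germ_smul_eq_zero hτ z hz c hc) (fun t' => ?_)
  obtain ⟨r, hr⟩ := genAt_of_isGen hτ z hz t'
  exact ⟨r, hr.symm⟩

/-- Sections of the structure sheaf are determined by their germs. -/
theorem section_extO {W : X.Opens} (r r' : Γ(X, W))
    (h : ∀ y : W, X.presheaf.germ W y.1 y.2 r = X.presheaf.germ W y.1 y.2 r') : r = r' :=
  TopCat.Presheaf.section_ext (F := X.sheaf) W r r' (fun y hy => h ⟨y, hy⟩)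

/-- A family of germs of functions which is locally given by sections is given by a section. -/
theorem exists_section_of_germsO (W : X.Opens) (t : ∀ y : W, X.presheaf.stalk y.1)
    (h : ∀ x : W, ∃ (W' : X.Opens) (_ : x.1 ∈ W') (hW' : W' ≤ W) (n : Γ(X, W')),
      ∀ y : W', X.presheaf.germ W' y.1 y.2 n = t ⟨y.1, hW' y.2⟩) :
    ∃ n : Γ(X, W), ∀ y : W, X.presheaf.germ W y.1 y.2 n = t y := by
  choose Wf hxWf hWf nf hnf using h
  have hcover : W ≤ iSup Wf := fun x hx => Opens.mem_iSup.mpr ⟨⟨x, hx⟩, hxWf ⟨x, hx⟩⟩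
  have hcompat : TopCat.Presheaf.IsCompatible X.presheaf Wf nf := by
    intro x y
    refine section_extO _ _ (fun z => ?_)
    rw [TopCat.Presheaf.germ_res_apply, TopCat.Presheaf.germ_res_apply]
    exact (hnf x ⟨z.1, z.2.1⟩).trans (hnf y ⟨z.1, z.2.2⟩).symm
  obtain ⟨a, ha, -⟩ := TopCat.Sheaf.existsUnique_gluing' (F := X.sheaf)
    Wf W (fun x => homOfLE (hWf x)) hcover nf hcompat
  refine ⟨a, fun y => ?_⟩
  have h1 := ha y
  have h2 := hnf y ⟨y.1, hxWf y⟩
  rw [← h2, ← h1]
  exact (TopCat.Presheaf.germ_res_apply X.presheaf (homOfLE (hWf y)) y.1 (hxWf y) a).symm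

/-- A section which freely generates every stalk over `V` is a generator over `V`. -/
theorem isGen_of_forall_freeAt {L : X.Modules} {V : X.Opens} (τ : Γ(L, V))
    (h : ∀ (z : X) (hz : z ∈ V), FreeAt L (L.presheaf.germ V z hz τ)) : IsGen L V τ := by
  intro V' hV'
  have hg : ∀ (V'' : X.Opens) (hV'' : V'' ≤ V) (y : X) (hy : y ∈ V'') (r : Γ(X, V'')),
      L.presheaf.germ V'' y hy (r • L.presheaf.map (homOfLE hV'').op τ) =
        X.presheaf.germ V'' y hy r • L.presheaf.germ V y (hV'' hy) τ := by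
    intro V'' hV'' y hy r
    rw [Mero.germ_smul, TopCat.Presheaf.germ_res_apply]
  refine ⟨fun r r' hrr => ?_, fun m => ?_⟩
  · have hrr' : r • L.presheaf.map (homOfLE hV').op τ = r' • L.presheaf.map (homOfLE hV').op τ :=
      hrr
    refine section_extO r r' (fun y => ?_)
    have h1 := congrArg (L.presheaf.germ V' y.1 y.2) hrr'
    rw [hg, hg] at h1
    exact (h y.1 (hV' y.2)).1 h1
  · have hex : ∀ y : V', ∃ c : X.presheaf.stalk y.1,
        c • L.presheaf.germ V y.1 (hV' y.2) τ = L.presheaf.germ V' y.1 y.2 m :=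
      fun y => (h y.1 (hV' y.2)).2 _
    choose t ht using hex
    have hloc : ∀ x : V', ∃ (W' : X.Opens) (_ : x.1 ∈ W') (hW' : W' ≤ V') (n : Γ(X, W')),
        ∀ y : W', X.presheaf.germ W' y.1 y.2 n = t ⟨y.1, hW' y.2⟩ := by
      intro x
      obtain ⟨W, hxW, ρ, hρ⟩ := TopCat.Presheaf.exists_germ_eq X.presheaf (t x)
      have hxP : x.1 ∈ W ⊓ V' := ⟨hxW, x.2⟩
      have hPV : W ⊓ V' ≤ V := inf_le_right.trans hV'
      have e1 : L.presheaf.germ (W ⊓ V') x.1 hxP
          (X.presheaf.map (homOfLE (inf_le_left : W ⊓ V' ≤ W)).op ρ •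
            L.presheaf.map (homOfLE hPV).op τ) =
          L.presheaf.germ (W ⊓ V') x.1 hxP
            (L.presheaf.map (homOfLE (inf_le_right : W ⊓ V' ≤ V')).op m) := by
        rw [hg, TopCat.Presheaf.germ_res_apply, TopCat.Presheaf.germ_res_apply, hρ]
        exact ht x
      obtain ⟨W', hxW', i1, i2, hW'⟩ := TopCat.Presheaf.germ_eq L.presheaf x.1 hxP hxP _ _ e1
      have hW'V' : W' ≤ V' := i1.le.trans inf_le_right
      refine ⟨W', hxW', hW'V', X.presheaf.map i1.op
        (X.presheaf.map (homOfLE (inf_le_left : W ⊓ V' ≤ W)).op ρ), fun y => ?_⟩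
      apply (h y.1 (hV' (hW'V' y.2))).1
      show X.presheaf.germ W' y.1 y.2 _ • L.presheaf.germ V y.1 _ τ =
        t ⟨y.1, hW'V' y.2⟩ • L.presheaf.germ V y.1 _ τ
      rw [ht ⟨y.1, hW'V' y.2⟩]
      have e2 := congrArg (L.presheaf.germ W' y.1 y.2) hW'
      rw [TopCat.Presheaf.germ_res_apply, TopCat.Presheaf.germ_res_apply, hg,
        TopCat.Presheaf.germ_res_apply, TopCat.Presheaf.germ_res_apply] at e2
      rw [TopCat.Presheaf.germ_res_apply, TopCat.Presheaf.germ_res_apply]
      exact e2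
    obtain ⟨r, hr⟩ := exists_section_of_germsO V' t hloc
    refine ⟨r, section_ext_germ L _ _ (fun y => ?_)⟩
    show L.presheaf.germ V' y.1 y.2 (r • L.presheaf.map (homOfLE hV').op τ) = _
    rw [hg, hr y, ht y]

/-- Elements of the local ring at a point of an affine open are fractions of sections. -/
theorem exists_germ_mul_eq_germ {U : X.Opens} (hU : IsAffineOpen U) (x : X) (hxU : x ∈ U)
    (c : X.presheaf.stalk x) :
    ∃ s : Γ(X, U), IsUnit (X.presheaf.germ U x hxU s) ∧
      ∃ a : Γ(X, U), X.presheaf.germ U x hxU s * c = X.presheaf.germ U x hxU a := by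
  letI := X.presheaf.algebra_section_stalk ⟨x, hxU⟩
  haveI := hU.isLocalization_stalk ⟨x, hxU⟩
  obtain ⟨⟨a, s⟩, has⟩ := IsLocalization.surj (hU.primeIdealOf ⟨x, hxU⟩).asIdeal.primeCompl c
  refine ⟨s.1, ?_, a, ?_⟩
  · exact (Scheme.mem_basicOpen _ _ _ hxU).mp
      ((mem_basicOpen_iff_notMem_primeIdealOf hU x hxU s.1).mpr s.2)
  · rw [mul_comm]
    exact has

/-- A function on an affine open with vanishing germ at `x` is killed by a function invertible
at `x`. -/
theorem exists_mul_eq_zero_of_germ_eq_zero {U : X.Opens} (hU : IsAffineOpen U) (x : X)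
    (hxU : x ∈ U) (k : Γ(X, U)) (hk : X.presheaf.germ U x hxU k = 0) :
    ∃ g : Γ(X, U), IsUnit (X.presheaf.germ U x hxU g) ∧ g * k = 0 := by
  letI := X.presheaf.algebra_section_stalk ⟨x, hxU⟩
  haveI := hU.isLocalization_stalk ⟨x, hxU⟩
  obtain ⟨g, hg⟩ := (IsLocalization.map_eq_zero_iff
    (hU.primeIdealOf ⟨x, hxU⟩).asIdeal.primeCompl (X.presheaf.stalk x) k).mp hk
  refine ⟨g.1, ?_, hg⟩
  exact (Scheme.mem_basicOpen _ _ _ hxU).mp
    ((mem_basicOpen_iff_notMem_primeIdealOf hU x hxU g.1).mpr g.2)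

/-- For a coherent module on a locally Noetherian scheme, a free generator of the stalk at `x`
spreads out to a section freely generating all stalks in a neighbourhood of `x`. -/
theorem exists_nbhd_freeAt [IsLocallyNoetherian X] (F : X.Modules) (hF : Coh.IsCoh F) (x : X)
    (t₀ : F.presheaf.stalk x) (ht₀ : FreeAt F t₀) :
    ∃ (V : X.Opens) (τ : Γ(F, V)), x ∈ V ∧
      ∀ (z : X) (hz : z ∈ V), FreeAt F (F.presheaf.germ V z hz τ) := by
  haveI : F.IsQuasicoherent := hF.1
  obtain ⟨_, ⟨U, hU, rfl⟩, hxU, -⟩ := X.isBasis_affineOpens.exists_subset_of_mem_open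
    (Set.mem_univ x) isOpen_univ
  replace hU : IsAffineOpen U := hU
  haveI : IsNoetherianRing Γ(X, U) := IsLocallyNoetherian.component_noetherian ⟨U, hU⟩
  haveI : Module.Finite Γ(X, U) Γ(F, U) := Groth.Agent.H8.finite_sections_of_isCoh F hF hU
  obtain ⟨a₀, hxa₀, τ, hτ⟩ := Groth.Agent.H8.exists_germ_smul_eq_germ F hU x hxU t₀
  have hua₀ : IsUnit (X.presheaf.germ U x hxU a₀) := (Scheme.mem_basicOpen _ _ _ hxU).mp hxa₀
  have hfree : FreeAt F (F.presheaf.germ U x hxU τ) := by
    rw [← hτ]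
    exact freeAt_smul_of_isUnit hua₀ ht₀
  -- Step 1: a denominator for the cokernel
  have hpt1 : ∀ m : Γ(F, U), ∃ h : Γ(X, U), IsUnit (X.presheaf.germ U x hxU h) ∧
      ∃ a : Γ(X, U), h • m = a • τ := by
    intro m
    obtain ⟨c, hc⟩ := hfree.2 (F.presheaf.germ U x hxU m)
    have hc' : c • F.presheaf.germ U x hxU τ = F.presheaf.germ U x hxU m := hc
    obtain ⟨s, hs, a, hsa⟩ := exists_germ_mul_eq_germ hU x hxU c
    have h0 : F.presheaf.germ U x hxU (s • m - a • τ) = 0 := by
      rw [map_sub, Mero.germ_smul, Mero.germ_smul, ← hc', ← mul_smul, hsa, sub_self]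
    obtain ⟨h, hxh, hh⟩ := Groth.Agent.H8.exists_smul_eq_zero_of_germ_eq_zero F hU x hxU _ h0
    have hh' : IsUnit (X.presheaf.germ U x hxU h) := (Scheme.mem_basicOpen _ _ _ hxU).mp hxh
    refine ⟨h * s, ?_, h * a, ?_⟩
    · rw [map_mul]
      exact hh'.mul hs
    · rw [smul_sub, sub_eq_zero] at hh
      rw [mul_smul, mul_smul, hh]
  have hfin1 : ∀ S : Finset Γ(F, U), ∃ f : Γ(X, U), IsUnit (X.presheaf.germ U x hxU f) ∧
      ∀ m ∈ S, ∃ a : Γ(X, U), f • m = a • τ := by
    classical
    intro S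
    induction S using Finset.induction_on with
    | empty =>
      refine ⟨1, ?_, fun m hm => absurd hm (Finset.notMem_empty m)⟩
      rw [map_one]
      exact isUnit_one
    | insert m S _ ih =>
      obtain ⟨f, hf, hfS⟩ := ih
      obtain ⟨h, hh, a, ha⟩ := hpt1 m
      refine ⟨f * h, ?_, fun m' hm' => ?_⟩
      · rw [map_mul]
        exact hf.mul hh
      · rcases Finset.mem_insert.mp hm' with rfl | hm'
        · exact ⟨f * a, by rw [mul_smul, ha, mul_smul]⟩
        · obtain ⟨a', ha'⟩ := hfS m' hm'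
          exact ⟨h * a', by rw [mul_comm, mul_smul, ha', mul_smul]⟩
  obtain ⟨S, hS⟩ := (Module.Finite.fg_top : (⊤ : Submodule Γ(X, U) Γ(F, U)).FG)
  obtain ⟨f₁, hf₁u, hf₁⟩ := hfin1 S
  have h1 : ∀ m : Γ(F, U), ∃ a : Γ(X, U), f₁ • m = a • τ := by
    intro m
    have hm : m ∈ Submodule.span Γ(X, U) (S : Set Γ(F, U)) := by
      rw [hS]
      trivial
    induction hm using Submodule.span_induction with
    | mem m hm => exact hf₁ m hm
    | zero => exact ⟨0, by rw [smul_zero, zero_smul]⟩
    | add m m' _ _ ih ih' =>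
      obtain ⟨a, ha⟩ := ih
      obtain ⟨a', ha'⟩ := ih'
      exact ⟨a + a', by rw [smul_add, ha, ha', add_smul]⟩
    | smul r m _ ih =>
      obtain ⟨a, ha⟩ := ih
      exact ⟨r * a, by rw [smul_comm, ha, mul_smul]⟩
  -- Step 2: a denominator for the kernel
  have hpt2 : ∀ k : Γ(X, U), k • τ = 0 → ∃ g : Γ(X, U), IsUnit (X.presheaf.germ U x hxU g) ∧
      g * k = 0 := by
    intro k hk
    have h0 : X.presheaf.germ U x hxU k • F.presheaf.germ U x hxU τ = 0 := by
      rw [← Mero.germ_smul, hk, map_zero]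
    exact exists_mul_eq_zero_of_germ_eq_zero hU x hxU k (hfree.eq_zero _ h0)
  have hfin2 : ∀ S : Finset Γ(X, U), (∀ k ∈ S, k • τ = 0) →
      ∃ g : Γ(X, U), IsUnit (X.presheaf.germ U x hxU g) ∧ ∀ k ∈ S, g * k = 0 := by
    classical
    intro S
    induction S using Finset.induction_on with
    | empty =>
      intro _
      refine ⟨1, ?_, fun m hm => absurd hm (Finset.notMem_empty m)⟩
      rw [map_one]
      exact isUnit_one
    | insert k S _ ih =>
      intro hkS
      obtain ⟨g, hg, hgS⟩ := ih (fun k' hk' => hkS k' (Finset.mem_insert_of_mem hk'))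
      obtain ⟨g', hg', hgk⟩ := hpt2 k (hkS k (Finset.mem_insert_self k S))
      refine ⟨g * g', ?_, fun k' hk' => ?_⟩
      · rw [map_mul]
        exact hg.mul hg'
      · rcases Finset.mem_insert.mp hk' with rfl | hk'
        · rw [mul_assoc, hgk, mul_zero]
        · rw [mul_comm g g', mul_assoc, hgS k' hk', mul_zero]
  obtain ⟨S₂, hS₂⟩ := (IsNoetherian.noetherian
    (LinearMap.ker (LinearMap.toSpanSingleton Γ(X, U) Γ(F, U) τ)) :
    (LinearMap.ker (LinearMap.toSpanSingleton Γ(X, U) Γ(F, U) τ)).FG)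
  have hS₂' : ∀ k ∈ S₂, k • τ = 0 := by
    intro k hk
    have : k ∈ LinearMap.ker (LinearMap.toSpanSingleton Γ(X, U) Γ(F, U) τ) := by
      rw [← hS₂]
      exact Submodule.subset_span hk
    rw [LinearMap.mem_ker, LinearMap.toSpanSingleton_apply] at this
    exact this
  obtain ⟨f₂, hf₂u, hf₂⟩ := hfin2 S₂ hS₂'
  have h2' : ∀ k ∈ Submodule.span Γ(X, U) (S₂ : Set Γ(X, U)), f₂ * k = 0 := by
    intro k hk'
    induction hk' using Submodule.span_induction with
    | mem k hk => exact hf₂ k hk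
    | zero => exact mul_zero _
    | add k k' _ _ ih ih' => rw [mul_add, ih, ih', add_zero]
    | smul r k _ ih => rw [smul_eq_mul, mul_left_comm, ih, mul_zero]
  have h2 : ∀ k : Γ(X, U), k • τ = 0 → f₂ * k = 0 := by
    intro k hk
    apply h2'
    rw [hS₂, LinearMap.mem_ker, LinearMap.toSpanSingleton_apply]
    exact hk
  -- the neighbourhood
  have hxV : x ∈ X.basicOpen (f₁ * f₂) := by
    rw [Scheme.mem_basicOpen _ _ _ hxU, map_mul]
    exact hf₁u.mul hf₂u
  refine ⟨X.basicOpen (f₁ * f₂), F.presheaf.map (homOfLE (X.basicOpen_le _)).op τ, hxV, ?_⟩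
  intro z hz
  have hzU : z ∈ U := X.basicOpen_le _ hz
  have hu12 : IsUnit (X.presheaf.germ U z hzU (f₁ * f₂)) := (Scheme.mem_basicOpen _ _ _ hzU).mp hz
  rw [map_mul] at hu12
  have hu1 : IsUnit (X.presheaf.germ U z hzU f₁) := (IsUnit.mul_iff.mp hu12).1
  have hu2 : IsUnit (X.presheaf.germ U z hzU f₂) := (IsUnit.mul_iff.mp hu12).2
  rw [TopCat.Presheaf.germ_res_apply]
  refine freeAt_of_forall (fun c hc => ?_) (fun t' => ?_)
  · obtain ⟨s, hs, a, hsa⟩ := exists_germ_mul_eq_germ hU z hzU c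
    have h0 : F.presheaf.germ U z hzU (a • τ) = 0 := by
      rw [Mero.germ_smul, ← hsa, mul_smul, hc, smul_zero]
    obtain ⟨h, hzh, hh⟩ := Groth.Agent.H8.exists_smul_eq_zero_of_germ_eq_zero F hU z hzU _ h0
    have hh' : IsUnit (X.presheaf.germ U z hzU h) := (Scheme.mem_basicOpen _ _ _ hzU).mp hzh
    rw [← mul_smul] at hh
    have h3 := h2 _ hh
    have h4 := congrArg (X.presheaf.germ U z hzU) h3
    rw [map_mul, map_mul, map_zero, ← mul_assoc] at h4
    have h5 : X.presheaf.germ U z hzU a = 0 := ((hu2.mul hh').mul_right_eq_zero).mp h4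
    rw [h5] at hsa
    exact (hs.mul_right_eq_zero).mp hsa
  · obtain ⟨a, hza, n, hn⟩ := Groth.Agent.H8.exists_germ_smul_eq_germ F hU z hzU t'
    have hua : IsUnit (X.presheaf.germ U z hzU a) := (Scheme.mem_basicOpen _ _ _ hzU).mp hza
    obtain ⟨b, hb⟩ := h1 n
    have hu : IsUnit (X.presheaf.germ U z hzU f₁ * X.presheaf.germ U z hzU a) := hu1.mul hua
    have h3 : X.presheaf.germ U z hzU b • F.presheaf.germ U z hzU τ =
        (X.presheaf.germ U z hzU f₁ * X.presheaf.germ U z hzU a) • t' := by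
      rw [← Mero.germ_smul, ← hb, Mero.germ_smul, ← hn, mul_smul]
    refine ⟨↑hu.unit⁻¹ * X.presheaf.germ U z hzU b, ?_⟩
    rw [mul_smul, h3, ← mul_smul, IsUnit.val_inv_mul, one_smul]

/-- A rank one coherent reflexive module on a normal integral locally Noetherian scheme has a free
generator of its stalk at every point `x` with `dim O_x < 2`. -/
theorem exists_freeAt_of_dim_lt_two [IsIntegral X] [IsLocallyNoetherian X]
    (hX : Pi1.IsNormalScheme X) (F : X.Modules) (hF : RefHull.IsRef1 F) (x : X)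
    (hdim : ringKrullDim (X.presheaf.stalk x) < 2) :
    ∃ t₀ : F.presheaf.stalk x, FreeAt F t₀ := by
  obtain ⟨hcoh, hrefl, hgen⟩ := hF
  haveI : F.IsQuasicoherent := hcoh.1
  haveI : SheafOfModules.IsFiniteType (R := X.ringCatSheaf) F := hcoh.2
  haveI : IsDomain (X.presheaf.stalk x) := (hX x).1
  haveI : IsIntegrallyClosed (X.presheaf.stalk x) := (hX x).2
  haveI : IsNoetherianRing (X.presheaf.stalk x) := inferInstance
  haveI := Groth.Agent.S7862.isPrincipalIdealRing_of_dim_lt_two (X.presheaf.stalk x) hdim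
  haveI : Module.Finite (X.presheaf.stalk x) (F.presheaf.stalk x) :=
    Groth.Agent.H8.finite_stalk_of_isCoh F hcoh x
  haveI : Module.IsReflexive (X.presheaf.stalk x) (F.presheaf.stalk x) :=
    Groth.Agent.H17.ReflSheaf.isReflexiveAt_of_isReflexive F hcoh hrefl x
  haveI : Module.IsTorsionFree (X.presheaf.stalk x) (F.presheaf.stalk x) :=
    Groth.Agent.H17.NormalRefl.isTorsionFree_of_isReflexive
  obtain ⟨U₂, hηU₂, hrk⟩ := Groth.Agent.H17.RankOneSheaf.exists_secRankOne F hgen
  haveI : Nontrivial (F.presheaf.stalk x) :=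
    Groth.Agent.H17.RankOneSheaf.nontrivial_stalk F hηU₂ hrk x
  exact exists_free_gen
    (fun m m' => Groth.Agent.H17.RankOneSheaf.stalk_rank_one F hηU₂ hrk x m m')

/-- A rank one coherent reflexive module on a normal integral locally Noetherian scheme has a
generator near every point `x` with `dim O_x < 2`. -/
theorem exists_isGen_of_dim_lt_two [IsIntegral X] [IsLocallyNoetherian X]
    (hX : Pi1.IsNormalScheme X) (F : X.Modules) (hF : RefHull.IsRef1 F) (x : X)
    (hdim : ringKrullDim (X.presheaf.stalk x) < 2) :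
    ∃ (V : X.Opens) (τ : Γ(F, V)), x ∈ V ∧ IsGen F V τ := by
  obtain ⟨t₀, ht₀⟩ := exists_freeAt_of_dim_lt_two hX F hF x hdim
  obtain ⟨V, τ, hxV, hτ⟩ := exists_nbhd_freeAt F hF.1 x t₀ ht₀
  exact ⟨V, τ, hxV, isGen_of_forall_freeAt τ hτ⟩

theorem exists_isGen_pair_of_dim_lt_two [IsIntegral X] [IsLocallyNoetherian X]
    (hX : Pi1.IsNormalScheme X) (F G : X.Modules) (hF : RefHull.IsRef1 F)
    (hG : RefHull.IsRef1 G) (x : X) (hdim : ringKrullDim (X.presheaf.stalk x) < 2) :
    ∃ (V : X.Opens) (α : Γ(F, V)) (β : Γ(G, V)), x ∈ V ∧ IsGen F V α ∧ IsGen G V β := by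
  obtain ⟨V₁, α, hx₁, hα⟩ := exists_isGen_of_dim_lt_two hX F hF x hdim
  obtain ⟨V₂, β, hx₂, hβ⟩ := exists_isGen_of_dim_lt_two hX G hG x hdim
  exact ⟨V₁ ⊓ V₂, _, _, ⟨hx₁, hx₂⟩, hα.res inf_le_left, hβ.res inf_le_right⟩

/-! ### Generators of the sheaf Hom -/

/-- The linear equivalence `O_z ≃ M_z` defined by a free generator. -/
noncomputable def genEquiv {M : X.Modules} {z : X} {t : M.presheaf.stalk z} (ht : FreeAt M t) :
    X.presheaf.stalk z ≃ₗ[X.presheaf.stalk z] M.presheaf.stalk z :=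
  LinearEquiv.ofBijective (LinearMap.toSpanSingleton (X.presheaf.stalk z) (M.presheaf.stalk z) t)
    (by
      have he : (LinearMap.toSpanSingleton (X.presheaf.stalk z) (M.presheaf.stalk z) t :
          X.presheaf.stalk z → M.presheaf.stalk z) = fun r => r • t := by
        funext r
        exact LinearMap.toSpanSingleton_apply _ _ _ _
      rw [he]
      exact ht)

lemma genEquiv_apply {M : X.Modules} {z : X} {t : M.presheaf.stalk z} (ht : FreeAt M t)
    (c : X.presheaf.stalk z) : genEquiv ht c = c • t :=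
  LinearMap.toSpanSingleton_apply _ _ _ _

/-- The linear map `M_z → N_z` sending the free generator `t` to `t'`. -/
noncomputable def genHom {M N : X.Modules} {z : X} {t : M.presheaf.stalk z} (ht : FreeAt M t)
    (t' : N.presheaf.stalk z) : RefHull.StalkHom M N z :=
  (LinearMap.toSpanSingleton (X.presheaf.stalk z) (N.presheaf.stalk z) t').comp
    (genEquiv ht).symm.toLinearMap

lemma genHom_smul {M N : X.Modules} {z : X} {t : M.presheaf.stalk z} (ht : FreeAt M t)
    (t' : N.presheaf.stalk z) (c : X.presheaf.stalk z) : genHom ht t' (c • t) = c • t' := by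
  have h1 : (genEquiv ht).symm (c • t) = c := by
    rw [LinearEquiv.symm_apply_eq, genEquiv_apply]
  show LinearMap.toSpanSingleton _ _ t' ((genEquiv ht).symm (c • t)) = c • t'
  rw [h1, LinearMap.toSpanSingleton_apply]

lemma genHom_self {M N : X.Modules} {z : X} {t : M.presheaf.stalk z} (ht : FreeAt M t)
    (t' : N.presheaf.stalk z) : genHom ht t' t = t' := by
  have := genHom_smul ht t' 1
  rwa [one_smul, one_smul] at this

lemma stalkHom_ext_of_freeAt {M N : X.Modules} {z : X} {t : M.presheaf.stalk z}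
    (ht : FreeAt M t) (f g : RefHull.StalkHom M N z) (h : f t = g t) : f = g := by
  refine LinearMap.ext (fun v => ?_)
  obtain ⟨c, hc⟩ := ht.2 v
  have hc' : c • t = v := hc
  rw [← hc', map_smul, map_smul, h]

/-- If `μ` generates `M` and `ν` generates `N` over `V`, the sheaf Hom is generated over `V` by the
section sending `μ` to `ν`. -/
theorem isGen_homSh {M N : X.Modules} {V : X.Opens} {μ : Γ(M, V)} {ν : Γ(N, V)}
    (hμ : IsGen M V μ) (hν : IsGen N V ν) :
    ∃ θ : Γ(RefHull.homSh M N, V), IsGen (RefHull.homSh M N) V θ ∧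
      ∀ (z : X) (hz : z ∈ V),
        θ.1 ⟨z, hz⟩ (M.presheaf.germ V z hz μ) = N.presheaf.germ V z hz ν := by
  have hfμ : ∀ (z : X) (hz : z ∈ V), FreeAt M (M.presheaf.germ V z hz μ) :=
    fun z hz => freeAt_of_isGen hμ z hz
  have hfν : ∀ (z : X) (hz : z ∈ V), FreeAt N (N.presheaf.germ V z hz ν) :=
    fun z hz => freeAt_of_isGen hν z hz
  have hloc : RefHull.IsLocSect M N
      (fun z : V => genHom (hfμ z.1 z.2) (N.presheaf.germ V z.1 z.2 ν)) := by
    intro V'' i m x
    obtain ⟨r, hr⟩ := (hμ V'' i.le).2 m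
    have hr' : r • M.presheaf.map (homOfLE i.le).op μ = m := hr
    refine ⟨V'', x.2, 𝟙 V'', r • N.presheaf.map (homOfLE i.le).op ν, fun y => ?_⟩
    rw [← hr', Mero.germ_smul, Mero.germ_smul, TopCat.Presheaf.germ_res_apply,
      TopCat.Presheaf.germ_res_apply]
    exact genHom_smul _ _ _
  refine ⟨⟨fun z : V => genHom (hfμ z.1 z.2) (N.presheaf.germ V z.1 z.2 ν), hloc⟩, ?_,
    fun z hz => genHom_self _ _⟩
  intro V' hV'
  refine ⟨fun r r' hrr => ?_, fun g => ?_⟩
  · refine section_extO r r' (fun y => ?_)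
    have h1 : X.presheaf.germ V' y.1 y.2 r •
          genHom (hfμ y.1 (hV' y.2)) (N.presheaf.germ V y.1 (hV' y.2) ν) =
        X.presheaf.germ V' y.1 y.2 r' •
          genHom (hfμ y.1 (hV' y.2)) (N.presheaf.germ V y.1 (hV' y.2) ν) :=
      congrArg (fun g : Γ(RefHull.homSh M N, V') => g.1 y) hrr
    have h2 := LinearMap.congr_fun h1 (M.presheaf.germ V y.1 (hV' y.2) μ)
    rw [LinearMap.smul_apply, LinearMap.smul_apply, genHom_self] at h2
    exact (hfν y.1 (hV' y.2)).1 h2
  · obtain ⟨r, hr⟩ := (hν V' hV').2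
      (fwd M N (le_refl V') g (M.presheaf.map (homOfLE hV').op μ))
    have hr' : r • N.presheaf.map (homOfLE hV').op ν =
        fwd M N (le_refl V') g (M.presheaf.map (homOfLE hV').op μ) := hr
    refine ⟨r, Subtype.ext (funext fun y => ?_)⟩
    refine stalkHom_ext_of_freeAt (hfμ y.1 (hV' y.2)) _ _ ?_
    show (X.presheaf.germ V' y.1 y.2 r •
      genHom (hfμ y.1 (hV' y.2)) (N.presheaf.germ V y.1 (hV' y.2) ν))
        (M.presheaf.germ V y.1 (hV' y.2) μ) = g.1 y (M.presheaf.germ V y.1 (hV' y.2) μ)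
    rw [LinearMap.smul_apply, genHom_self]
    have h3 := germ_fwd M N (le_refl V') g (M.presheaf.map (homOfLE hV').op μ) y.1 y.2
    rw [← hr', Mero.germ_smul, TopCat.Presheaf.germ_res_apply,
      TopCat.Presheaf.germ_res_apply] at h3
    exact h3

/-- The image of a generator under the biduality map generates the reflexive hull. -/
theorem isGen_bidual {M : X.Modules} {V : X.Opens} {μ : Γ(M, V)} (hμ : IsGen M V μ) :
    IsGen (RefHull.ddual M) V ((RefHull.bidualMap M).app V μ) := by
  obtain ⟨θ, hθ, hθμ⟩ := isGen_homSh hμ (isGen_one V)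
  obtain ⟨θ', hθ', hθ'θ⟩ := isGen_homSh hθ (isGen_one V)
  have he : (RefHull.bidualMap M).app V μ = θ' := by
    refine Subtype.ext (funext fun z => ?_)
    refine stalkHom_ext_of_freeAt (freeAt_of_isGen hθ z.1 z.2) _ _ ?_
    rw [RefHull.bidualMap_app_apply, RefHull.bidualAt_apply, RefHull.evalStalk_germ,
      hθ'θ z.1 z.2, hθμ z.1 z.2]
  rw [he]
  exact hθ'

/-- Compatibility of the biduality map with restriction and scalars. -/
theorem bidual_res_smul (M : X.Modules) {V₀ V : X.Opens} (m₀ : Γ(M, V₀)) (m : Γ(M, V))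
    (g : Γ(X, V₀ ⊓ V))
    (hg : M.presheaf.map (homOfLE (inf_le_right : V₀ ⊓ V ≤ V)).op m =
      g • M.presheaf.map (homOfLE (inf_le_left : V₀ ⊓ V ≤ V₀)).op m₀) :
    (RefHull.ddual M).presheaf.map (homOfLE (inf_le_right : V₀ ⊓ V ≤ V)).op
        ((RefHull.bidualMap M).app V m) =
      g • (RefHull.ddual M).presheaf.map (homOfLE (inf_le_left : V₀ ⊓ V ≤ V₀)).op
        ((RefHull.bidualMap M).app V₀ m₀) := by
  refine Subtype.ext (funext fun y => ?_)
  show RefHull.bidualAt M y.1 (M.presheaf.germ V y.1 y.2.2 m) =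
    X.presheaf.germ (V₀ ⊓ V) y.1 y.2 g • RefHull.bidualAt M y.1 (M.presheaf.germ V₀ y.1 y.2.1 m₀)
  rw [← map_smul]
  exact congrArg _
    (Groth.Agent.H95.AssGen.germ_eq_smul_germ m₀ m g hg y.1 y.2.1 y.2.2 y.2)

end Groth.Agent.H95.RefGen
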