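import Groth.Agent.H95.RefIso
import Groth.Agent.S16086
import Groth.Agent.S16090
import Groth.Agent.H17.ReflNormal
import Groth.Agent.H8.TensorQCoh
import Groth.Agent.H8.InvRestrict
import Groth.Agent.H8.StructureCoh
import Groth.Agent.H18.RestrictUnit

/-!
# The class group of rank one reflexive modules through the divisor class map

`kap hX c` is the class, modulo principal divisors, of the Weil divisor of a rational section of a
module representing `c`.  It is injective (S16086) and additive for the reflexive tensor product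
(S16090); this gives the group law on classes of rank one reflexive modules (S16085).
-/

set_option autoImplicit false
set_option linter.style.haveILetI false

universe u

open CategoryTheory AlgebraicGeometry TopologicalSpace Opposite

namespace Groth.Agent.H95.RefGroup

open Groth.Agent.H18.TensorGen (IsGen isGen_one isGen_tm)
open Groth.Agent.H95.AssGen (GenAt genAt_of_isGen)
open Groth.Agent.H95.SecOrd
open Groth.Agent.H95.RefGen
open Groth.Agent.H95.RefIso
open Groth.Agent.H95.C1Cap (ordAt_one)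
open Groth.Agent.S16092 (secOrdAt_rebase)
open Groth.Agent.H17.ReflSheaf (isCoh_dual isCoh_ddual isReflexive_of_closed_points)

variable {X : Scheme.{u}}

theorem cl_eq_iff {F G : X.Modules} : PicF.cl F = PicF.cl G ↔ Nonempty (F ≅ G) := by
  constructor
  · intro h
    have h' := Quot.eq.mp h
    have heq : Equivalence (fun L L' : X.Modules => Nonempty (L ≅ L')) :=
      ⟨fun L => ⟨Iso.refl L⟩, fun ⟨e⟩ => ⟨e.symm⟩, fun ⟨e⟩ ⟨e'⟩ => ⟨e ≪≫ e'⟩⟩
    exact heq.eqvGen_iff.mp h'
  · exact fun h => Quot.sound h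

theorem germ_one_eq {V V' : X.Opens} (z : X) (hz : z ∈ V) (hz' : z ∈ V') :
    (Coh.structureModule X).presheaf.germ V z hz
        (show Γ(Coh.structureModule X, V) from (1 : Γ(X, V))) =
      (Coh.structureModule X).presheaf.germ V' z hz'
        (show Γ(Coh.structureModule X, V') from (1 : Γ(X, V'))) := by
  have hP : z ∈ V ⊓ V' := ⟨hz, hz'⟩
  rw [← TopCat.Presheaf.germ_res_apply (Coh.structureModule X).presheaf
      (homOfLE (inf_le_left : V ⊓ V' ≤ V)) z hP,
    ← TopCat.Presheaf.germ_res_apply (Coh.structureModule X).presheaf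
      (homOfLE (inf_le_right : V ⊓ V' ≤ V')) z hP]
  congr 1
  exact (map_one (X.presheaf.map (homOfLE (inf_le_left : V ⊓ V' ≤ V)).op).hom).trans
    (map_one (X.presheaf.map (homOfLE (inf_le_right : V ⊓ V' ≤ V')).op).hom).symm

variable [IsIntegral X]

theorem dim_generic_lt_two : ringKrullDim (X.presheaf.stalk (genericPoint X)) < 2 := by
  have h0 : ringKrullDim (X.presheaf.stalk (genericPoint X)) = 0 :=
    ringKrullDim_eq_zero_of_field X.functionField
  rw [h0]
  exact zero_lt_two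

theorem dim_lt_two_of_coheight {x : X} (hx1 : Order.coheight x = 1) :
    ringKrullDim (X.presheaf.stalk x) < 2 := by
  rw [AlgebraicGeometry.ringKrullDim_stalk_eq_coheight, hx1]
  first
    | exact one_lt_two
    | norm_num

theorem genInvertible_of_isGen {M : X.Modules} {V : X.Opens} {μ : Γ(M, V)} (hμ : IsGen M V μ)
    (hηV : genericPoint X ∈ V) : RefHull.GenInvertible M := by
  refine ⟨V, V.2.dense ⟨genericPoint X, hηV⟩, ?_⟩
  obtain ⟨e⟩ := Groth.Agent.H18.RestrictUnit.nonempty_restrict_iso_unit V M μ hμ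
  exact Groth.Agent.H8.isInvertible_of_iso e.symm (Groth.Agent.H8.isInvertible_structureModule _)

variable [IsLocallyNoetherian X]

theorem ord_one' (x : X) : Scheme.ord (1 : X.functionField) x = 0 := by
  have h := Scheme.ord_mul (x := x) (one_ne_zero : (1 : X.functionField) ≠ 0) one_ne_zero
  rw [mul_one] at h
  omega

theorem ord_inv' {f : X.functionField} (hf : f ≠ 0) (x : X) :
    Scheme.ord f⁻¹ x = - Scheme.ord f x := by
  have h := Scheme.ord_mul (x := x) hf (inv_ne_zero hf)
  rw [mul_inv_cancel₀ hf, ord_one'] at h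
  omega

theorem ref1_structure (X : Scheme.{u}) [IsIntegral X] [IsLocallyNoetherian X] :
    RefHull.IsRef1 (Coh.structureModule X) := by
  have hO := Groth.Agent.H8.isCoh_structureModule X
  refine ⟨hO, ?_, genInvertible_of_isGen (isGen_one ⊤) trivial⟩
  refine isReflexive_of_closed_points _ hO (fun x _ => ?_)
  have hfree := freeAt_of_isGen (isGen_one (X := X) ⊤) x trivial
  haveI : Module.Free (X.presheaf.stalk x) ((Coh.structureModule X).presheaf.stalk x) :=
    Module.Free.of_equiv (genEquiv hfree)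
  haveI : Module.Finite (X.presheaf.stalk x) ((Coh.structureModule X).presheaf.stalk x) :=
    Module.Finite.equiv (genEquiv hfree)
  show Module.IsReflexive _ _
  infer_instance

theorem ref1_ddualTensor (hX : Pi1.IsNormalScheme X) {F G : X.Modules} (hF : RefHull.IsRef1 F)
    (hG : RefHull.IsRef1 G) : RefHull.IsRef1 (RefHull.ddual (CohB1.tensorMod F G)) := by
  haveI : F.IsQuasicoherent := hF.1.1
  haveI : G.IsQuasicoherent := hG.1.1
  haveI : SheafOfModules.IsFiniteType (R := X.ringCatSheaf) F := hF.1.2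
  haveI : SheafOfModules.IsFiniteType (R := X.ringCatSheaf) G := hG.1.2
  have hT : Coh.IsCoh (CohB1.tensorMod F G) :=
    ⟨inferInstance, Groth.Agent.H8.isFiniteType_tensorMod F G⟩
  have hD : Coh.IsCoh (RefHull.dual (CohB1.tensorMod F G)) := isCoh_dual _ hT
  refine ⟨isCoh_ddual _ hT, Groth.Agent.H17.ReflNormal.isReflexive_dual _ hD, ?_⟩
  obtain ⟨V₀, τ₀, ν₀, hηV₀, hτ₀, hν₀⟩ :=
    exists_isGen_pair_of_dim_lt_two hX F G hF hG (genericPoint X) dim_generic_lt_two
  exact genInvertible_of_isGen (isGen_bidual (isGen_tm hτ₀ hν₀)) hηV₀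

theorem ref1_dual (hX : Pi1.IsNormalScheme X) {F : X.Modules} (hF : RefHull.IsRef1 F) :
    RefHull.IsRef1 (RefHull.dual F) := by
  refine ⟨isCoh_dual F hF.1, Groth.Agent.H17.ReflNormal.isReflexive_dual F hF.1, ?_⟩
  obtain ⟨V₀, τ₀, hηV₀, hτ₀⟩ :=
    exists_isGen_of_dim_lt_two hX F hF (genericPoint X) dim_generic_lt_two
  obtain ⟨θ, hθ, -⟩ := isGen_homSh hτ₀ (isGen_one V₀)
  exact genInvertible_of_isGen hθ hηV₀

theorem exists_sec_ne_zero (hX : Pi1.IsNormalScheme X) {F : X.Modules} (hF : RefHull.IsRef1 F) :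
    ∃ s : Cyc.secFibre F (genericPoint X), s ≠ 0 := by
  obtain ⟨V₀, τ₀, hηV₀, hτ₀⟩ :=
    exists_isGen_of_dim_lt_two hX F hF (genericPoint X) dim_generic_lt_two
  refine ⟨Submodule.Quotient.mk (F.presheaf.germ V₀ (genericPoint X) hηV₀ τ₀), fun h0 => ?_⟩
  have h1 : (1 : X.presheaf.stalk (genericPoint X)) •
      (Submodule.Quotient.mk (F.presheaf.germ V₀ (genericPoint X) hηV₀ τ₀) :
        Cyc.secFibre F (genericPoint X)) = 0 := by
    rw [one_smul]
    exact h0
  have hm := mem_maximalIdeal_of_smul_mk_eq_zero hτ₀ (genericPoint X) hηV₀ _ h1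
  exact (IsLocalRing.mem_maximalIdeal _).mp hm isUnit_one

/-- The dual rational section: its orders are the negatives. -/
theorem exists_dual_section (hX : Pi1.IsNormalScheme X) {F : X.Modules} (hF : RefHull.IsRef1 F)
    (s : Cyc.secFibre F (genericPoint X)) (hs : s ≠ 0) :
    ∃ s' : Cyc.secFibre (RefHull.dual F) (genericPoint X), s' ≠ 0 ∧
      ∀ x : X, Order.coheight x = 1 →
        Cyc.secOrdAt (RefHull.dual F) (genericPoint X) x
            ((genericPoint_spec X).specializes (Set.mem_univ x)) s' =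
          - Cyc.secOrdAt F (genericPoint X) x
            ((genericPoint_spec X).specializes (Set.mem_univ x)) s := by
  obtain ⟨V₀, τ₀, hηV₀, hτ₀⟩ :=
    exists_isGen_of_dim_lt_two hX F hF (genericPoint X) dim_generic_lt_two
  obtain ⟨θ₀, hθ₀, hθ₀τ₀⟩ := isGen_homSh hτ₀ (isGen_one V₀)
  obtain ⟨a, ha⟩ := exists_eq_smul_mk hτ₀ (genericPoint X) hηV₀ s
  have hau : IsUnit a := isUnit_of_mk_ne_zero (genericPoint X) hηV₀ s hs a ha
  obtain ⟨ainv, hainv⟩ := hau.exists_right_inv
  obtain ⟨s', hs'⟩ : ∃ s' : Cyc.secFibre (RefHull.dual F) (genericPoint X),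
      s' = ainv • (Submodule.Quotient.mk
        ((RefHull.dual F).presheaf.germ V₀ (genericPoint X) hηV₀ θ₀) :
          Cyc.secFibre (RefHull.dual F) (genericPoint X)) := ⟨_, rfl⟩
  refine ⟨s', ?_, fun x hx1 => ?_⟩
  · intro h0
    rw [hs'] at h0
    have hm := mem_maximalIdeal_of_smul_mk_eq_zero hθ₀ (genericPoint X) hηV₀ _ h0
    exact (IsLocalRing.mem_maximalIdeal _).mp hm (IsUnit.of_mul_eq_one_right _ hainv)
  · have hη : genericPoint X ⤳ x := (genericPoint_spec X).specializes (Set.mem_univ x)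
    obtain ⟨V, α, hxV, hα⟩ := exists_isGen_of_dim_lt_two hX F hF x (dim_lt_two_of_coheight hx1)
    obtain ⟨θ, hθ, hθα⟩ := isGen_homSh hα (isGen_one V)
    have hηV : genericPoint X ∈ V := hη.mem_open V.2 hxV
    have hηP : genericPoint X ∈ V₀ ⊓ V := ⟨hηV₀, hηV⟩
    obtain ⟨c, hc⟩ := (hτ₀ (V₀ ⊓ V) inf_le_left).2
      (F.presheaf.map (homOfLE (inf_le_right : V₀ ⊓ V ≤ V)).op α)
    have hc' : F.presheaf.map (homOfLE (inf_le_right : V₀ ⊓ V ≤ V)).op α =
        c • F.presheaf.map (homOfLE (inf_le_left : V₀ ⊓ V ≤ V₀)).op τ₀ := hc.symm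
    obtain ⟨c₂, hc₂⟩ := (hα (V₀ ⊓ V) inf_le_right).2
      (F.presheaf.map (homOfLE (inf_le_left : V₀ ⊓ V ≤ V₀)).op τ₀)
    have hc₂' : F.presheaf.map (homOfLE (inf_le_left : V₀ ⊓ V ≤ V₀)).op τ₀ =
        c₂ • F.presheaf.map (homOfLE (inf_le_right : V₀ ⊓ V ≤ V)).op α := hc₂.symm
    have hcc : c₂ * c = 1 := by
      apply (hτ₀ (V₀ ⊓ V) inf_le_left).1
      show (c₂ * c) • F.presheaf.map (homOfLE (inf_le_left : V₀ ⊓ V ≤ V₀)).op τ₀ =
        (1 : Γ(X, V₀ ⊓ V)) • F.presheaf.map (homOfLE (inf_le_left : V₀ ⊓ V ≤ V₀)).op τ₀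
      rw [mul_smul, ← hc', ← hc₂', one_smul]
    have hgerm : ∀ (z : X) (hz : z ∈ V₀ ⊓ V), F.presheaf.germ V₀ z hz.1 τ₀ =
        X.presheaf.germ (V₀ ⊓ V) z hz c₂ • F.presheaf.germ V z hz.2 α := by
      intro z hz
      rw [← TopCat.Presheaf.germ_res_apply F.presheaf (homOfLE (inf_le_left : V₀ ⊓ V ≤ V₀)) z hz τ₀,
        hc₂', Mero.germ_smul, TopCat.Presheaf.germ_res_apply]
    have hθrel : (RefHull.dual F).presheaf.map (homOfLE (inf_le_right : V₀ ⊓ V ≤ V)).op θ =
        c₂ • (RefHull.dual F).presheaf.map (homOfLE (inf_le_left : V₀ ⊓ V ≤ V₀)).op θ₀ := by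
      refine Subtype.ext (funext fun z => ?_)
      refine stalkHom_ext_of_freeAt (freeAt_of_isGen hτ₀ z.1 z.2.1) _ _ ?_
      show θ.1 ⟨z.1, z.2.2⟩ (F.presheaf.germ V₀ z.1 z.2.1 τ₀) =
        (X.presheaf.germ (V₀ ⊓ V) z.1 z.2 c₂ • θ₀.1 ⟨z.1, z.2.1⟩)
          (F.presheaf.germ V₀ z.1 z.2.1 τ₀)
      rw [LinearMap.smul_apply, hθ₀τ₀ z.1 z.2.1, hgerm z.1 z.2, map_smul, hθα z.1 z.2.2,
        germ_one_eq z.1 z.2.2 z.2.1]
    have hηc : X.presheaf.germ (V₀ ⊓ V) (genericPoint X) hηP c₂ *
        X.presheaf.germ (V₀ ⊓ V) (genericPoint X) hηP c = 1 := by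
      rw [← map_mul, hcc, map_one]
    have hηc' : X.presheaf.germ (V₀ ⊓ V) (genericPoint X) hηP c *
        X.presheaf.germ (V₀ ⊓ V) (genericPoint X) hηP c₂ = 1 := by
      rw [mul_comm]
      exact hηc
    have h1 := secOrdAt_rebase hθ c₂ hθrel hη hxV hηV hηV₀ hηP
      (X.presheaf.germ (V₀ ⊓ V) (genericPoint X) hηP c) hηc s' ainv hs'
    have h2 := secOrdAt_rebase hα c hc' hη hxV hηV hηV₀ hηP
      (X.presheaf.germ (V₀ ⊓ V) (genericPoint X) hηP c₂) hηc' s a ha
    rw [h1, h2]
    have ha0 : (a : X.functionField) ≠ 0 := left_ne_zero_of_mul_eq_one hainv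
    have hainv0 : (ainv : X.functionField) ≠ 0 := right_ne_zero_of_mul_eq_one hainv
    have hc0 : (X.presheaf.germ (V₀ ⊓ V) (genericPoint X) hηP c : X.functionField) ≠ 0 :=
      left_ne_zero_of_mul_eq_one hηc'
    have hc₂0 : (X.presheaf.germ (V₀ ⊓ V) (genericPoint X) hηP c₂ : X.functionField) ≠ 0 :=
      left_ne_zero_of_mul_eq_one hηc
    have hprod : (a * X.presheaf.germ (V₀ ⊓ V) (genericPoint X) hηP c₂) *
        (ainv * X.presheaf.germ (V₀ ⊓ V) (genericPoint X) hηP c) = 1 := by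
      linear_combination (X.presheaf.germ (V₀ ⊓ V) (genericPoint X) hηP c₂ *
        X.presheaf.germ (V₀ ⊓ V) (genericPoint X) hηP c) * hainv + hηc
    have e1 := o_mul x hη (mul_ne_zero ha0 hc₂0) (mul_ne_zero hainv0 hc0)
    rw [hprod, map_one, ordAt_one] at e1
    omega

/-! ### The divisor class map -/

open Classical in
/-- The Weil divisor of a rational section, as a function on points. -/
noncomputable def divFn (F : X.Modules) (s : Cyc.secFibre F (genericPoint X)) : X → ℤ :=
  fun x => if Order.coheight x = 1 then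
    Cyc.secOrdAt F (genericPoint X) x ((genericPoint_spec X).specializes (Set.mem_univ x)) s
  else 0

variable (X) in
/-- The principal divisors. -/
def prin : AddSubgroup (X → ℤ) where
  carrier := {D | ∃ f : X.functionField, f ≠ 0 ∧ D = fun x => Scheme.ord f x}
  zero_mem' := ⟨1, one_ne_zero, funext fun x => (ord_one' x).symm⟩
  add_mem' := by
    rintro _ _ ⟨f, hf, rfl⟩ ⟨g, hg, rfl⟩
    exact ⟨f * g, mul_ne_zero hf hg, funext fun x => (Scheme.ord_mul hf hg).symm⟩
  neg_mem' := by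
    rintro _ ⟨f, hf, rfl⟩
    exact ⟨f⁻¹, inv_ne_zero hf, funext fun x => (ord_inv' hf x).symm⟩

theorem iso_iff_mk_eq (hX : Pi1.IsNormalScheme X) {F G : X.Modules} (hF : RefHull.IsRef1 F)
    (hG : RefHull.IsRef1 G) (s : Cyc.secFibre F (genericPoint X)) (hs : s ≠ 0)
    (t : Cyc.secFibre G (genericPoint X)) (ht : t ≠ 0) :
    Nonempty (F ≅ G) ↔
      (QuotientAddGroup.mk (divFn F s) : (X → ℤ) ⧸ prin X) = QuotientAddGroup.mk (divFn G t) := by
  rw [Groth.Agent.S16086.result X hX F G hF hG s hs t ht, QuotientAddGroup.eq]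
  constructor
  · rintro ⟨f, hf0, hf⟩
    refine ⟨f⁻¹, inv_ne_zero hf0, funext fun x => ?_⟩
    show - divFn F s x + divFn G t x = Scheme.ord f⁻¹ x
    rw [ord_inv' hf0]
    unfold divFn
    split_ifs with hx
    · have := hf x hx
      omega
    · rw [Scheme.ord_eq_zero_of_coheight_neq_one hx]
      omega
  · rintro ⟨g, hg0, hg⟩
    refine ⟨g⁻¹, inv_ne_zero hg0, fun x hx => ?_⟩
    have h1 : - divFn F s x + divFn G t x = Scheme.ord g x := congrFun hg x
    unfold divFn at h1
    rw [if_pos hx, if_pos hx] at h1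
    rw [ord_inv' hg0]
    omega

/-- The type of classes of rank one reflexive modules. -/
abbrev T (X : Scheme.{u}) : Type (u + 1) :=
  {c : PicF.Cl X // ∃ F : X.Modules, PicF.cl F = c ∧ RefHull.IsRef1 F}

/-- The divisor class of a class of rank one reflexive modules. -/
noncomputable def kap (hX : Pi1.IsNormalScheme X) (c : T X) : (X → ℤ) ⧸ prin X :=
  QuotientAddGroup.mk (divFn c.2.choose (exists_sec_ne_zero hX c.2.choose_spec.2).choose)

theorem kap_eq (hX : Pi1.IsNormalScheme X) (c : T X) {F : X.Modules} (hF : RefHull.IsRef1 F)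
    (hc : PicF.cl F = c.1) (s : Cyc.secFibre F (genericPoint X)) (hs : s ≠ 0) :
    kap hX c = QuotientAddGroup.mk (divFn F s) := by
  unfold kap
  refine (iso_iff_mk_eq hX c.2.choose_spec.2 hF _
    (exists_sec_ne_zero hX c.2.choose_spec.2).choose_spec s hs).mp ?_
  exact cl_eq_iff.mp (c.2.choose_spec.1.trans hc.symm)

theorem kap_injective (hX : Pi1.IsNormalScheme X) : Function.Injective (kap hX) := by
  intro c c' h
  apply Subtype.ext
  have h1 := (iso_iff_mk_eq hX c.2.choose_spec.2 c'.2.choose_spec.2 _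
    (exists_sec_ne_zero hX c.2.choose_spec.2).choose_spec _
    (exists_sec_ne_zero hX c'.2.choose_spec.2).choose_spec).mpr h
  rw [← c.2.choose_spec.1, ← c'.2.choose_spec.1]
  exact cl_eq_iff.mpr h1

theorem kap_mul (hX : Pi1.IsNormalScheme X) {F G : X.Modules} (hF : RefHull.IsRef1 F)
    (hG : RefHull.IsRef1 G) (c : T X)
    (hc : c.1 = PicF.cl (RefHull.ddual (CohB1.tensorMod F G)))
    (s : Cyc.secFibre F (genericPoint X)) (hs : s ≠ 0)
    (t : Cyc.secFibre G (genericPoint X)) (ht : t ≠ 0) :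
    kap hX c = QuotientAddGroup.mk (divFn F s) + QuotientAddGroup.mk (divFn G t) := by
  obtain ⟨w, hw0, hw⟩ := Groth.Agent.S16090.result X hX F G hF hG s hs t ht
  rw [kap_eq hX c (ref1_ddualTensor hX hF hG) hc.symm w hw0, ← QuotientAddGroup.mk_add]
  congr 1
  funext x
  show divFn _ w x = divFn F s x + divFn G t x
  unfold divFn
  split_ifs with hx
  · exact hw x hx
  · rfl

theorem kap_one (hX : Pi1.IsNormalScheme X) (c : T X)
    (hc : c.1 = PicF.cl (Coh.structureModule X)) : kap hX c = 0 := by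
  have hgen := isGen_one (X := X) ⊤
  have hs0 : (Submodule.Quotient.mk ((Coh.structureModule X).presheaf.germ ⊤ (genericPoint X)
      trivial (show Γ(Coh.structureModule X, ⊤) from (1 : Γ(X, ⊤)))) :
      Cyc.secFibre (Coh.structureModule X) (genericPoint X)) ≠ 0 := by
    intro h0
    have h1 : (1 : X.presheaf.stalk (genericPoint X)) •
        (Submodule.Quotient.mk ((Coh.structureModule X).presheaf.germ ⊤ (genericPoint X)
          trivial (show Γ(Coh.structureModule X, ⊤) from (1 : Γ(X, ⊤)))) :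
          Cyc.secFibre (Coh.structureModule X) (genericPoint X)) = 0 := by
      rw [one_smul]
      exact h0
    have hm := mem_maximalIdeal_of_smul_mk_eq_zero hgen (genericPoint X) trivial _ h1
    exact (IsLocalRing.mem_maximalIdeal _).mp hm isUnit_one
  rw [kap_eq hX c (ref1_structure X) hc.symm _ hs0, QuotientAddGroup.eq_zero_iff]
  refine ⟨1, one_ne_zero, funext fun x => ?_⟩
  rw [ord_one']
  unfold divFn
  split_ifs with hx
  · rw [secOrdAt_eq_of_isGen hgen _ trivial trivial _ 1 (one_smul _ _).symm, map_one]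
    exact ordAt_one _
  · rfl

theorem kap_inv (hX : Pi1.IsNormalScheme X) {F : X.Modules} (hF : RefHull.IsRef1 F) (c : T X)
    (hc : c.1 = PicF.cl (RefHull.dual F)) (s : Cyc.secFibre F (genericPoint X)) (hs : s ≠ 0) :
    kap hX c = - QuotientAddGroup.mk (divFn F s) := by
  obtain ⟨s', hs'0, hs'⟩ := exists_dual_section hX hF s hs
  rw [kap_eq hX c (ref1_dual hX hF) hc.symm s' hs'0, ← QuotientAddGroup.mk_neg]
  congr 1
  funext x
  show divFn _ s' x = - divFn F s x
  unfold divFn
  split_ifs with hx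
  · exact hs' x hx
  · exact neg_zero.symm

end Groth.Agent.H95.RefGroup
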