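import Groth.Agent.H95.StrictTransform

/-!
# The strict transform of a closed subscheme in a blow-up (continued)

The open part of the blow-up of a closed subscheme maps by an affine, scheme-theoretically dominant
morphism onto the strict transform.
-/

set_option autoImplicit false

universe u

open CategoryTheory CategoryTheory.Limits AlgebraicGeometry TopologicalSpace

namespace Groth.Agent.H95.StrictTransform2

open Groth.Agent.H95.StrictTransform

variable {P : Scheme.{u}}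

theorem isLocPrincipal_of_isEffCartier {𝓙 : P.IdealSheafData} (h : BlowUp.IsEffCartierIdeal 𝓙) :
    IsLocPrincipal 𝓙 := by
  intro x
  obtain ⟨W, hxW, t, -, ht⟩ := h x
  exact ⟨W, hxW, t, ht⟩

theorem isAffineHom_ι_of_eq {𝓙 : P.IdealSheafData} (h : IsLocPrincipal 𝓙) (O : P.Opens)
    (hO : O = 𝓙.support.compl) : IsAffineHom O.ι := by
  subst hO
  exact isAffineHom_ι_compl h

theorem dominant_ι_of_eq {𝓙 : P.IdealSheafData} (h : BlowUp.IsEffCartierIdeal 𝓙) (O : P.Opens)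
    (hO : O = 𝓙.support.compl) : IsSchemeTheoreticallyDominant O.ι := by
  subst hO
  exact Groth.Agent.H94.EffCartierDense.dominant_compl_of_isEffCartier 𝓙 h

theorem main2 {X X' Z' : Scheme.{u}} (𝓘 𝓙 : X.IdealSheafData) (b : X' ⟶ X)
    (hb : BlowUp.IsBlowUp b 𝓘)
    (b' : Z' ⟶ 𝓙.subscheme) (hb' : BlowUp.IsBlowUp b' (𝓘.comap 𝓙.subschemeι))
    (k : Z' ⟶ X') (hk : k ≫ b = b' ≫ 𝓙.subschemeι) :
    IsClosedImmersion k ∧
      IsAffineHom ((k ⁻¹ᵁ (b ⁻¹ᵁ 𝓘.support.compl)).ι ≫ k) ∧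
      ((k ⁻¹ᵁ (b ⁻¹ᵁ 𝓘.support.compl)).ι ≫ k).ker = k.ker := by
  have hk1 : IsClosedImmersion k := main 𝓘 𝓙.subschemeι b hb b' hb' k hk
  have hE : BlowUp.IsEffCartierIdeal (𝓘.comap (k ≫ b)) := by
    rw [hk, Scheme.IdealSheafData.comap_comp]
    exact hb'.1
  have hO : k ⁻¹ᵁ (b ⁻¹ᵁ 𝓘.support.compl) = (𝓘.comap (k ≫ b)).support.compl := by
    rw [Scheme.IdealSheafData.support_comap]
    rfl
  have h1 : IsAffineHom (k ⁻¹ᵁ (b ⁻¹ᵁ 𝓘.support.compl)).ι :=
    isAffineHom_ι_of_eq (isLocPrincipal_of_isEffCartier hE) _ hO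
  have h2 : IsSchemeTheoreticallyDominant (k ⁻¹ᵁ (b ⁻¹ᵁ 𝓘.support.compl)).ι :=
    dominant_ι_of_eq hE _ hO
  refine ⟨hk1, inferInstance, ?_⟩
  rw [Scheme.Hom.ker_comp, Scheme.Hom.ker_eq_bot, Scheme.IdealSheafData.map_bot]

end Groth.Agent.H95.StrictTransform2
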