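import Groth.Agent.H95.MeroData
import Groth.Agent.S12513

/-!
# Test points for the sheaf of meromorphic functions

`TestPts X` is a class of points of `X` (e.g. the (weakly) associated points of `O_X` when they
are not embedded and locally finite) such that
* a section vanishing at all test points is zero,
* test points are locally finite and pairwise non-specializing,
* non-units of the local ring at a test point are nilpotent.

Then `K_{X,x}` is the total ring of fractions of `O_{X,x}` (`regStalk_eq`) and `K_X(U)` is the total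
ring of fractions of `O_X(U)` for affine `U` (`isLocalization_kmod`).
-/

set_option autoImplicit false
set_option linter.style.haveILetI false
set_option linter.dupNamespace false

universe u

open CategoryTheory AlgebraicGeometry TopologicalSpace Opposite

namespace Groth.Agent.H95.TestPts

open Groth.Agent.H8 (pointOfPrime pointOfPrime_mem
  primeIdealOf_pointOfPrime pointOfPrime_primeIdealOf pointOfPrime_specializes
  mem_basicOpen_iff_notMem_primeIdealOf)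
open Groth.Agent.H95.MeroDepth Groth.Agent.H95.MeroDense
open Groth.Agent.H95.DivMod

variable {X : Scheme.{u}}

lemma toK_injective (U : X.Opens) : Function.Injective (Mero.toK X U) := by
  intro x y hxy
  refine TopCat.Presheaf.section_ext X.sheaf U x y (fun z hz => ?_)
  show X.presheaf.germ U z hz x = X.presheaf.germ U z hz y
  apply Mero.algebraMap_KStalk_injective z
  have h1 := congrArg (fun t : Γ(Mero.kmod X, U) => t.1 ⟨z, hz⟩) hxy
  simp only [Mero.toK_apply] at h1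
  rw [kmk_one, kmk_one] at h1
  exact h1

lemma isUnit_toK_of_regSub (U : X.Opens) (b : Γ(X, U)) (hb : b ∈ Mero.regSub X U) :
    IsUnit (Mero.toK X U b) := by
  obtain ⟨f₂, hf₂⟩ : ∃ f₂ : Γ(Mero.kmod X, U), ∀ z : U, f₂.1 z =
      LocalizedModule.mk (1 : X.presheaf.stalk z.1) (Mero.regGerm z ⟨b, hb⟩) :=
    ⟨⟨fun z => LocalizedModule.mk (1 : X.presheaf.stalk z.1) (Mero.regGerm z ⟨b, hb⟩),
      fun z => ⟨U, z.2, 𝟙 _, 1, ⟨b, hb⟩, fun y => Mero.mk_congr (map_one _).symm rfl⟩⟩,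
      fun z => rfl⟩
  have h12 : Mero.toK X U b * f₂ = 1 := by
    refine Subtype.ext (funext fun z => ?_)
    show (Mero.toK X U b).1 z * f₂.1 z = 1
    rw [Mero.toK_apply, hf₂]
    have e1 : X.presheaf.germ U z.1 z.2 b * 1 =
        (((1 : Mero.regStalk X z.1) * Mero.regGerm z ⟨b, hb⟩ : Mero.regStalk X z.1) :
          X.presheaf.stalk z.1) := by
      rw [mul_one]
      show _ = (1 : X.presheaf.stalk z.1) * X.presheaf.germ U z.1 z.2 b
      rw [one_mul]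
    exact LocalizedModule.mk_mul_mk.trans
      ((Mero.mk_congr e1 rfl).trans (Mero.mk_self_eq_one _))
  exact ⟨Units.mkOfMulEqOne _ _ h12, rfl⟩

/-- A class of test points controlling the sheaf of meromorphic functions. -/
structure TestPts (X : Scheme.{u}) where
  /-- the predicate of being a test point -/
  P : X → Prop
  eq_zero : ∀ {W : X.Opens} (t : Γ(X, W)),
    (∀ (ξ : X) (hξ : ξ ∈ W), P ξ → X.presheaf.germ W ξ hξ t = 0) → t = 0
  locFin : ∀ x : X, ∃ W : X.Opens, x ∈ W ∧ {ξ : X | ξ ∈ W ∧ P ξ}.Finite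
  noSpec : ∀ x : X, P x → ∀ y : X, P y → y ⤳ x → y = x
  nilp : ∀ η : X, P η → ∀ a ∈ IsLocalRing.maximalIdeal (X.presheaf.stalk η), IsNilpotent a

namespace TestPts

variable (T : TestPts X)

lemma mem_regSub_of_isUnit {W : X.Opens} (t : Γ(X, W))
    (h : ∀ (ξ : X) (hξ : ξ ∈ W), T.P ξ → IsUnit (X.presheaf.germ W ξ hξ t)) :
    t ∈ Mero.regSub X W := by
  intro y
  show X.presheaf.germ W y.1 y.2 t ∈ nonZeroDivisors (X.presheaf.stalk y.1)
  rw [mem_nonZeroDivisors_iff_right]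
  intro c hc
  obtain ⟨V, hyV, c', rfl⟩ := X.presheaf.exists_germ_eq c
  have hyP : y.1 ∈ V ⊓ W := Opens.mem_inf.mpr ⟨hyV, y.2⟩
  have h0 : X.presheaf.germ (V ⊓ W) y.1 hyP
      (X.presheaf.map (homOfLE (inf_le_left : V ⊓ W ≤ V)).op c' *
        X.presheaf.map (homOfLE (inf_le_right : V ⊓ W ≤ W)).op t) =
      X.presheaf.germ (V ⊓ W) y.1 hyP 0 := by
    rw [map_mul, TopCat.Presheaf.germ_res_apply X.presheaf (homOfLE inf_le_left) y.1 hyP c',
      TopCat.Presheaf.germ_res_apply X.presheaf (homOfLE inf_le_right) y.1 hyP t, hc, map_zero]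
  obtain ⟨W', hyW', hW'0, hle, hle', hres⟩ :=
    TopCat.Presheaf.germ_eq_of_isBasis X.isBasis_affineOpens X.presheaf y.1 hyP hyP h0
  rw [map_zero, map_mul] at hres
  have hc0 : X.presheaf.map (homOfLE hle).op
      (X.presheaf.map (homOfLE (inf_le_left : V ⊓ W ≤ V)).op c') = 0 := by
    apply T.eq_zero
    intro ξ hξ hP
    have hξW : ξ ∈ W := (hle hξ).2
    have hu := h ξ hξW hP
    have e := congrArg (fun q => X.presheaf.germ W' ξ hξ q) hres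
    simp only [map_mul, map_zero] at e
    rw [TopCat.Presheaf.germ_res_apply X.presheaf (homOfLE hle) ξ hξ
        (X.presheaf.map (homOfLE (inf_le_right : V ⊓ W ≤ W)).op t),
      TopCat.Presheaf.germ_res_apply X.presheaf (homOfLE (inf_le_right : V ⊓ W ≤ W)) ξ
        (hle hξ) t] at e
    exact (hu.mul_left_eq_zero).mp e
  rw [← TopCat.Presheaf.germ_res_apply X.presheaf (homOfLE (inf_le_left : V ⊓ W ≤ V)) y.1 hyP c',
    ← TopCat.Presheaf.germ_res_apply X.presheaf (homOfLE hle) y.1 hyW' _, hc0, map_zero]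

/-- Two meromorphic functions with the same values at the test points are equal. -/
lemma kmod_ext {U : X.Opens} (s s' : Γ(Mero.kmod X, U))
    (h : ∀ (ξ : X) (hξ : ξ ∈ U), T.P ξ → s.1 ⟨ξ, hξ⟩ = s'.1 ⟨ξ, hξ⟩) : s = s' := by
  refine Subtype.ext (funext fun z => ?_)
  obtain ⟨W, hzW, i, a, b, w⟩ := s.2 z
  obtain ⟨W', hzW', i', a', b', w'⟩ := s'.2 z
  have hzP : z.1 ∈ W ⊓ W' := ⟨hzW, hzW'⟩
  obtain ⟨t, ht⟩ : ∃ t : Γ(X, W ⊓ W'), t =
      X.presheaf.map (homOfLE (inf_le_left : W ⊓ W' ≤ W)).op a *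
        X.presheaf.map (homOfLE (inf_le_right : W ⊓ W' ≤ W')).op b'.1 -
      X.presheaf.map (homOfLE (inf_le_right : W ⊓ W' ≤ W')).op a' *
        X.presheaf.map (homOfLE (inf_le_left : W ⊓ W' ≤ W)).op b.1 := ⟨_, rfl⟩
  have hgermt : ∀ (y : X) (hy : y ∈ W ⊓ W'), X.presheaf.germ (W ⊓ W') y hy t =
      X.presheaf.germ W y hy.1 a * X.presheaf.germ W' y hy.2 b'.1 -
        X.presheaf.germ W' y hy.2 a' * X.presheaf.germ W y hy.1 b.1 := by
    intro y hy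
    rw [ht, map_sub, map_mul, map_mul, TopCat.Presheaf.germ_res_apply,
      TopCat.Presheaf.germ_res_apply, TopCat.Presheaf.germ_res_apply,
      TopCat.Presheaf.germ_res_apply]
  have ht0 : t = 0 := by
    apply T.eq_zero
    intro ξ hξ hgen
    rw [hgermt ξ hξ, sub_eq_zero]
    have e1 : s.1 ⟨ξ, i.le hξ.1⟩ = LocalizedModule.mk (X.presheaf.germ W ξ hξ.1 a)
        (Mero.regGerm ⟨ξ, hξ.1⟩ b) := w ⟨ξ, hξ.1⟩
    have e2 : s'.1 ⟨ξ, i'.le hξ.2⟩ = LocalizedModule.mk (X.presheaf.germ W' ξ hξ.2 a')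
        (Mero.regGerm ⟨ξ, hξ.2⟩ b') := w' ⟨ξ, hξ.2⟩
    have e3 : s.1 ⟨ξ, i.le hξ.1⟩ = s'.1 ⟨ξ, i'.le hξ.2⟩ := h ξ (i.le hξ.1) hgen
    have k1 := kmk_mul ξ (X.presheaf.germ W ξ hξ.1 a) (Mero.regGerm ⟨ξ, hξ.1⟩ b)
    have k2 := kmk_mul ξ (X.presheaf.germ W' ξ hξ.2 a') (Mero.regGerm ⟨ξ, hξ.2⟩ b')
    rw [← e1] at k1
    rw [← e2, ← e3] at k2
    apply Mero.algebraMap_KStalk_injective ξ
    rw [map_mul, map_mul, ← k1, ← k2]
    ring
  have hz_eq : X.presheaf.germ W z.1 hzW a * X.presheaf.germ W' z.1 hzW' b'.1 =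
      X.presheaf.germ W' z.1 hzW' a' * X.presheaf.germ W z.1 hzW b.1 := by
    have h1 := hgermt z.1 hzP
    rw [ht0, map_zero] at h1
    exact (sub_eq_zero.mp h1.symm)
  have e1 : s.1 z = LocalizedModule.mk (X.presheaf.germ W z.1 hzW a)
      (Mero.regGerm ⟨z.1, hzW⟩ b) := w ⟨z.1, hzW⟩
  have e2 : s'.1 z = LocalizedModule.mk (X.presheaf.germ W' z.1 hzW' a')
      (Mero.regGerm ⟨z.1, hzW'⟩ b') := w' ⟨z.1, hzW'⟩
  rw [e1, e2]
  exact kmk_eq_kmk _ _ _ _ hz_eq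

lemma isUnit_of_mem_nonZeroDivisors {η : X} (hη : T.P η) (β : X.presheaf.stalk η)
    (hβ : β ∈ nonZeroDivisors (X.presheaf.stalk η)) : IsUnit β := by
  by_contra hnu
  have hm : β ∈ IsLocalRing.maximalIdeal (X.presheaf.stalk η) :=
    (IsLocalRing.mem_maximalIdeal _).mpr hnu
  obtain ⟨N, hN⟩ := T.nilp η hη β hm
  have h1 := pow_mem hβ N
  rw [hN] at h1
  exact zero_notMem_nonZeroDivisors h1

lemma exists_algebraMap_eq {ξ : X} (hξ : T.P ξ) (t : Mero.KStalk X ξ) :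
    ∃ κ : X.presheaf.stalk ξ, algebraMap (X.presheaf.stalk ξ) (Mero.KStalk X ξ) κ = t := by
  obtain ⟨α, β, rfl⟩ := IsLocalization.exists_mk'_eq (Mero.regStalk X ξ) t
  rw [← kmk_eq]
  exact mem_range_of_isUnit_germ α β (T.isUnit_of_mem_nonZeroDivisors hξ _
    (Mero.regStalk_le_nonZeroDivisors ξ β.2))

lemma finite_of_isCompact {U : X.Opens} (hU : IsCompact (U : Set X)) :
    {ξ : X | ξ ∈ U ∧ T.P ξ}.Finite := by
  choose W hxW hfin using T.locFin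
  obtain ⟨t, -, ht⟩ := hU.elim_nhds_subcover (fun x : X => ((W x : X.Opens) : Set X))
    (fun x _ => (W x).2.mem_nhds (hxW x))
  have hfinU : (⋃ x ∈ (↑t : Set X), {ξ : X | ξ ∈ W x ∧ T.P ξ}).Finite :=
    t.finite_toSet.biUnion (fun x _ => hfin x)
  refine hfinU.subset ?_
  intro ξ hξ
  obtain ⟨x, hxt, hξW⟩ := Set.mem_iUnion₂.mp (ht hξ.1)
  exact Set.mem_iUnion₂.mpr ⟨x, Finset.mem_coe.mpr hxt, hξW, hξ.2⟩

/-- Fractions with prescribed (integral) values at the test points of an affine open. -/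
lemma exists_frac {W : X.Opens} (hW : IsAffineOpen W)
    (hfinW : {ξ : X | ξ ∈ W ∧ T.P ξ}.Finite) (k : ∀ ξ : X, Mero.KStalk X ξ)
    (hk : ∀ ξ : X, ξ ∈ W → T.P ξ → ∃ κ : X.presheaf.stalk ξ,
      algebraMap (X.presheaf.stalk ξ) (Mero.KStalk X ξ) κ = k ξ) :
    ∃ (a' b : Γ(X, W)) (hb : b ∈ Mero.regSub X W), ∀ (ξ : X) (hξ : ξ ∈ W), T.P ξ →
      (LocalizedModule.mk (X.presheaf.germ W ξ hξ a')
        (Mero.regGerm (⟨ξ, hξ⟩ : W) ⟨b, hb⟩) : Mero.KStalk X ξ) = k ξ := by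
  classical
  obtain ⟨S, hS⟩ : ∃ S : Set X, S = {ξ : X | ξ ∈ W ∧ T.P ξ} := ⟨_, rfl⟩
  have hSfin : S.Finite := by
    rw [hS]
    exact hfinW
  haveI : Fintype ↥S := hSfin.fintype
  have hmemS : ∀ ξ : X, ξ ∈ S ↔ (ξ ∈ W ∧ T.P ξ) := fun ξ => by
    rw [hS]
    exact Iff.rfl
  have hSW : ∀ ξ : S, ξ.1 ∈ W := fun ξ => ((hmemS ξ.1).mp ξ.2).1
  have hSass : ∀ ξ : S, T.P ξ.1 := fun ξ => ((hmemS ξ.1).mp ξ.2).2
  have hκ : ∀ ξ : S, ∃ (a s : Γ(X, W)), IsUnit (X.presheaf.germ W ξ.1 (hSW ξ) s) ∧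
      k ξ.1 * algebraMap (X.presheaf.stalk ξ.1) (Mero.KStalk X ξ.1)
        (X.presheaf.germ W ξ.1 (hSW ξ) s) =
      algebraMap (X.presheaf.stalk ξ.1) (Mero.KStalk X ξ.1)
        (X.presheaf.germ W ξ.1 (hSW ξ) a) := by
    intro ξ
    obtain ⟨κ, hκ⟩ := hk ξ.1 (hSW ξ) (hSass ξ)
    letI := X.presheaf.algebra_section_stalk ⟨ξ.1, hSW ξ⟩
    haveI := hW.isLocalization_stalk ⟨ξ.1, hSW ξ⟩
    obtain ⟨⟨a, s⟩, has⟩ :=
      IsLocalization.surj (hW.primeIdealOf ⟨ξ.1, hSW ξ⟩).asIdeal.primeCompl κ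
    refine ⟨a, s.1, IsLocalization.map_units (X.presheaf.stalk ξ.1) s, ?_⟩
    rw [← hκ, ← map_mul]
    exact congrArg _ has
  have hc : ∀ ξ η : S, ξ ≠ η → ∃ c : Γ(X, W),
      X.presheaf.germ W η.1 (hSW η) c = 0 ∧ IsUnit (X.presheaf.germ W ξ.1 (hSW ξ) c) := by
    intro ξ η hneq
    have hnle : ¬ (hW.primeIdealOf ⟨η.1, hSW η⟩).asIdeal ≤
        (hW.primeIdealOf ⟨ξ.1, hSW ξ⟩).asIdeal := by
      intro hle
      have h1 := pointOfPrime_specializes hW (hW.primeIdealOf ⟨η.1, hSW η⟩).asIdeal ξ.1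
        (hSW ξ) hle
      rw [pointOfPrime_primeIdealOf hW η.1 (hSW η)] at h1
      exact hneq (Subtype.ext (T.noSpec ξ.1 (hSass ξ) η.1 (hSass η) h1).symm)
    obtain ⟨c₀, hcη, hcξ⟩ := SetLike.not_le_iff_exists.mp hnle
    have hnu : ¬ IsUnit (X.presheaf.germ W η.1 (hSW η) c₀) := by
      intro hu
      have h2 : η.1 ∈ X.basicOpen c₀ := (Scheme.mem_basicOpen X c₀ η.1 (hSW η)).mpr hu
      exact (mem_basicOpen_iff_notMem_primeIdealOf hW η.1 (hSW η) c₀).mp h2 hcη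
    have h3 : X.presheaf.germ W η.1 (hSW η) c₀ ∈
        IsLocalRing.maximalIdeal (X.presheaf.stalk η.1) :=
      (IsLocalRing.mem_maximalIdeal _).mpr hnu
    obtain ⟨N, hN⟩ := T.nilp η.1 (hSass η) _ h3
    refine ⟨c₀ ^ N, ?_, ?_⟩
    · rw [map_pow, hN]
    · rw [map_pow]
      have h2 : ξ.1 ∈ X.basicOpen c₀ :=
        (mem_basicOpen_iff_notMem_primeIdealOf hW ξ.1 (hSW ξ) c₀).mpr hcξ
      exact ((Scheme.mem_basicOpen X c₀ ξ.1 (hSW ξ)).mp h2).pow N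
  choose a s hsu has using hκ
  choose c hc0 hcu using hc
  obtain ⟨e, he⟩ : ∃ e : S → Γ(X, W), ∀ ξ, e ξ =
      ∏ η : S, (if h : ξ = η then (1 : Γ(X, W)) else c ξ η h) := ⟨_, fun _ => rfl⟩
  have he_unit : ∀ ξ : S, IsUnit (X.presheaf.germ W ξ.1 (hSW ξ) (e ξ)) := by
    intro ξ
    rw [he, map_prod]
    apply Finset.prod_induction _ IsUnit (fun _ _ => IsUnit.mul) isUnit_one
    intro η _
    by_cases h : ξ = η
    · simp only [dif_pos h, map_one, isUnit_one]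
    · simp only [dif_neg h]
      exact hcu ξ η h
  have he_zero : ∀ ξ η : S, ξ ≠ η → X.presheaf.germ W η.1 (hSW η) (e ξ) = 0 := by
    intro ξ η hne
    rw [he, map_prod]
    refine Finset.prod_eq_zero (Finset.mem_univ η) ?_
    simp only [dif_neg hne]
    exact hc0 ξ η hne
  obtain ⟨b, hb⟩ : ∃ b : Γ(X, W), b = ∑ ξ : S, e ξ * s ξ := ⟨_, rfl⟩
  obtain ⟨a', ha'⟩ : ∃ a' : Γ(X, W), a' = ∑ ξ : S, e ξ * a ξ := ⟨_, rfl⟩
  have hb_germ : ∀ η : S, X.presheaf.germ W η.1 (hSW η) b =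
      X.presheaf.germ W η.1 (hSW η) (e η) * X.presheaf.germ W η.1 (hSW η) (s η) := by
    intro η
    rw [hb, map_sum, Finset.sum_eq_single η]
    · rw [map_mul]
    · intro ξ _ hne
      rw [map_mul, he_zero ξ η hne, zero_mul]
    · intro h
      exact absurd (Finset.mem_univ η) h
  have ha_germ : ∀ η : S, X.presheaf.germ W η.1 (hSW η) a' =
      X.presheaf.germ W η.1 (hSW η) (e η) * X.presheaf.germ W η.1 (hSW η) (a η) := by
    intro η
    rw [ha', map_sum, Finset.sum_eq_single η]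
    · rw [map_mul]
    · intro ξ _ hne
      rw [map_mul, he_zero ξ η hne, zero_mul]
    · intro h
      exact absurd (Finset.mem_univ η) h
  have hbreg : b ∈ Mero.regSub X W := by
    apply T.mem_regSub_of_isUnit
    intro ξ hξ hgen
    have hξS : ξ ∈ S := by
      rw [hS]
      exact ⟨hξ, hgen⟩
    have h1 := hb_germ ⟨ξ, hξS⟩
    have h2 : IsUnit (X.presheaf.germ W ξ hξ b) := by
      rw [h1]
      exact (he_unit ⟨ξ, hξS⟩).mul (hsu ⟨ξ, hξS⟩)
    exact h2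
  refine ⟨a', b, hbreg, ?_⟩
  intro ξ hξ hgen
  have hξS : ξ ∈ S := by
    rw [hS]
    exact ⟨hξ, hgen⟩
  have hunit : IsUnit (algebraMap (X.presheaf.stalk ξ) (Mero.KStalk X ξ)
      ((Mero.regGerm (⟨ξ, hξ⟩ : W) ⟨b, hbreg⟩ : Mero.regStalk X ξ) : X.presheaf.stalk ξ)) :=
    IsLocalization.map_units (Mero.KStalk X ξ) (Mero.regGerm (⟨ξ, hξ⟩ : W) ⟨b, hbreg⟩)
  apply (IsUnit.mul_left_inj hunit).mp
  rw [kmk_mul]
  show algebraMap (X.presheaf.stalk ξ) (Mero.KStalk X ξ) (X.presheaf.germ W ξ hξ a') =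
    k ξ * algebraMap (X.presheaf.stalk ξ) (Mero.KStalk X ξ) (X.presheaf.germ W ξ hξ b)
  have h1 := ha_germ ⟨ξ, hξS⟩
  have h2 := hb_germ ⟨ξ, hξS⟩
  have h3 := has ⟨ξ, hξS⟩
  have h1' : X.presheaf.germ W ξ hξ a' = X.presheaf.germ W ξ hξ (e ⟨ξ, hξS⟩) *
      X.presheaf.germ W ξ hξ (a ⟨ξ, hξS⟩) := h1
  have h2' : X.presheaf.germ W ξ hξ b = X.presheaf.germ W ξ hξ (e ⟨ξ, hξS⟩) *
      X.presheaf.germ W ξ hξ (s ⟨ξ, hξS⟩) := h2
  have h3' : k ξ * algebraMap (X.presheaf.stalk ξ) (Mero.KStalk X ξ)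
      (X.presheaf.germ W ξ hξ (s ⟨ξ, hξS⟩)) =
      algebraMap (X.presheaf.stalk ξ) (Mero.KStalk X ξ)
        (X.presheaf.germ W ξ hξ (a ⟨ξ, hξS⟩)) := h3
  rw [h1', h2', map_mul, map_mul, mul_left_comm, h3']

lemma isUnit_germ_of_specializes {U : X.Opens} (hU : IsAffineOpen U) (f : Γ(X, U)) {x ξ : X}
    (hxU : x ∈ U) (hξU : ξ ∈ U) (hξ : T.P ξ) (hspec : ξ ⤳ x)
    (hf : X.presheaf.germ U x hxU f ∈ nonZeroDivisors (X.presheaf.stalk x)) :
    IsUnit (X.presheaf.germ U ξ hξU f) := by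
  by_contra hnu
  have hmem : X.presheaf.germ U ξ hξU f ∈ IsLocalRing.maximalIdeal (X.presheaf.stalk ξ) :=
    (IsLocalRing.mem_maximalIdeal _).mpr hnu
  obtain ⟨N, hN⟩ := T.nilp ξ hξ _ hmem
  have h0 : X.presheaf.germ U ξ hξU (f ^ N) = 0 := by rw [map_pow, hN]
  letI := X.presheaf.algebra_section_stalk ⟨ξ, hξU⟩
  haveI := hU.isLocalization_stalk ⟨ξ, hξU⟩
  have h0' : algebraMap Γ(X, U) (X.presheaf.stalk ξ) (f ^ N) = 0 := h0
  obtain ⟨⟨c, hcn⟩, hcm⟩ := (IsLocalization.map_eq_zero_iff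
    (hU.primeIdealOf ⟨ξ, hξU⟩).asIdeal.primeCompl (X.presheaf.stalk ξ) (f ^ N)).mp h0'
  have hcm' : c * f ^ N = 0 := hcm
  have h1 : X.presheaf.germ U x hxU c * X.presheaf.germ U x hxU f ^ N = 0 := by
    rw [← map_pow, ← map_mul, hcm', map_zero]
  have h2 : X.presheaf.germ U x hxU c = 0 :=
    (mem_nonZeroDivisors_iff_right.mp (pow_mem hf N)) _ h1
  have hcu : IsUnit (X.presheaf.germ U ξ hξU c) := by
    have hb : ξ ∈ X.basicOpen c := (mem_basicOpen_iff_notMem_primeIdealOf hU ξ hξU c).mpr hcn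
    exact (Scheme.mem_basicOpen X c ξ hξU).mp hb
  have h3 : X.presheaf.germ U ξ hξU c = 0 := by
    rw [← TopCat.Presheaf.germ_stalkSpecializes_apply X.presheaf hxU hspec c, h2, map_zero]
  rw [h3] at hcu
  exact not_isUnit_zero hcu

/-- `K_{X,x}` is the total ring of fractions of `O_{X,x}`. -/
theorem regStalk_eq (T : TestPts X) (x : X) : Mero.regStalk X x = nonZeroDivisors (X.presheaf.stalk x) := by
  classical
  apply le_antisymm (Mero.regStalk_le_nonZeroDivisors x)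
  intro a ha
  obtain ⟨V, hxV, f₀, rfl⟩ := X.presheaf.exists_germ_eq a
  obtain ⟨W₀, hxW₀, hfin₀⟩ := T.locFin x
  obtain ⟨U, hU0, hxU, hUle⟩ := Opens.isBasis_iff_nbhd.mp X.isBasis_affineOpens
    (show x ∈ V ⊓ W₀ from ⟨hxV, hxW₀⟩)
  have hU : IsAffineOpen U := hU0
  obtain ⟨f, hf⟩ : ∃ f : Γ(X, U), f = X.presheaf.map (homOfLE (hUle.trans inf_le_left)).op f₀ :=
    ⟨_, rfl⟩
  have hfx : X.presheaf.germ U x hxU f = X.presheaf.germ V x hxV f₀ := by
    rw [hf, TopCat.Presheaf.germ_res_apply]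
  have hfnz : X.presheaf.germ U x hxU f ∈ nonZeroDivisors (X.presheaf.stalk x) := by
    rw [hfx]
    exact ha
  obtain ⟨B, hB⟩ : ∃ B : Set X, B = {ξ : X | (ξ ∈ U ∧ T.P ξ) ∧ ¬ ξ ⤳ x} := ⟨_, rfl⟩
  have hBfin : B.Finite := by
    rw [hB]
    have h1 : {ξ : X | ξ ∈ U ∧ T.P ξ}.Finite :=
      hfin₀.subset (fun ξ h => ⟨(hUle h.1).2, h.2⟩)
    exact h1.subset (fun ξ h => h.1)
  obtain ⟨C, hC⟩ : ∃ C : Set X, C = ⋃ ξ ∈ B, closure ({ξ} : Set X) := ⟨_, rfl⟩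
  have hCclosed : IsClosed C := by
    rw [hC]
    exact hBfin.isClosed_biUnion (fun ξ _ => isClosed_closure)
  have hxC : x ∉ C := by
    rw [hC]
    intro hx
    obtain ⟨ξ, hξB, hxξ⟩ := Set.mem_iUnion₂.mp hx
    rw [hB] at hξB
    exact hξB.2 (specializes_iff_mem_closure.mpr hxξ)
  obtain ⟨U', hU'⟩ : ∃ U' : X.Opens, U' = ⟨(U : Set X) ∩ Cᶜ, U.2.inter hCclosed.isOpen_compl⟩ :=
    ⟨_, rfl⟩
  have hU'U : U' ≤ U := by
    rw [hU']
    exact fun y hy => hy.1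
  have hxU' : x ∈ U' := by
    rw [hU']
    exact ⟨hxU, hxC⟩
  have hU'C : ∀ y, y ∈ U' → y ∉ C := by
    intro y hy
    rw [hU'] at hy
    exact hy.2
  have hreg : X.presheaf.map (homOfLE hU'U).op f ∈ Mero.regSub X U' := by
    apply T.mem_regSub_of_isUnit
    intro ξ hξ hP
    rw [TopCat.Presheaf.germ_res_apply X.presheaf (homOfLE hU'U) ξ hξ f]
    have hξU : ξ ∈ U := hU'U hξ
    have hspec : ξ ⤳ x := by
      by_contra hns
      apply hU'C ξ hξ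
      rw [hC]
      refine Set.mem_iUnion₂.mpr ⟨ξ, ?_, subset_closure rfl⟩
      rw [hB]
      exact ⟨⟨hξU, hP⟩, hns⟩
    exact T.isUnit_germ_of_specializes hU f hxU hξU hP hspec hfnz
  have h1 := Mero.germ_mem_regStalk (⟨x, hxU'⟩ : U') hreg
  have h2 : X.presheaf.germ U' x hxU' (X.presheaf.map (homOfLE hU'U).op f) =
      X.presheaf.germ V x hxV f₀ := by
    rw [TopCat.Presheaf.germ_res_apply X.presheaf (homOfLE hU'U) x hxU' f, hfx]
  rw [← h2]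
  exact h1

/-- `K_X(U)` is the total ring of fractions of `O_X(U)` for affine `U`. -/
theorem isLocalization_kmod (T : TestPts X) (U : X.affineOpens) :
    @IsLocalization Γ(X, U.1) _ (nonZeroDivisors Γ(X, U.1)) Γ(Mero.kmod X, U.1) _
      (Mero.toK X U.1).toAlgebra := by
  classical
  have hU : IsAffineOpen U.1 := U.2
  letI alg : Algebra Γ(X, U.1) Γ(Mero.kmod X, U.1) := (Mero.toK X U.1).toAlgebra
  refine (isLocalization_iff (M := nonZeroDivisors Γ(X, U.1))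
    (S := Γ(Mero.kmod X, U.1))).mpr ⟨?_, ?_, ?_⟩
  · rintro ⟨b, hb⟩
    show IsUnit (Mero.toK X U.1 b)
    apply isUnit_toK_of_regSub
    rw [Groth.Agent.S12513.result X U.1 hU]
    exact hb
  · intro s
    have hfin := T.finite_of_isCompact hU.isCompact
    obtain ⟨k, hkdef⟩ : ∃ k : ∀ ξ : X, Mero.KStalk X ξ,
        ∀ (ξ : X) (hξ : ξ ∈ U.1), k ξ = s.1 ⟨ξ, hξ⟩ :=
      ⟨fun ξ => if h : ξ ∈ U.1 then s.1 ⟨ξ, h⟩ else 0, fun ξ hξ => dif_pos hξ⟩
    obtain ⟨a', b, hb, hval⟩ := T.exists_frac hU hfin k (fun ξ hξ hP => by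
      obtain ⟨κ, hκ⟩ := T.exists_algebraMap_eq hP (s.1 ⟨ξ, hξ⟩)
      exact ⟨κ, hκ.trans (hkdef ξ hξ).symm⟩)
    have hbnz : b ∈ nonZeroDivisors Γ(X, U.1) := by
      rw [← Groth.Agent.S12513.result X U.1 hU]
      exact hb
    refine ⟨(a', ⟨b, hbnz⟩), ?_⟩
    show s * Mero.toK X U.1 b = Mero.toK X U.1 a'
    apply T.kmod_ext
    intro ξ hξ hP
    show s.1 ⟨ξ, hξ⟩ * (Mero.toK X U.1 b).1 ⟨ξ, hξ⟩ = (Mero.toK X U.1 a').1 ⟨ξ, hξ⟩
    have h2 : (LocalizedModule.mk (X.presheaf.germ U.1 ξ hξ a')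
        (Mero.regGerm (⟨ξ, hξ⟩ : U.1) ⟨b, hb⟩) : Mero.KStalk X ξ) = s.1 ⟨ξ, hξ⟩ :=
      (hval ξ hξ hP).trans (hkdef ξ hξ)
    rw [Mero.toK_apply, Mero.toK_apply, kmk_one, kmk_one, ← h2]
    exact kmk_mul ξ _ _
  · intro x y hxy
    have h1 : Mero.toK X U.1 x = Mero.toK X U.1 y := hxy
    exact ⟨1, by rw [toK_injective U.1 h1]⟩

end TestPts

end Groth.Agent.H95.TestPts
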