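import Groth.Agent.H95.WeilFactorial
import Groth.Agent.H95.AffSpaceOrd2
import Groth.Agent.H97.OrdOpen
import Groth.Agent.S5103
import Groth.Agent.S10901
import Groth.Agent.H18.RestrictTensor
import Groth.Agent.H22.GenLocus

/-!
# Principal prime divisors, factoriality and triviality of the Picard group

The implications between the four conditions of EGA IV 21.6.9-type statements on a Noetherian
integral scheme.
-/

set_option autoImplicit false
set_option linter.style.haveILetI false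

universe u

open CategoryTheory CategoryTheory.Limits AlgebraicGeometry TopologicalSpace Opposite IsLocalRing
  CDiv

namespace Groth.Agent.H95.TfaeDiv

open Groth.Agent.H18.TensorGen (IsGen isGen_one exists_isGen isInvertible_of_isGen)
open Groth.Agent.H95.SecOrd
open Groth.Agent.H95.RefGen
open Groth.Agent.H95.RefIso
open Groth.Agent.H95.RefGroup
open Groth.Agent.H95.WeilSheaf
open Groth.Agent.H95.WeilFactorial
open Groth.Agent.H95.CDivPrime
open Groth.Agent.H95.StalkPrimes
open Groth.Agent.H15.CDivLib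
open Groth.Agent.H17.ReflSheaf (isReflexive_of_closed_points)

variable {X : Scheme.{u}} [IsIntegral X] [IsLocallyNoetherian X]

/-! ### (1) ⇒ (2) -/

theorem ufm_of_one
    (h1 : ∀ ζ : X, Order.coheight ζ = 1 → ∃ g : Γ(X, ⊤),
        (∀ (x : X) (h : ζ ⤳ x),
          (IsLocalRing.maximalIdeal (X.presheaf.stalk ζ)).comap
              (X.presheaf.stalkSpecializes h).hom =
            Ideal.span {X.presheaf.germ ⊤ x trivial g}) ∧
        ∀ x : X, ¬ ζ ⤳ x → IsUnit (X.presheaf.germ ⊤ x trivial g)) (x : X) :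
    UniqueFactorizationMonoid (X.presheaf.stalk x) := by
  apply UniqueFactorizationMonoid.of_forall_isPrincipal_of_height_eq_one
  intro P hP hPh
  obtain ⟨ζ, h, hdim, hζP⟩ := exists_generization_of_height_one x P hPh
  have hζ : Order.coheight ζ = 1 := by
    rw [ringKrullDim_stalk_eq_coheight] at hdim
    exact_mod_cast hdim
  obtain ⟨g, hg, -⟩ := h1 ζ hζ
  rw [← hζP, hg x h]
  exact ⟨⟨_, rfl⟩⟩

theorem one_to_two
    (h1 : ∀ ζ : X, Order.coheight ζ = 1 → ∃ g : Γ(X, ⊤),
        (∀ (x : X) (h : ζ ⤳ x),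
          (IsLocalRing.maximalIdeal (X.presheaf.stalk ζ)).comap
              (X.presheaf.stalkSpecializes h).hom =
            Ideal.span {X.presheaf.germ ⊤ x trivial g}) ∧
        ∀ x : X, ¬ ζ ⤳ x → IsUnit (X.presheaf.germ ⊤ x trivial g)) :
    Pi1.IsNormalScheme X ∧ ∀ x₀ : X, Order.coheight x₀ = 1 → ∃ f : X.functionField, f ≠ 0 ∧
      Scheme.ord f x₀ = 1 ∧
        ∀ x : X, x ≠ x₀ → Order.coheight x = 1 → Scheme.ord f x = 0 := by
  refine ⟨fun x => ⟨inferInstance, ?_⟩, fun x₀ hx₀ => ?_⟩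
  · haveI := ufm_of_one h1 x
    exact UniqueFactorizationMonoid.instIsIntegrallyClosed
  · obtain ⟨g, hg, hgu⟩ := h1 x₀ hx₀
    have hη : ∀ x : X, genericPoint X ⤳ x := fun x => genericPoint_specializes x
    have hfx : ∀ x : X, algebraMap (X.presheaf.stalk x) X.functionField
        (X.presheaf.germ ⊤ x trivial g) = X.presheaf.germ ⊤ (genericPoint X) trivial g :=
      fun x => TopCat.Presheaf.germ_stalkSpecializes_apply X.presheaf (U := ⊤) trivial (hη x) g
    have hmax : IsLocalRing.maximalIdeal (X.presheaf.stalk x₀) =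
        Ideal.span {X.presheaf.germ ⊤ x₀ trivial g} := by
      have h := hg x₀ specializes_rfl
      rw [TopCat.Presheaf.stalkSpecializes_refl] at h
      exact h
    have hne0 : X.presheaf.germ ⊤ x₀ trivial g ≠ 0 := by
      intro h0
      have hfield : IsField (X.presheaf.stalk x₀) :=
        IsLocalRing.isField_iff_maximalIdeal_eq.mpr (by
          rw [hmax, h0, Ideal.span_singleton_eq_bot])
      have hd0 := ringKrullDim_eq_zero_of_isField hfield
      rw [ringKrullDim_stalk_eq_coheight, hx₀] at hd0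
      exact one_ne_zero (WithBot.coe_eq_zero.mp hd0)
    refine ⟨X.presheaf.germ ⊤ (genericPoint X) trivial g, ?_, ?_, ?_⟩
    · rw [← hfx x₀]
      intro h0
      exact hne0 (IsFractionRing.injective (X.presheaf.stalk x₀) X.functionField
        (by rw [h0, map_zero]))
    · rw [← hfx x₀]
      exact Groth.Agent.H95.AffSpaceOrd.ord_of_uniformizer_stalk x₀ hx₀ _ hne0 hmax
    · intro x hne hx1
      have hns : ¬ x₀ ⤳ x := by
        intro hs
        have hle : x ≤ x₀ := hs
        have hlt : x < x₀ :=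
          lt_of_le_not_ge hle (fun hge => hne ((hs.antisymm hge).eq).symm)
        have h3 := Order.coheight_add_one_le hlt
        rw [hx₀, hx1] at h3
        exact lt_irrefl _ ((ENat.add_one_le_iff ENat.one_ne_top).mp h3)
      rw [← hfx x]
      exact Groth.Agent.H95.AffSpaceOrd.ord_of_unit_stalk x hx1 _ (hgu x hns)

/-! ### Cycles with finite support are principal under (2) -/

theorem exists_function_of_cycle
    (h2 : ∀ x₀ : X, Order.coheight x₀ = 1 → ∃ f : X.functionField, f ≠ 0 ∧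
      Scheme.ord f x₀ = 1 ∧
        ∀ x : X, x ≠ x₀ → Order.coheight x = 1 → Scheme.ord f x = 0)
    (Z : X → ℤ) (hZfin : {x | Z x ≠ 0}.Finite) (hZ1 : ∀ x, Order.coheight x ≠ 1 → Z x = 0) :
    ∃ f : X.functionField, f ≠ 0 ∧ ∀ x, Order.coheight x = 1 → Scheme.ord f x = Z x := by
  classical
  obtain ⟨F, hF⟩ : ∃ F : X → X.functionField, ∀ z, F z =
      if hz : Order.coheight z = 1 then (h2 z hz).choose else 1 := ⟨_, fun _ => rfl⟩
  have hF0 : ∀ z, F z ≠ 0 := by
    intro z
    rw [hF]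
    split_ifs with hz
    · exact (h2 z hz).choose_spec.1
    · exact one_ne_zero
  have hF1 : ∀ z, Order.coheight z = 1 → Scheme.ord (F z) z = 1 := by
    intro z hz
    rw [hF, dif_pos hz]
    exact (h2 z hz).choose_spec.2.1
  have hF2 : ∀ z, Order.coheight z = 1 → ∀ x, x ≠ z → Order.coheight x = 1 →
      Scheme.ord (F z) x = 0 := by
    intro z hz
    rw [hF, dif_pos hz]
    exact (h2 z hz).choose_spec.2.2
  refine ⟨∏ z ∈ hZfin.toFinset, F z ^ Z z, ?_, ?_⟩
  · exact Finset.prod_ne_zero_iff.mpr (fun z _ => zpow_ne_zero _ (hF0 z))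
  · intro x hx
    rw [Groth.Agent.H95.AffSpaceOrd.ord_prod_zpow' x _ F (fun z _ => hF0 z)]
    by_cases hxS : x ∈ hZfin.toFinset
    · rw [Finset.sum_eq_single_of_mem x hxS, hF1 x hx, mul_one]
      intro z hzS hzx
      have hz1 : Order.coheight z = 1 := by
        by_contra hne
        exact (hZfin.mem_toFinset.mp hzS) (hZ1 z hne)
      rw [hF2 z hz1 x (Ne.symm hzx) hx, mul_zero]
    · have hZx : Z x = 0 := by
        by_contra hne
        exact hxS (hZfin.mem_toFinset.mpr hne)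
      rw [hZx]
      refine Finset.sum_eq_zero (fun z hzS => ?_)
      have hz1 : Order.coheight z = 1 := by
        by_contra hne
        exact (hZfin.mem_toFinset.mp hzS) (hZ1 z hne)
      have hzx : x ≠ z := fun e => hxS (e ▸ hzS)
      rw [hF2 z hz1 x hzx hx, mul_zero]

/-! ### invertible modules are reflexive of rank one -/

theorem isRef1_of_isInvertible {L : X.Modules} (hL : PicF.IsInvertible L) :
    RefHull.IsRef1 L := by
  have hcoh : Coh.IsCoh L := Groth.Agent.H18.AmpleTwistGG.isCoh_of_isInvertible hL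
  obtain ⟨V₀, τ₀, hηV₀, hτ₀⟩ := exists_isGen hL (genericPoint X)
  refine ⟨hcoh, ?_, genInvertible_of_isGen hτ₀ hηV₀⟩
  refine isReflexive_of_closed_points _ hcoh (fun x _ => ?_)
  obtain ⟨V, τ, hxV, hτ⟩ := exists_isGen hL x
  have hfree := freeAt_of_isGen hτ x hxV
  haveI : Module.Free (X.presheaf.stalk x) (L.presheaf.stalk x) :=
    Module.Free.of_equiv (genEquiv hfree)
  haveI : Module.Finite (X.presheaf.stalk x) (L.presheaf.stalk x) :=
    Module.Finite.equiv (genEquiv hfree)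
  show Module.IsReflexive _ _
  infer_instance

/-- Under (2), on a quasi-compact scheme every invertible module is trivial. -/
theorem pic_trivial_of_two [CompactSpace X] (hX : Pi1.IsNormalScheme X)
    (h2 : ∀ x₀ : X, Order.coheight x₀ = 1 → ∃ f : X.functionField, f ≠ 0 ∧
      Scheme.ord f x₀ = 1 ∧
        ∀ x : X, x ≠ x₀ → Order.coheight x = 1 → Scheme.ord f x = 0)
    (L : X.Modules) (hL : PicF.IsInvertible L) : Nonempty (L ≅ Coh.structureModule X) := by
  classical
  have hη : ∀ x : X, genericPoint X ⤳ x := fun x => genericPoint_specializes x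
  have hRefL := isRef1_of_isInvertible hL
  obtain ⟨s, hs⟩ := exists_sec_ne_zero hX hRefL
  obtain ⟨Z, hZ⟩ : ∃ Z : X → ℤ, ∀ x, Z x = if Order.coheight x = 1 then
      Cyc.secOrdAt L (genericPoint X) x (hη x) s else 0 := ⟨_, fun _ => rfl⟩
  have hZfin : {x | Z x ≠ 0}.Finite := by
    have hloc := secOrd_locallyFinite hX L hRefL s hs
    choose t ht htf using hloc
    obtain ⟨T, -, hT⟩ := isCompact_univ.elim_nhds_subcover t (fun x _ => ht x)
    refine (Set.Finite.biUnion T.finite_toSet (fun p _ => htf p)).subset ?_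
    intro x hx
    have hx' : Z x ≠ 0 := hx
    obtain ⟨p, hpT, hxp⟩ := Set.mem_iUnion₂.mp (hT (Set.mem_univ x))
    refine Set.mem_iUnion₂.mpr ⟨p, hpT, hxp, ?_⟩
    rw [hZ] at hx'
    by_cases hx1 : Order.coheight x = 1
    · rw [if_pos hx1] at hx'
      exact ⟨hx1, hx'⟩
    · rw [if_neg hx1] at hx'
      exact absurd rfl hx'
  obtain ⟨f, hf0, hf⟩ := exists_function_of_cycle h2 Z hZfin (fun x hx => by rw [hZ, if_neg hx])
  exact Groth.Agent.S5103.result X hX L hL s hs f hf0 (fun x hx => by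
    rw [hf x hx, hZ, if_pos hx])

theorem two_to_three [CompactSpace X] (hX : Pi1.IsNormalScheme X)
    (h2 : ∀ x₀ : X, Order.coheight x₀ = 1 → ∃ f : X.functionField, f ≠ 0 ∧
      Scheme.ord f x₀ = 1 ∧
        ∀ x : X, x ≠ x₀ → Order.coheight x = 1 → Scheme.ord f x = 0) :
    (∀ x : X, UniqueFactorizationMonoid (X.presheaf.stalk x)) ∧
      ∀ L : X.Modules, PicF.IsInvertible L → Nonempty (L ≅ Coh.structureModule X) := by
  refine ⟨fun x => ufm_of_local_functions hX (fun x ζ _ hζ1 => ?_) x,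
    fun L hL => pic_trivial_of_two hX h2 L hL⟩
  obtain ⟨f, hf0, hf1, hf2⟩ := h2 ζ hζ1
  exact ⟨Units.mk0 f hf0, fun z _ hz1 =>
    ⟨fun e => by rw [Units.val_mk0, e]; exact hf1,
      fun e => by rw [Units.val_mk0]; exact hf2 z e hz1⟩⟩

/-! ### general lemmas -/

theorem eq_of_specializes_coheight_one {a b : X} (h : a ⤳ b) (ha : Order.coheight a = 1)
    (hb : Order.coheight b = 1) : b = a := by
  by_contra hne
  have hle : b ≤ a := h
  have hlt : b < a := lt_of_le_not_ge hle (fun hge => hne ((h.antisymm hge).eq).symm)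
  have h3 := Order.coheight_add_one_le hlt
  rw [ha, hb] at h3
  exact lt_irrefl _ ((ENat.add_one_le_iff ENat.one_ne_top).mp h3)

/-- a module isomorphic to the structure sheaf has a global free generator -/
theorem exists_isGen_top_of_iso {M : X.Modules} (e : M ≅ Coh.structureModule X) :
    ∃ σ : Γ(M, ⊤), IsGen M ⊤ σ := by
  refine ⟨e.inv.app ⊤ (show Γ(Coh.structureModule X, ⊤) from (1 : Γ(X, ⊤))), ?_⟩
  intro V hV
  have hbij : Function.Bijective (e.inv.app V) := by
    have h1 : IsIso (e.inv.app V) :=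
      (Scheme.Modules.Hom.isIso_iff_isIso_app (φ := e.inv)).mp inferInstance V
    exact (ConcreteCategory.isIso_iff_bijective _).mp h1
  have hres : e.inv.app V (show Γ(Coh.structureModule X, V) from (1 : Γ(X, V))) =
      M.presheaf.map (homOfLE hV).op
        (e.inv.app ⊤ (show Γ(Coh.structureModule X, ⊤) from (1 : Γ(X, ⊤)))) := by
    rw [← Groth.Agent.H8.app_res]
    exact congrArg (e.inv.app V) (map_one (X.presheaf.map (homOfLE hV).op).hom).symm
  have hlin : ∀ r : Γ(X, V), e.inv.app V (show Γ(Coh.structureModule X, V) from r) =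
      r • M.presheaf.map (homOfLE hV).op
        (e.inv.app ⊤ (show Γ(Coh.structureModule X, ⊤) from (1 : Γ(X, ⊤)))) := by
    intro r
    rw [← hres]
    have h2 := Scheme.Modules.Hom.app_smul e.inv r
      (show Γ(Coh.structureModule X, V) from (1 : Γ(X, V)))
    refine Eq.trans ?_ h2
    exact congrArg (e.inv.app V) (mul_one r).symm
  have hfun : (fun r : Γ(X, V) => r • M.presheaf.map (homOfLE hV).op
      (e.inv.app ⊤ (show Γ(Coh.structureModule X, ⊤) from (1 : Γ(X, ⊤))))) =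
      fun r => e.inv.app V (show Γ(Coh.structureModule X, V) from r) := by
    funext r
    rw [hlin]
  rw [hfun]
  exact hbij

/-- If near `x` the divisor `E` is the divisor of a rational function, the divisorial ideal sheaf
is free of rank one near `x`. -/
theorem exists_isGen_wJ_of_function (hX : Pi1.IsNormalScheme X) {E : X → ℕ}
    (hfin : LocFin E) (hE1 : ∀ x : X, Order.coheight x ≠ 1 → E x = 0) (x : X) (f : KUnits X)
    (hfE : ∀ z : X, z ⤳ x → Order.coheight z = 1 →
      Scheme.ord (f : X.functionField) z = (E z : ℤ)) :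
    ∃ (V : X.Opens) (τ : Γ(ClSub.idealMod (wJ E hfin), V)),
      x ∈ V ∧ IsGen (ClSub.idealMod (wJ E hfin)) V τ := by
  classical
  obtain ⟨W, hxW, hWf⟩ := hfin x
  obtain ⟨T, hT⟩ : ∃ T : Set X, T = {z' : X | (z' ∈ W ∧ E z' ≠ 0) ∧ ¬ z' ⤳ x} := ⟨_, rfl⟩
  have hTf : T.Finite := by
    rw [hT]
    exact hWf.subset (fun z' h => h.1)
  have hcl : IsClosed (⋃ z' ∈ T, closure ({z'} : Set X)) :=
    hTf.isClosed_biUnion (fun _ _ => isClosed_closure)
  have hxnot : x ∉ ⋃ z' ∈ T, closure ({z'} : Set X) := by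
    intro hmem
    obtain ⟨z', hz'T, hxcl⟩ := Set.mem_iUnion₂.mp hmem
    rw [hT] at hz'T
    exact hz'T.2 (specializes_iff_mem_closure.mpr hxcl)
  obtain ⟨Vc, hVc⟩ : ∃ Vc : X.Opens,
      Vc = W ⊓ ⟨(⋃ z' ∈ T, closure ({z'} : Set X))ᶜ, hcl.isOpen_compl⟩ := ⟨_, rfl⟩
  have hxVc : x ∈ Vc := by
    rw [hVc]
    exact ⟨hxW, hxnot⟩
  have hclean : ∀ z' ∈ Vc, E z' ≠ 0 → z' ⤳ x := by
    intro z' hz' hE
    rw [hVc] at hz'
    by_contra hns
    refine hz'.2 (Set.mem_biUnion (show z' ∈ T from ?_) (subset_closure rfl))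
    rw [hT]
    exact ⟨⟨hz'.1, hE⟩, hns⟩
  obtain ⟨a, ha⟩ := mem_range_of_ord_nonneg hX x f (fun z hzx hz1 => by
    rw [hfE z hzx hz1]
    exact Int.natCast_nonneg _)
  obtain ⟨V₁, hV₁, hV₁c, hxV₁, t, ht⟩ := exists_affine_lift x hxVc a
  haveI : Nonempty V₁ := ⟨⟨x, hxV₁⟩⟩
  have htf : ∀ (z : X) (hz : z ∈ V₁),
      algebraMap (X.presheaf.stalk z) X.functionField (X.presheaf.germ V₁ z hz t) =
        (f : X.functionField) := by
    intro z hz
    rw [Scheme.algebraMap_germ_eq_germToFunctionField X hz t,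
      ← Scheme.algebraMap_germ_eq_germToFunctionField X hxV₁ t, ht, ha]
  have htmem : t ∈ wIdeal E V₁ := by
    rw [mem_wIdeal]
    intro z hz
    by_cases hE : E z = 0
    · rw [hE, pow_zero, Ideal.one_eq_top]
      exact Submodule.mem_top
    · have hz1 : Order.coheight z = 1 := by
        by_contra hne
        exact hE (hE1 z hne)
      have hzx : z ⤳ x := hclean z (hV₁c hz) hE
      have hne0 : X.presheaf.germ V₁ z hz t ≠ 0 := by
        intro h0
        have h := htf z hz
        rw [h0, map_zero] at h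
        exact f.ne_zero h.symm
      rw [mem_pow_iff_le_ord hX z hz1 _ hne0, htf z hz, hfE z hzx hz1]
  obtain ⟨σ, hσ⟩ := exists_inc_eq (wJ E hfin) ⟨V₁, hV₁⟩ t htmem
  have hfree : FreeAt (ClSub.idealMod (wJ E hfin))
      ((ClSub.idealMod (wJ E hfin)).presheaf.germ V₁ x hxV₁ σ) := by
    refine freeAt_of_dvd (wJ E hfin) x hxV₁ σ ?_ ?_
    · rw [hσ, ht]
      intro h0
      rw [h0, map_zero] at ha
      exact f.ne_zero ha.symm
    · intro W' hxW' a' ha'
      have ha'' : a' ∈ wIdeal E W'.1 := ha'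
      rw [hσ, ht, Ideal.mem_span_singleton']
      by_cases hc0 : X.presheaf.germ W'.1 x hxW' a' = 0
      · exact ⟨0, by rw [zero_mul, hc0]⟩
      have hinj := IsFractionRing.injective (X.presheaf.stalk x) X.functionField
      have hcne : algebraMap (X.presheaf.stalk x) X.functionField
          (X.presheaf.germ W'.1 x hxW' a') ≠ 0 := fun h0 => hc0 (hinj (by rw [h0, map_zero]))
      haveI : Nonempty W'.1 := ⟨⟨x, hxW'⟩⟩
      obtain ⟨r, hr⟩ := mem_range_of_ord_nonneg hX x (Units.mk0 _ hcne * f⁻¹) (by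
        intro z hzx hz1
        have hzW' : z ∈ W'.1 := hzx.mem_open W'.1.2 hxW'
        have h1 : X.presheaf.germ W'.1 z hzW' a' ∈ maximalIdeal (X.presheaf.stalk z) ^ E z :=
          mem_wIdeal.mp ha'' z hzW'
        have h2 : algebraMap (X.presheaf.stalk z) X.functionField
            (X.presheaf.germ W'.1 z hzW' a') =
            algebraMap (X.presheaf.stalk x) X.functionField
              (X.presheaf.germ W'.1 x hxW' a') := by
          rw [Scheme.algebraMap_germ_eq_germToFunctionField X hzW' a',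
            Scheme.algebraMap_germ_eq_germToFunctionField X hxW' a']
        have hne0 : X.presheaf.germ W'.1 z hzW' a' ≠ 0 := by
          intro h0
          rw [h0, map_zero] at h2
          exact hcne h2.symm
        rw [mem_pow_iff_le_ord hX z hz1 _ hne0, h2] at h1
        rw [Units.val_mul, Units.val_mk0, Units.val_inv_eq_inv_val,
          Scheme.ord_mul hcne (inv_ne_zero f.ne_zero), ord_inv' f.ne_zero, hfE z hzx hz1]
        omega)
      refine ⟨r, hinj ?_⟩
      rw [map_mul, hr, ha, Units.val_mul, Units.val_mk0, Units.val_inv_eq_inv_val, mul_assoc,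
        inv_mul_cancel₀ f.ne_zero, mul_one]
  obtain ⟨V, τ, hxV, hfr⟩ := exists_nbhd_freeAt (ClSub.idealMod (wJ E hfin))
    (isCoh_idealMod (wJ E hfin)) x _ hfree
  exact ⟨V, τ, hxV, isGen_of_forall_freeAt τ hfr⟩

/-! ### (3) ⇒ (1) -/

theorem three_to_one (hUF : ∀ x : X, UniqueFactorizationMonoid (X.presheaf.stalk x))
    (hPic : ∀ L : X.Modules, PicF.IsInvertible L → Nonempty (L ≅ Coh.structureModule X))
    (ζ : X) (hζ : Order.coheight ζ = 1) :
    ∃ g : Γ(X, ⊤),
        (∀ (x : X) (h : ζ ⤳ x),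
          (IsLocalRing.maximalIdeal (X.presheaf.stalk ζ)).comap
              (X.presheaf.stalkSpecializes h).hom =
            Ideal.span {X.presheaf.germ ⊤ x trivial g}) ∧
        ∀ x : X, ¬ ζ ⤳ x → IsUnit (X.presheaf.germ ⊤ x trivial g) := by
  classical
  have hX : Pi1.IsNormalScheme X := fun x => ⟨inferInstance, by
    haveI := hUF x
    exact UniqueFactorizationMonoid.instIsIntegrallyClosed⟩
  obtain ⟨E, hE⟩ : ∃ E : X → ℕ, ∀ z, E z = if z = ζ then 1 else 0 := ⟨_, fun _ => rfl⟩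
  have hEζ : E ζ = 1 := by rw [hE, if_pos rfl]
  have hEne : ∀ z, z ≠ ζ → E z = 0 := fun z hz => by rw [hE, if_neg hz]
  have hfin : LocFin E := fun x => ⟨⊤, trivial, (Set.finite_singleton ζ).subset (fun w hw => by
    by_contra hne
    exact hw.2 (hEne w hne))⟩
  have hE1 : ∀ x : X, Order.coheight x ≠ 1 → E x = 0 :=
    fun x hx => hEne x (fun e => hx (e ▸ hζ))
  have hinv : PicF.IsInvertible (ClSub.idealMod (wJ E hfin)) :=
    isInvertible_of_isGen _ (fun x => exists_isGen_wJ_of_ufm hX hUF hfin hE1 x)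
  obtain ⟨e⟩ := hPic _ hinv
  obtain ⟨σ, hσ⟩ := exists_isGen_top_of_iso e
  obtain ⟨g, hgdef⟩ : ∃ g : Γ(X, ⊤), g = inc (wJ E hfin) ⊤ σ := ⟨_, rfl⟩
  have hkey : ∀ (U : X.affineOpens) (a : Γ(X, U.1)), a ∈ wIdeal E U.1 →
      ∃ r : Γ(X, U.1), a = r * X.presheaf.map (homOfLE (le_top : U.1 ≤ ⊤)).op g := by
    intro U a ha
    obtain ⟨t, ht⟩ := exists_inc_eq (wJ E hfin) U a ha
    obtain ⟨r, hr⟩ := (hσ U.1 le_top).2 t
    have hr' : r • (ClSub.idealMod (wJ E hfin)).presheaf.map (homOfLE (le_top : U.1 ≤ ⊤)).op σ =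
        t := hr
    refine ⟨r, ?_⟩
    rw [← ht, ← hr', inc_smul, inc_res, hgdef]
  have hgmem : ∀ U : X.affineOpens,
      X.presheaf.map (homOfLE (le_top : U.1 ≤ ⊤)).op g ∈ wIdeal E U.1 := by
    intro U
    rw [hgdef, ← inc_res]
    exact inc_mem (wJ E hfin) U _
  refine ⟨g, fun x h => ?_, fun x hns => ?_⟩
  · obtain ⟨U, hU0, hxU, -⟩ :=
      Opens.isBasis_iff_nbhd.mp X.isBasis_affineOpens (Opens.mem_top x)
    have hζU : ζ ∈ U := h.mem_open U.2 hxU
    apply le_antisymm
    · intro b hb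
      rw [Ideal.mem_comap] at hb
      obtain ⟨W, hW, -, hxW, b', hb'⟩ := exists_affine_lift x (Opens.mem_top x) b
      have hζW : ζ ∈ W := h.mem_open W.2 hxW
      have hb'mem : b' ∈ wIdeal E W := by
        rw [mem_wIdeal]
        intro z hz
        by_cases hzζ : z = ζ
        · subst hzζ
          rw [hEζ, pow_one]
          have h3 : X.presheaf.germ W z hz b' =
              (X.presheaf.stalkSpecializes h).hom (X.presheaf.germ W x hxW b') :=
            (TopCat.Presheaf.germ_stalkSpecializes_apply X.presheaf hxW h b').symm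
          rw [h3, hb']
          exact hb
        · rw [hEne z hzζ, pow_zero, Ideal.one_eq_top]
          exact Submodule.mem_top
      obtain ⟨r, hr⟩ := hkey ⟨W, hW⟩ b' hb'mem
      rw [Ideal.mem_span_singleton']
      refine ⟨X.presheaf.germ W x hxW r, ?_⟩
      rw [← hb', hr, map_mul, TopCat.Presheaf.germ_res_apply]
    · rw [Ideal.span_singleton_le_iff_mem, Ideal.mem_comap]
      have hmem := hgmem ⟨U, hU0⟩
      rw [mem_wIdeal] at hmem
      have h1 := hmem ζ hζU
      rw [hEζ, pow_one, TopCat.Presheaf.germ_res_apply] at h1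
      rw [TopCat.Presheaf.germ_stalkSpecializes_apply]
      exact h1
  · have hxnot : x ∉ closure ({ζ} : Set X) :=
      fun hc => hns (specializes_iff_mem_closure.mpr hc)
    obtain ⟨U, hU0, hxU, hUsub⟩ := Opens.isBasis_iff_nbhd.mp X.isBasis_affineOpens
      (show x ∈ (⟨(closure ({ζ} : Set X))ᶜ, isClosed_closure.isOpen_compl⟩ : X.Opens) from hxnot)
    have hζU : ζ ∉ U := fun h => hUsub h (subset_closure (Set.mem_singleton ζ))
    have h1 : (1 : Γ(X, U)) ∈ wIdeal E U := by
      rw [mem_wIdeal]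
      intro z hz
      have hzζ : z ≠ ζ := fun e => hζU (e ▸ hz)
      rw [hEne z hzζ, pow_zero, Ideal.one_eq_top]
      exact Submodule.mem_top
    obtain ⟨r, hr⟩ := hkey ⟨U, hU0⟩ 1 h1
    have hu : IsUnit (X.presheaf.map (homOfLE (le_top : U ≤ ⊤)).op g) :=
      IsUnit.of_mul_eq_one r ((mul_comm _ _).trans hr.symm)
    have hu' := hu.map (X.presheaf.germ U x hxU).hom
    rw [TopCat.Presheaf.germ_res_apply] at hu'
    exact hu'

/-! ### (4) ⇒ (2) -/

theorem four_to_two [CompactSpace X] (hX : Pi1.IsNormalScheme X)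
    (h4 : ∀ (U : X.Opens) (L : (U : Scheme.{u}).Modules), PicF.IsInvertible L →
      Nonempty (L ≅ Coh.structureModule (U : Scheme.{u})))
    (x₀ : X) (hx₀ : Order.coheight x₀ = 1) :
    ∃ f : X.functionField, f ≠ 0 ∧ Scheme.ord f x₀ = 1 ∧
      ∀ x : X, x ≠ x₀ → Order.coheight x = 1 → Scheme.ord f x = 0 := by
  classical
  have hη : ∀ x : X, genericPoint X ⤳ x := fun x => genericPoint_specializes x
  haveI := Groth.Agent.S2876.isDVR_of_coheight_one hX x₀ hx₀
  obtain ⟨ϖ, hϖ⟩ := IsDiscreteValuationRing.exists_irreducible (X.presheaf.stalk x₀)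
  have hm : maximalIdeal (X.presheaf.stalk x₀) = Ideal.span {ϖ} :=
    (IsDiscreteValuationRing.irreducible_iff_uniformizer ϖ).mp hϖ
  have hϖ0 : ϖ ≠ 0 := hϖ.ne_zero
  obtain ⟨p, hp⟩ : ∃ p : X.functionField,
      p = algebraMap (X.presheaf.stalk x₀) X.functionField ϖ := ⟨_, rfl⟩
  have hp0 : p ≠ 0 := by
    rw [hp]
    intro h0
    exact hϖ0 (IsFractionRing.injective (X.presheaf.stalk x₀) X.functionField
      (by rw [h0, map_zero]))
  have hp1 : Scheme.ord p x₀ = 1 := by
    rw [hp]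
    exact Groth.Agent.H95.AffSpaceOrd.ord_of_uniformizer_stalk x₀ hx₀ ϖ hϖ0 hm
  have hfinp := Groth.Agent.S10901.finite_ord_ne_zero X p hp0
  obtain ⟨T, hT⟩ : ∃ T : Set X,
      T = {y : X | (Order.coheight y = 1 ∧ Scheme.ord p y ≠ 0) ∧ y ≠ x₀} := ⟨_, rfl⟩
  have hTf : T.Finite := by
    rw [hT]
    exact hfinp.subset (fun y hy => hy.1)
  have hcl : IsClosed ((⋃ y ∈ T, closure ({y} : Set X)) ∩ closure ({x₀} : Set X)) :=
    (hTf.isClosed_biUnion (fun _ _ => isClosed_closure)).inter isClosed_closure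
  obtain ⟨U, hU⟩ : ∃ U : X.Opens, U =
      ⟨((⋃ y ∈ T, closure ({y} : Set X)) ∩ closure ({x₀} : Set X))ᶜ, hcl.isOpen_compl⟩ :=
    ⟨_, rfl⟩
  have hmemU : ∀ y : X, y ∈ U ↔
      ¬ (y ∈ (⋃ y ∈ T, closure ({y} : Set X)) ∧ y ∈ closure ({x₀} : Set X)) := by
    intro y
    rw [hU]
    exact Iff.rfl
  have hcodimU : ∀ z : X, Order.coheight z = 1 → z ∈ U := by
    intro z hz1
    rw [hmemU]
    rintro ⟨hzT, hzx⟩
    obtain ⟨y, hyT, hzy⟩ := Set.mem_iUnion₂.mp hzT
    rw [hT] at hyT
    have e1 : z = y :=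
      eq_of_specializes_coheight_one (specializes_iff_mem_closure.mpr hzy) hyT.1.1 hz1
    have e2 : z = x₀ :=
      eq_of_specializes_coheight_one (specializes_iff_mem_closure.mpr hzx) hx₀ hz1
    exact hyT.2 (e1.symm.trans e2)
  obtain ⟨E, hE⟩ : ∃ E : X → ℕ, ∀ z, E z = if z = x₀ then 1 else 0 := ⟨_, fun _ => rfl⟩
  have hEζ : E x₀ = 1 := by rw [hE, if_pos rfl]
  have hEne : ∀ z, z ≠ x₀ → E z = 0 := fun z hz => by rw [hE, if_neg hz]
  have hfin : LocFin E := fun x => ⟨⊤, trivial, (Set.finite_singleton x₀).subset (fun w hw => by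
    by_contra hne
    exact hw.2 (hEne w hne))⟩
  have hE1 : ∀ x : X, Order.coheight x ≠ 1 → E x = 0 :=
    fun x hx => hEne x (fun e => hx (e ▸ hx₀))
  have hgen : ∀ y : X, y ∈ U → ∃ (V : X.Opens) (τ : Γ(ClSub.idealMod (wJ E hfin), V)),
      y ∈ V ∧ IsGen (ClSub.idealMod (wJ E hfin)) V τ := by
    intro y hyU
    by_cases hy : x₀ ⤳ y
    · refine exists_isGen_wJ_of_function hX hfin hE1 y (Units.mk0 p hp0) (fun z hzy hz1 => ?_)
      rw [Units.val_mk0]
      by_cases hzx : z = x₀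
      · rw [hzx, hp1, hEζ]
        rfl
      · rw [hEne z hzx, Nat.cast_zero]
        by_contra hne
        have hzT : z ∈ T := by
          rw [hT]
          exact ⟨⟨hz1, hne⟩, hzx⟩
        exact (hmemU y).mp hyU ⟨Set.mem_biUnion hzT (specializes_iff_mem_closure.mp hzy),
          specializes_iff_mem_closure.mp hy⟩
    · refine exists_isGen_wJ_of_function hX hfin hE1 y 1 (fun z hzy hz1 => ?_)
      have hzx : z ≠ x₀ := fun e => hy (e ▸ hzy)
      rw [hEne z hzx, Units.val_one, ord_one', Nat.cast_zero]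
  have hinvU : PicF.IsInvertible ((ClSub.idealMod (wJ E hfin)).restrict U.ι) := by
    refine isInvertible_of_isGen _ (fun y' => ?_)
    have hyU : U.ι y' ∈ U := by
      have h1 : U.ι y' ∈ U.ι.opensRange := ⟨y', rfl⟩
      rwa [Scheme.Opens.opensRange_ι] at h1
    obtain ⟨V, τ, hyV, hτ⟩ := hgen (U.ι y') hyU
    have hτ' := hτ.res (inf_le_left : V ⊓ U ≤ V)
    obtain ⟨W, hW⟩ := Groth.Agent.H22.GenLocus.exists_eq_image (inf_le_right : V ⊓ U ≤ U)
    have hex : ∃ μ : Γ(ClSub.idealMod (wJ E hfin), U.ι ''ᵁ W),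
        IsGen (ClSub.idealMod (wJ E hfin)) (U.ι ''ᵁ W) μ := by
      rw [← hW]
      exact ⟨_, hτ'⟩
    obtain ⟨μ, hμ⟩ := hex
    refine ⟨W, Groth.Agent.H18.RestrictTensor.toRes U.ι _ μ, ?_,
      Groth.Agent.H18.RestrictTensor.isGen_restrict U.ι _ hμ⟩
    have h2 : U.ι y' ∈ U.ι ''ᵁ W := by
      rw [← hW]
      exact ⟨hyV, hyU⟩
    obtain ⟨w, hwW, hw⟩ := h2
    have h3 : w = y' := U.ι.isOpenEmbedding.injective hw
    exact h3 ▸ hwW
  obtain ⟨e⟩ := h4 U _ hinvU
  obtain ⟨σ, hσ⟩ := Groth.Agent.H22.GenLocus.exists_generator (ClSub.idealMod (wJ E hfin)) U e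
  have hσ' : IsGen (ClSub.idealMod (wJ E hfin)) U σ := hσ
  have hx₀U : x₀ ∈ U := hcodimU x₀ hx₀
  have hηU : genericPoint X ∈ U := (hη x₀).mem_open U.2 hx₀U
  have hord : ∀ z : X, Order.coheight z = 1 →
      Scheme.ord (X.presheaf.germ U (genericPoint X) hηU (inc (wJ E hfin) U σ) :
        X.functionField) z = (E z : ℤ) :=
    fun z hz1 => ord_gen hX hfin hE1 z hz1 hσ' (hcodimU z hz1) hηU
  refine ⟨X.presheaf.germ U (genericPoint X) hηU (inc (wJ E hfin) U σ), ?_, ?_, ?_⟩
  · intro h0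
    have h1 := hord x₀ hx₀
    rw [h0, hEζ] at h1
    have h2 : Scheme.ord (0 : X.functionField) x₀ = 0 := congrFun Scheme.ord_zero x₀
    rw [h2] at h1
    exact absurd h1 (by norm_num)
  · rw [hord x₀ hx₀, hEζ]
    rfl
  · intro x hne hx1
    rw [hord x hx1, hEne x hne]
    rfl

/-! ### (2) ⇒ (4) -/

theorem two_to_four [CompactSpace X] (hX : Pi1.IsNormalScheme X)
    (h2 : ∀ x₀ : X, Order.coheight x₀ = 1 → ∃ f : X.functionField, f ≠ 0 ∧
      Scheme.ord f x₀ = 1 ∧
        ∀ x : X, x ≠ x₀ → Order.coheight x = 1 → Scheme.ord f x = 0)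
    (U : X.Opens) (L : (U : Scheme.{u}).Modules) (hL : PicF.IsInvertible L) :
    Nonempty (L ≅ Coh.structureModule (U : Scheme.{u})) := by
  classical
  by_cases hne : Nonempty U
  swap
  · haveI : IsEmpty (U : Scheme.{u}) := not_nonempty_iff.mp hne
    have hz : ∀ M : (U : Scheme.{u}).Modules, IsZero M := fun M =>
      Groth.Agent.H8.isZero_of_subsingleton_stalk M (fun x => isEmptyElim x)
    exact ⟨(hz L).iso (hz _)⟩
  · haveI := hne
    haveI : IsIntegral (U : Scheme.{u}) := inferInstance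
    haveI : IsLocallyNoetherian (U : Scheme.{u}) := inferInstance
    have hXU : Pi1.IsNormalScheme (U : Scheme.{u}) := by
      intro x
      obtain ⟨h1, h2'⟩ := hX (U.ι x)
      have e : X.presheaf.stalk (U.ι x) ≃+* (U : Scheme.{u}).presheaf.stalk x :=
        (asIso (U.ι.stalkMap x)).commRingCatIsoToRingEquiv
      exact ⟨e.symm.toMulEquiv.isDomain _, IsIntegrallyClosed.of_equiv e⟩
    haveI : IsNoetherian X := {}
    haveI : CompactSpace (U : Scheme.{u}) :=
      isCompact_iff_compactSpace.mp (TopologicalSpace.NoetherianSpace.isCompact (U : Set X))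
    refine pic_trivial_of_two hXU (fun u₀ hu₀ => ?_) L hL
    have hx₀ : Order.coheight (U.ι u₀) = 1 := (coheight_eq_of_isOpenImmersion U.ι).trans hu₀
    obtain ⟨f, hf0, hf1, hf2⟩ := h2 (U.ι u₀) hx₀
    refine ⟨Groth.Agent.H97.OrdOpen.ffEquiv U.ι f,
      (EmbeddingLike.map_ne_zero_iff (f := Groth.Agent.H97.OrdOpen.ffEquiv U.ι)).mpr hf0, ?_, ?_⟩
    · rw [Groth.Agent.H97.OrdOpen.ord_ffEquiv]
      exact hf1
    · intro u hneu hu1
      rw [Groth.Agent.H97.OrdOpen.ord_ffEquiv]
      exact hf2 (U.ι u) (fun e => hneu (U.ι.isOpenEmbedding.injective e))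
        ((coheight_eq_of_isOpenImmersion U.ι).trans hu1)

end Groth.Agent.H95.TfaeDiv
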