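import Groth.Agent.H95.WeilSheaf
import Groth.Agent.H95.CDivPrime
import Groth.Agent.H95.DualInv
import Groth.Agent.S16092

/-!
# Weil divisors on locally factorial schemes

On an integral normal locally Noetherian scheme `X`:
* `ufm_of_local_functions`: the local rings are factorial as soon as every point of codimension
  one is, near every point, the divisor of a rational function;
* `exists_isGen_wJ_of_ufm`: if the local rings are factorial, the divisorial ideal sheaf `wJ E` is
  locally free of rank one everywhere;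
* `ref1_ddual_of_gens`: the reflexive hull of an ideal sheaf with known local generators in
  codimension at most one, with its rational section.
-/

set_option autoImplicit false
set_option linter.style.haveILetI false

universe u

open CategoryTheory CategoryTheory.Limits AlgebraicGeometry TopologicalSpace Opposite IsLocalRing
  CDiv

namespace Groth.Agent.H95.WeilFactorial

open Groth.Agent.H18.TensorGen (IsGen)
open Groth.Agent.H95.SecOrd
open Groth.Agent.H95.RefGen
open Groth.Agent.H95.RefIso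
open Groth.Agent.H95.RefGroup
open Groth.Agent.H95.WeilSheaf
open Groth.Agent.H95.CDivPrime
open Groth.Agent.H95.StalkPrimes
open Groth.Agent.H15.CDivLib
open Groth.Agent.H17.ReflSheaf (isCoh_dual isCoh_ddual)

variable {X : Scheme.{u}} [IsIntegral X] [IsLocallyNoetherian X]

/-- Algebraic Hartogs: a rational function with nonnegative order at all generizations of
codimension one of `x` is regular at `x`. -/
theorem mem_range_of_ord_nonneg (hX : Pi1.IsNormalScheme X) (x : X) (g : KUnits X)
    (hg : ∀ z : X, z ⤳ x → Order.coheight z = 1 → 0 ≤ Scheme.ord (g : X.functionField) z) :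
    (g : X.functionField) ∈ Set.range (algebraMap (X.presheaf.stalk x) X.functionField) := by
  by_contra hnot
  obtain ⟨z, hzx, hdz, hgz⟩ := exists_depth_one_not_mem x (g : X.functionField) hnot
  have hcz := Groth.Agent.S2876.coheight_eq_one_of_depth_eq_one hX z hdz
  exact hgz ((Groth.Agent.S2876.zero_le_ord_iff hX z hcz g).mp (hg z hzx hcz))

/-- If near every point every prime cycle of codimension one is the divisor of a rational function,
the local rings are factorial. -/
theorem ufm_of_local_functions (hX : Pi1.IsNormalScheme X)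
    (H : ∀ x ζ : X, ζ ⤳ x → Order.coheight ζ = 1 → ∃ f : KUnits X,
      ∀ z : X, z ⤳ x → Order.coheight z = 1 →
        (z = ζ → Scheme.ord (f : X.functionField) z = 1) ∧
          (z ≠ ζ → Scheme.ord (f : X.functionField) z = 0)) (x : X) :
    UniqueFactorizationMonoid (X.presheaf.stalk x) := by
  apply UniqueFactorizationMonoid.of_forall_isPrincipal_of_height_eq_one
  intro P hP hPh
  obtain ⟨ζ, h, hdim, hζP⟩ := exists_generization_of_height_one x P hPh
  have hζ : Order.coheight ζ = 1 := by
    rw [ringKrullDim_stalk_eq_coheight] at hdim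
    exact_mod_cast hdim
  obtain ⟨f, hordf⟩ := H x ζ h hζ
  have hinj : Function.Injective (algebraMap (X.presheaf.stalk x) X.functionField) :=
    IsFractionRing.injective _ _
  have hreg : ∀ g : KUnits X,
      (∀ z : X, z ⤳ x → Order.coheight z = 1 → 0 ≤ Scheme.ord (g : X.functionField) z) →
      (g : X.functionField) ∈ Set.range (algebraMap (X.presheaf.stalk x) X.functionField) :=
    fun g hg => mem_range_of_ord_nonneg hX x g hg
  obtain ⟨α, hα⟩ := hreg f (fun z hz hcz => by
    by_cases e : z = ζ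
    · rw [(hordf z hz hcz).1 e]
      norm_num
    · rw [(hordf z hz hcz).2 e])
  have hαP : α ∈ P := by
    rw [← hζP, Ideal.mem_comap]
    by_contra hnot
    have hunit : IsUnit ((X.presheaf.stalkSpecializes h).hom α) := by
      by_contra hnu
      exact hnot ((IsLocalRing.mem_maximalIdeal _).mpr (mem_nonunits_iff.mpr hnu))
    have h1 := ord_algebraMap_unit hX ζ hζ hunit.unit
    rw [IsUnit.unit_spec, algebraMap_stalkSpecializes h α, hα, (hordf ζ h hζ).1 rfl] at h1
    exact one_ne_zero h1
  have hζβ : ∀ β ∈ P, β ≠ 0 →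
      1 ≤ Scheme.ord (algebraMap (X.presheaf.stalk x) X.functionField β) ζ := by
    intro β hβ hβ0
    have hβ' : (X.presheaf.stalkSpecializes h).hom β ∈ maximalIdeal (X.presheaf.stalk ζ) := by
      rw [← hζP] at hβ
      exact hβ
    have hne : (X.presheaf.stalkSpecializes h).hom β ≠ 0 := by
      intro h0
      have h1 := algebraMap_stalkSpecializes h β
      rw [h0, map_zero] at h1
      exact hβ0 (hinj (by rw [← h1, map_zero]))
    have h1 := one_le_ord_of_mem_maximalIdeal hX ζ hζ _ hβ' hne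
    rwa [algebraMap_stalkSpecializes h β] at h1
  have hPeq : P = Ideal.span {α} := by
    apply le_antisymm
    · intro β hβ
      by_cases hβ0 : β = 0
      · rw [hβ0]
        exact Ideal.zero_mem _
      have hβne : algebraMap (X.presheaf.stalk x) X.functionField β ≠ 0 :=
        fun h0 => hβ0 (hinj (by rw [h0, map_zero]))
      obtain ⟨g, hg⟩ : ∃ g : KUnits X, (g : X.functionField) * (f : X.functionField) =
          algebraMap (X.presheaf.stalk x) X.functionField β :=
        ⟨Units.mk0 _ hβne * f⁻¹, by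
          rw [Units.val_mul, Units.val_mk0, Units.val_inv_eq_inv_val, mul_assoc,
            inv_mul_cancel₀ f.ne_zero, mul_one]⟩
      have hmul : ∀ z : X, Scheme.ord (algebraMap (X.presheaf.stalk x) X.functionField β) z =
          Scheme.ord (g : X.functionField) z + Scheme.ord (f : X.functionField) z := by
        intro z
        rw [← hg]
        exact Scheme.ord_mul g.ne_zero f.ne_zero
      obtain ⟨c, hc⟩ := hreg g (by
        intro z hz hcz
        by_cases e : z = ζ
        · rw [e]
          have h1 := hζβ β hβ hβ0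
          rw [hmul ζ, (hordf ζ h hζ).1 rfl] at h1
          omega
        · have h1 := zero_le_ord_of_specializes hX hz hcz β hβne
          rw [hmul z, (hordf z hz hcz).2 e] at h1
          omega)
      rw [Ideal.mem_span_singleton']
      refine ⟨c, hinj ?_⟩
      rw [map_mul, hc, hα, hg]
    · rw [Ideal.span_le, Set.singleton_subset_iff]
      exact hαP
  exact ⟨⟨α, hPeq⟩⟩

/-! ### Orders and powers of the maximal ideal at points of codimension one -/

lemma ord_unit_mul_pow (hX : Pi1.IsNormalScheme X) (z : X) (hz1 : Order.coheight z = 1)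
    {ϖ : X.presheaf.stalk z} (hϖ : Irreducible ϖ) (u : (X.presheaf.stalk z)ˣ) (k : ℕ) :
    Scheme.ord (algebraMap (X.presheaf.stalk z) X.functionField
      ((u : X.presheaf.stalk z) * ϖ ^ k)) z = k := by
  haveI := Groth.Agent.S2876.isDVR_of_coheight_one hX z hz1
  have hinj := IsFractionRing.injective (X.presheaf.stalk z) X.functionField
  have hϖne : algebraMap (X.presheaf.stalk z) X.functionField ϖ ≠ 0 := by
    intro h0
    exact hϖ.ne_zero (hinj (by rw [h0, map_zero]))
  have hune : algebraMap (X.presheaf.stalk z) X.functionField (u : X.presheaf.stalk z) ≠ 0 := by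
    intro h0
    exact u.ne_zero (hinj (by rw [h0, map_zero]))
  have hord_ϖ : Scheme.ord (algebraMap (X.presheaf.stalk z) X.functionField ϖ) z = 1 := by
    rw [Scheme.ord_eq_iff hz1 hϖne]
    exact Ring.ordFrac_irreducible hϖ
  rw [map_mul, map_pow, Scheme.ord_mul hune (pow_ne_zero _ hϖne), ord_pow' hϖne,
    ord_algebraMap_unit hX z hz1 u, hord_ϖ]
  ring

lemma mem_pow_iff_le_ord (hX : Pi1.IsNormalScheme X) (z : X) (hz1 : Order.coheight z = 1)
    (c : X.presheaf.stalk z) (hc : c ≠ 0) (n : ℕ) :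
    c ∈ maximalIdeal (X.presheaf.stalk z) ^ n ↔
      (n : ℤ) ≤ Scheme.ord (algebraMap (X.presheaf.stalk z) X.functionField c) z := by
  haveI := Groth.Agent.S2876.isDVR_of_coheight_one hX z hz1
  obtain ⟨ϖ, hϖ⟩ := IsDiscreteValuationRing.exists_irreducible (X.presheaf.stalk z)
  have hm : maximalIdeal (X.presheaf.stalk z) = Ideal.span {ϖ} :=
    (IsDiscreteValuationRing.irreducible_iff_uniformizer ϖ).mp hϖ
  obtain ⟨k, u, hcu⟩ := IsDiscreteValuationRing.eq_unit_mul_pow_irreducible hc hϖ
  rw [hm, Ideal.span_singleton_pow, Ideal.mem_span_singleton, hcu,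
    ord_unit_mul_pow hX z hz1 hϖ u k]
  constructor
  · intro hdvd
    by_contra hlt
    have hkn : k + 1 ≤ n := by omega
    have h1 : ϖ ^ (k + 1) ∣ (u : X.presheaf.stalk z) * ϖ ^ k := (pow_dvd_pow ϖ hkn).trans hdvd
    rw [pow_succ, mul_comm (u : X.presheaf.stalk z)] at h1
    have h2 : ϖ ∣ (u : X.presheaf.stalk z) :=
      (mul_dvd_mul_iff_left (pow_ne_zero k hϖ.ne_zero)).mp h1
    exact hϖ.not_isUnit (isUnit_of_dvd_unit h2 u.isUnit)
  · intro hle
    have hnk : n ≤ k := by exact_mod_cast hle
    exact Dvd.dvd.mul_left (pow_dvd_pow ϖ hnk) _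

/-! ### Local equations of effective divisors on locally factorial schemes -/

theorem exists_local_function (hX : Pi1.IsNormalScheme X)
    (hUF : ∀ x : X, UniqueFactorizationMonoid (X.presheaf.stalk x)) (E : X → ℕ) (x : X)
    (S : Finset X) (hS : ∀ ζ ∈ S, Order.coheight ζ = 1) :
    ∃ f : KUnits X, ∀ z : X, z ⤳ x → Order.coheight z = 1 →
      (z ∈ S → Scheme.ord (f : X.functionField) z = (E z : ℤ)) ∧
        (z ∉ S → Scheme.ord (f : X.functionField) z = 0) := by
  classical
  induction S using Finset.induction_on with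
  | empty =>
    refine ⟨1, fun z _ _ => ⟨fun h => absurd h (Finset.notMem_empty z), fun _ => ?_⟩⟩
    rw [Units.val_one, ord_one']
  | insert ζ S' hζS' ih =>
    obtain ⟨f', hf'⟩ := ih (fun y hy => hS y (Finset.mem_insert_of_mem hy))
    have hζ1 : Order.coheight ζ = 1 := hS ζ (Finset.mem_insert_self ζ S')
    obtain ⟨D, hD1, hD0⟩ := exists_divisor_of_ufm hUF ζ hζ1 hX
    obtain ⟨U, g, hxU, hU⟩ := D.2 x
    refine ⟨f' * g ^ E ζ, fun z hzx hz1 => ?_⟩
    have hzU : z ∈ U := hzx.mem_open U.2 hxU
    have key : Scheme.ord ((f' * g ^ E ζ : KUnits X) : X.functionField) z =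
        Scheme.ord (f' : X.functionField) z + (E ζ : ℤ) * Scheme.ord (g : X.functionField) z := by
      rw [Units.val_mul, Units.val_pow_eq_pow_val,
        Scheme.ord_mul f'.ne_zero (pow_ne_zero _ g.ne_zero), ord_pow' g.ne_zero]
    rw [key]
    constructor
    · intro hzmem
      rcases Finset.mem_insert.mp hzmem with h | h
      · subst h
        rw [(hf' z hzx hz1).2 hζS', hD1 g (hU z hzU)]
        ring
      · have hzζ : z ≠ ζ := fun e => hζS' (e ▸ h)
        rw [(hf' z hzx hz1).1 h, hD0 z hzζ hz1 g (hU z hzU)]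
        ring
    · intro hznot
      have hzζ : z ≠ ζ := fun e => hznot (e ▸ Finset.mem_insert_self ζ S')
      have hzS' : z ∉ S' := fun h => hznot (Finset.mem_insert_of_mem h)
      rw [(hf' z hzx hz1).2 hzS', hD0 z hzζ hz1 g (hU z hzU)]
      ring

/-- A section of an ideal sheaf whose germ divides the germs of all local sections generates the
stalk freely. -/
theorem freeAt_of_dvd (I : X.IdealSheafData) {V : X.Opens} (z : X) (hz : z ∈ V)
    (σ : Γ(ClSub.idealMod I, V))
    (hne : X.presheaf.germ V z hz (inc I V σ) ≠ 0)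
    (hdiv : ∀ (W : X.affineOpens) (hzW : z ∈ W.1) (a' : Γ(X, W.1)), a' ∈ I.ideal W →
      X.presheaf.germ W.1 z hzW a' ∈ Ideal.span {X.presheaf.germ V z hz (inc I V σ)}) :
    FreeAt (ClSub.idealMod I) ((ClSub.idealMod I).presheaf.germ V z hz σ) := by
  refine freeAt_of_forall ?_ ?_
  · intro c hc
    obtain ⟨W, hWV, hzW, c', hc'⟩ := X.presheaf.exists_le_germ_eq c hz
    have h1 : (ClSub.idealMod I).presheaf.germ W z hzW
        (c' • (ClSub.idealMod I).presheaf.map (homOfLE hWV).op σ) = 0 := by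
      rw [Mero.germ_smul, hc', Groth.Agent.H8.germ_res]
      exact hc
    obtain ⟨W', hW'W, hzW', h2⟩ :=
      Groth.Agent.H8.exists_res_eq_zero_of_germ_eq_zero z (ClSub.idealMod I) hzW _ h1
    have h3 : inc I W' ((ClSub.idealMod I).presheaf.map (homOfLE hW'W).op
        (c' • (ClSub.idealMod I).presheaf.map (homOfLE hWV).op σ)) = 0 := by
      rw [h2]
      exact inc_zero I W'
    rw [inc_res, inc_smul, inc_res] at h3
    have h4 := congrArg (X.presheaf.germ W' z hzW') h3
    rw [TopCat.Presheaf.germ_res_apply, map_mul, TopCat.Presheaf.germ_res_apply, map_zero,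
      hc'] at h4
    rcases mul_eq_zero.mp h4 with h5 | h5
    · exact h5
    · exact absurd h5 hne
  · intro m
    obtain ⟨U', hU'V, hzU', m', hm'⟩ := (ClSub.idealMod I).presheaf.exists_le_germ_eq m hz
    obtain ⟨W, hW0, hzW, hWU'⟩ := Opens.isBasis_iff_nbhd.mp X.isBasis_affineOpens hzU'
    have hW : IsAffineOpen W := hW0
    obtain ⟨mW, hmW⟩ : ∃ mW : Γ(ClSub.idealMod I, W),
        mW = (ClSub.idealMod I).presheaf.map (homOfLE hWU').op m' := ⟨_, rfl⟩
    have hgm : (ClSub.idealMod I).presheaf.germ W z hzW mW = m := by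
      rw [hmW, Groth.Agent.H8.germ_res]
      exact hm'
    have h1 := hdiv ⟨W, hW⟩ hzW (inc I W mW) (inc_mem I ⟨W, hW⟩ mW)
    rw [Ideal.mem_span_singleton'] at h1
    obtain ⟨c, hc⟩ := h1
    refine ⟨c, ?_⟩
    obtain ⟨W', hW'W, hzW', c', hc'⟩ := X.presheaf.exists_le_germ_eq c hzW
    have hWV : W ≤ V := hWU'.trans hU'V
    have h2 : inc I W' (c' • (ClSub.idealMod I).presheaf.map (homOfLE (hW'W.trans hWV)).op σ) =
        inc I W' ((ClSub.idealMod I).presheaf.map (homOfLE hW'W).op mW) := by
      apply germ_injective_of_isIntegral X z hzW'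
      rw [inc_smul, inc_res, inc_res, map_mul, TopCat.Presheaf.germ_res_apply,
        TopCat.Presheaf.germ_res_apply, hc', hc]
    have h3 := inc_injective I W' h2
    have h4 := congrArg ((ClSub.idealMod I).presheaf.germ W' z hzW') h3
    rw [Mero.germ_smul, hc', Groth.Agent.H8.germ_res, Groth.Agent.H8.germ_res, hgm] at h4
    exact h4

/-- On a locally factorial scheme the divisorial ideal sheaf is locally free of rank one. -/
theorem exists_isGen_wJ_of_ufm (hX : Pi1.IsNormalScheme X)
    (hUF : ∀ x : X, UniqueFactorizationMonoid (X.presheaf.stalk x)) {E : X → ℕ}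
    (hfin : LocFin E) (hE1 : ∀ x : X, Order.coheight x ≠ 1 → E x = 0) (x : X) :
    ∃ (V : X.Opens) (τ : Γ(ClSub.idealMod (wJ E hfin), V)),
      x ∈ V ∧ IsGen (ClSub.idealMod (wJ E hfin)) V τ := by
  classical
  obtain ⟨W, hxW, hWf⟩ := hfin x
  obtain ⟨T, hT⟩ : ∃ T : Set X, T = {z' : X | (z' ∈ W ∧ E z' ≠ 0) ∧ ¬ z' ⤳ x} := ⟨_, rfl⟩
  have hTf : T.Finite := by
    rw [hT]
    exact hWf.subset (fun z' h => h.1)
  have hcl : IsClosed (⋃ z' ∈ T, closure ({z'} : Set X)) :=
    hTf.isClosed_biUnion (fun _ _ => isClosed_closure)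
  have hxnot : x ∉ ⋃ z' ∈ T, closure ({z'} : Set X) := by
    intro hmem
    obtain ⟨z', hz'T, hxcl⟩ := Set.mem_iUnion₂.mp hmem
    rw [hT] at hz'T
    exact hz'T.2 (specializes_iff_mem_closure.mpr hxcl)
  obtain ⟨Vc, hVc⟩ : ∃ Vc : X.Opens,
      Vc = W ⊓ ⟨(⋃ z' ∈ T, closure ({z'} : Set X))ᶜ, hcl.isOpen_compl⟩ := ⟨_, rfl⟩
  have hxVc : x ∈ Vc := by
    rw [hVc]
    exact ⟨hxW, hxnot⟩
  have hclean : ∀ z' ∈ Vc, E z' ≠ 0 → z' ⤳ x := by
    intro z' hz' hE
    rw [hVc] at hz'
    by_contra hns
    refine hz'.2 (Set.mem_biUnion (show z' ∈ T from ?_) (subset_closure rfl))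
    rw [hT]
    exact ⟨⟨hz'.1, hE⟩, hns⟩
  obtain ⟨f, hf⟩ := exists_local_function hX hUF E x hWf.toFinset (fun ζ hζ => by
    have h := (Set.Finite.mem_toFinset hWf).mp hζ
    by_contra hne
    exact h.2 (hE1 ζ hne))
  have hfE : ∀ z : X, z ⤳ x → Order.coheight z = 1 →
      Scheme.ord (f : X.functionField) z = (E z : ℤ) := by
    intro z hzx hz1
    by_cases hzS : z ∈ hWf.toFinset
    · exact (hf z hzx hz1).1 hzS
    · rw [(hf z hzx hz1).2 hzS]
      have hzW : z ∈ W := hzx.mem_open W.2 hxW
      have h0 : E z = 0 := by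
        by_contra hne
        exact hzS ((Set.Finite.mem_toFinset hWf).mpr ⟨hzW, hne⟩)
      rw [h0]
      exact Nat.cast_zero.symm
  obtain ⟨a, ha⟩ := mem_range_of_ord_nonneg hX x f (fun z hzx hz1 => by
    rw [hfE z hzx hz1]
    exact Int.natCast_nonneg _)
  obtain ⟨V₁, hV₁, hV₁c, hxV₁, t, ht⟩ := exists_affine_lift x hxVc a
  haveI : Nonempty V₁ := ⟨⟨x, hxV₁⟩⟩
  have htf : ∀ (z : X) (hz : z ∈ V₁),
      algebraMap (X.presheaf.stalk z) X.functionField (X.presheaf.germ V₁ z hz t) =
        (f : X.functionField) := by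
    intro z hz
    rw [Scheme.algebraMap_germ_eq_germToFunctionField X hz t,
      ← Scheme.algebraMap_germ_eq_germToFunctionField X hxV₁ t, ht, ha]
  have htmem : t ∈ wIdeal E V₁ := by
    rw [mem_wIdeal]
    intro z hz
    by_cases hE : E z = 0
    · rw [hE, pow_zero, Ideal.one_eq_top]
      exact Submodule.mem_top
    · have hz1 : Order.coheight z = 1 := by
        by_contra hne
        exact hE (hE1 z hne)
      have hzx : z ⤳ x := hclean z (hV₁c hz) hE
      have hne0 : X.presheaf.germ V₁ z hz t ≠ 0 := by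
        intro h0
        have h := htf z hz
        rw [h0, map_zero] at h
        exact f.ne_zero h.symm
      rw [mem_pow_iff_le_ord hX z hz1 _ hne0, htf z hz, hfE z hzx hz1]
  obtain ⟨σ, hσ⟩ := exists_inc_eq (wJ E hfin) ⟨V₁, hV₁⟩ t htmem
  have hfree : FreeAt (ClSub.idealMod (wJ E hfin))
      ((ClSub.idealMod (wJ E hfin)).presheaf.germ V₁ x hxV₁ σ) := by
    refine freeAt_of_dvd (wJ E hfin) x hxV₁ σ ?_ ?_
    · rw [hσ, ht]
      intro h0
      rw [h0, map_zero] at ha
      exact f.ne_zero ha.symm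
    · intro W' hxW' a' ha'
      have ha'' : a' ∈ wIdeal E W'.1 := ha'
      rw [hσ, ht, Ideal.mem_span_singleton']
      by_cases hc0 : X.presheaf.germ W'.1 x hxW' a' = 0
      · exact ⟨0, by rw [zero_mul, hc0]⟩
      have hinj := IsFractionRing.injective (X.presheaf.stalk x) X.functionField
      have hcne : algebraMap (X.presheaf.stalk x) X.functionField
          (X.presheaf.germ W'.1 x hxW' a') ≠ 0 := fun h0 => hc0 (hinj (by rw [h0, map_zero]))
      haveI : Nonempty W'.1 := ⟨⟨x, hxW'⟩⟩
      obtain ⟨r, hr⟩ := mem_range_of_ord_nonneg hX x (Units.mk0 _ hcne * f⁻¹) (by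
        intro z hzx hz1
        have hzW' : z ∈ W'.1 := hzx.mem_open W'.1.2 hxW'
        have h1 : X.presheaf.germ W'.1 z hzW' a' ∈ maximalIdeal (X.presheaf.stalk z) ^ E z :=
          mem_wIdeal.mp ha'' z hzW'
        have h2 : algebraMap (X.presheaf.stalk z) X.functionField
            (X.presheaf.germ W'.1 z hzW' a') =
            algebraMap (X.presheaf.stalk x) X.functionField
              (X.presheaf.germ W'.1 x hxW' a') := by
          rw [Scheme.algebraMap_germ_eq_germToFunctionField X hzW' a',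
            Scheme.algebraMap_germ_eq_germToFunctionField X hxW' a']
        have hne0 : X.presheaf.germ W'.1 z hzW' a' ≠ 0 := by
          intro h0
          rw [h0, map_zero] at h2
          exact hcne h2.symm
        rw [mem_pow_iff_le_ord hX z hz1 _ hne0, h2] at h1
        rw [Units.val_mul, Units.val_mk0, Units.val_inv_eq_inv_val,
          Scheme.ord_mul hcne (inv_ne_zero f.ne_zero), ord_inv' f.ne_zero, hfE z hzx hz1]
        omega)
      refine ⟨r, hinj ?_⟩
      rw [map_mul, hr, ha, Units.val_mul, Units.val_mk0, Units.val_inv_eq_inv_val, mul_assoc,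
        inv_mul_cancel₀ f.ne_zero, mul_one]
  obtain ⟨V, τ, hxV, hfr⟩ := exists_nbhd_freeAt (ClSub.idealMod (wJ E hfin))
    (isCoh_idealMod (wJ E hfin)) x _ hfree
  exact ⟨V, τ, hxV, isGen_of_forall_freeAt τ hfr⟩

/-- The reflexive hull of an ideal sheaf with known local generators in codimension at most one is
a rank one reflexive module, and it has a rational section whose order at a point `x` of
codimension one is minus the order of the local generator. -/
theorem ref1_ddual_of_gens (I : X.IdealSheafData) (E : X → ℕ)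
    (hgen : ∀ z : X, Order.coheight z ≤ 1 →
      ∃ (V : X.Opens) (τ : Γ(ClSub.idealMod I, V)), z ∈ V ∧ IsGen (ClSub.idealMod I) V τ)
    (hord : ∀ (z : X), Order.coheight z = 1 → ∀ {V : X.Opens} {τ : Γ(ClSub.idealMod I, V)},
      IsGen (ClSub.idealMod I) V τ → z ∈ V → ∀ hηV : genericPoint X ∈ V,
      Scheme.ord (X.presheaf.germ V (genericPoint X) hηV (inc I V τ) : X.functionField) z =
        (E z : ℤ)) :
    RefHull.IsRef1 (RefHull.ddual (ClSub.idealMod I)) ∧
      ∃ s : Cyc.secFibre (RefHull.ddual (ClSub.idealMod I)) (genericPoint X), s ≠ 0 ∧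
        ∀ x : X, Order.coheight x = 1 →
          Cyc.secOrdAt (RefHull.ddual (ClSub.idealMod I)) (genericPoint X) x
            ((genericPoint_spec X).specializes (Set.mem_univ x)) s = -(E x : ℤ) := by
  have hM : Coh.IsCoh (ClSub.idealMod I) := isCoh_idealMod I
  have hη0 : Order.coheight (genericPoint X) ≤ 1 := by
    have h0 : Order.coheight (genericPoint X) = 0 := by
      rw [Order.coheight_eq_zero]
      intro y hy
      exact (genericPoint_spec X).specializes (Set.mem_univ y)
    rw [h0]
    exact zero_le_one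
  obtain ⟨V₀, τ₀, hηV₀, hτ₀⟩ := hgen (genericPoint X) hη0
  have hβ₀ := isGen_bidual hτ₀
  have hG : RefHull.IsRef1 (RefHull.ddual (ClSub.idealMod I)) :=
    ⟨isCoh_ddual _ hM, Groth.Agent.H17.ReflNormal.isReflexive_dual _ (isCoh_dual _ hM),
      genInvertible_of_isGen hβ₀ hηV₀⟩
  haveI : Nonempty V₀ := ⟨⟨genericPoint X, hηV₀⟩⟩
  obtain ⟨f₀, hf₀⟩ : ∃ f₀ : X.functionField,
      f₀ = X.presheaf.germ V₀ (genericPoint X) hηV₀ (inc I V₀ τ₀) := ⟨_, rfl⟩
  have hf₀ne : f₀ ≠ 0 := by
    rw [hf₀]
    intro h0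
    exact inc_ne_zero_of_isGen I hτ₀ inferInstance
      (germ_injective_of_isIntegral X _ hηV₀ (h0.trans (map_zero _).symm))
  obtain ⟨s, hs⟩ : ∃ s : Cyc.secFibre (RefHull.ddual (ClSub.idealMod I)) (genericPoint X),
      s = (f₀⁻¹ : X.functionField) • (Submodule.Quotient.mk
        ((RefHull.ddual (ClSub.idealMod I)).presheaf.germ V₀ (genericPoint X) hηV₀
          ((RefHull.bidualMap (ClSub.idealMod I)).app V₀ τ₀)) :
        Cyc.secFibre (RefHull.ddual (ClSub.idealMod I)) (genericPoint X)) := ⟨_, rfl⟩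
  refine ⟨hG, s, ?_, ?_⟩
  · intro h0
    rw [hs] at h0
    have hm := mem_maximalIdeal_of_smul_mk_eq_zero hβ₀ (genericPoint X) hηV₀ _ h0
    exact (IsLocalRing.mem_maximalIdeal _).mp hm (isUnit_iff_ne_zero.mpr (inv_ne_zero hf₀ne))
  · intro x hx1
    have hη : genericPoint X ⤳ x := (genericPoint_spec X).specializes (Set.mem_univ x)
    obtain ⟨V, τ, hxV, hτ⟩ := hgen x hx1.le
    have hηV : genericPoint X ∈ V := hη.mem_open V.2 hxV
    have hηP : genericPoint X ∈ V₀ ⊓ V := ⟨hηV₀, hηV⟩
    obtain ⟨g, hg⟩ := (hτ₀ (V₀ ⊓ V) inf_le_left).2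
      ((ClSub.idealMod I).presheaf.map (homOfLE (inf_le_right : V₀ ⊓ V ≤ V)).op τ)
    have hg' : (ClSub.idealMod I).presheaf.map (homOfLE (inf_le_right : V₀ ⊓ V ≤ V)).op τ =
        g • (ClSub.idealMod I).presheaf.map (homOfLE (inf_le_left : V₀ ⊓ V ≤ V₀)).op τ₀ := hg.symm
    have hβrel := bidual_res_smul (ClSub.idealMod I) τ₀ τ g hg'
    haveI : Nonempty V := ⟨⟨x, hxV⟩⟩
    obtain ⟨f, hf⟩ : ∃ f : X.functionField,
        f = X.presheaf.germ V (genericPoint X) hηV (inc I V τ) := ⟨_, rfl⟩
    have hfne : f ≠ 0 := by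
      rw [hf]
      intro h0
      exact inc_ne_zero_of_isGen I hτ inferInstance
        (germ_injective_of_isIntegral X _ hηV (h0.trans (map_zero _).symm))
    have hfg : f = X.presheaf.germ (V₀ ⊓ V) (genericPoint X) hηP g * f₀ := by
      have h3 := congrArg
        (fun m => X.presheaf.germ (V₀ ⊓ V) (genericPoint X) hηP (inc I (V₀ ⊓ V) m)) hg'
      simp only [] at h3
      rw [inc_smul, inc_res, inc_res, map_mul, TopCat.Presheaf.germ_res_apply,
        TopCat.Presheaf.germ_res_apply] at h3
      rw [hf, hf₀]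
      exact h3
    have hgne : (X.presheaf.germ (V₀ ⊓ V) (genericPoint X) hηP g : X.functionField) ≠ 0 := by
      intro h0
      rw [hfg, h0, zero_mul] at hfne
      exact hfne rfl
    have h1 := Groth.Agent.S16092.secOrdAt_rebase (isGen_bidual hτ) g hβrel hη hxV hηV hηV₀ hηP
      ((X.presheaf.germ (V₀ ⊓ V) (genericPoint X) hηP g : X.functionField)⁻¹)
      (mul_inv_cancel₀ hgne) s (f₀⁻¹ : X.functionField) hs
    rw [h1]
    have h2 : (f₀⁻¹ : X.functionField) *
        (X.presheaf.germ (V₀ ⊓ V) (genericPoint X) hηP g : X.functionField)⁻¹ = f⁻¹ := by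
      rw [hfg, mul_inv_rev]
    rw [h2, ordAt_residue_eq_ord x hx1 hη f⁻¹ (inv_ne_zero hfne), ord_inv' hfne, hf,
      hord x hx1 hτ hxV hηV]

/-- On a locally factorial scheme: every effective divisor `E` is minus the divisor of a rational
section of an invertible module. -/
theorem exists_invertible_of_eff (hX : Pi1.IsNormalScheme X)
    (hUF : ∀ x : X, UniqueFactorizationMonoid (X.presheaf.stalk x)) {E : X → ℕ}
    (hfin : LocFin E) (hE1 : ∀ x : X, Order.coheight x ≠ 1 → E x = 0) :
    ∃ (G : X.Modules) (_ : RefHull.IsRef1 G) (_ : PicF.IsInvertible G)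
      (s : Cyc.secFibre G (genericPoint X)), s ≠ 0 ∧
      ∀ x : X, Order.coheight x = 1 →
        Cyc.secOrdAt G (genericPoint X) x
          ((genericPoint_spec X).specializes (Set.mem_univ x)) s = -(E x : ℤ) := by
  obtain ⟨hG, s, hs, hord⟩ := ref1_ddual_of_gens (wJ E hfin) E (exists_isGen_wJ hX hfin hE1)
    (fun z hz1 V τ hτ hzV hηV => ord_gen hX hfin hE1 z hz1 hτ hzV hηV)
  refine ⟨_, hG, ?_, s, hs, hord⟩
  refine Groth.Agent.H18.TensorGen.isInvertible_of_isGen _ (fun x => ?_)
  obtain ⟨V, τ, hxV, hτ⟩ := exists_isGen_wJ_of_ufm hX hUF hfin hE1 x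
  exact ⟨V, _, hxV, isGen_bidual hτ⟩

end Groth.Agent.H95.WeilFactorial
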