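import Groth.Agent.H95.RefGroup
import Groth.Agent.H95.CDivPrime
import Groth.Agent.S8914
import Groth.Agent.S2876
import Groth.Agent.H8.StalkExact
import Groth.Agent.H8.AssPoints2

/-!
# The divisorial ideal sheaf of an effective Weil divisor and its reflexive hull

For a locally finite function `E : X → ℕ` on the points of a scheme, `wJ E` is the quasi-coherent
ideal sheaf of sections whose germ at `z` lies in `𝔪_z ^ E z`.  On an integral normal locally
Noetherian scheme (with `E` supported in codimension one) the reflexive hull of `wJ E` is a rank one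
coherent reflexive module with a rational section whose divisor is `-E`.  Also: the divisor of a
rational section of a rank one reflexive module has locally finite support.
-/

set_option autoImplicit false
set_option linter.style.haveILetI false

universe u

open CategoryTheory CategoryTheory.Limits AlgebraicGeometry TopologicalSpace Opposite IsLocalRing

namespace Groth.Agent.H95.WeilSheaf

open Groth.Agent.H18.TensorGen (IsGen)
open Groth.Agent.H95.SecOrd
open Groth.Agent.H95.RefGen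
open Groth.Agent.H95.RefIso
open Groth.Agent.H95.RefGroup
open Groth.Agent.H17.ReflSheaf (isCoh_dual isCoh_ddual)

variable {X : Scheme.{u}}

/-! ### The ideals -/

/-- Sections whose germ at every point `z` of `U` lies in `𝔪_z ^ E z`. -/
noncomputable def wIdeal (E : X → ℕ) (U : X.Opens) : Ideal Γ(X, U) :=
  ⨅ z : U, Ideal.comap (X.presheaf.germ U z.1 z.2).hom
    (maximalIdeal (X.presheaf.stalk z.1) ^ E z.1)

lemma mem_wIdeal {E : X → ℕ} {U : X.Opens} {a : Γ(X, U)} :
    a ∈ wIdeal E U ↔ ∀ (z : X) (hz : z ∈ U),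
      X.presheaf.germ U z hz a ∈ maximalIdeal (X.presheaf.stalk z) ^ E z := by
  unfold wIdeal
  rw [Ideal.mem_iInf]
  constructor
  · intro h z hz
    exact Ideal.mem_comap.mp (h ⟨z, hz⟩)
  · intro h z
    exact Ideal.mem_comap.mpr (h z.1 z.2)

/-- Local finiteness of the support of `E`. -/
def LocFin (E : X → ℕ) : Prop :=
  ∀ x : X, ∃ W : X.Opens, x ∈ W ∧ {z : X | z ∈ W ∧ E z ≠ 0}.Finite

lemma finite_of_isCompact {E : X → ℕ} (hfin : LocFin E) (U : X.Opens)
    (hU : IsCompact (U : Set X)) : {z : X | z ∈ U ∧ E z ≠ 0}.Finite := by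
  choose W hxW hWf using hfin
  obtain ⟨t, ht⟩ := hU.elim_finite_subcover (fun x : X => ((W x : X.Opens) : Set X))
    (fun x => (W x).2) (fun x _ => Set.mem_iUnion.mpr ⟨x, hxW x⟩)
  refine (Set.Finite.biUnion t.finite_toSet (fun x _ => hWf x)).subset ?_
  rintro z ⟨hzU, hz⟩
  obtain ⟨x, hxt, hzx⟩ := Set.mem_iUnion₂.mp (ht hzU)
  exact Set.mem_biUnion (Finset.mem_coe.mpr hxt) ⟨hzx, hz⟩

/-- The ideal sheaf of sections with germ in `𝔪_z ^ E z` at every point `z`. -/
noncomputable def wJ (E : X → ℕ) (hfin : LocFin E) : X.IdealSheafData where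
  ideal U := wIdeal E U.1
  map_ideal_basicOpen U f := by
    apply le_antisymm
    · rw [Ideal.map_le_iff_le_comap]
      intro a ha
      rw [Ideal.mem_comap]
      show (X.presheaf.map (homOfLE (X.basicOpen_le f)).op).hom a ∈ wIdeal E (X.basicOpen f)
      rw [mem_wIdeal] at ha ⊢
      intro z hz
      have h1 : X.presheaf.germ (X.basicOpen f) z hz
          ((X.presheaf.map (homOfLE (X.basicOpen_le f)).op).hom a) =
          X.presheaf.germ U.1 z (X.basicOpen_le f hz) a :=
        TopCat.Presheaf.germ_res_apply X.presheaf (homOfLE (X.basicOpen_le f)) z hz a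
      rw [h1]
      exact ha z _
    · intro b hb
      have hb' : ∀ (z : X) (hz : z ∈ X.basicOpen f),
          X.presheaf.germ (X.basicOpen f) z hz b ∈ maximalIdeal (X.presheaf.stalk z) ^ E z :=
        mem_wIdeal.mp hb
      haveI := U.2.isLocalization_basicOpen f
      obtain ⟨⟨a', ⟨_, N, rfl⟩⟩, hab⟩ := IsLocalization.surj (Submonoid.powers f) b
      have hab' : b * (X.presheaf.map (homOfLE (X.basicOpen_le f)).op).hom (f ^ N) =
          (X.presheaf.map (homOfLE (X.basicOpen_le f)).op).hom a' := hab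
      classical
      obtain ⟨k, hkE⟩ : ∃ k : ℕ, ∀ z ∈ U.1, E z ≤ k := by
        refine ⟨(finite_of_isCompact hfin U.1 U.2.isCompact).toFinset.sup E, fun z hz => ?_⟩
        by_cases h0 : E z = 0
        · rw [h0]
          exact Nat.zero_le _
        · exact Finset.le_sup (f := E) ((Set.Finite.mem_toFinset _).mpr ⟨hz, h0⟩)
      have hmem : f ^ k * a' ∈ wIdeal E U.1 := by
        rw [mem_wIdeal]
        intro z hz
        rw [map_mul, map_pow]
        by_cases hzf : z ∈ X.basicOpen f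
        · apply Ideal.mul_mem_left
          have h2 : X.presheaf.germ U.1 z hz a' =
              X.presheaf.germ (X.basicOpen f) z hzf b *
                X.presheaf.germ (X.basicOpen f) z hzf
                  ((X.presheaf.map (homOfLE (X.basicOpen_le f)).op).hom (f ^ N)) := by
            rw [← map_mul, hab']
            exact (TopCat.Presheaf.germ_res_apply X.presheaf (homOfLE (X.basicOpen_le f))
              z hzf a').symm
          rw [h2]
          exact Ideal.mul_mem_right _ _ (hb' z hzf)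
        · apply Ideal.mul_mem_right
          have h3 : X.presheaf.germ U.1 z hz f ∈ maximalIdeal (X.presheaf.stalk z) := by
            rw [IsLocalRing.mem_maximalIdeal, mem_nonunits_iff]
            intro hu
            exact hzf ((Scheme.mem_basicOpen X f z hz).mpr hu)
          exact Ideal.pow_le_pow_right (hkE z hz) (Ideal.pow_mem_pow h3 k)
      have hfu : IsUnit ((X.presheaf.map (homOfLE (X.basicOpen_le f)).op).hom f) :=
        IsLocalization.Away.algebraMap_isUnit f
      have hu : IsUnit ((X.presheaf.map (homOfLE (X.basicOpen_le f)).op).hom (f ^ (N + k))) := by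
        rw [map_pow]
        exact hfu.pow _
      have hb2 : b * (X.presheaf.map (homOfLE (X.basicOpen_le f)).op).hom (f ^ (N + k)) =
          (X.presheaf.map (homOfLE (X.basicOpen_le f)).op).hom (f ^ k * a') := by
        rw [pow_add, map_mul, ← mul_assoc, hab', map_mul, mul_comm]
      obtain ⟨u, hu'⟩ := hu
      have hb3 : b = (X.presheaf.map (homOfLE (X.basicOpen_le f)).op).hom (f ^ k * a') *
          ↑u⁻¹ := by
        rw [Units.eq_mul_inv_iff_mul_eq, hu', hb2]
      rw [hb3]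
      exact Ideal.mul_mem_right _ _ (Ideal.mem_map_of_mem _ hmem)

lemma wJ_ideal (E : X → ℕ) (hfin : LocFin E) (U : X.affineOpens) :
    (wJ E hfin).ideal U = wIdeal E U.1 := rfl

/-! ### Sections of an ideal sheaf as ring sections -/

section Inc

variable (I : X.IdealSheafData)

/-- The inclusion of the sections of the ideal sheaf into the sections of the structure sheaf. -/
noncomputable def inc (V : X.Opens) (m : Γ(ClSub.idealMod I, V)) : Γ(X, V) :=
  (ClSub.idealModι I).app V m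

lemma inc_injective (V : X.Opens) : Function.Injective (inc I V) :=
  Groth.Agent.S8914.ι_injective I V

lemma inc_mem (U : X.affineOpens) (t : Γ(ClSub.idealMod I, U.1)) : inc I U.1 t ∈ I.ideal U :=
  Groth.Agent.S8914.ι_mem_ideal I U t

lemma exists_inc_eq (U : X.affineOpens) (a : Γ(X, U.1)) (ha : a ∈ I.ideal U) :
    ∃ t : Γ(ClSub.idealMod I, U.1), inc I U.1 t = a :=
  Groth.Agent.S8914.exists_of_mem_ideal I U a ha

lemma inc_smul (V : X.Opens) (r : Γ(X, V)) (t : Γ(ClSub.idealMod I, V)) :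
    inc I V (r • t) = r * inc I V t :=
  Groth.Agent.S8914.ι_smul I V r t

lemma inc_res {V W : X.Opens} (h : W ≤ V) (m : Γ(ClSub.idealMod I, V)) :
    inc I W ((ClSub.idealMod I).presheaf.map (homOfLE h).op m) =
      X.presheaf.map (homOfLE h).op (inc I V m) :=
  Groth.Agent.H8.app_res (ClSub.idealModι I) h m

lemma inc_zero (V : X.Opens) : inc I V 0 = 0 := by
  have h := inc_smul I V 0 0
  rw [zero_smul, zero_mul] at h
  exact h

theorem isCoh_idealMod [IsIntegral X] [IsLocallyNoetherian X] :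
    Coh.IsCoh (ClSub.idealMod I) := by
  haveI hq : (ClSub.idealMod I).IsQuasicoherent :=
    inferInstanceAs ((kernel (ClSub.toSubscheme I)).IsQuasicoherent)
  refine ⟨hq, ?_⟩
  apply Groth.Agent.H8.isFiniteType_of_forall_affine_finite
  intro U
  have hO := Groth.Agent.H8.isCoh_structureModule X
  haveI : IsNoetherianRing Γ(X, (U : X.Opens)) := IsLocallyNoetherian.component_noetherian U
  haveI : Module.Finite Γ(X, (U : X.Opens)) Γ(Coh.structureModule X, (U : X.Opens)) :=
    Groth.Agent.H8.finite_sections_of_isCoh (Coh.structureModule X) hO U.2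
  haveI : IsNoetherian Γ(X, (U : X.Opens)) Γ(Coh.structureModule X, (U : X.Opens)) :=
    isNoetherian_of_isNoetherianRing_of_finite _ _
  exact Module.Finite.of_injective
    (Groth.Agent.H8.appₗ (kernel.ι (ClSub.toSubscheme I)) (U : X.Opens))
    (Groth.Agent.H8.appₗ_injective_of_mono (kernel.ι (ClSub.toSubscheme I)) (U : X.Opens))

end Inc

/-! ### Local generators of the ideal sheaf in codimension at most one -/

section Gen

variable [IsIntegral X] [IsLocallyNoetherian X]

lemma inc_ne_zero_of_isGen (I : X.IdealSheafData) {V : X.Opens} {τ : Γ(ClSub.idealMod I, V)}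
    (hτ : IsGen (ClSub.idealMod I) V τ) (hne : Nonempty V) : inc I V τ ≠ 0 := by
  intro h0
  have hτ0 : τ = 0 := inc_injective I V (h0.trans (inc_zero I V).symm)
  have hb := (hτ V le_rfl).1
  have h1 : (1 : Γ(X, V)) = 0 := by
    apply hb
    show (1 : Γ(X, V)) • (ClSub.idealMod I).presheaf.map (homOfLE le_rfl).op τ =
      (0 : Γ(X, V)) • (ClSub.idealMod I).presheaf.map (homOfLE le_rfl).op τ
    rw [hτ0, map_zero, smul_zero, smul_zero]
  haveI : IsDomain Γ(X, V) := inferInstance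
  exact one_ne_zero h1

/-- A section of the ideal sheaf whose germ generates `𝔪_z ^ E z` generates the stalk freely. -/
theorem freeAt_of_span (I : X.IdealSheafData) {E : X → ℕ}
    (hI : ∀ U : X.affineOpens, I.ideal U ≤ wIdeal E U.1) {V : X.Opens} (z : X) (hz : z ∈ V)
    (σ : Γ(ClSub.idealMod I, V))
    (hne : X.presheaf.germ V z hz (inc I V σ) ≠ 0)
    (hspan : maximalIdeal (X.presheaf.stalk z) ^ E z =
      Ideal.span {X.presheaf.germ V z hz (inc I V σ)}) :
    FreeAt (ClSub.idealMod I) ((ClSub.idealMod I).presheaf.germ V z hz σ) := by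
  refine freeAt_of_forall ?_ ?_
  · intro c hc
    obtain ⟨W, hWV, hzW, c', hc'⟩ := X.presheaf.exists_le_germ_eq c hz
    have h1 : (ClSub.idealMod I).presheaf.germ W z hzW
        (c' • (ClSub.idealMod I).presheaf.map (homOfLE hWV).op σ) = 0 := by
      rw [Mero.germ_smul, hc', Groth.Agent.H8.germ_res]
      exact hc
    obtain ⟨W', hW'W, hzW', h2⟩ :=
      Groth.Agent.H8.exists_res_eq_zero_of_germ_eq_zero z (ClSub.idealMod I) hzW _ h1
    have h3 : inc I W' ((ClSub.idealMod I).presheaf.map (homOfLE hW'W).op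
        (c' • (ClSub.idealMod I).presheaf.map (homOfLE hWV).op σ)) = 0 := by
      rw [h2]
      exact inc_zero I W'
    rw [inc_res, inc_smul, inc_res] at h3
    have h4 := congrArg (X.presheaf.germ W' z hzW') h3
    rw [TopCat.Presheaf.germ_res_apply, map_mul, TopCat.Presheaf.germ_res_apply, map_zero,
      hc'] at h4
    rcases mul_eq_zero.mp h4 with h5 | h5
    · exact h5
    · exact absurd h5 hne
  · intro m
    obtain ⟨U', hU'V, hzU', m', hm'⟩ := (ClSub.idealMod I).presheaf.exists_le_germ_eq m hz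
    obtain ⟨W, hW0, hzW, hWU'⟩ := Opens.isBasis_iff_nbhd.mp X.isBasis_affineOpens hzU'
    have hW : IsAffineOpen W := hW0
    obtain ⟨mW, hmW⟩ : ∃ mW : Γ(ClSub.idealMod I, W),
        mW = (ClSub.idealMod I).presheaf.map (homOfLE hWU').op m' := ⟨_, rfl⟩
    have hgm : (ClSub.idealMod I).presheaf.germ W z hzW mW = m := by
      rw [hmW, Groth.Agent.H8.germ_res]
      exact hm'
    have hmem : inc I W mW ∈ wIdeal E W := hI ⟨W, hW⟩ (inc_mem I ⟨W, hW⟩ mW)
    have h1 := mem_wIdeal.mp hmem z hzW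
    rw [hspan, Ideal.mem_span_singleton'] at h1
    obtain ⟨c, hc⟩ := h1
    refine ⟨c, ?_⟩
    obtain ⟨W', hW'W, hzW', c', hc'⟩ := X.presheaf.exists_le_germ_eq c hzW
    have hWV : W ≤ V := hWU'.trans hU'V
    have h2 : inc I W' (c' • (ClSub.idealMod I).presheaf.map (homOfLE (hW'W.trans hWV)).op σ) =
        inc I W' ((ClSub.idealMod I).presheaf.map (homOfLE hW'W).op mW) := by
      apply germ_injective_of_isIntegral X z hzW'
      rw [inc_smul, inc_res, inc_res, map_mul, TopCat.Presheaf.germ_res_apply,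
        TopCat.Presheaf.germ_res_apply, hc', hc]
    have h3 := inc_injective I W' h2
    have h4 := congrArg ((ClSub.idealMod I).presheaf.germ W' z hzW') h3
    rw [Mero.germ_smul, hc', Groth.Agent.H8.germ_res, Groth.Agent.H8.germ_res, hgm] at h4
    exact h4

/-- A neighbourhood of a point of codimension at most one meeting the support of `E` at most in
that point. -/
theorem exists_clean {E : X → ℕ} (hfin : LocFin E)
    (hE1 : ∀ x : X, Order.coheight x ≠ 1 → E x = 0) (z : X) (hz1 : Order.coheight z ≤ 1) :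
    ∃ V : X.Opens, z ∈ V ∧ ∀ z' ∈ V, z' ≠ z → E z' = 0 := by
  obtain ⟨W, hzW, hWf⟩ := hfin z
  obtain ⟨S, hS⟩ : ∃ S : Set X, S = {z' : X | (z' ∈ W ∧ E z' ≠ 0) ∧ z' ≠ z} := ⟨_, rfl⟩
  have hSf : S.Finite := by
    rw [hS]
    exact hWf.subset (fun z' h => h.1)
  have hcl : IsClosed (⋃ z' ∈ S, closure ({z'} : Set X)) :=
    hSf.isClosed_biUnion (fun z' _ => isClosed_closure)
  have hznot : z ∉ ⋃ z' ∈ S, closure ({z'} : Set X) := by
    intro hmem
    obtain ⟨z', hz'S, hzcl⟩ := Set.mem_iUnion₂.mp hmem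
    rw [hS] at hz'S
    have hs : z' ⤳ z := specializes_iff_mem_closure.mpr hzcl
    have hc1 : Order.coheight z' = 1 := by
      by_contra hne
      exact hz'S.1.2 (hE1 z' hne)
    have hle : z ≤ z' := hs
    have hlt : z < z' :=
      lt_of_le_not_ge hle (fun hge => hz'S.2 (Specializes.antisymm hge hs).eq.symm)
    have h1 := Order.coheight_add_one_le hlt
    rw [hc1] at h1
    have h2 : (1 + 1 : ℕ∞) ≤ 1 := h1.trans hz1
    have h3 : (1 + 1 : ℕ) ≤ 1 := by exact_mod_cast h2
    omega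
  refine ⟨W ⊓ ⟨(⋃ z' ∈ S, closure ({z'} : Set X))ᶜ, hcl.isOpen_compl⟩, ⟨hzW, hznot⟩, ?_⟩
  rintro z' ⟨hz'W, hz'not⟩ hne
  by_contra hE
  refine hz'not (Set.mem_biUnion (show z' ∈ S from ?_) (subset_closure rfl))
  rw [hS]
  exact ⟨⟨hz'W, hE⟩, hne⟩

theorem exists_affine_lift (z : X) {V : X.Opens} (hzV : z ∈ V) (ϖ : X.presheaf.stalk z) :
    ∃ (V₁ : X.Opens) (_ : IsAffineOpen V₁) (_ : V₁ ≤ V) (hz : z ∈ V₁) (t : Γ(X, V₁)),
      X.presheaf.germ V₁ z hz t = ϖ := by
  obtain ⟨U', hU'V, hzU', t', ht'⟩ := X.presheaf.exists_le_germ_eq ϖ hzV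
  obtain ⟨W, hW0, hzW, hWU'⟩ := Opens.isBasis_iff_nbhd.mp X.isBasis_affineOpens hzU'
  refine ⟨W, hW0, hWU'.trans hU'V, hzW, X.presheaf.map (homOfLE hWU').op t', ?_⟩
  rw [TopCat.Presheaf.germ_res_apply]
  exact ht'

lemma pow_mem_wIdeal {E : X → ℕ} (z : X) {V₁ : X.Opens} (hz : z ∈ V₁)
    (hclean : ∀ z' ∈ V₁, z' ≠ z → E z' = 0) (t : Γ(X, V₁))
    (ht : X.presheaf.germ V₁ z hz t ∈ maximalIdeal (X.presheaf.stalk z) ∨ E z = 0) :
    t ^ E z ∈ wIdeal E V₁ := by
  rw [mem_wIdeal]
  intro z' hz'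
  by_cases hzz : z' = z
  · subst hzz
    rw [map_pow]
    rcases ht with h | h
    · exact Ideal.pow_mem_pow h _
    · rw [h, pow_zero, pow_zero, Ideal.one_eq_top]
      exact Submodule.mem_top
  · rw [hclean z' hz' hzz, pow_zero, Ideal.one_eq_top]
    exact Submodule.mem_top

end Gen

/-! ### Generators near points of codimension at most one, and their orders -/

section Main

variable [IsIntegral X] [IsLocallyNoetherian X]

theorem exists_isGen_wJ (hX : Pi1.IsNormalScheme X) {E : X → ℕ} (hfin : LocFin E)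
    (hE1 : ∀ x : X, Order.coheight x ≠ 1 → E x = 0) (z : X) (hz1 : Order.coheight z ≤ 1) :
    ∃ (V : X.Opens) (τ : Γ(ClSub.idealMod (wJ E hfin), V)),
      z ∈ V ∧ IsGen (ClSub.idealMod (wJ E hfin)) V τ := by
  obtain ⟨Vc, hzVc, hclean⟩ := exists_clean hfin hE1 z hz1
  obtain ⟨ϖ, hϖm, hϖspan, hϖne⟩ : ∃ ϖ : X.presheaf.stalk z,
      (ϖ ∈ maximalIdeal (X.presheaf.stalk z) ∨ E z = 0) ∧
      maximalIdeal (X.presheaf.stalk z) ^ E z = Ideal.span {ϖ ^ E z} ∧ ϖ ^ E z ≠ 0 := by
    by_cases h1 : Order.coheight z = 1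
    · haveI := Groth.Agent.S2876.isDVR_of_coheight_one hX z h1
      obtain ⟨ϖ, hϖ⟩ := IsDiscreteValuationRing.exists_irreducible (X.presheaf.stalk z)
      have hm : maximalIdeal (X.presheaf.stalk z) = Ideal.span {ϖ} :=
        (IsDiscreteValuationRing.irreducible_iff_uniformizer ϖ).mp hϖ
      refine ⟨ϖ, Or.inl ?_, ?_, pow_ne_zero _ hϖ.ne_zero⟩
      · rw [hm]
        exact Ideal.mem_span_singleton_self ϖ
      · rw [hm, Ideal.span_singleton_pow]
    · have h0 : E z = 0 := hE1 z h1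
      refine ⟨1, Or.inr h0, ?_, ?_⟩
      · rw [h0, pow_zero, pow_zero, Ideal.one_eq_top, Ideal.span_singleton_one]
      · rw [h0, pow_zero]
        exact one_ne_zero
  obtain ⟨V₁, hV₁, hV₁c, hzV₁, t, ht⟩ := exists_affine_lift z hzVc ϖ
  have ha : t ^ E z ∈ wIdeal E V₁ :=
    pow_mem_wIdeal z hzV₁ (fun z' hz' => hclean z' (hV₁c hz')) t (by rw [ht]; exact hϖm)
  obtain ⟨σ, hσ⟩ := exists_inc_eq (wJ E hfin) ⟨V₁, hV₁⟩ (t ^ E z) ha
  have hgerm : X.presheaf.germ V₁ z hzV₁ (inc (wJ E hfin) V₁ σ) = ϖ ^ E z := by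
    rw [hσ, map_pow, ht]
  have hfree : FreeAt (ClSub.idealMod (wJ E hfin))
      ((ClSub.idealMod (wJ E hfin)).presheaf.germ V₁ z hzV₁ σ) :=
    freeAt_of_span (wJ E hfin) (fun U => le_of_eq rfl) z hzV₁ σ
      (by rw [hgerm]; exact hϖne) (by rw [hgerm]; exact hϖspan)
  obtain ⟨V, τ, hzV, hfr⟩ := exists_nbhd_freeAt (ClSub.idealMod (wJ E hfin))
    (isCoh_idealMod (wJ E hfin)) z _ hfree
  exact ⟨V, τ, hzV, isGen_of_forall_freeAt τ hfr⟩

lemma ord_pow' {f : X.functionField} (hf : f ≠ 0) (x : X) (n : ℕ) :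
    Scheme.ord (f ^ n) x = n * Scheme.ord f x := by
  induction n with
  | zero => rw [pow_zero, ord_one', Nat.cast_zero, zero_mul]
  | succ k ih =>
    rw [pow_succ, Scheme.ord_mul (pow_ne_zero k hf) hf, ih]
    push_cast
    ring

/-- The order at a point `z` of codimension one of the function defined by a generator of the
ideal sheaf near `z` is `E z`. -/
theorem ord_gen (hX : Pi1.IsNormalScheme X) {E : X → ℕ} (hfin : LocFin E)
    (hE1 : ∀ x : X, Order.coheight x ≠ 1 → E x = 0) (z : X) (hz1 : Order.coheight z = 1)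
    {V : X.Opens} {τ : Γ(ClSub.idealMod (wJ E hfin), V)}
    (hτ : IsGen (ClSub.idealMod (wJ E hfin)) V τ) (hzV : z ∈ V) (hηV : genericPoint X ∈ V) :
    Scheme.ord (X.presheaf.germ V (genericPoint X) hηV (inc (wJ E hfin) V τ) : X.functionField) z =
      (E z : ℤ) := by
  haveI := Groth.Agent.S2876.isDVR_of_coheight_one hX z hz1
  obtain ⟨ϖ, hϖ⟩ := IsDiscreteValuationRing.exists_irreducible (X.presheaf.stalk z)
  have hm : maximalIdeal (X.presheaf.stalk z) = Ideal.span {ϖ} :=
    (IsDiscreteValuationRing.irreducible_iff_uniformizer ϖ).mp hϖ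
  obtain ⟨Vc, hzVc, hclean⟩ := exists_clean hfin hE1 z hz1.le
  obtain ⟨V₁, hV₁, hV₁c, hzV₁, t, ht⟩ := exists_affine_lift z hzVc ϖ
  have hϖmem : ϖ ∈ maximalIdeal (X.presheaf.stalk z) := by
    rw [hm]
    exact Ideal.mem_span_singleton_self ϖ
  have ha : t ^ E z ∈ wIdeal E V₁ :=
    pow_mem_wIdeal z hzV₁ (fun z' hz' => hclean z' (hV₁c hz')) t (by rw [ht]; exact Or.inl hϖmem)
  obtain ⟨σ, hσ⟩ := exists_inc_eq (wJ E hfin) ⟨V₁, hV₁⟩ (t ^ E z) ha
  obtain ⟨W, hW0, hzW, hWV⟩ := Opens.isBasis_iff_nbhd.mp X.isBasis_affineOpens hzV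
  have hgz : X.presheaf.germ V z hzV (inc (wJ E hfin) V τ) ∈
      maximalIdeal (X.presheaf.stalk z) ^ E z := by
    have h1 : inc (wJ E hfin) W ((ClSub.idealMod (wJ E hfin)).presheaf.map (homOfLE hWV).op τ) ∈
        wIdeal E W := inc_mem (wJ E hfin) ⟨W, hW0⟩ _
    have h2 := mem_wIdeal.mp h1 z hzW
    rwa [inc_res, TopCat.Presheaf.germ_res_apply] at h2
  rw [hm, Ideal.span_singleton_pow, Ideal.mem_span_singleton'] at hgz
  obtain ⟨r', hr'⟩ := hgz
  obtain ⟨r, hr⟩ := (hτ (V₁ ⊓ V) inf_le_right).2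
    ((ClSub.idealMod (wJ E hfin)).presheaf.map (homOfLE (inf_le_left : V₁ ⊓ V ≤ V₁)).op σ)
  have hzP : z ∈ V₁ ⊓ V := ⟨hzV₁, hzV⟩
  have h3 : X.presheaf.germ (V₁ ⊓ V) z hzP (inc (wJ E hfin) (V₁ ⊓ V)
      (r • (ClSub.idealMod (wJ E hfin)).presheaf.map (homOfLE (inf_le_right : V₁ ⊓ V ≤ V)).op τ)) =
      X.presheaf.germ (V₁ ⊓ V) z hzP (inc (wJ E hfin) (V₁ ⊓ V)
        ((ClSub.idealMod (wJ E hfin)).presheaf.map (homOfLE (inf_le_left : V₁ ⊓ V ≤ V₁)).op σ)) :=
    congrArg (fun m => X.presheaf.germ (V₁ ⊓ V) z hzP (inc (wJ E hfin) (V₁ ⊓ V) m)) hr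
  rw [inc_smul, inc_res, inc_res, map_mul, TopCat.Presheaf.germ_res_apply,
    TopCat.Presheaf.germ_res_apply, hσ, map_pow, ht, ← hr'] at h3
  have h4 : (X.presheaf.germ (V₁ ⊓ V) z hzP r * r' - 1) * ϖ ^ E z = 0 := by
    rw [sub_mul, one_mul, mul_assoc, h3, sub_self]
  have h5 : X.presheaf.germ (V₁ ⊓ V) z hzP r * r' = 1 := by
    rcases mul_eq_zero.mp h4 with h | h
    · exact sub_eq_zero.mp h
    · exact absurd h (pow_ne_zero _ hϖ.ne_zero)
  have hr'u : IsUnit r' := IsUnit.of_mul_eq_one_right _ h5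
  haveI : Nonempty V := ⟨⟨z, hzV⟩⟩
  have h6 : (X.presheaf.germ V (genericPoint X) hηV (inc (wJ E hfin) V τ) : X.functionField) =
      algebraMap (X.presheaf.stalk z) X.functionField (r' * ϖ ^ E z) := by
    rw [hr']
    exact (Scheme.algebraMap_germ_eq_germToFunctionField X hzV _).symm
  have hinj := IsFractionRing.injective (X.presheaf.stalk z) X.functionField
  have hϖne : algebraMap (X.presheaf.stalk z) X.functionField ϖ ≠ 0 := by
    intro h0
    exact hϖ.ne_zero (hinj (by rw [h0, map_zero]))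
  have hr'ne : algebraMap (X.presheaf.stalk z) X.functionField r' ≠ 0 := by
    intro h0
    exact hr'u.ne_zero (hinj (by rw [h0, map_zero]))
  have hord_r' : Scheme.ord (algebraMap (X.presheaf.stalk z) X.functionField r') z = 0 := by
    have h := Groth.Agent.H95.CDivPrime.ord_algebraMap_unit hX z hz1 hr'u.unit
    rwa [IsUnit.unit_spec] at h
  have hord_ϖ : Scheme.ord (algebraMap (X.presheaf.stalk z) X.functionField ϖ) z = 1 := by
    rw [Scheme.ord_eq_iff hz1 hϖne]
    exact Ring.ordFrac_irreducible hϖ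
  rw [h6, map_mul, map_pow, Scheme.ord_mul hr'ne (pow_ne_zero _ hϖne), ord_pow' hϖne, hord_r',
    hord_ϖ]
  ring

/-- The reflexive hull of the ideal sheaf of `E` is a rank one reflexive module with a rational
section of divisor `-E`. -/
theorem exists_ref1_of_eff (hX : Pi1.IsNormalScheme X) {E : X → ℕ} (hfin : LocFin E)
    (hE1 : ∀ x : X, Order.coheight x ≠ 1 → E x = 0) :
    ∃ (G : X.Modules) (_ : RefHull.IsRef1 G) (s : Cyc.secFibre G (genericPoint X)), s ≠ 0 ∧
      ∀ x : X, Order.coheight x = 1 →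
        Cyc.secOrdAt G (genericPoint X) x
          ((genericPoint_spec X).specializes (Set.mem_univ x)) s = -(E x : ℤ) := by
  obtain ⟨I, hI⟩ : ∃ I : X.IdealSheafData, I = wJ E hfin := ⟨_, rfl⟩
  have hM : Coh.IsCoh (ClSub.idealMod I) := isCoh_idealMod I
  have hη0 : Order.coheight (genericPoint X) ≤ 1 := by
    have h0 : Order.coheight (genericPoint X) = 0 := by
      rw [Order.coheight_eq_zero]
      intro y hy
      exact (genericPoint_spec X).specializes (Set.mem_univ y)
    rw [h0]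
    exact zero_le_one
  have hgen : ∀ z : X, Order.coheight z ≤ 1 →
      ∃ (V : X.Opens) (τ : Γ(ClSub.idealMod I, V)), z ∈ V ∧ IsGen (ClSub.idealMod I) V τ := by
    rw [hI]
    exact exists_isGen_wJ hX hfin hE1
  have hord : ∀ (z : X), Order.coheight z = 1 → ∀ {V : X.Opens} {τ : Γ(ClSub.idealMod I, V)},
      IsGen (ClSub.idealMod I) V τ → z ∈ V → ∀ hηV : genericPoint X ∈ V,
      Scheme.ord (X.presheaf.germ V (genericPoint X) hηV (inc I V τ) : X.functionField) z =
        (E z : ℤ) := by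
    rw [hI]
    intro z hz1 V τ hτ hzV hηV
    exact ord_gen hX hfin hE1 z hz1 hτ hzV hηV
  obtain ⟨V₀, τ₀, hηV₀, hτ₀⟩ := hgen (genericPoint X) hη0
  have hβ₀ := isGen_bidual hτ₀
  have hG : RefHull.IsRef1 (RefHull.ddual (ClSub.idealMod I)) :=
    ⟨isCoh_ddual _ hM, Groth.Agent.H17.ReflNormal.isReflexive_dual _ (isCoh_dual _ hM),
      genInvertible_of_isGen hβ₀ hηV₀⟩
  haveI : Nonempty V₀ := ⟨⟨genericPoint X, hηV₀⟩⟩
  obtain ⟨f₀, hf₀⟩ : ∃ f₀ : X.functionField,
      f₀ = X.presheaf.germ V₀ (genericPoint X) hηV₀ (inc I V₀ τ₀) := ⟨_, rfl⟩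
  have hf₀ne : f₀ ≠ 0 := by
    rw [hf₀]
    intro h0
    exact inc_ne_zero_of_isGen I hτ₀ inferInstance
      (germ_injective_of_isIntegral X _ hηV₀ (h0.trans (map_zero _).symm))
  obtain ⟨s, hs⟩ : ∃ s : Cyc.secFibre (RefHull.ddual (ClSub.idealMod I)) (genericPoint X),
      s = (f₀⁻¹ : X.functionField) • (Submodule.Quotient.mk
        ((RefHull.ddual (ClSub.idealMod I)).presheaf.germ V₀ (genericPoint X) hηV₀
          ((RefHull.bidualMap (ClSub.idealMod I)).app V₀ τ₀)) :
        Cyc.secFibre (RefHull.ddual (ClSub.idealMod I)) (genericPoint X)) := ⟨_, rfl⟩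
  refine ⟨RefHull.ddual (ClSub.idealMod I), hG, s, ?_, ?_⟩
  · intro h0
    rw [hs] at h0
    have hm := mem_maximalIdeal_of_smul_mk_eq_zero hβ₀ (genericPoint X) hηV₀ _ h0
    exact (IsLocalRing.mem_maximalIdeal _).mp hm (isUnit_iff_ne_zero.mpr (inv_ne_zero hf₀ne))
  · intro x hx1
    have hη : genericPoint X ⤳ x := (genericPoint_spec X).specializes (Set.mem_univ x)
    obtain ⟨V, τ, hxV, hτ⟩ := hgen x hx1.le
    have hηV : genericPoint X ∈ V := hη.mem_open V.2 hxV
    have hηP : genericPoint X ∈ V₀ ⊓ V := ⟨hηV₀, hηV⟩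
    obtain ⟨g, hg⟩ := (hτ₀ (V₀ ⊓ V) inf_le_left).2
      ((ClSub.idealMod I).presheaf.map (homOfLE (inf_le_right : V₀ ⊓ V ≤ V)).op τ)
    have hg' : (ClSub.idealMod I).presheaf.map (homOfLE (inf_le_right : V₀ ⊓ V ≤ V)).op τ =
        g • (ClSub.idealMod I).presheaf.map (homOfLE (inf_le_left : V₀ ⊓ V ≤ V₀)).op τ₀ := hg.symm
    have hβrel := bidual_res_smul (ClSub.idealMod I) τ₀ τ g hg'
    haveI : Nonempty V := ⟨⟨x, hxV⟩⟩
    obtain ⟨f, hf⟩ : ∃ f : X.functionField,
        f = X.presheaf.germ V (genericPoint X) hηV (inc I V τ) := ⟨_, rfl⟩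
    have hfne : f ≠ 0 := by
      rw [hf]
      intro h0
      exact inc_ne_zero_of_isGen I hτ inferInstance
        (germ_injective_of_isIntegral X _ hηV (h0.trans (map_zero _).symm))
    have hfg : f = X.presheaf.germ (V₀ ⊓ V) (genericPoint X) hηP g * f₀ := by
      have h3 := congrArg
        (fun m => X.presheaf.germ (V₀ ⊓ V) (genericPoint X) hηP (inc I (V₀ ⊓ V) m)) hg'
      simp only [] at h3
      rw [inc_smul, inc_res, inc_res, map_mul, TopCat.Presheaf.germ_res_apply,
        TopCat.Presheaf.germ_res_apply] at h3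
      rw [hf, hf₀]
      exact h3
    have hgne : (X.presheaf.germ (V₀ ⊓ V) (genericPoint X) hηP g : X.functionField) ≠ 0 := by
      intro h0
      rw [hfg, h0, zero_mul] at hfne
      exact hfne rfl
    have h1 := Groth.Agent.S16092.secOrdAt_rebase (isGen_bidual hτ) g hβrel hη hxV hηV hηV₀ hηP
      ((X.presheaf.germ (V₀ ⊓ V) (genericPoint X) hηP g : X.functionField)⁻¹)
      (mul_inv_cancel₀ hgne) s (f₀⁻¹ : X.functionField) hs
    rw [h1]
    have h2 : (f₀⁻¹ : X.functionField) *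
        (X.presheaf.germ (V₀ ⊓ V) (genericPoint X) hηP g : X.functionField)⁻¹ = f⁻¹ := by
      rw [hfg, mul_inv_rev]
    rw [h2, ordAt_residue_eq_ord x hx1 hη f⁻¹ (inv_ne_zero hfne), ord_inv' hfne, hf,
      hord x hx1 hτ hxV hηV]

/-- Local finiteness of a function dominated by an algebraic cycle. -/
lemma locFin_of_cycle (D : AlgebraicCycle X ℤ) (E : X → ℕ) (h : ∀ x, D x = 0 → E x = 0) :
    LocFin E := by
  intro x
  obtain ⟨t, ht, hfin⟩ := D.supportLocallyFiniteWithinDomain' x (Set.mem_univ x)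
  obtain ⟨W, hWt, hWo, hxW⟩ := mem_nhds_iff.mp ht
  refine ⟨⟨W, hWo⟩, hxW, hfin.subset ?_⟩
  rintro z ⟨hzW, hz⟩
  exact ⟨hWt hzW, fun h0 => hz (h z h0)⟩

end Main

/-! ### Local finiteness of the divisor of a rational section -/

section LocallyFinite

variable [IsIntegral X] [IsLocallyNoetherian X]

open Groth.Agent.H8 (pointOfPrime pointOfPrime_primeIdealOf pointOfPrime_congr
  mem_basicOpen_iff_notMem_primeIdealOf)

theorem secOrd_locallyFinite (hX : Pi1.IsNormalScheme X) (F : X.Modules) (hF : RefHull.IsRef1 F)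
    (s : Cyc.secFibre F (genericPoint X)) (hs : s ≠ 0) (p : X) :
    ∃ t ∈ nhds p, Set.Finite (t ∩ {x : X | Order.coheight x = 1 ∧
      Cyc.secOrdAt F (genericPoint X) x
        ((genericPoint_spec X).specializes (Set.mem_univ x)) s ≠ 0}) := by
  have hη : ∀ x : X, genericPoint X ⤳ x :=
    fun x => (genericPoint_spec X).specializes (Set.mem_univ x)
  obtain ⟨V₀, τ₀, hηV₀, hτ₀⟩ :=
    exists_isGen_of_dim_lt_two hX F hF (genericPoint X) dim_generic_lt_two
  obtain ⟨U, hU0, hpU, -⟩ :=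
    Opens.isBasis_iff_nbhd.mp X.isBasis_affineOpens (Opens.mem_top p)
  have hU : IsAffineOpen U := hU0
  have hηU : genericPoint X ∈ U := (hη p).mem_open U.2 hpU
  obtain ⟨c, hcV, hηc⟩ := hU.exists_basicOpen_le (V := V₀) ⟨genericPoint X, hηV₀⟩ hηU
  obtain ⟨τ, hτdef⟩ : ∃ τ : Γ(F, X.basicOpen c), τ = F.presheaf.map (homOfLE hcV).op τ₀ :=
    ⟨_, rfl⟩
  have hτ : IsGen F (X.basicOpen c) τ := by
    rw [hτdef]
    exact hτ₀.res hcV
  obtain ⟨ψ, hsψ⟩ := exists_eq_smul_mk hτ (genericPoint X) hηc s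
  have hψu : IsUnit ψ := isUnit_of_mk_ne_zero (genericPoint X) hηc s hs ψ hsψ
  haveI : IsNoetherianRing Γ(X, U) := IsLocallyNoetherian.component_noetherian ⟨U, hU⟩
  haveI : Nonempty U := ⟨⟨p, hpU⟩⟩
  haveI : IsDomain Γ(X, U) := inferInstance
  obtain ⟨a, b, hbu, hab⟩ : ∃ (a b : Γ(X, U)),
      IsUnit (X.presheaf.germ U (genericPoint X) hηU b) ∧
      ψ * X.presheaf.germ U (genericPoint X) hηU b =
        X.presheaf.germ U (genericPoint X) hηU a := by
    letI := X.presheaf.algebra_section_stalk ⟨genericPoint X, hηU⟩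
    haveI := hU.isLocalization_stalk ⟨genericPoint X, hηU⟩
    obtain ⟨⟨a, b⟩, hab⟩ :=
      IsLocalization.surj (hU.primeIdealOf ⟨genericPoint X, hηU⟩).asIdeal.primeCompl ψ
    exact ⟨a, b.1, IsLocalization.map_units (X.presheaf.stalk (genericPoint X)) b, hab⟩
  have hau : IsUnit (X.presheaf.germ U (genericPoint X) hηU a) := by
    rw [← hab]
    exact hψu.mul hbu
  have ha0 : a ≠ 0 := by
    intro h0
    rw [h0, map_zero] at hau
    exact not_isUnit_zero hau
  have hb0 : b ≠ 0 := by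
    intro h0
    rw [h0, map_zero] at hbu
    exact not_isUnit_zero hbu
  have hc0 : c ≠ 0 := by
    intro h0
    have h1 := (Scheme.mem_basicOpen X c (genericPoint X) hηU).mp hηc
    rw [h0, map_zero] at h1
    exact not_isUnit_zero h1
  have habc0 : a * b * c ≠ 0 := mul_ne_zero (mul_ne_zero ha0 hb0) hc0
  have hzero : ∀ (x : X) (hxU : x ∈ U), x ∈ X.basicOpen c →
      IsUnit (X.presheaf.germ U x hxU a) →
      IsUnit (X.presheaf.germ U x hxU b) → Cyc.secOrdAt F (genericPoint X) x (hη x) s = 0 := by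
    intro x hxU hxc hxa hxb
    rw [secOrdAt_eq_of_isGen hτ (hη x) hxc hηc s ψ hsψ]
    have h1 : X.residue (genericPoint X) ψ *
        Cyc.specMap x (genericPoint X) (hη x) (X.presheaf.germ U x hxU b) =
        Cyc.specMap x (genericPoint X) (hη x) (X.presheaf.germ U x hxU a) := by
      rw [specMap_germ (hη x) hxU hηU b, specMap_germ (hη x) hxU hηU a, ← map_mul, hab]
    rw [← ordAt_mul_specMap_unit (hη x) (X.residue (genericPoint X) ψ) hxb, h1]
    exact ordAt_specMap_unit (hη x) hxa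
  have hmin : ∀ (x : X) (hxU : x ∈ U), Order.coheight x = 1 →
      Cyc.secOrdAt F (genericPoint X) x (hη x) s ≠ 0 →
      (hU.primeIdealOf ⟨x, hxU⟩).asIdeal ∈
        (Ideal.span {a * b * c} : Ideal Γ(X, U)).minimalPrimes := by
    intro x hxU hcx hord
    have hdim : ringKrullDim (X.presheaf.stalk x) = 1 := by
      rw [AlgebraicGeometry.ringKrullDim_stalk_eq_coheight, hcx]
      rfl
    have habP : a * b * c ∈ (hU.primeIdealOf ⟨x, hxU⟩).asIdeal := by
      by_contra hnot
      have hx_ab : x ∈ X.basicOpen (a * b * c) :=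
        (mem_basicOpen_iff_notMem_primeIdealOf hU x hxU (a * b * c)).mpr
          (Ideal.mem_primeCompl_iff.mpr hnot)
      have hu : IsUnit (X.presheaf.germ U x hxU (a * b * c)) :=
        (Scheme.mem_basicOpen X _ x hxU).mp hx_ab
      rw [map_mul, map_mul] at hu
      have hu1 := (IsUnit.mul_iff.mp hu).1
      have hu2 := (IsUnit.mul_iff.mp hu).2
      exact hord (hzero x hxU ((Scheme.mem_basicOpen X c x hxU).mpr hu2)
        (IsUnit.mul_iff.mp hu1).1 (IsUnit.mul_iff.mp hu1).2)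
    have hht : (hU.primeIdealOf ⟨x, hxU⟩).asIdeal.height = 1 := by
      letI := X.presheaf.algebra_section_stalk ⟨x, hxU⟩
      haveI := hU.isLocalization_stalk ⟨x, hxU⟩
      have hh := IsLocalization.AtPrime.ringKrullDim_eq_height
        (hU.primeIdealOf ⟨x, hxU⟩).asIdeal (X.presheaf.stalk x)
      rw [hdim] at hh
      exact WithBot.one_eq_coe.mp hh
    refine ⟨⟨inferInstance, Ideal.span_le.mpr (Set.singleton_subset_iff.mpr habP)⟩, ?_⟩
    rintro Q ⟨hQ, hIQ⟩ hQP
    by_contra hnle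
    have hlt : Q < (hU.primeIdealOf ⟨x, hxU⟩).asIdeal := lt_of_le_not_ge hQP hnle
    haveI := hQ
    have h1 : Q.height < (hU.primeIdealOf ⟨x, hxU⟩).asIdeal.height :=
      Ideal.height_strict_mono_of_isPrime_of_isPrime hlt
    rw [hht] at h1
    have h3 : Q = ⊥ := Ideal.height_eq_zero_iff_eq_bot.mp (ENat.lt_one_iff_eq_zero.mp h1)
    have h4 : a * b * c ∈ Q := hIQ (Ideal.subset_span (Set.mem_singleton _))
    rw [h3] at h4
    exact habc0 (Ideal.mem_bot.mp h4)
  refine ⟨(U : Set X), U.2.mem_nhds hpU, ?_⟩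
  classical
  obtain ⟨g, hg⟩ : ∃ g : X → Ideal Γ(X, U), ∀ (x : X) (h : x ∈ U),
      g x = (hU.primeIdealOf ⟨x, h⟩).asIdeal :=
    ⟨fun x => if h : x ∈ U then (hU.primeIdealOf ⟨x, h⟩).asIdeal else ⊥, fun x h => dif_pos h⟩
  refine Set.Finite.of_injOn (f := g)
    (t := (Ideal.span {a * b * c} : Ideal Γ(X, U)).minimalPrimes) ?_ ?_
    (Ideal.finite_minimalPrimes_of_isNoetherianRing _ _)
  · rintro i ⟨hiU, hi1, hi2⟩
    show g i ∈ _
    rw [hg i hiU]
    exact hmin i hiU hi1 hi2
  · rintro i ⟨hiU, -, -⟩ j ⟨hjU, -, -⟩ hij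
    rw [hg i hiU, hg j hjU] at hij
    calc i = pointOfPrime hU (hU.primeIdealOf ⟨i, hiU⟩).asIdeal :=
          (pointOfPrime_primeIdealOf hU i hiU).symm
      _ = pointOfPrime hU (hU.primeIdealOf ⟨j, hjU⟩).asIdeal := pointOfPrime_congr hU _ _ hij
      _ = j := pointOfPrime_primeIdealOf hU j hjU

end LocallyFinite

end Groth.Agent.H95.WeilSheaf
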