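import Groth.Agent.H95.ZClosAss
import Groth.Agent.H8.AssSch
import Groth.Agent.H8.Coh

set_option autoImplicit false
universe u

open CategoryTheory CategoryTheory.Limits AlgebraicGeometry TopologicalSpace Opposite

namespace Groth.Agent.H95.ZClos

open _root_.ZClos Groth.Agent.H8

set_option backward.isDefEq.respectTransparency false

section Depth

variable {X : Scheme.{u}}

/-- A section over an affine open with nonzero germ at `x` has nonzero germ at an associated point
which is a generization of `x`. -/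
theorem exists_isAssPoint_specializes_germ_ne_zero [IsLocallyNoetherian X]
    (M : X.Modules) [M.IsQuasicoherent]
    {U : X.Opens} (hU : IsAffineOpen U) (x : X) (hxU : x ∈ U) (s : Γ(M, U))
    (hs : M.presheaf.germ U x hxU s ≠ 0) :
    ∃ (y : X) (hyU : y ∈ U), Curv2.IsAssPoint M y ∧ y ⤳ x ∧ M.presheaf.germ U y hyU s ≠ 0 := by
  haveI : IsNoetherianRing Γ(X, U) := IsLocallyNoetherian.component_noetherian ⟨U, hU⟩
  letI := X.presheaf.algebra_section_stalk ⟨x, hxU⟩
  haveI := hU.isLocalization_stalk ⟨x, hxU⟩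
  letI := moduleSectionStalk M x hxU
  haveI := isScalarTower_sectionStalk M x hxU
  haveI := isLocalizedModule_germₗ M hU x hxU
  obtain ⟨Q, hQ, hle⟩ := exists_le_isAssociatedPrime_of_isNoetherianRing (X.presheaf.stalk x)
    (M.presheaf.germ U x hxU s) hs
  haveI hQprime : Q.IsPrime := hQ.isPrime
  have hq := Module.associatedPrimes.comap_mem_associatedPrimes_of_mem_associatedPrimes_of_isLocalizedModule_of_fg
      (hU.primeIdealOf ⟨x, hxU⟩).asIdeal.primeCompl (germₗ M x hxU) Q hQ
      ((isNoetherianRing_iff_ideal_fg _).mp inferInstance _)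
  haveI hPprime : (Q.comap (X.presheaf.germ U x hxU).hom).IsPrime := Ideal.comap_isPrime _ Q
  have hyU : pointOfPrime hU (Q.comap (X.presheaf.germ U x hxU).hom) ∈ U := pointOfPrime_mem hU _
  refine ⟨pointOfPrime hU (Q.comap (X.presheaf.germ U x hxU).hom), hyU, ?_,
    pointOfPrime_specializes hU _ x hxU (comap_le_primeIdealOf hU x hxU Q), ?_⟩
  · rw [isAssPoint_iff_isAssociatedPrime hU M _ hyU]
    have hpz : (hU.primeIdealOf ⟨pointOfPrime hU (Q.comap (X.presheaf.germ U x hxU).hom),
        hyU⟩).asIdeal = Q.comap (X.presheaf.germ U x hxU).hom :=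
      congrArg PrimeSpectrum.asIdeal (primeIdealOf_pointOfPrime hU _)
    rw [hpz]
    exact hq
  · refine germ_pointOfPrime_ne_zero hU M s _ (fun a ha => ?_)
    show (X.presheaf.germ U x hxU).hom a ∈ Q
    apply hle
    rw [Submodule.mem_colon_singleton, Submodule.mem_bot]
    have h1 := germ_smul M x hxU a s
    rw [ha, map_zero] at h1
    exact h1.symm

variable (Z : Set X) (F : X.Modules)

theorem rhoStalk_eq_zero_of (x : X) {W : X.Opens} (hxW : x ∈ W) (m : F.presheaf.obj (op W))
    (T : Cl Z) (h0 : F.presheaf.map (homOfLE (T.U.ι.image_preimage_le W)).op m = 0) :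
    rhoStalk Z F x (F.presheaf.germ W x hxW m) = 0 := by
  have e1 := TopCat.Presheaf.stalkFunctor_map_germ_apply W x hxW (rhoApp Z F).mapPresheaf m
  refine e1.trans ?_
  have e2 : (rhoApp Z F).app W m = 0 := by
    rw [rho_app_eq Z F T]
    have h : (toDiagram Z F T).app W m = 0 := h0
    rw [h, map_zero]
  show ((H0 Z).obj F).presheaf.germ W x hxW ((rhoApp Z F).app W m) = 0
  rw [e2, map_zero]

theorem exists_of_rhoStalk_eq_zero (x : X) (a : F.presheaf.stalk x)
    (ha : rhoStalk Z F x a = 0) :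
    ∃ (W : X.Opens) (_ : IsAffineOpen W) (hxW : x ∈ W) (m : F.presheaf.obj (op W)) (T : Cl Z),
      F.presheaf.germ W x hxW m = a ∧
        F.presheaf.map (homOfLE (T.U.ι.image_preimage_le W)).op m = 0 := by
  have hcol := colimit.isColimit (Dg Z F)
  obtain ⟨V, hVaff, hxV, m, rfl⟩ := exists_affine_germ F x a
  have h1 : ((H0 Z).obj F).presheaf.germ V x hxV ((rhoApp Z F).app V m) = 0 := by
    rw [← ha]
    exact (TopCat.Presheaf.stalkFunctor_map_germ_apply V x hxV (rhoApp Z F).mapPresheaf m).symm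
  obtain ⟨W, hxW, iU, iV, hW⟩ := ((H0 Z).obj F).presheaf.germ_eq x hxV hxV _ 0
    (h1.trans (map_zero _).symm)
  obtain ⟨W', hW'aff, hxW', hW'W0⟩ := exists_isAffineOpen_mem_and_subset (x := x) (U := W) hxW
  have hW'W : W' ≤ W := hW'W0
  have hW'V : W' ≤ V := le_trans hW'W iU.le
  have h2 : (rhoApp Z F).app W' (F.presheaf.map (homOfLE hW'V).op m) = 0 := by
    rw [app_res]
    have := congrArg (fun z => ((H0 Z).obj F).presheaf.map (homOfLE hW'W).op z) hW
    simp only [map_zero] at this
    rw [show iU = homOfLE iU.le from Subsingleton.elim _ _, map_map_apply] at this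
    exact this
  rw [rho_app_eq Z F ⊥] at h2
  obtain ⟨T, hT, h3⟩ := sec_inj (Dg Z F) (cc Z F) hcol ⊥ W' hW'aff.isCompact _ h2
  rw [dg_map_toDiagram] at h3
  have h4 : F.presheaf.map (homOfLE (T.U.ι.image_preimage_le W')).op
      (F.presheaf.map (homOfLE hW'V).op m) = 0 := h3
  exact ⟨W', hW'aff, hxW', F.presheaf.map (homOfLE hW'V).op m, T,
    F.presheaf.germ_res_apply (homOfLE hW'V) x hxW' m, h4⟩

theorem isZPureAt_iff_no_ass [IsLocallyNoetherian X] (hZ : StableUnderSpecialization Z)
    (hF : F.IsQuasicoherent) (x : X) :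
    IsZPureAt Z F x ↔ ∀ x' : X, x' ⤳ x → x' ∈ Z → ¬ Curv2.IsAssPoint F x' := by
  haveI := hF
  constructor
  · intro hpure x' hspec hx'Z hass
    obtain ⟨U, hU, hxU, -⟩ := exists_isAffineOpen_mem_and_subset (x := x) (U := ⊤) trivial
    have hx'U : x' ∈ U := hspec.mem_open U.isOpen hxU
    haveI : IsNoetherianRing Γ(X, U) := IsLocallyNoetherian.component_noetherian ⟨U, hU⟩
    have h1 := (isAssPoint_iff_isAssociatedPrime hU F x' hx'U).1 hass
    obtain ⟨hPprime, s, hs⟩ := isAssociatedPrime_iff.1 h1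
    obtain ⟨T, hT⟩ := kill hZ F U hU.isCompact s (fun y hy hyZ =>
      germ_eq_zero_of_not_specializes hU F x' hx'U s (hs.le.trans Ideal.le_radical) y hy
        (fun hsp => hyZ (hZ hsp hx'Z)))
    have h0 : F.presheaf.map (homOfLE (T.U.ι.image_preimage_le U)).op s = 0 := by
      have e : T.U.ι ''ᵁ T.U.ι ⁻¹ᵁ U = T.U ⊓ U := ι_image_preimage T.U U
      have := congrArg (fun z => F.presheaf.map (homOfLE (le_of_eq e)).op z) hT
      simp only [map_zero] at this
      rw [map_map_apply] at this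
      exact this
    have h2 := rhoStalk_eq_zero_of Z F x hxU s T h0
    have h3 : F.presheaf.germ U x hxU s = 0 := hpure (h2.trans (map_zero _).symm)
    obtain ⟨b, hxb, hbs⟩ := exists_smul_eq_zero_of_germ_eq_zero F hU x hxU s h3
    have hb1 : b ∈ (hU.primeIdealOf ⟨x, hxU⟩).asIdeal.primeCompl :=
      (mem_basicOpen_iff_notMem_primeIdealOf hU x hxU b).mp hxb
    apply hb1
    have hbP : b ∈ (hU.primeIdealOf ⟨x', hx'U⟩).asIdeal := by
      rw [hs, Submodule.mem_colon_singleton, Submodule.mem_bot]; exact hbs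
    have hle : hU.primeIdealOf ⟨x', hx'U⟩ ≤ hU.primeIdealOf ⟨x, hxU⟩ := by
      have e1 : hU.fromSpec (hU.primeIdealOf ⟨x', hx'U⟩) = x' :=
        hU.fromSpec_primeIdealOf ⟨x', hx'U⟩
      have e2 : hU.fromSpec (hU.primeIdealOf ⟨x, hxU⟩) = x := hU.fromSpec_primeIdealOf ⟨x, hxU⟩
      have h : hU.fromSpec (hU.primeIdealOf ⟨x', hx'U⟩) ⤳
          hU.fromSpec (hU.primeIdealOf ⟨x, hxU⟩) := by rw [e1, e2]; exact hspec
      exact (PrimeSpectrum.le_iff_specializes _ _).2
        (hU.fromSpec.isOpenEmbedding.isInducing.specializes_iff.1 h)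
    exact hle hbP
  · intro hno
    show Function.Injective (rhoStalk Z F x)
    rw [injective_iff_map_eq_zero]
    intro a ha
    by_contra hane
    obtain ⟨W, hW, hxW, m, T, rfl, h0⟩ := exists_of_rhoStalk_eq_zero Z F x a ha
    obtain ⟨y, hyW, hyass, hyx, hgy⟩ :=
      exists_isAssPoint_specializes_germ_ne_zero F hW x hxW m hane
    have hyT : y ∈ (T.1 : Set X) := by
      by_contra hyT
      apply hgy
      have hyO : y ∈ T.U.ι ''ᵁ T.U.ι ⁻¹ᵁ W := by
        rw [ι_image_preimage]; exact ⟨hyT, hyW⟩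
      rw [← F.presheaf.germ_res_apply (homOfLE (T.U.ι.image_preimage_le W)) y hyO m, h0,
        map_zero]
    exact hno y hyx (T.2 hyT) hyass

end Depth

end Groth.Agent.H95.ZClos
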