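import Groth.Agent.H95.ZClosStalk

set_option autoImplicit false
universe u

open CategoryTheory CategoryTheory.Limits AlgebraicGeometry TopologicalSpace Opposite

namespace Groth.Agent.H95.ZClos

open _root_.ZClos

set_option backward.isDefEq.respectTransparency false

section Lift

variable {X : Scheme.{u}}

theorem app_bijective_of_compact [IsLocallyNoetherian X] {M N : X.Modules} (φ : M ⟶ N)
    (h : ∀ V : X.Opens, IsCompact (V : Set X) → Function.Bijective (φ.app V)) (V : X.Opens) :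
    Function.Bijective (φ.app V) := by
  constructor
  · intro s t hst
    refine TopCat.Sheaf.eq_of_locally_eq' ⟨M.presheaf, M.isSheaf⟩ (fun i : AffIn V => i.1) V
      (fun i => homOfLE i.2.2) (le_iSup_affIn V) s t ?_
    intro i
    apply (h i.1 i.2.1.isCompact).1
    show φ.app i.1 (M.presheaf.map (homOfLE i.2.2).op s) =
      φ.app i.1 (M.presheaf.map (homOfLE i.2.2).op t)
    rw [app_res, app_res, hst]
  · intro n
    have hl : ∀ i : AffIn V, ∃ m : M.presheaf.obj (op i.1),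
        φ.app i.1 m = N.presheaf.map (homOfLE i.2.2).op n :=
      fun i => (h i.1 i.2.1.isCompact).2 _
    choose sf hsf using hl
    have hcompat : TopCat.Presheaf.IsCompatible M.presheaf (fun i : AffIn V => i.1) sf := by
      intro i j
      have hc : IsCompact ((i.1 ⊓ j.1 : X.Opens) : Set X) :=
        isCompact_of_le_affine i.2.1 inf_le_left
      apply (h _ hc).1
      show φ.app (i.1 ⊓ j.1) (M.presheaf.map (homOfLE inf_le_left).op (sf i)) =
        φ.app (i.1 ⊓ j.1) (M.presheaf.map (homOfLE inf_le_right).op (sf j))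
      rw [app_res, app_res, hsf i, hsf j, map_map_apply, map_map_apply]
    obtain ⟨m, hm, -⟩ := TopCat.Sheaf.existsUnique_gluing' ⟨M.presheaf, M.isSheaf⟩
      (fun i : AffIn V => i.1) V (fun i => homOfLE i.2.2) (le_iSup_affIn V) sf hcompat
    refine ⟨m, ?_⟩
    refine TopCat.Sheaf.eq_of_locally_eq' ⟨N.presheaf, N.isSheaf⟩ (fun i : AffIn V => i.1) V
      (fun i => homOfLE i.2.2) (le_iSup_affIn V) _ _ ?_
    intro i
    have h1 : M.presheaf.map (homOfLE i.2.2).op m = sf i := hm i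
    show N.presheaf.map (homOfLE i.2.2).op (φ.app V m) = N.presheaf.map (homOfLE i.2.2).op n
    rw [← app_res, h1]; exact hsf i

variable {Z : Set X} {F F' : X.Modules} (u : F ⟶ F')

/-- germ-injectivity off `Z` -/
lemma germ_eq_zero_of_app_eq_zero
    (hu : ∀ x : X, x ∉ Z →
      Function.Injective ((TopCat.Presheaf.stalkFunctor (C := Ab.{u}) x).map u.mapPresheaf))
    {I : X.Opens} (d : F.presheaf.obj (op I)) (hd : u.app I d = 0) (y : X) (hy : y ∈ I)
    (hyZ : y ∉ Z) : F.presheaf.germ I y hy d = 0 := by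
  apply hu y hyZ
  rw [map_zero]
  refine (TopCat.Presheaf.stalkFunctor_map_germ_apply I y hy u.mapPresheaf d).trans ?_
  show F'.presheaf.germ I y hy (u.app I d) = 0
  rw [hd, map_zero]

/-- local lifts off `Z` -/
lemma exists_local_lift
    (hu : ∀ x : X, x ∉ Z →
      Function.Surjective ((TopCat.Presheaf.stalkFunctor (C := Ab.{u}) x).map u.mapPresheaf))
    {O : X.Opens} (n : F'.presheaf.obj (op O)) (y : X) (hy : y ∈ O) (hyZ : y ∉ Z) :
    ∃ (W : X.Opens) (hW : W ≤ O) (m : F.presheaf.obj (op W)), y ∈ W ∧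
      u.app W m = F'.presheaf.map (homOfLE hW).op n := by
  obtain ⟨a, ha⟩ := hu y hyZ (F'.presheaf.germ O y hy n)
  obtain ⟨U₀, hU₀, hyU₀, m₀, rfl⟩ := F.presheaf.exists_le_germ_eq a hy
  have h1 : F'.presheaf.germ U₀ y hyU₀ (u.app U₀ m₀) = F'.presheaf.germ O y hy n :=
    (TopCat.Presheaf.stalkFunctor_map_germ_apply U₀ y hyU₀ u.mapPresheaf m₀).symm.trans ha
  obtain ⟨W, hyW, iU, iV, hW⟩ := F'.presheaf.germ_eq y hyU₀ hy _ _ h1
  refine ⟨W, iV.le, F.presheaf.map (homOfLE iU.le).op m₀, hyW, ?_⟩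
  rw [app_res]
  rw [show iU = homOfLE iU.le from Subsingleton.elim _ _,
    show iV = homOfLE iV.le from Subsingleton.elim _ _] at hW
  exact hW

lemma mem_sup_cl {T T' : Cl Z} {y : X} :
    y ∈ ((T ⊔ T').1 : Set X) ↔ y ∈ (T.1 : Set X) ∨ y ∈ (T'.1 : Set X) := Iff.rfl

lemma vt_sup_le (T T₂ : Cl Z) (V : X.Opens) :
    (T ⊔ T₂).U.ι ''ᵁ (T ⊔ T₂).U.ι ⁻¹ᵁ V ≤ T₂.U ⊓ (T.U.ι ''ᵁ T.U.ι ⁻¹ᵁ V) := by
  rw [ι_image_preimage, ι_image_preimage]
  exact le_inf (inf_le_left.trans (Cl.U_anti le_sup_right))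
    (inf_le_inf_right _ (Cl.U_anti le_sup_left))

theorem lift [IsLocallyNoetherian X] (hZ : StableUnderSpecialization Z)
    (hu : ∀ x : X, x ∉ Z →
      Function.Bijective ((TopCat.Presheaf.stalkFunctor (C := Ab.{u}) x).map u.mapPresheaf))
    (O : X.Opens) (hO : IsCompact (O : Set X)) (n : F'.presheaf.obj (op O)) :
    ∃ (T : Cl Z) (m : F.presheaf.obj (op (T.U ⊓ O))),
      u.app (T.U ⊓ O) m = F'.presheaf.map (homOfLE (inf_le_right : T.U ⊓ O ≤ O)).op n := by
  let 𝒲 : Set X.Opens := {W | ∃ (h : W ≤ O) (m : F.presheaf.obj (op W)),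
    u.app W m = F'.presheaf.map (homOfLE h).op n}
  let G : X.Opens := sSup 𝒲
  let S₁ : Set X := (O : Set X) \ (G : Set X)
  have hS₁O : S₁ ⊆ (O : Set X) := Set.diff_subset
  have hS₁Z : S₁ ⊆ Z := by
    intro y hy
    by_contra hyZ
    obtain ⟨W, hW, m, hyW, hm⟩ := exists_local_lift u (fun x hx => (hu x hx).2) n y hy.1 hyZ
    exact hy.2 (Opens.mem_sSup.2 ⟨W, ⟨hW, m, hm⟩, hyW⟩)
  have hS₁cl : IsClosed ((Subtype.val : ↥(O : Set X) → X) ⁻¹' S₁) := by
    have : (Subtype.val : ↥(O : Set X) → X) ⁻¹' S₁ =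
        ((Subtype.val : ↥(O : Set X) → X) ⁻¹' (G : Set X))ᶜ := by
      ext y
      constructor
      · intro hy; exact hy.2
      · intro hy; exact ⟨y.2, hy⟩
    rw [this, isClosed_compl_iff]; exact G.isOpen.preimage continuous_subtype_val
  haveI : NoetherianSpace ((O : Set X) : Type u) := noetherianSpace_of_isCompact hO
  have hT₁ : closure S₁ ⊆ Z := closure_subset_of_stable hZ O S₁ hS₁O hS₁Z hS₁cl
  let T₁ : Cl Z := ⟨⟨closure S₁, isClosed_closure⟩, hT₁⟩
  have hO₁ : IsCompact ((T₁.U ⊓ O : X.Opens) : Set X) := isCompact_of_le_compact hO inf_le_right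
  have hO₁G : ∀ y, y ∈ T₁.U ⊓ O → y ∈ G := by
    intro y hy
    by_contra hG
    exact hy.1 (subset_closure ⟨hy.2, hG⟩)
  have key := hO₁.induction_on (p := fun A => ∃ (T : Cl Z) (O'' : X.Opens) (h : O'' ≤ O),
    A ⊆ (T.1 : Set X) ∪ (O'' : Set X) ∧ ∃ m : F.presheaf.obj (op O''),
      u.app O'' m = F'.presheaf.map (homOfLE h).op n) ?_ ?_ ?_ ?_
  · obtain ⟨T, O'', h, hsub, m, hm⟩ := key
    have hle : (T₁ ⊔ T).U ⊓ O ≤ O'' := by
      intro y hy
      have hy1 : y ∈ T₁.U := Cl.U_anti (le_sup_left : T₁ ≤ T₁ ⊔ T) hy.1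
      have hy2 : y ∈ T.U := Cl.U_anti (le_sup_right : T ≤ T₁ ⊔ T) hy.1
      rcases hsub ⟨hy1, hy.2⟩ with hT | hO''
      · exact absurd hT hy2
      · exact hO''
    refine ⟨T₁ ⊔ T, F.presheaf.map (homOfLE hle).op m, ?_⟩
    rw [app_res, hm, map_map_apply]
  · exact ⟨⊥, ⊥, bot_le, Set.empty_subset _, 0, sections_bot_eq _ _ _⟩
  · rintro A B hAB ⟨T, O'', h, hsub, rest⟩
    exact ⟨T, O'', h, hAB.trans hsub, rest⟩
  · rintro A B ⟨TA, OA, hA, hsubA, mA, hmA⟩ ⟨TB, OB, hB, hsubB, mB, hmB⟩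
    have hI : IsCompact ((OA ⊓ OB : X.Opens) : Set X) :=
      isCompact_of_le_compact hO (inf_le_left.trans hA)
    have hd : u.app (OA ⊓ OB)
        (F.presheaf.map (homOfLE (inf_le_left : OA ⊓ OB ≤ OA)).op mA -
          F.presheaf.map (homOfLE (inf_le_right : OA ⊓ OB ≤ OB)).op mB) = 0 := by
      rw [map_sub, app_res, app_res, hmA, hmB, map_map_apply, map_map_apply, sub_self]
    obtain ⟨T₃, hT₃⟩ := kill hZ F (OA ⊓ OB) hI _ (fun y hy hyZ =>
      germ_eq_zero_of_app_eq_zero u (fun x hx => (hu x hx).1) _ hd y hy hyZ)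
    rw [map_sub, sub_eq_zero, map_map_apply, map_map_apply] at hT₃
    have hle : (T₃.U ⊓ OA) ⊓ (T₃.U ⊓ OB) ≤ T₃.U ⊓ (OA ⊓ OB) :=
      le_inf (inf_le_left.trans inf_le_left) (inf_le_inf inf_le_right inf_le_right)
    have hagree : F.presheaf.map
          (homOfLE (inf_le_left : (T₃.U ⊓ OA) ⊓ (T₃.U ⊓ OB) ≤ T₃.U ⊓ OA)).op
          (F.presheaf.map (homOfLE (inf_le_right : T₃.U ⊓ OA ≤ OA)).op mA) =
        F.presheaf.map (homOfLE (inf_le_right : (T₃.U ⊓ OA) ⊓ (T₃.U ⊓ OB) ≤ T₃.U ⊓ OB)).op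
          (F.presheaf.map (homOfLE (inf_le_right : T₃.U ⊓ OB ≤ OB)).op mB) := by
      have := congrArg (fun z => F.presheaf.map (homOfLE hle).op z) hT₃
      simp only at this
      rw [map_map_apply, map_map_apply] at this
      rw [map_map_apply, map_map_apply]
      exact this
    obtain ⟨m, hmA', hmB'⟩ := glue2 F _ _ hagree
    refine ⟨TA ⊔ TB ⊔ T₃, (T₃.U ⊓ OA) ⊔ (T₃.U ⊓ OB),
      sup_le (inf_le_right.trans hA) (inf_le_right.trans hB), ?_, m, ?_⟩
    · rintro y (hy | hy)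
      · rcases hsubA hy with h1 | h1
        · exact Or.inl (mem_sup_cl.2 (Or.inl (mem_sup_cl.2 (Or.inl h1))))
        · by_cases h3 : y ∈ (T₃.1 : Set X)
          · exact Or.inl (mem_sup_cl.2 (Or.inr h3))
          · exact Or.inr ((le_sup_left : T₃.U ⊓ OA ≤ (T₃.U ⊓ OA) ⊔ (T₃.U ⊓ OB)) ⟨h3, h1⟩)
      · rcases hsubB hy with h1 | h1
        · exact Or.inl (mem_sup_cl.2 (Or.inl (mem_sup_cl.2 (Or.inr h1))))
        · by_cases h3 : y ∈ (T₃.1 : Set X)
          · exact Or.inl (mem_sup_cl.2 (Or.inr h3))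
          · exact Or.inr ((le_sup_right : T₃.U ⊓ OB ≤ (T₃.U ⊓ OA) ⊔ (T₃.U ⊓ OB)) ⟨h3, h1⟩)
    · refine eq_of_res₂ F' _ _ ?_ ?_
      · rw [← app_res, hmA', app_res, hmA, map_map_apply, map_map_apply]
      · rw [← app_res, hmB', app_res, hmB, map_map_apply, map_map_apply]
  · intro y hy
    have hyG := hO₁G y hy
    obtain ⟨W, ⟨hW, m, hm⟩, hyW⟩ := Opens.mem_sSup.1 hyG
    exact ⟨(W : Set X), mem_nhdsWithin_of_mem_nhds (W.isOpen.mem_nhds hyW), ⊥, W, hW,
      Set.subset_union_right, m, hm⟩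

theorem isIso_H0_map [IsLocallyNoetherian X] (hZ : StableUnderSpecialization Z)
    (hu : ∀ x : X, x ∉ Z →
      Function.Bijective ((TopCat.Presheaf.stalkFunctor (C := Ab.{u}) x).map u.mapPresheaf)) :
    IsIso ((H0 Z).map u) := by
  rw [isIso_iff_app]
  apply app_bijective_of_compact
  intro V hV
  have hcol := colimit.isColimit (Dg Z F)
  have hcol' := colimit.isColimit (Dg Z F')
  have hmap : ∀ (T : Cl Z) (W : X.Opens) (t : ((Dg Z F).obj T).presheaf.obj (op W)),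
      ((H0 Z).map u).app W (((cc Z F).ι.app T).app W t) =
        ((cc Z F').ι.app T).app W (u.app (T.U.ι ''ᵁ T.U.ι ⁻¹ᵁ W) t) := by
    intro T W t
    have h1 : (cc Z F).ι.app T ≫ (H0 Z).map u = (resPush T.U).map u ≫ (cc Z F').ι.app T :=
      ι_colimMap ((diagram Z).map u) T
    have h2 := congrArg (fun f => (Scheme.Modules.Hom.app f W) t) h1
    simp only [Scheme.Modules.Hom.comp_app, ConcreteCategory.comp_apply] at h2
    exact h2
  constructor
  · rw [injective_iff_map_eq_zero]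
    intro s hs
    obtain ⟨T, t, rfl⟩ := sec_surj (Dg Z F) (cc Z F) hcol V hV s
    rw [hmap] at hs
    obtain ⟨T', hT', hk⟩ := sec_inj (Dg Z F') (cc Z F') hcol' T V hV _ hs
    have e' := resPushMapApp_app (Cl.U_anti hT') F' V
    have hk' : F'.presheaf.map (trIncl (Cl.U_anti hT') V).op
        (u.app (T.U.ι ''ᵁ T.U.ι ⁻¹ᵁ V) t) = 0 := by
      rw [← e']; exact hk
    have e := resPushMapApp_app (Cl.U_anti hT') F V
    obtain ⟨t₁, ht₁⟩ : ∃ t₁ : F.presheaf.obj (op (T'.U.ι ''ᵁ T'.U.ι ⁻¹ᵁ V)),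
        t₁ = F.presheaf.map (trIncl (Cl.U_anti hT') V).op t := ⟨_, rfl⟩
    have hut₁ : u.app _ t₁ = 0 := by
      rw [ht₁]
      show u.app _ (F.presheaf.map (homOfLE (resPush_le (Cl.U_anti hT') V)).op t) = 0
      rw [app_res]; exact hk'
    have hOc : IsCompact ((T'.U.ι ''ᵁ T'.U.ι ⁻¹ᵁ V : X.Opens) : Set X) :=
      isCompact_of_le_compact hV (T'.U.ι.image_preimage_le V)
    obtain ⟨T₂, hT₂⟩ := kill hZ F _ hOc t₁ (fun y hy hyZ =>
      germ_eq_zero_of_app_eq_zero u (fun x hx => (hu x hx).1) t₁ hut₁ y hy hyZ)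
    have hle3 : T' ≤ T' ⊔ T₂ := le_sup_left
    have h3 : ((Dg Z F).map (homOfLE hle3)).app V t₁ = 0 := by
      have e3 := resPushMapApp_app (Cl.U_anti hle3) F V
      show (ConcreteCategory.hom ((resPushMapApp (Cl.U_anti hle3) F).app V)) t₁ = 0
      rw [e3]
      have := congrArg (fun z => F.presheaf.map (homOfLE (vt_sup_le T' T₂ V)).op z) hT₂
      simp only [map_zero] at this
      rw [map_map_apply] at this
      exact this
    have h4 : ((Dg Z F).map (homOfLE hT')).app V t = t₁ := by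
      rw [ht₁]
      show (ConcreteCategory.hom ((resPushMapApp (Cl.U_anti hT') F).app V)) t = _
      rw [e]
      rfl
    rw [← cocone_w_apply (Dg Z F) (cc Z F) hT' V t, h4,
      ← cocone_w_apply (Dg Z F) (cc Z F) hle3 V t₁, h3, map_zero]
  · intro s'
    obtain ⟨T, n, rfl⟩ := sec_surj (Dg Z F') (cc Z F') hcol' V hV s'
    have hOc : IsCompact ((T.U.ι ''ᵁ T.U.ι ⁻¹ᵁ V : X.Opens) : Set X) :=
      isCompact_of_le_compact hV (T.U.ι.image_preimage_le V)
    obtain ⟨T₂, m, hm⟩ := lift u hZ hu _ hOc n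
    have hle3 : T ≤ T ⊔ T₂ := le_sup_left
    refine ⟨((cc Z F).ι.app (T ⊔ T₂)).app V
      (F.presheaf.map (homOfLE (vt_sup_le T T₂ V)).op m), ?_⟩
    rw [hmap, app_res, hm, map_map_apply,
      ← cocone_w_apply (Dg Z F') (cc Z F') hle3 V n]
    congr 1
    show _ = (ConcreteCategory.hom ((resPushMapApp (Cl.U_anti hle3) F').app V)) n
    rw [resPushMapApp_app]
    rfl

theorem isIso_fac [IsLocallyNoetherian X] (hZ : StableUnderSpecialization Z)
    (hF' : IsZClosed Z F')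
    (hu : ∀ x : X, x ∉ Z →
      Function.Bijective ((TopCat.Presheaf.stalkFunctor (C := Ab.{u}) x).map u.mapPresheaf))
    (v : (H0 Z).obj F ⟶ F') (hv : rhoApp Z F ≫ v = u) : IsIso v := by
  haveI : IsIso (rhoApp Z F') := hF'
  haveI := isIso_H0_map u hZ hu
  have nat : rhoApp Z F ≫ (H0 Z).map u = u ≫ rhoApp Z F' := ((rho Z).naturality u).symm
  have hv' : v = (H0 Z).map u ≫ inv (rhoApp Z F') := by
    apply hom_ext_of_closed Z F hF'
    rw [hv, ← Category.assoc, nat, Category.assoc, IsIso.hom_inv_id, Category.comp_id]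
  rw [hv']; infer_instance

end Lift

end Groth.Agent.H95.ZClos
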