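import Groth.Agent.H95.ZClos

set_option autoImplicit false
universe u

open CategoryTheory CategoryTheory.Limits AlgebraicGeometry TopologicalSpace Opposite

namespace Groth.Agent.H95.ZClos

open _root_.ZClos

set_option backward.isDefEq.respectTransparency false

section P1

variable {C : Type u} [SmallCategory C] {J : GrothendieckTopology C}
  (R : Sheaf J RingCat.{u}) [HasSheafify J AddCommGrpCat.{u}]
  [J.WEqualsLocallyBijective AddCommGrpCat.{u}]
  {K : Type u} [SmallCategory K]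

noncomputable instance toSheafPreservesColimit (D : K ⥤ SheafOfModules.{u} R) :
    PreservesColimit D (SheafOfModules.toSheaf.{u} R) := by
  let adj := PresheafOfModules.sheafificationAdjunction (𝟙 R.obj)
  let Lm := PresheafOfModules.sheafification.{u} (𝟙 R.obj)
  let G := SheafOfModules.forget.{u} R ⋙ PresheafOfModules.restrictScalars (𝟙 R.obj)
  let e : (D ⋙ G) ⋙ Lm ≅ D :=
    (Functor.associator _ _ _) ≪≫ Functor.isoWhiskerLeft D (asIso adj.counit) ≪≫ D.rightUnitor
  have h1 : PreservesColimit ((D ⋙ G) ⋙ Lm) (SheafOfModules.toSheaf.{u} R) := by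
    have hc := isColimitOfPreserves Lm (colimit.isColimit (D ⋙ G))
    refine preservesColimit_of_preserves_colimit_cocone hc ?_
    have : PreservesColimit (D ⋙ G) (Lm ⋙ SheafOfModules.toSheaf.{u} R) :=
      preservesColimit_of_natIso _ (PresheafOfModules.sheafificationCompToSheaf (𝟙 R.obj)).symm
    exact isColimitOfPreserves (Lm ⋙ SheafOfModules.toSheaf.{u} R) (colimit.isColimit (D ⋙ G))
  exact preservesColimit_of_iso_diagram _ e

end P1

section LOC

variable {C : Type u} [SmallCategory C] {J : GrothendieckTopology C}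
  (R : Sheaf J RingCat.{u}) [HasSheafify J AddCommGrpCat.{u}]
  [J.WEqualsLocallyBijective AddCommGrpCat.{u}]
  {K : Type u} [SmallCategory K] [IsFiltered K]
  (D : K ⥤ SheafOfModules.{u} R) (c : Cocone D) (hc : IsColimit c)

/-- underlying map of abelian presheaves -/
noncomputable abbrev pmap {M N : SheafOfModules.{u} R} (φ : M ⟶ N) :
    M.val.presheaf ⟶ N.val.presheaf :=
  ((SheafOfModules.toSheaf.{u} R).map φ).hom

include hc in
theorem loc_data :
    ∃ (P : Cᵒᵖ ⥤ AddCommGrpCat.{u}) (a : ∀ j, (D.obj j).val.presheaf ⟶ P)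
      (b : P ⟶ c.pt.val.presheaf),
      (∀ j, a j ≫ b = pmap R (c.ι.app j)) ∧
      Presheaf.IsLocallyInjective J b ∧ Presheaf.IsLocallySurjective J b ∧
      (∀ (W : Cᵒᵖ) (p : P.obj W), ∃ j t, (a j).app W t = p) ∧
      (∀ (W : Cᵒᵖ) j (t : (D.obj j).val.presheaf.obj W), (a j).app W t = 0 →
        ∃ (j' : K) (g : j ⟶ j'), (pmap R (D.map g)).app W t = 0) := by
  let T := SheafOfModules.toSheaf.{u} R
  let S := D ⋙ T
  let E := colimit.cocone (S ⋙ sheafToPresheaf J AddCommGrpCat.{u})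
  have hE : IsColimit E := colimit.isColimit (S ⋙ sheafToPresheaf J AddCommGrpCat.{u})
  let C1 := Sheaf.sheafifyCocone E
  have hC1 : IsColimit C1 := Sheaf.isColimitSheafifyCocone E hE
  have hC2 : IsColimit (T.mapCocone c) := isColimitOfPreserves T hc
  let e := hC1.coconePointUniqueUpToIso hC2
  have he : ∀ j, C1.ι.app j ≫ e.hom = T.map (c.ι.app j) :=
    fun j => hC1.comp_coconePointUniqueUpToIso_hom hC2 j
  have hiso : IsIso ((sheafToPresheaf J AddCommGrpCat.{u}).map e.hom) := inferInstance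
  have hbij : ∀ W : Cᵒᵖ, Function.Bijective (((sheafToPresheaf J AddCommGrpCat.{u}).map e.hom).app W) := by
    intro W
    have : IsIso (((sheafToPresheaf J AddCommGrpCat.{u}).map e.hom).app W) := inferInstance
    exact ConcreteCategory.bijective_of_isIso _
  haveI h1 : Presheaf.IsLocallyInjective J ((sheafToPresheaf J AddCommGrpCat.{u}).map e.hom) :=
    Presheaf.isLocallyInjective_of_injective J _ (fun W => (hbij W).1)
  haveI h2 : Presheaf.IsLocallySurjective J ((sheafToPresheaf J AddCommGrpCat.{u}).map e.hom) :=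
    Presheaf.isLocallySurjective_of_surjective J _ (fun W => (hbij W).2)
  refine ⟨E.pt, fun j => E.ι.app j,
    CategoryTheory.toSheafify J E.pt ≫ (sheafToPresheaf J AddCommGrpCat.{u}).map e.hom,
    ?_, inferInstance, inferInstance, ?_, ?_⟩
  · intro j
    have := congrArg (fun f => (sheafToPresheaf J AddCommGrpCat.{u}).map f) (he j)
    simp only [Functor.map_comp] at this
    rw [← Category.assoc]
    refine Eq.trans ?_ this
    congr 1
    exact (Sheaf.sheafifyCocone_ι_app_val E j).symm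
  · intro W p
    have hEW := isColimitOfPreserves ((evaluation Cᵒᵖ AddCommGrpCat.{u}).obj W) hE
    haveI : PreservesColimitsOfShape K (forget AddCommGrpCat.{u}) :=
      PreservesFilteredColimitsOfSize.preserves_filtered_colimits K
    obtain ⟨j, y, hy⟩ := Concrete.isColimit_exists_rep _ hEW p
    exact ⟨j, y, hy⟩
  · intro W j t ht
    have hEW := isColimitOfPreserves ((evaluation Cᵒᵖ AddCommGrpCat.{u}).obj W) hE
    haveI : PreservesColimitsOfShape K (forget AddCommGrpCat.{u}) :=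
      PreservesFilteredColimitsOfSize.preserves_filtered_colimits K
    obtain ⟨k, f, g, hfg⟩ := Concrete.isColimit_exists_of_rep_eq _ hEW t
      (0 : (D.obj j).val.presheaf.obj W) (ht.trans (map_zero _).symm)
    refine ⟨k, f, hfg.trans ?_⟩
    exact map_zero _

end LOC

section LOCX

variable {X : Scheme.{u}} {K : Type u} [SmallCategory K] [IsFiltered K]
  (D : K ⥤ X.Modules) (c : Cocone D) (hc : IsColimit c)

include hc in
theorem loc_inj (j : K) (V : X.Opens) (t : (D.obj j).presheaf.obj (op V))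
    (ht : (c.ι.app j).app V t = 0) (x : X) (hx : x ∈ V) :
    ∃ (W : X.Opens) (hW : W ≤ V) (j' : K) (g : j ⟶ j'), x ∈ W ∧
      (D.map g).app W ((D.obj j).presheaf.map (homOfLE hW).op t) = 0 := by
  obtain ⟨P, a, b, hab, hbi, hbs, hrep, hzero⟩ :=
    loc_data (J := Opens.grothendieckTopology X) X.ringCatSheaf D c hc
  have h1 : b.app (op V) ((a j).app (op V) t) = b.app (op V) 0 := by
    rw [map_zero]
    have := congrArg (fun f => (f.app (op V)) t) (hab j)
    simp only [NatTrans.comp_app, ConcreteCategory.comp_apply] at this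
    exact this.trans ht
  have hmem := Presheaf.equalizerSieve_mem (Opens.grothendieckTopology X) b _ _ h1
  obtain ⟨W, f, hf, hxW⟩ := hmem x hx
  have hf' : P.map f.op ((a j).app (op V) t) = P.map f.op 0 := hf
  rw [map_zero, ← NatTrans.naturality_apply (a j) f.op t] at hf'
  obtain ⟨j', g, hg⟩ := hzero (op W) j _ hf'
  exact ⟨W, f.le, j', g, hxW, hg⟩

include hc in
theorem loc_surj (V : X.Opens) (s : c.pt.presheaf.obj (op V)) (x : X) (hx : x ∈ V) :
    ∃ (W : X.Opens) (hW : W ≤ V) (j : K) (t : (D.obj j).presheaf.obj (op W)), x ∈ W ∧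
      (c.ι.app j).app W t = c.pt.presheaf.map (homOfLE hW).op s := by
  obtain ⟨P, a, b, hab, hbi, hbs, hrep, hzero⟩ :=
    loc_data (J := Opens.grothendieckTopology X) X.ringCatSheaf D c hc
  have hmem := Presheaf.imageSieve_mem (Opens.grothendieckTopology X) b (U := op V) s
  obtain ⟨W, f, ⟨p, hp⟩, hxW⟩ := hmem x hx
  obtain ⟨j, t, ht⟩ := hrep (op W) p
  refine ⟨W, f.le, j, t, hxW, ?_⟩
  have := congrArg (fun f => (f.app (op W)) t) (hab j)
  simp only [NatTrans.comp_app, ConcreteCategory.comp_apply] at this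
  refine this.symm.trans ?_
  rw [ht]
  exact hp

end LOCX

section Compact

variable {X : Scheme.{u}}

lemma app_res {M N : X.Modules} (φ : M ⟶ N) {V W : X.Opens} (h : W ≤ V)
    (s : M.presheaf.obj (op V)) :
    φ.app W (M.presheaf.map (homOfLE h).op s) = N.presheaf.map (homOfLE h).op (φ.app V s) :=
  NatTrans.naturality_apply φ.mapPresheaf (homOfLE h).op s

lemma map_self_apply (M : X.Modules) {V : X.Opens} (h : V ≤ V) (s : M.presheaf.obj (op V)) :
    M.presheaf.map (homOfLE h).op s = s := by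
  rw [show homOfLE h = 𝟙 V from Subsingleton.elim _ _, op_id, CategoryTheory.Functor.map_id,
    ConcreteCategory.id_apply]

lemma sections_bot_eq (M : X.Modules) (a b : M.presheaf.obj (op ⊥)) : a = b := by
  refine TopCat.Sheaf.eq_of_locally_eq' ⟨M.presheaf, M.isSheaf⟩
    (fun i : PEmpty.{u + 1} => (i.elim : X.Opens)) ⊥ (fun i => i.elim) ?_ a b (fun i => i.elim)
  exact bot_le

lemma eq_of_res₂ (M : X.Modules) {A B : X.Opens} (s t : M.presheaf.obj (op (A ⊔ B)))
    (h₁ : M.presheaf.map (homOfLE (le_sup_left : A ≤ A ⊔ B)).op s =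
      M.presheaf.map (homOfLE (le_sup_left : A ≤ A ⊔ B)).op t)
    (h₂ : M.presheaf.map (homOfLE (le_sup_right : B ≤ A ⊔ B)).op s =
      M.presheaf.map (homOfLE (le_sup_right : B ≤ A ⊔ B)).op t) : s = t :=
  TopCat.Sheaf.eq_of_locally_eq₂ ⟨M.presheaf, M.isSheaf⟩ (homOfLE le_sup_left)
    (homOfLE le_sup_right) le_rfl s t h₁ h₂

lemma glue2 (M : X.Modules) {A B : X.Opens} (a : M.presheaf.obj (op A))
    (b : M.presheaf.obj (op B))
    (h : M.presheaf.map (homOfLE (inf_le_left : A ⊓ B ≤ A)).op a =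
      M.presheaf.map (homOfLE (inf_le_right : A ⊓ B ≤ B)).op b) :
    ∃ c : M.presheaf.obj (op (A ⊔ B)),
      M.presheaf.map (homOfLE (le_sup_left : A ≤ A ⊔ B)).op c = a ∧
      M.presheaf.map (homOfLE (le_sup_right : B ≤ A ⊔ B)).op c = b := by
  let U : Bool → X.Opens := fun i => Bool.rec B A i
  let sf : ∀ i, M.presheaf.obj (op (U i)) :=
    fun i => Bool.rec (motive := fun i => M.presheaf.obj (op (U i))) b a i
  have hcompat : TopCat.Presheaf.IsCompatible M.presheaf U sf := by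
    intro i j
    cases i <;> cases j
    · exact congrArg (fun f => M.presheaf.map (Quiver.Hom.op f) b) (Subsingleton.elim _ _)
    · show M.presheaf.map (homOfLE (inf_le_left : B ⊓ A ≤ B)).op b =
        M.presheaf.map (homOfLE (inf_le_right : B ⊓ A ≤ A)).op a
      have := congrArg (fun z => M.presheaf.map (homOfLE (le_of_eq (inf_comm B A))).op z) h
      simp only at this
      rw [map_map_apply, map_map_apply] at this
      exact this.symm
    · exact h
    · exact congrArg (fun f => M.presheaf.map (Quiver.Hom.op f) a) (Subsingleton.elim _ _)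
  have hle : ∀ i, U i ≤ A ⊔ B := by
    intro i; cases i
    · exact le_sup_right
    · exact le_sup_left
  obtain ⟨c, hc, -⟩ := TopCat.Sheaf.existsUnique_gluing' ⟨M.presheaf, M.isSheaf⟩ U (A ⊔ B)
    (fun i => homOfLE (hle i)) (sup_le (le_iSup U true) (le_iSup U false)) sf hcompat
  exact ⟨c, hc true, hc false⟩

variable {K : Type u} [SemilatticeSup K] [Nonempty K] (D : K ⥤ X.Modules) (c : Cocone D)
  (hc : IsColimit c)

lemma map_thin {j j' : K} (g g' : j ⟶ j') : D.map g = D.map g' := by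
  rw [Subsingleton.elim g g']

lemma map_map_thin {j₁ j₂ j₃ : K} (h1 : j₁ ≤ j₂) (h2 : j₂ ≤ j₃) (W : X.Opens)
    (t : (D.obj j₁).presheaf.obj (op W)) :
    (D.map (homOfLE h2)).app W ((D.map (homOfLE h1)).app W t) =
      (D.map (homOfLE (h1.trans h2))).app W t := by
  rw [show homOfLE (h1.trans h2) = homOfLE h1 ≫ homOfLE h2 from Subsingleton.elim _ _,
    D.map_comp, Scheme.Modules.Hom.comp_app, ConcreteCategory.comp_apply]

lemma cocone_w_apply {j j' : K} (h : j ≤ j') (W : X.Opens) (t : (D.obj j).presheaf.obj (op W)) :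
    (c.ι.app j').app W ((D.map (homOfLE h)).app W t) = (c.ι.app j).app W t := by
  have := c.w (homOfLE h)
  rw [← this, Scheme.Modules.Hom.comp_app, ConcreteCategory.comp_apply]
  rfl

lemma ι_app_res (j : K) {V W : X.Opens} (h : W ≤ V) (s : (D.obj j).presheaf.obj (op V)) :
    (c.ι.app j).app W ((D.obj j).presheaf.map (homOfLE h).op s) =
      c.pt.presheaf.map (homOfLE h).op ((c.ι.app j).app V s) :=
  app_res (c.ι.app j) h s

include hc in
theorem sec_inj (j : K) (V : X.Opens) (hV : IsCompact (V : Set X))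
    (t : (D.obj j).presheaf.obj (op V)) (ht : (c.ι.app j).app V t = 0) :
    ∃ (j' : K) (h : j ≤ j'), (D.map (homOfLE h)).app V t = 0 := by
  have key := hV.induction_on (p := fun A => ∃ (V' : X.Opens) (hV' : V' ≤ V),
    A ⊆ (V' : Set X) ∧ ∃ (j' : K) (h : j ≤ j'),
      (D.map (homOfLE h)).app V' ((D.obj j).presheaf.map (homOfLE hV').op t) = 0) ?_ ?_ ?_ ?_
  · obtain ⟨V', hV', hsub, j', h, h0⟩ := key
    refine ⟨j', h, ?_⟩
    have hle : V ≤ V' := hsub
    rw [app_res] at h0
    have h1 := congrArg (fun z => (D.obj j').presheaf.map (homOfLE hle).op z) h0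
    simp only [map_zero] at h1
    rw [map_map_apply, map_self_apply] at h1
    exact h1
  · exact ⟨⊥, bot_le, Set.empty_subset _, j, le_rfl, sections_bot_eq _ _ _⟩
  · rintro A B hAB ⟨V', hV', hsub, rest⟩
    exact ⟨V', hV', hAB.trans hsub, rest⟩
  · rintro A B ⟨VA, hVA, hsubA, jA, hA, hA0⟩ ⟨VB, hVB, hsubB, jB, hB, hB0⟩
    refine ⟨VA ⊔ VB, sup_le hVA hVB, ?_, jA ⊔ jB, hA.trans le_sup_left, ?_⟩
    · exact Set.union_subset (hsubA.trans (le_sup_left : VA ≤ VA ⊔ VB))
        (hsubB.trans (le_sup_right : VB ≤ VA ⊔ VB))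
    · apply eq_of_res₂
      · rw [map_zero, ← app_res, map_map_apply, ← map_map_thin D hA le_sup_left, hA0, map_zero]
      · rw [map_zero, ← app_res, map_map_apply, ← map_map_thin D hB le_sup_right, hB0, map_zero]
  · intro x hx
    obtain ⟨W, hW, j', g, hxW, hg⟩ := loc_inj D c hc j V t ht x hx
    refine ⟨(W : Set X), mem_nhdsWithin_of_mem_nhds (W.isOpen.mem_nhds hxW), W, hW, subset_rfl,
      j', leOfHom g, ?_⟩
    rw [map_thin D (homOfLE (leOfHom g)) g]; exact hg

lemma isCompact_of_le_compact [IsLocallyNoetherian X] {V V' : X.Opens}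
    (hV : IsCompact (V : Set X)) (h : V' ≤ V) : IsCompact (V' : Set X) := by
  haveI : CompactSpace V := isCompact_iff_compactSpace.mp hV
  haveI : IsNoetherian (V : Scheme) := { }
  have hN : NoetherianSpace ((V : Set X) : Type u) :=
    (inferInstance : NoetherianSpace (V : Scheme))
  exact (TopologicalSpace.noetherianSpace_set_iff (V : Set X)).mp hN _ h

include hc in
theorem sec_surj [IsLocallyNoetherian X] (V : X.Opens) (hV : IsCompact (V : Set X))
    (s : c.pt.presheaf.obj (op V)) :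
    ∃ (j : K) (t : (D.obj j).presheaf.obj (op V)), (c.ι.app j).app V t = s := by
  have key := hV.induction_on (p := fun A => ∃ (V' : X.Opens) (hV' : V' ≤ V),
    A ⊆ (V' : Set X) ∧ ∃ (j : K) (t : (D.obj j).presheaf.obj (op V')),
      (c.ι.app j).app V' t = c.pt.presheaf.map (homOfLE hV').op s) ?_ ?_ ?_ ?_
  · obtain ⟨V', hV', hsub, j, t, h0⟩ := key
    have hle : V ≤ V' := hsub
    refine ⟨j, (D.obj j).presheaf.map (homOfLE hle).op t, ?_⟩
    rw [ι_app_res, h0, map_map_apply, map_self_apply]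
  · obtain ⟨j⟩ := ‹Nonempty K›
    exact ⟨⊥, bot_le, Set.empty_subset _, j, 0, sections_bot_eq _ _ _⟩
  · rintro A B hAB ⟨V', hV', hsub, rest⟩
    exact ⟨V', hV', hAB.trans hsub, rest⟩
  · rintro A B ⟨VA, hVA, hsubA, jA, tA, hA0⟩ ⟨VB, hVB, hsubB, jB, tB, hB0⟩
    obtain ⟨a, ha_def⟩ : ∃ a, a = (D.map (homOfLE (le_sup_left : jA ≤ jA ⊔ jB))).app VA tA :=
      ⟨_, rfl⟩
    obtain ⟨b, hb_def⟩ : ∃ b, b = (D.map (homOfLE (le_sup_right : jB ≤ jA ⊔ jB))).app VB tB :=
      ⟨_, rfl⟩
    have ha : (c.ι.app (jA ⊔ jB)).app VA a = c.pt.presheaf.map (homOfLE hVA).op s := by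
      rw [ha_def]; exact (cocone_w_apply D c (le_sup_left : jA ≤ jA ⊔ jB) VA tA).trans hA0
    have hb : (c.ι.app (jA ⊔ jB)).app VB b = c.pt.presheaf.map (homOfLE hVB).op s := by
      rw [hb_def]; exact (cocone_w_apply D c (le_sup_right : jB ≤ jA ⊔ jB) VB tB).trans hB0
    have hO : IsCompact ((VA ⊓ VB : X.Opens) : Set X) :=
      isCompact_of_le_compact hV (inf_le_left.trans hVA)
    have hd : (c.ι.app (jA ⊔ jB)).app (VA ⊓ VB)
        ((D.obj (jA ⊔ jB)).presheaf.map (homOfLE (inf_le_left : VA ⊓ VB ≤ VA)).op a -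
          (D.obj (jA ⊔ jB)).presheaf.map (homOfLE (inf_le_right : VA ⊓ VB ≤ VB)).op b) = 0 := by
      rw [map_sub, ι_app_res, ι_app_res, ha, hb, map_map_apply, map_map_apply, sub_self]
    obtain ⟨j₁, h01, hkill⟩ := sec_inj D c hc (jA ⊔ jB) (VA ⊓ VB) hO _ hd
    rw [map_sub, sub_eq_zero, app_res, app_res] at hkill
    obtain ⟨t, htA, htB⟩ := glue2 (D.obj j₁) _ _ hkill
    refine ⟨VA ⊔ VB, sup_le hVA hVB, Set.union_subset
      (hsubA.trans (le_sup_left : VA ≤ VA ⊔ VB)) (hsubB.trans (le_sup_right : VB ≤ VA ⊔ VB)),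
      j₁, t, ?_⟩
    refine eq_of_res₂ c.pt _ _ ?_ ?_
    · rw [← ι_app_res, htA, map_map_apply, cocone_w_apply, ha]
    · rw [← ι_app_res, htB, map_map_apply, cocone_w_apply, hb]
  · intro x hx
    obtain ⟨W, hW, j, t, hxW, ht⟩ := loc_surj D c hc V s x hx
    exact ⟨(W : Set X), mem_nhdsWithin_of_mem_nhds (W.isOpen.mem_nhds hxW), W, hW, subset_rfl,
      j, t, ht⟩

end Compact

section ZApp

variable {X : Scheme.{u}}

lemma bij_of_eq (P : TopCat.Presheaf Ab X) {A B : X.Opens} (f : B ⟶ A) (e : A = B) :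
    Function.Bijective (P.map f.op) := by
  haveI : IsIso f := by
    rw [show f = eqToHom e.symm from Subsingleton.elim _ _]; infer_instance
  exact ConcreteCategory.bijective_of_isIso _

variable (Z : Set X) (F : X.Modules)

/-- the diagram whose colimit is `H⁰_{X/Z}(F)` -/
noncomputable abbrev Dg : Cl Z ⥤ X.Modules := (diagram Z).obj F

/-- its colimit cocone -/
noncomputable abbrev cc : Cocone (Dg Z F) := colimit.cocone (Dg Z F)

lemma dg_res_bijective {T₀ T : Cl Z} (h : T₀ ≤ T) (V : X.Opens) :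
    Function.Bijective
      (((Dg Z F).obj T).presheaf.map (homOfLE (inf_le_left : V ⊓ T₀.U ≤ V)).op) := by
  have e : T.U.ι ''ᵁ T.U.ι ⁻¹ᵁ V = T.U.ι ''ᵁ T.U.ι ⁻¹ᵁ (V ⊓ T₀.U) := by
    rw [ι_image_preimage, ι_image_preimage, inf_left_comm, inf_eq_left.mpr (Cl.U_anti h),
      inf_comm]
  exact bij_of_eq F.presheaf _ e

variable [IsLocallyNoetherian X]

theorem isZClosed_H0 : IsZClosed Z ((H0 Z).obj F) := by
  rw [isZClosed_iff_sections]
  intro T₀ V hV
  have hV0 : IsCompact ((V ⊓ T₀.U : X.Opens) : Set X) := isCompact_of_le_compact hV inf_le_left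
  have hcol := colimit.isColimit (Dg Z F)
  show Function.Bijective ((cc Z F).pt.presheaf.map (homOfLE (inf_le_left : V ⊓ T₀.U ≤ V)).op)
  constructor
  · rw [injective_iff_map_eq_zero]
    intro s hs
    obtain ⟨T, t, rfl⟩ := sec_surj (Dg Z F) (cc Z F) hcol V hV s
    have hT : T ≤ T ⊔ T₀ := le_sup_left
    have hT₀ : T₀ ≤ T ⊔ T₀ := le_sup_right
    have h1 := cocone_w_apply (Dg Z F) (cc Z F) hT V t
    have h2 : ((cc Z F).ι.app (T ⊔ T₀)).app (V ⊓ T₀.U)
        (((Dg Z F).obj (T ⊔ T₀)).presheaf.map (homOfLE (inf_le_left : V ⊓ T₀.U ≤ V)).op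
          (((Dg Z F).map (homOfLE hT)).app V t)) = 0 := by
      rw [ι_app_res, h1]; exact hs
    obtain ⟨T'', hT'', hk⟩ := sec_inj (Dg Z F) (cc Z F) hcol (T ⊔ T₀) (V ⊓ T₀.U) hV0 _ h2
    rw [app_res] at hk
    have h3 : ((Dg Z F).map (homOfLE hT'')).app V (((Dg Z F).map (homOfLE hT)).app V t) = 0 := by
      apply (dg_res_bijective Z F (hT₀.trans hT'') V).1
      rw [hk, map_zero]
    rw [← h1, ← cocone_w_apply (Dg Z F) (cc Z F) hT'' V, h3, map_zero]
  · intro s'
    obtain ⟨T, t, rfl⟩ := sec_surj (Dg Z F) (cc Z F) hcol (V ⊓ T₀.U) hV0 s'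
    have hT : T ≤ T ⊔ T₀ := le_sup_left
    have hT₀ : T₀ ≤ T ⊔ T₀ := le_sup_right
    obtain ⟨t'', ht''⟩ := (dg_res_bijective Z F hT₀ V).2
      (((Dg Z F).map (homOfLE hT)).app (V ⊓ T₀.U) t)
    refine ⟨((cc Z F).ι.app (T ⊔ T₀)).app V t'', ?_⟩
    rw [← ι_app_res, ht'', cocone_w_apply]

end ZApp

end Groth.Agent.H95.ZClos
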