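import Groth.Agent.H71.ZClosed

/-!
# Pointwise variants of helper71's depth-two extension arguments

* `exists_notMem_smul_mem_range`: if `depth M_Q ≥ 2` at the primes `Q ⊇ J` contained in `P₀`, every
  section `τ` of `M~` over `D(J)` satisfies `c • τ ∈ im (M → Γ(D(J), M~))` for some `c ∉ P₀`.
* `hasSeq_two_of_extend`: the converse direction, with the bijectivity of `M → Γ(D(P), M~)` replaced by
  an abstract extension property.
Both proofs are adapted from `Groth.Agent.H71.ZC.toSec_surjective_of_depth` and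
`Groth.Agent.H71.ZC.hasSeq_two_of_bijective`.
-/

set_option autoImplicit false
universe u

open AlgebraicGeometry CategoryTheory Opposite TopologicalSpace
open Groth.Agent.H58 Groth.Agent.H15.Depth Groth.Agent.H71.ZC
open scoped Pointwise

namespace Groth.Agent.H95.ZCA

variable {A : Type u} [CommRing A] (M : Type u) [AddCommGroup M] [Module A M]

theorem exists_notMem_smul_mem_range [IsNoetherianRing A] [Module.Finite A M] (J P₀ : Ideal A)
    [P₀.IsPrime]
    (hker : ∀ m : M, TS.toSec M (LocCoh.puncturedOpen A J) m = 0 → ∃ s, s ∉ P₀ ∧ s • m = 0)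
    (h : ∀ (P : Ideal A) [P.IsPrime], J ≤ P → P ≤ P₀ →
      IsLocalRing.maximalIdeal (Localization.AtPrime P) •
        (⊤ : Submodule (Localization.AtPrime P) (LocalizedModule P.primeCompl M)) = ⊤ ∨
      HasSeq (IsLocalRing.maximalIdeal (Localization.AtPrime P))
        (LocalizedModule P.primeCompl M) 2)
    (τ : TS.sec M (LocCoh.puncturedOpen A J)) :
    ∃ c, c ∉ P₀ ∧ c • τ ∈ LinearMap.range (TS.toSec M (LocCoh.puncturedOpen A J)) := by
  have hmemI : ∀ r : A, r ∈ (LinearMap.range (TS.toSec M (LocCoh.puncturedOpen A J))).comap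
      (LinearMap.toSpanSingleton A _ τ) ↔
        r • τ ∈ LinearMap.range (TS.toSec M (LocCoh.puncturedOpen A J)) := fun r => by
    rw [Submodule.mem_comap, LinearMap.toSpanSingleton_apply]
  generalize hI : (LinearMap.range (TS.toSec M (LocCoh.puncturedOpen A J))).comap
      (LinearMap.toSpanSingleton A _ τ) = I at hmemI
  by_contra hτ
  push Not at hτ
  have hIP₀ : (I : Ideal A) ≤ P₀ := by
    intro r hr
    by_contra hrP
    exact hτ r hrP ((hmemI r).mp hr)
  obtain ⟨P, hP, hPP₀⟩ := Ideal.exists_minimalPrimes_le hIP₀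
  haveI : P.IsPrime := hP.1.1
  have hIP : I ≤ P := hP.1.2
  obtain ⟨n, hn⟩ := TS.exists_pow_smul_mem_range M J τ
  have hJP : J ≤ P := by
    apply Ideal.IsPrime.le_of_pow_le (n := n)
    intro r hr
    exact hIP ((hmemI r).mpr (hn r hr))
  have hnotI : ∀ s, s ∉ P → s ∉ I := fun s hs hsI => hs (hIP hsI)
  have hlocinj : Function.Injective
      (locMap P.primeCompl (TS.toSec M (LocCoh.puncturedOpen A J))) := by
    rw [injective_iff_map_eq_zero]
    intro w hw
    obtain ⟨s, m, hs, hsm⟩ := exists_smul_eq_mk P w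
    have h1 : locMap P.primeCompl (TS.toSec M (LocCoh.puncturedOpen A J))
        (LocalizedModule.mkLinearMap P.primeCompl M m) = 0 := by
      rw [← hsm, map_smul, hw, smul_zero]
    rw [locMap_mk] at h1
    obtain ⟨s', hs', hs'm⟩ := (mk_eq_zero_iff P _).mp h1
    have h2 : TS.toSec M (LocCoh.puncturedOpen A J) (s' • m) = 0 := by
      rw [map_smul]; exact hs'm
    obtain ⟨s'', hs''P, hs''⟩ := hker _ h2
    have hs''Q : s'' ∉ P := fun hq => hs''P (hPP₀ hq)
    have h3 : LocalizedModule.mkLinearMap P.primeCompl M m = 0 :=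
      (mk_eq_zero_iff P m).mpr ⟨s'' * s', P.primeCompl.mul_mem hs''Q hs', by
        rw [mul_smul]; exact hs''⟩
    apply smul_inj P hs
    rw [hsm, h3, smul_zero]
  rcases h P hJP hPP₀ with htop | hseq
  · haveI := subsingleton_of_smul_top_eq_top P htop
    have hc : ∀ m : M, (0 : A) • m = 0 → ∃ s, s ∉ P ∧ s • m = 0 := fun m _ =>
      (mk_eq_zero_iff P m).mp (Subsingleton.elim _ _)
    obtain ⟨s, hs, hsτ⟩ := exists_notMem_smul_sec_eq_zero M P 0 hc _ τ (zero_smul _ _)
    exact hnotI s hs ((hmemI s).mpr (by rw [hsτ]; exact Submodule.zero_mem _))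
  · obtain ⟨a₀, b₀, ha₀, hb₀, hareg, hdiv⟩ := exists_elementary_of_hasSeq_two P hseq
    have hc : ∀ m : M, a₀ • m = 0 → ∃ s, s ∉ P ∧ s • m = 0 := fun m hm =>
      (mk_eq_zero_iff P m).mp (hareg _ (by rw [← map_smul, hm, map_zero]))
    have haT : ∀ τ' : LocalizedModule P.primeCompl (TS.sec M (LocCoh.puncturedOpen A J)),
        a₀ • τ' = 0 → τ' = 0 := by
      intro τ' hτ'
      obtain ⟨s, μ, hs, hsμ⟩ := exists_smul_eq_mk P τ'
      have h1 : LocalizedModule.mkLinearMap P.primeCompl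
          (TS.sec M (LocCoh.puncturedOpen A J)) (a₀ • μ) = 0 := by
        rw [map_smul, ← hsμ, smul_comm, hτ', smul_zero]
      obtain ⟨t, ht, htμ⟩ := (mk_eq_zero_iff P _).mp h1
      obtain ⟨s', hs', hs'μ⟩ := exists_notMem_smul_sec_eq_zero M P a₀ hc _ (t • μ)
        (by rw [smul_comm]; exact htμ)
      have h2 : LocalizedModule.mkLinearMap P.primeCompl
          (TS.sec M (LocCoh.puncturedOpen A J)) μ = 0 :=
        (mk_eq_zero_iff P μ).mpr ⟨s' * t, P.primeCompl.mul_mem hs' ht, by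
          rw [mul_smul]; exact hs'μ⟩
      apply smul_inj P hs
      rw [hsμ, h2, smul_zero]
    obtain ⟨k, s, hs, hsk⟩ := exists_mul_pow_mem_of_mem_minimalPrimes hP ha₀
    obtain ⟨l, t, ht, htl⟩ := exists_mul_pow_mem_of_mem_minimalPrimes hP hb₀
    have hrange : ∀ (c : A) (s : A), s ∉ P → s * c ∈ I →
        c • LocalizedModule.mkLinearMap P.primeCompl (TS.sec M (LocCoh.puncturedOpen A J)) τ ∈
          LinearMap.range (locMap P.primeCompl (TS.toSec M (LocCoh.puncturedOpen A J))) := by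
      intro c s hs hsc
      rw [← map_smul, mk_mem_range_locMap_iff]
      refine ⟨s, hs, ?_⟩
      rw [smul_smul]; exact (hmemI _).mp hsc
    have hfinal := mem_range_of_pow_smul_mem_range
      (locMap P.primeCompl (TS.toSec M (LocCoh.puncturedOpen A J)))
      hlocinj a₀ b₀ haT hdiv k l
      (LocalizedModule.mkLinearMap P.primeCompl (TS.sec M (LocCoh.puncturedOpen A J)) τ)
      (hrange _ s hs hsk) (hrange _ t ht htl)
    obtain ⟨s', hs', hs'τ⟩ := (mk_mem_range_locMap_iff _ _ _).mp hfinal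
    exact hnotI s' hs' ((hmemI s').mpr hs'τ)

theorem hasSeq_two_of_extend [IsNoetherianRing A] [Module.Finite A M] (P : Ideal A) [P.IsPrime]
    (h1' : HasSeq (IsLocalRing.maximalIdeal (Localization.AtPrime P))
      (LocalizedModule P.primeCompl M) 1)
    (hext : ∀ (τ : TS.sec M (LocCoh.puncturedOpen A P)) (a₀ : A) (m₀ : M),
        a₀ • τ = TS.toSec M (LocCoh.puncturedOpen A P) m₀ →
        ∃ y : LocalizedModule P.primeCompl M,
          LocalizedModule.mkLinearMap P.primeCompl M m₀ = a₀ • y) :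
    HasSeq (IsLocalRing.maximalIdeal (Localization.AtPrime P))
      (LocalizedModule P.primeCompl M) 2 := by
  have hfg : P.FG := IsNoetherian.noetherian P
  obtain ⟨a, ha, hareg, -⟩ := hasSeq_succ_iff.mp h1'
  rcases exists_regular_or_hasSocle (I := IsLocalRing.maximalIdeal (Localization.AtPrime P))
      (QuotSMulTop a (LocalizedModule P.primeCompl M)) with ⟨b, hb, hbreg⟩ | hsoc
  · exact hasSeq_succ_iff.mpr ⟨a, ha, hareg, hasSeq_succ_iff.mpr ⟨b, hb, hbreg, hasSeq_zero⟩⟩
  exfalso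
  obtain ⟨w, hw1, hw2⟩ := hasSocle_quotSMulTop_iff.mp hsoc
  obtain ⟨a₀, s, hs, hnum⟩ := exists_numerator (M := M) P a
  have hmem : ∀ x : LocalizedModule P.primeCompl M,
      x ∈ a • (⊤ : Submodule (Localization.AtPrime P) (LocalizedModule P.primeCompl M)) ↔
        ∃ y, x = a₀ • y := by
    intro x
    rw [Submodule.mem_smul_pointwise_iff_exists]
    constructor
    · rintro ⟨z, -, rfl⟩
      obtain ⟨y, rfl⟩ := exists_smul_eq P hs z
      exact ⟨y, (hnum y).symm⟩
    · rintro ⟨y, rfl⟩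
      exact ⟨s • y, Submodule.mem_top, (hnum y).symm⟩
  have ha₀reg : ∀ x : LocalizedModule P.primeCompl M, a₀ • x = 0 → x = 0 := by
    intro x hx
    rw [hnum] at hx
    apply smul_inj P hs
    rw [smul_zero]
    exact hareg.right_eq_zero_of_smul hx
  have hA : ∀ f ∈ P, ∃ y : LocalizedModule P.primeCompl M, f • w = a₀ • y := by
    intro f hf
    rw [← hmem, ← algebraMap_smul (Localization.AtPrime P) f w]
    exact hw2 _ ((IsLocalization.AtPrime.to_map_mem_maximal_iff (Localization.AtPrime P) P f).mpr hf)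
  have hB : ¬ ∃ y : LocalizedModule P.primeCompl M, w = a₀ • y := by
    rw [← hmem]; exact hw1
  obtain ⟨mstar, h1, h2⟩ := descend_socle P hfg a₀ w hA hB
  have hC : ∀ k ∈ LinearMap.ker (LinearMap.lsmul A M a₀), ∃ s, s ∉ P ∧ s • k = 0 := by
    intro k hk
    rw [LinearMap.mem_ker, LinearMap.lsmul_apply] at hk
    exact (mk_eq_zero_iff P k).mp (ha₀reg _ (by rw [← map_smul, hk, map_zero]))
  obtain ⟨s₀, hs₀, hker⟩ := exists_notMem_forall_smul_eq_zero P
    (LinearMap.ker (LinearMap.lsmul A M a₀)) (IsNoetherian.noetherian _) hC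
  obtain ⟨τ, hτ⟩ := exists_sec_div M P a₀ s₀ mstar
    (fun m hm => hker m (by rw [LinearMap.mem_ker, LinearMap.lsmul_apply]; exact hm)) h1
  obtain ⟨y, hy⟩ := hext τ a₀ (s₀ • mstar) hτ
  apply h2
  obtain ⟨y', hy'⟩ := exists_smul_eq P (s := s₀) hs₀ y
  refine ⟨y', ?_⟩
  apply smul_inj P (s := s₀) hs₀
  rw [← map_smul, hy, ← hy', smul_comm]

end Groth.Agent.H95.ZCA
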