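import Groth.Agent.H95.TildeBridge
import Groth.Agent.H95.ZClosedAtAlg
import Groth.Agent.H95.ZClosDepth

/-!
# `Z`-closedness at a point and depth two (scheme side)
-/

set_option autoImplicit false
set_option linter.style.haveILetI false
universe u

open CategoryTheory CategoryTheory.Limits AlgebraicGeometry TopologicalSpace Opposite
open Groth.Agent.H58 Groth.Agent.H15.Depth

namespace Groth.Agent.H95.ZCAt

set_option backward.isDefEq.respectTransparency false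

section SpecLevel

variable {R : CommRingCat.{u}} (G : (Spec R).Modules)

lemma spec_map_smul {W W' : (Spec R).Opens} (h : W' ≤ W) (c : R) (y : Γ(G, W)) :
    G.presheaf.map (homOfLE h).op (c • y) = c • G.presheaf.map (homOfLE h).op y :=
  ((modulesSpecToSheaf.obj G).obj.map (homOfLE h).op).hom.map_smul c y

lemma spec_extend (D W : (Spec R).Opens) (c : R) (hD : D ≤ PrimeSpectrum.basicOpen c)
    (t : Γ(G, W)) (n : Γ(G, ⊤))
    (h : c • t = G.presheaf.map (homOfLE (le_top : W ≤ ⊤)).op n) :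
    ∃ σ : Γ(G, D),
      G.presheaf.map (homOfLE (inf_le_left : D ⊓ W ≤ D)).op σ =
      G.presheaf.map (homOfLE (inf_le_right : D ⊓ W ≤ W)).op t := by
  have hu := Scheme.Modules.isUnit_algebraMap_end_of_le_basicOpen (M := G) (U := D) c hD
  have hu2 := Scheme.Modules.isUnit_algebraMap_end_of_le_basicOpen (M := G)
    (U := D ⊓ W) c (inf_le_left.trans hD)
  rw [Module.End.isUnit_iff] at hu hu2
  obtain ⟨σ, hσ⟩ := hu.2 (G.presheaf.map (homOfLE (le_top : D ≤ ⊤)).op n)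
  have hσ' : c • σ = G.presheaf.map (homOfLE (le_top : D ≤ ⊤)).op n := hσ
  have e1 : c • (G.presheaf.map (homOfLE (inf_le_left : D ⊓ W ≤ D)).op σ : Γ(G, D ⊓ W)) =
      c • (G.presheaf.map (homOfLE (inf_le_right : D ⊓ W ≤ W)).op t : Γ(G, D ⊓ W)) := by
    rw [← spec_map_smul, ← spec_map_smul, h, hσ', Groth.Agent.H95.ZClos.map_map_apply,
      Groth.Agent.H95.ZClos.map_map_apply]
  exact ⟨σ, hu2.1 e1⟩

end SpecLevel

section Phi

open Groth.Agent.H95.TB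

variable {X : Scheme.{u}} {V : X.Opens} (hV : IsAffineOpen V) (F : X.Modules)

/-- the comparison `Γ(W, N~) → Γ(W, F|Spec)`, `N = Γ(F|Spec, ⊤)`. -/
noncomputable def phi (W : (Spec Γ(X, V)).Opens) :
    TS.sec (R := Γ(X, V)) (N0 hV F) W →ₗ[Γ(X, V)]
      ((modulesSpecToSheaf.obj (F.restrict hV.fromSpec)).presheaf.obj (op W)) :=
  ((modulesSpecToSheaf.map (F.restrict hV.fromSpec).fromTildeΓ).1.app (op W)).hom

lemma phi_bijective [F.IsQuasicoherent] (W : (Spec Γ(X, V)).Opens) :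
    Function.Bijective (phi hV F W) := by
  haveI : (F.restrict hV.fromSpec).IsQuasicoherent :=
    Scheme.Modules.isQuasicoherent_restrictFunctor hV.fromSpec F
  haveI h00 : IsIso (F.restrict hV.fromSpec).fromTildeΓ :=
    Scheme.Modules.isIso_fromTildeΓ_of_isQuasicoherent _
  haveI h0 : IsIso (modulesSpecToSheaf.map (F.restrict hV.fromSpec).fromTildeΓ) :=
    Functor.map_isIso _ _
  haveI h1 : IsIso ((TopCat.Sheaf.forget _ _).map
      (modulesSpecToSheaf.map (F.restrict hV.fromSpec).fromTildeΓ)) := Functor.map_isIso _ _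
  have h2 : IsIso ((modulesSpecToSheaf.map (F.restrict hV.fromSpec).fromTildeΓ).1.app (op W)) :=
    NatIso.isIso_app_of_isIso ((TopCat.Sheaf.forget _ _).map
      (modulesSpecToSheaf.map (F.restrict hV.fromSpec).fromTildeΓ)) (op W)
  exact ConcreteCategory.bijective_of_isIso
    ((modulesSpecToSheaf.map (F.restrict hV.fromSpec).fromTildeΓ).1.app (op W))

lemma phi_toSec (W : (Spec Γ(X, V)).Opens) (m : N0 hV F) :
    phi hV F W (TS.toSec (R := Γ(X, V)) (N0 hV F) W m) =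
      (F.restrict hV.fromSpec).presheaf.map (homOfLE (le_top : W ≤ ⊤)).op m := by
  have key := Scheme.Modules.toOpen_fromTildeΓ_app (F.restrict hV.fromSpec) W
  exact congrArg (fun ψ => ψ.hom m) key

variable [IsLocallyNoetherian X]

include hV in
theorem exists_smul_eq_res (hF : Coh.IsCoh F) (W : (Spec Γ(X, V)).Opens)
    (P₀ : Ideal Γ(X, V)) [P₀.IsPrime]
    (hker : ∀ m : Γ(F.restrict hV.fromSpec, ⊤),
      (F.restrict hV.fromSpec).presheaf.map (homOfLE (le_top : W ≤ ⊤)).op m = 0 →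
        ∃ s, s ∉ P₀ ∧ s • m = 0)
    (hdepth : ∀ p : PrimeSpectrum Γ(X, V), p ∉ W → p.asIdeal ≤ P₀ →
      (2 : ℕ∞) ≤ LocCoh.depth (Localization.AtPrime p.asIdeal)
        (LocalizedModule p.asIdeal.primeCompl (N0 hV F)))
    (t : Γ(F.restrict hV.fromSpec, W)) :
    ∃ c, c ∉ P₀ ∧ ∃ n : Γ(F.restrict hV.fromSpec, ⊤),
      c • t = (F.restrict hV.fromSpec).presheaf.map (homOfLE (le_top : W ≤ ⊤)).op n := by
  haveI : F.IsQuasicoherent := hF.1
  haveI : IsNoetherianRing Γ(X, V) := IsLocallyNoetherian.component_noetherian ⟨V, hV⟩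
  haveI : Module.Finite Γ(X, V) (N0 hV F) := finite_N0 hV F hF
  let Zc : Set (PrimeSpectrum Γ(X, V)) := (W : Set (Spec Γ(X, V)))ᶜ
  have hZc_closed : IsClosed Zc := W.isOpen.isClosed_compl
  let J : Ideal Γ(X, V) := PrimeSpectrum.vanishingIdeal Zc
  have hJ : PrimeSpectrum.zeroLocus (J : Set Γ(X, V)) = Zc := by
    rw [PrimeSpectrum.zeroLocus_vanishingIdeal_eq_closure, hZc_closed.closure_eq]
  have hW : LocCoh.puncturedOpen Γ(X, V) J = W := by
    apply Opens.ext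
    show (PrimeSpectrum.zeroLocus (J : Set Γ(X, V)))ᶜ = (W : Set (Spec Γ(X, V)))
    rw [hJ]
    exact compl_compl _
  clear_value J
  subst hW
  obtain ⟨τ, hτ⟩ := (phi_bijective hV F (LocCoh.puncturedOpen Γ(X, V) J)).2 t
  have hker' : ∀ m : N0 hV F, TS.toSec (R := Γ(X, V)) (N0 hV F)
      (LocCoh.puncturedOpen Γ(X, V) J) m = 0 → ∃ s, s ∉ P₀ ∧ s • m = 0 := by
    intro m hm
    apply hker m
    rw [← phi_toSec hV F, hm, map_zero]
  have h' : ∀ (P : Ideal Γ(X, V)) [P.IsPrime], J ≤ P → P ≤ P₀ →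
      IsLocalRing.maximalIdeal (Localization.AtPrime P) •
        (⊤ : Submodule (Localization.AtPrime P) (LocalizedModule P.primeCompl (N0 hV F))) = ⊤ ∨
      HasSeq (IsLocalRing.maximalIdeal (Localization.AtPrime P))
        (LocalizedModule P.primeCompl (N0 hV F)) 2 := by
    intro P _ hJP hPP₀
    by_cases htop : IsLocalRing.maximalIdeal (Localization.AtPrime P) •
        (⊤ : Submodule (Localization.AtPrime P) (LocalizedModule P.primeCompl (N0 hV F))) = ⊤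
    · exact Or.inl htop
    · right
      have hp : (⟨P, inferInstance⟩ : PrimeSpectrum Γ(X, V)) ∉
          LocCoh.puncturedOpen Γ(X, V) J := by
        intro hmem
        exact hmem ((PrimeSpectrum.mem_zeroLocus _ _).mpr hJP)
      have h2 := hdepth ⟨P, inferInstance⟩ hp hPP₀
      exact (le_idealDepth_iff htop 2).mp (by rw [Nat.cast_ofNat]; exact h2)
  obtain ⟨c, hc, n, hn⟩ := Groth.Agent.H95.ZCA.exists_notMem_smul_mem_range (N0 hV F) J P₀
    hker' h' τ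
  refine ⟨c, hc, n, ?_⟩
  have e := (phi hV F (LocCoh.puncturedOpen Γ(X, V) J)).map_smul c τ
  rw [← hn, phi_toSec, hτ] at e
  exact e.symm

end Phi

section SchemeLevel

open Groth.Agent.H95.ZClos _root_.ZClos Groth.Agent.H8 Groth.Agent.H95.TB

variable {X : Scheme.{u}} (Z : Set X) (F : X.Modules) {V : X.Opens} (hV : IsAffineOpen V)

/-- preimage of `T.U` in `Spec Γ(X,V)` -/
noncomputable abbrev WT (T : Cl Z) : (Spec Γ(X, V)).Opens := hV.fromSpec ⁻¹ᵁ T.U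

lemma ιimage_le (T : Cl Z) (D : (Spec Γ(X, V)).Opens) :
    T.U.ι ''ᵁ T.U.ι ⁻¹ᵁ (hV.fromSpec ''ᵁ D) ≤ hV.fromSpec ''ᵁ (D ⊓ WT Z hV T) := by
  rw [ι_image_preimage]
  rintro y ⟨hyT, p, hpD, rfl⟩
  exact ⟨p, ⟨hpD, hyT⟩, rfl⟩

lemma image_le_ι (T : Cl Z) (D : (Spec Γ(X, V)).Opens) :
    hV.fromSpec ''ᵁ (D ⊓ WT Z hV T) ≤ T.U.ι ''ᵁ T.U.ι ⁻¹ᵁ (hV.fromSpec ''ᵁ D) := by
  rw [ι_image_preimage]
  rintro y ⟨p, ⟨hpD, hpT⟩, rfl⟩
  exact ⟨hpT, p, hpD, rfl⟩

omit hV in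
lemma ιι_mono (U : X.Opens) {A B : X.Opens} (h : A ≤ B) :
    U.ι ''ᵁ U.ι ⁻¹ᵁ A ≤ U.ι ''ᵁ U.ι ⁻¹ᵁ B := U.ι.image_mono (U.ι.preimage_mono h)

lemma image_le_ιV (T : Cl Z) (D : (Spec Γ(X, V)).Opens) :
    hV.fromSpec ''ᵁ (D ⊓ WT Z hV T) ≤ T.U.ι ''ᵁ T.U.ι ⁻¹ᵁ V :=
  (image_le_ι Z hV T D).trans (ιι_mono T.U (fromSpec_image_le hV D))

lemma mem_image_of_mem (x : X) (hxV : x ∈ V) (D : (Spec Γ(X, V)).Opens)
    (h : hV.primeIdealOf ⟨x, hxV⟩ ∈ D) : x ∈ hV.fromSpec ''ᵁ D :=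
  ⟨hV.primeIdealOf ⟨x, hxV⟩, h, hV.fromSpec_primeIdealOf ⟨x, hxV⟩⟩

lemma dg_map_app {T T' : Cl Z} (h : T ≤ T') (V' : X.Opens)
    (u : ((Dg Z F).obj T).presheaf.obj (op V')) :
    ((Dg Z F).map (homOfLE h)).app V' u =
      F.presheaf.map (homOfLE (resPush_le (Cl.U_anti h) V')).op u := by
  have h2 : ((Dg Z F).map (homOfLE h)).app V' =
      F.presheaf.map (homOfLE (resPush_le (Cl.U_anti h) V')).op := by
    rw [show homOfLE (resPush_le (Cl.U_anti h) V') = trIncl (Cl.U_anti h) V' from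
      Subsingleton.elim _ _]
    exact resPushMapApp_app (Cl.U_anti h) F V'
  exact ConcreteCategory.congr_hom h2 u

lemma rhoStalk_germ_eq_zero (x : X) (T₁ : Cl Z) (D : (Spec Γ(X, V)).Opens)
    (hxD : x ∈ hV.fromSpec ''ᵁ D) (n : Γ(F, hV.fromSpec ''ᵁ D))
    (hn : F.presheaf.map (homOfLE (hV.fromSpec.image_mono
      (inf_le_left : D ⊓ WT Z hV T₁ ≤ D))).op n = 0) :
    rhoStalk Z F x (F.presheaf.germ _ x hxD n) = 0 := by
  refine rhoStalk_eq_zero_of Z F x hxD n T₁ ?_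
  have := congrArg (F.presheaf.map (homOfLE (ιimage_le Z hV T₁ D)).op) hn
  rw [map_zero, map_map_apply] at this
  exact this

variable [IsLocallyNoetherian X]

lemma rhoStalk_germ_eq (x : X) (hxV : x ∈ V) (T : Cl Z) (D : (Spec Γ(X, V)).Opens)
    (hxD : x ∈ hV.fromSpec ''ᵁ D) (σ : Γ(F, hV.fromSpec ''ᵁ D))
    (t : Γ(F, T.U.ι ''ᵁ T.U.ι ⁻¹ᵁ V))
    (h : F.presheaf.map (homOfLE (hV.fromSpec.image_mono
        (inf_le_left : D ⊓ WT Z hV T ≤ D))).op σ =
      F.presheaf.map (homOfLE (image_le_ιV Z hV T D)).op t) :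
    rhoStalk Z F x (F.presheaf.germ _ x hxD σ) =
      ((H0 Z).obj F).presheaf.germ V x hxV (((cc Z F).ι.app T).app V t) := by
  have hV₂V : hV.fromSpec ''ᵁ D ≤ V := fromSpec_image_le hV D
  have e1 := TopCat.Presheaf.stalkFunctor_map_germ_apply (hV.fromSpec ''ᵁ D) x hxD
    (rhoApp Z F).mapPresheaf σ
  refine e1.trans ?_
  show ((H0 Z).obj F).presheaf.germ (hV.fromSpec ''ᵁ D) x hxD
    ((rhoApp Z F).app (hV.fromSpec ''ᵁ D) σ) = _
  rw [rho_app_eq Z F T (hV.fromSpec ''ᵁ D) σ,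
    ← ((H0 Z).obj F).presheaf.germ_res_apply (homOfLE hV₂V) x hxD (((cc Z F).ι.app T).app V t)]
  have e2 := ι_app_res (Dg Z F) (cc Z F) T hV₂V t
  have hAB : (toDiagram Z F T).app (hV.fromSpec ''ᵁ D) σ =
      ((Dg Z F).obj T).presheaf.map (homOfLE hV₂V).op t := by
    have e3 : (toDiagram Z F T).app (hV.fromSpec ''ᵁ D) =
        F.presheaf.map (homOfLE (T.U.ι.image_preimage_le (hV.fromSpec ''ᵁ D))).op :=
      resPushUnit_app_app T.U F _
    have e4 : ((Dg Z F).obj T).presheaf.map (homOfLE hV₂V).op =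
        F.presheaf.map (homOfLE (ιι_mono T.U hV₂V)).op := by
      rw [show homOfLE (ιι_mono T.U hV₂V) =
        T.U.ι.opensFunctor.map ((Opens.map T.U.ι.base).map (homOfLE hV₂V)) from
          Subsingleton.elim _ _]
      exact resPush_presheaf_map T.U F (homOfLE hV₂V)
    rw [e3, e4]
    have := congrArg (F.presheaf.map (homOfLE (ιimage_le Z hV T D)).op) h
    rw [map_map_apply, map_map_apply] at this
    exact this
  rw [hAB]
  exact congrArg _ e2

lemma exists_of_rhoStalk_eq (x : X) (hxV : x ∈ V) (T : Cl Z)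
    (t : Γ(F, T.U.ι ''ᵁ T.U.ι ⁻¹ᵁ V)) (a : F.presheaf.stalk x)
    (ha : rhoStalk Z F x a =
      ((H0 Z).obj F).presheaf.germ V x hxV (((cc Z F).ι.app T).app V t)) :
    ∃ (c : Γ(X, V)) (hxc : x ∈ hV.fromSpec ''ᵁ (PrimeSpectrum.basicOpen c))
      (σ : Γ(F, hV.fromSpec ''ᵁ (PrimeSpectrum.basicOpen c))) (T₁ : Cl Z) (_ : T ≤ T₁),
      F.presheaf.germ _ x hxc σ = a ∧
        F.presheaf.map (homOfLE (hV.fromSpec.image_mono
          (inf_le_left : PrimeSpectrum.basicOpen c ⊓ WT Z hV T₁ ≤ PrimeSpectrum.basicOpen c))).op σ =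
        F.presheaf.map (homOfLE ((image_le_ιV Z hV T₁ (PrimeSpectrum.basicOpen c)).trans
          (resPush_le (Cl.U_anti ‹T ≤ T₁›) V))).op t := by
  obtain ⟨U₁, hxU₁, σ₁, rfl⟩ := F.presheaf.exists_germ_eq a
  have e1 := TopCat.Presheaf.stalkFunctor_map_germ_apply U₁ x hxU₁ (rhoApp Z F).mapPresheaf σ₁
  have h1 : ((H0 Z).obj F).presheaf.germ U₁ x hxU₁ ((rhoApp Z F).app U₁ σ₁) =
      ((H0 Z).obj F).presheaf.germ V x hxV (((cc Z F).ι.app T).app V t) := e1.symm.trans ha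
  obtain ⟨O, hxO, iU, iV, hO⟩ := ((H0 Z).obj F).presheaf.germ_eq x hxU₁ hxV _ _ h1
  have hPO : hV.primeIdealOf ⟨x, hxV⟩ ∈ hV.fromSpec ⁻¹ᵁ O := by
    show hV.fromSpec (hV.primeIdealOf ⟨x, hxV⟩) ∈ O
    rw [hV.fromSpec_primeIdealOf ⟨x, hxV⟩]
    exact hxO
  obtain ⟨_, ⟨_, ⟨c, rfl⟩, rfl⟩, hPc, hcO⟩ :=
    PrimeSpectrum.isBasis_basic_opens.exists_subset_of_mem_open hPO (hV.fromSpec ⁻¹ᵁ O).2
  have hV₂O : hV.fromSpec ''ᵁ (PrimeSpectrum.basicOpen c) ≤ O := by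
    rintro y ⟨p, hp, rfl⟩
    exact hcO hp
  have hV₂V : hV.fromSpec ''ᵁ (PrimeSpectrum.basicOpen c) ≤ V := fromSpec_image_le hV _
  have hxc : x ∈ hV.fromSpec ''ᵁ (PrimeSpectrum.basicOpen c) :=
    mem_image_of_mem hV x hxV _ hPc
  obtain ⟨σ, hσdef⟩ : ∃ σ : Γ(F, hV.fromSpec ''ᵁ (PrimeSpectrum.basicOpen c)),
      σ = F.presheaf.map (homOfLE (hV₂O.trans iU.le)).op σ₁ := ⟨_, rfl⟩
  have h2 : (rhoApp Z F).app (hV.fromSpec ''ᵁ (PrimeSpectrum.basicOpen c)) σ =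
      ((H0 Z).obj F).presheaf.map (homOfLE hV₂V).op (((cc Z F).ι.app T).app V t) := by
    rw [hσdef]
    rw [app_res]
    have := congrArg (((H0 Z).obj F).presheaf.map (homOfLE hV₂O).op) hO
    rw [show iU = homOfLE iU.le from Subsingleton.elim _ _,
      show iV = homOfLE iV.le from Subsingleton.elim _ _, map_map_apply, map_map_apply] at this
    exact this
  have e2 : ((cc Z F).ι.app T).app (hV.fromSpec ''ᵁ (PrimeSpectrum.basicOpen c))
      (((Dg Z F).obj T).presheaf.map (homOfLE hV₂V).op t) =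
      ((H0 Z).obj F).presheaf.map (homOfLE hV₂V).op (((cc Z F).ι.app T).app V t) :=
    ι_app_res (Dg Z F) (cc Z F) T hV₂V t
  rw [rho_app_eq Z F T _ σ, ← e2] at h2
  have h3 : ((cc Z F).ι.app T).app (hV.fromSpec ''ᵁ (PrimeSpectrum.basicOpen c))
      ((toDiagram Z F T).app _ σ - ((Dg Z F).obj T).presheaf.map (homOfLE hV₂V).op t) = 0 := by
    rw [map_sub, h2, sub_self]
  have hV₂c : IsCompact ((hV.fromSpec ''ᵁ (PrimeSpectrum.basicOpen c) : X.Opens) : Set X) :=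
    (PrimeSpectrum.isCompact_basicOpen c).image hV.fromSpec.continuous
  obtain ⟨T₁, hT, h4⟩ := sec_inj (Dg Z F) (cc Z F) (colimit.isColimit (Dg Z F)) T _ hV₂c _ h3
  rw [map_sub, sub_eq_zero, dg_map_toDiagram, dg_map_app] at h4
  refine ⟨c, hxc, σ, T₁, hT, by rw [hσdef]; exact F.presheaf.germ_res_apply _ x hxc σ₁, ?_⟩
  have h5 : F.presheaf.map (homOfLE (T₁.U.ι.image_preimage_le
        (hV.fromSpec ''ᵁ (PrimeSpectrum.basicOpen c)))).op σ =
      F.presheaf.map (homOfLE (resPush_le (Cl.U_anti hT) _)).op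
        (F.presheaf.map (homOfLE (ιι_mono T.U hV₂V)).op t) := by
    have e4 : ((Dg Z F).obj T).presheaf.map (homOfLE hV₂V).op =
        F.presheaf.map (homOfLE (ιι_mono T.U hV₂V)).op := by
      rw [show homOfLE (ιι_mono T.U hV₂V) =
        T.U.ι.opensFunctor.map ((Opens.map T.U.ι.base).map (homOfLE hV₂V)) from
          Subsingleton.elim _ _]
      exact resPush_presheaf_map T.U F (homOfLE hV₂V)
    have e3 : (toDiagram Z F T₁).app (hV.fromSpec ''ᵁ (PrimeSpectrum.basicOpen c)) =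
        F.presheaf.map (homOfLE (T₁.U.ι.image_preimage_le _)).op :=
      resPushUnit_app_app T₁.U F _
    rw [e3, e4] at h4
    exact h4
  have := congrArg (F.presheaf.map (homOfLE (image_le_ι Z hV T₁ (PrimeSpectrum.basicOpen c))).op) h5
  rw [map_map_apply, map_map_apply, map_map_apply] at this
  exact this

end SchemeLevel

section Loc

open Groth.Agent.H8 Groth.Agent.H95.TB

variable {X : Scheme.{u}} {V : X.Opens} (hV : IsAffineOpen V) (F : X.Modules)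

theorem exists_loc_of_stalk [F.IsQuasicoherent] (x' : X) (hx'V : x' ∈ V)
    (hx'T : x' ∈ hV.fromSpec ''ᵁ ⊤) (a₀ : Γ(X, V)) (m₀ : N0 hV F) (z : F.presheaf.stalk x')
    (h : X.presheaf.germ V x' hx'V a₀ • z = F.presheaf.germ (hV.fromSpec ''ᵁ ⊤) x' hx'T m₀) :
    ∃ y : LocalizedModule (hV.primeIdealOf ⟨x', hx'V⟩).asIdeal.primeCompl (N0 hV F),
      LocalizedModule.mkLinearMap (hV.primeIdealOf ⟨x', hx'V⟩).asIdeal.primeCompl (N0 hV F) m₀ =
        a₀ • y := by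
  letI := X.presheaf.algebra_section_stalk ⟨x', hx'V⟩
  haveI := hV.isLocalization_stalk ⟨x', hx'V⟩
  letI := moduleSectionStalk F x' hx'V
  haveI := isScalarTower_sectionStalk F x' hx'V
  haveI := isLocalizedModule_germₗ F hV x' hx'V
  let g' : N0 hV F →ₗ[Γ(X, V)] F.presheaf.stalk x' :=
    (germₗ F x' hx'V) ∘ₗ (sectionsRestrictEquiv hV F).toLinearMap
  haveI : IsLocalizedModule (hV.primeIdealOf ⟨x', hx'V⟩).asIdeal.primeCompl g' :=
    IsLocalizedModule.of_linearEquiv_right _ _ _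
  have hg : g' m₀ = F.presheaf.germ (hV.fromSpec ''ᵁ ⊤) x' hx'T m₀ := by
    show F.presheaf.germ V x' hx'V (F.presheaf.map (eqToHom _).op m₀) = _
    exact F.presheaf.germ_res_apply _ x' hx'V m₀
  have h' : a₀ • z = g' m₀ := by rw [hg]; exact h
  refine ⟨(IsLocalizedModule.iso (hV.primeIdealOf ⟨x', hx'V⟩).asIdeal.primeCompl g').symm z, ?_⟩
  rw [← map_smul, h']
  exact (LinearMap.congr_fun (IsLocalizedModule.iso_symm_comp
    (hV.primeIdealOf ⟨x', hx'V⟩).asIdeal.primeCompl g') m₀).symm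

end Loc

end Groth.Agent.H95.ZCAt
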