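import Groth.Agent.H95.ZeroSch
import Groth.Agent.H95.RefGen
import Groth.Agent.H18.TensorCoh

/-!
# Sections of invertible modules on integral schemes and their zero schemes

* `eq_zero_of_forall_sv`: a section vanishing on the members of an open cover is zero;
* `sv_ne_zero`: on an integral scheme a nonzero section of an invertible module is nonzero on
  every nonempty open;
* `smul_sv_eq_zero`: and has no torsion there;
* `zeroIdealOn_eq_of_smul`: the colon ideal does not change when the section is multiplied by a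
  unit.
-/

set_option autoImplicit false
set_option linter.style.haveILetI false

universe u

open CategoryTheory AlgebraicGeometry TopologicalSpace Opposite

namespace Groth.Agent.H95.ZeroSch

open Groth.Agent.H8 (section_eq_of_cover)
open Groth.Agent.H18.TensorGen (IsGen)
open Groth.Agent.H18.TensorCoh (exists_affine_gen)
open Groth.Agent.H18.SecTw (sv_res)
open Groth.Agent.H95.RefGen (FreeAt freeAt_of_isGen)

variable {X : Scheme.{u}} {L : X.Modules} {s : Coh.structureModule X ⟶ L}

theorem eq_zero_of_forall_sv {ι : Type*} (V : ι → X.Opens) (hcov : ∀ x : X, ∃ i, x ∈ V i)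
    (h0 : ∀ i, sv L s (V i) = 0) : s = 0 := by
  have hall : ∀ U : X.Opens, sv L s U = 0 := by
    intro U
    refine section_eq_of_cover L _ _ (fun z hz => ?_)
    obtain ⟨i, hi⟩ := hcov z
    refine ⟨U ⊓ V i, inf_le_left, ⟨hz, hi⟩, ?_⟩
    rw [res_secVal L s inf_le_left, map_zero, ← res_secVal L s (inf_le_right : U ⊓ V i ≤ V i),
      h0 i, map_zero]
  apply L.unitHomEquiv.injective
  apply PresheafOfModules.sections_ext
  intro U
  rw [SheafOfModules.unitHomEquiv_apply_coe, SheafOfModules.unitHomEquiv_apply_coe]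
  exact hall U.unop

theorem sv_ne_zero [IsIntegral X] (hL : PicF.IsInvertible L) (hs : s ≠ 0) (U : X.Opens)
    (hU : (U : Set X).Nonempty) : sv L s U ≠ 0 := by
  intro h0
  apply hs
  obtain ⟨y, hy⟩ := hU
  have hηU : genericPoint X ∈ U := (genericPoint_specializes y).mem_open U.2 hy
  choose V τ _ hxV hτ using fun x : X => exists_affine_gen hL x
  refine eq_zero_of_forall_sv V (fun x => ⟨x, hxV x⟩) (fun x => ?_)
  have hη : genericPoint X ∈ V x := (genericPoint_specializes x).mem_open (V x).2 (hxV x)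
  obtain ⟨g, hg⟩ := (hτ x).self.2 (sv L s (V x))
  have hg' : g • τ x = sv L s (V x) := hg
  have h1 : L.presheaf.germ (V x) (genericPoint X) hη (sv L s (V x)) =
      L.presheaf.germ U (genericPoint X) hηU (sv L s U) := by
    rw [← res_secVal L s (le_top : V x ≤ ⊤), ← res_secVal L s (le_top : U ≤ ⊤),
      TopCat.Presheaf.germ_res_apply, TopCat.Presheaf.germ_res_apply]
  rw [h0, map_zero, ← hg', Mero.germ_smul] at h1
  have h2 := (freeAt_of_isGen (hτ x) (genericPoint X) hη).eq_zero _ h1
  have h3 : g = 0 :=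
    germ_injective_of_isIntegral X (genericPoint X) hη (h2.trans (map_zero _).symm)
  rw [← hg', h3, zero_smul]

theorem smul_sv_eq_zero [IsIntegral X] (hL : PicF.IsInvertible L) (hs : s ≠ 0) (U : X.Opens)
    (hU : (U : Set X).Nonempty) (c : Γ(X, U)) (hc : c • sv L s U = 0) : c = 0 := by
  obtain ⟨y, hy⟩ := hU
  have hηU : genericPoint X ∈ U := (genericPoint_specializes y).mem_open U.2 hy
  obtain ⟨V, τ, -, hyV, hτ⟩ := exists_affine_gen hL y
  have hηV : genericPoint X ∈ V := (genericPoint_specializes y).mem_open V.2 hyV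
  have hηW : genericPoint X ∈ U ⊓ V := ⟨hηU, hηV⟩
  have hτ' := hτ.res (inf_le_right : U ⊓ V ≤ V)
  obtain ⟨g, hg⟩ := hτ'.self.2 (sv L s (U ⊓ V))
  have hg' : g • L.presheaf.map (homOfLE (inf_le_right : U ⊓ V ≤ V)).op τ = sv L s (U ⊓ V) := hg
  have hne : sv L s (U ⊓ V) ≠ 0 := sv_ne_zero hL hs _ ⟨_, hηW⟩
  have hgne : g ≠ 0 := by
    intro h0
    apply hne
    rw [← hg', h0, zero_smul]
  have h1 : (X.presheaf.map (homOfLE (inf_le_left : U ⊓ V ≤ U)).op c * g) •
      L.presheaf.map (homOfLE (inf_le_right : U ⊓ V ≤ V)).op τ = 0 := by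
    rw [mul_smul, hg', ← res_secVal L s (inf_le_left : U ⊓ V ≤ U), ← L.map_smul, hc, map_zero]
  have h2 : X.presheaf.map (homOfLE (inf_le_left : U ⊓ V ≤ U)).op c * g = 0 := by
    apply hτ'.self.1
    show (X.presheaf.map (homOfLE (inf_le_left : U ⊓ V ≤ U)).op c * g) •
        L.presheaf.map (homOfLE (inf_le_right : U ⊓ V ≤ V)).op τ =
      (0 : Γ(X, U ⊓ V)) • L.presheaf.map (homOfLE (inf_le_right : U ⊓ V ≤ V)).op τ
    rw [h1, zero_smul]
  haveI : IsDomain Γ(X, U ⊓ V) :=
    @IsIntegral.component_integral X _ (U ⊓ V) ⟨⟨_, hηW⟩⟩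
  have h3 : X.presheaf.map (homOfLE (inf_le_left : U ⊓ V ≤ U)).op c = 0 :=
    (mul_eq_zero.mp h2).resolve_right hgne
  have h4 : X.presheaf.germ U (genericPoint X) hηU c = 0 := by
    rw [← TopCat.Presheaf.germ_res_apply X.presheaf (homOfLE (inf_le_left : U ⊓ V ≤ U))
      (genericPoint X) hηW c, h3, map_zero]
  exact germ_injective_of_isIntegral X (genericPoint X) hηU (h4.trans (map_zero _).symm)

theorem zeroIdealOn_le_of_smul {s' : Coh.structureModule X ⟶ L} {U : X.Opens} (u : Γ(X, U))
    (h : sv L s U = u • sv L s' U) :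
    PicF2.zeroIdealOn L s U ≤ PicF2.zeroIdealOn L s' U := by
  intro a ha
  refine (mem_zeroIdealOn L s' a).mpr (fun m => ?_)
  obtain ⟨b, hb⟩ := (mem_zeroIdealOn L s a).mp ha m
  exact ⟨b * u, by rw [hb, h, mul_smul]⟩

end Groth.Agent.H95.ZeroSch
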